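import Cfsg.Agent.S1546
import Mathlib.Analysis.SpecialFunctions.Log.Monotone
import Mathlib.Tactic

/-!
Peterfalvi section 14: the numerical part.
-/

set_option autoImplicit false

namespace CfsgLib.OddEnd

/-- `1 + p + ⋯ + p^(q-1)`. -/
def geoN (p q : ℕ) : ℕ := (p ^ q - 1) / (p - 1)

/-- The standing numerical hypotheses: odd primes `q < p`. -/
structure OddPq (p q : ℕ) : Prop where
  prime_p : p.Prime
  prime_q : q.Prime
  three_le : 3 ≤ q
  lt : q < p

namespace OddPq

variable {p q : ℕ} (h : OddPq p q)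
include h

theorem five_le : 5 ≤ p := by
  have := h.three_le
  have := h.lt
  by_contra hh
  have hp4 : p = 4 := by omega
  exact absurd (hp4 ▸ h.prime_p) (by norm_num)

theorem two_add_le : q + 2 ≤ p := by
  have := h.lt
  by_contra hh
  have hpq : p = q + 1 := by omega
  have h2 : Odd q := h.prime_q.odd_of_ne_two (by have := h.three_le; omega)
  have h3 : Odd p := h.prime_p.odd_of_ne_two (by have := h.five_le; omega)
  rw [hpq] at h3
  exact (Nat.not_even_iff_odd.2 h3) h2.add_one

theorem geom : geoN p q = ∑ i ∈ Finset.range q, p ^ i :=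
  (Nat.geomSum_eq h.prime_p.two_le q).symm

theorem geom' : geoN q p = ∑ i ∈ Finset.range p, q ^ i :=
  (Nat.geomSum_eq h.prime_q.two_le p).symm

theorem geo_mul : geoN p q * (p - 1) = p ^ q - 1 :=
  Nat.div_mul_cancel (by simpa using Nat.sub_dvd_pow_sub_pow p 1 q)

theorem facts : Odd (geoN p q) ∧ (p % q = 1 → q ∣ geoN p q) ∧
    (p % q ≠ 1 → Nat.Coprime (geoN p q) (p - 1) ∧ ∀ x : ℕ, x ∣ geoN p q → x % q = 1) :=
  Cfsg.Agent.S1546.result p q h.prime_p h.prime_q (by have := h.five_le; omega)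
    (by have := h.three_le; omega)

theorem facts' : Odd (geoN q p) ∧
    Nat.Coprime (geoN q p) (q - 1) ∧ ∀ x : ℕ, x ∣ geoN q p → x % p = 1 := by
  have h1 := Cfsg.Agent.S1546.result q p h.prime_q h.prime_p (by have := h.three_le; omega)
    (by have := h.five_le; omega)
  have h2 : q % p ≠ 1 := by
    rw [Nat.mod_eq_of_lt h.lt]
    have := h.three_le
    omega
  exact ⟨h1.1, h1.2.2 h2⟩

theorem geo_mod : geoN p q % p = 1 := by
  obtain ⟨m, hm⟩ : ∃ m, q = m + 1 := ⟨q - 1, by have := h.three_le; omega⟩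
  rw [h.geom, hm, Finset.sum_range_succ', pow_zero]
  simp only [pow_succ']
  rw [← Finset.mul_sum, Nat.mul_add_mod, Nat.mod_eq_of_lt h.prime_p.one_lt]

theorem geo_mod_q : geoN p q % q = if p % q = 1 then 0 else 1 := by
  obtain ⟨-, h1, h2⟩ := h.facts
  split_ifs with h3
  · exact Nat.mod_eq_zero_of_dvd (h1 h3)
  · exact (h2 h3).2 _ dvd_rfl

theorem geo_ge : p * p + p + 1 ≤ geoN p q := by
  rw [h.geom]
  refine le_trans (le_of_eq ?_) (Finset.sum_le_sum_of_subset
    (Finset.range_mono h.three_le))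
  simp [Finset.sum_range_succ]
  ring

theorem pow_le_geo : p ^ (q - 1) ≤ geoN p q := by
  rw [h.geom]
  exact Finset.single_le_sum (fun i _ => Nat.zero_le (p ^ i))
    (Finset.mem_range.2 (by have := h.three_le; omega))

theorem geo'_ge : q ^ (p - 1) + q ^ (p - 2) + 1 ≤ geoN q p := by
  rw [h.geom']
  refine le_trans (le_of_eq ?_) (Finset.sum_le_sum_of_subset
    (show ({p - 1, p - 2, 0} : Finset ℕ) ⊆ Finset.range p from fun i hi => ?_))
  · have := h.five_le
    rw [Finset.sum_insert (by simp; omega), Finset.sum_insert (by simp; omega),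
      Finset.sum_singleton, pow_zero, add_assoc]
  · have := h.five_le
    simp only [Finset.mem_insert, Finset.mem_singleton] at hi
    exact Finset.mem_range.2 (by omega)

/-- `q^p` exceeds `p^q`. -/
theorem pow_le_pow_swap : p ^ q ≤ q ^ p := by
  have hq0 : (0 : ℝ) < q := by exact_mod_cast h.prime_q.pos
  have hp0 : (0 : ℝ) < p := by exact_mod_cast h.prime_p.pos
  have hq3 : (3 : ℝ) ≤ q := by exact_mod_cast h.three_le
  have hqp : (q : ℝ) ≤ p := by exact_mod_cast h.lt.le
  have he : Real.exp 1 ≤ (q : ℝ) := le_trans Real.exp_one_lt_d9.le (by norm_num; linarith)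
  have h1 := Real.log_div_self_antitoneOn (a := (q : ℝ)) (b := (p : ℝ)) he (he.trans hqp) hqp
  rw [div_le_div_iff₀ hp0 hq0] at h1
  have h2 : Real.log ((p : ℝ) ^ q) ≤ Real.log ((q : ℝ) ^ p) := by
    rw [Real.log_pow, Real.log_pow]
    linarith
  exact_mod_cast (Real.log_le_log_iff (by positivity) (by positivity)).1 h2

/-- The order of a full `V` is large. -/
theorem geo'_large {u : ℕ} (h53 : ¬ (p = 5 ∧ q = 3)) (hu : q * u ≤ geoN p q) :
    p * q * (p * q + 1) < geoN q p - 1 ∧ p * u < geoN q p - 1 := by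
  have hq := h.three_le
  have h5 := h.five_le
  have h2 := h.two_add_le
  have hN := h.geo'_ge
  obtain ⟨k, hk⟩ : ∃ k, p = k + 2 := ⟨p - 2, by omega⟩
  have hp1 : q ^ (p - 1) = q * q ^ k := by rw [hk, ← pow_succ']; rfl
  have hp2 : q ^ (p - 2) = q ^ k := by rw [hk]; rfl
  have hpow : q ^ p = q * (q * q ^ k) := by rw [hk, ← pow_succ', ← pow_succ']
  constructor
  · have h7 : 7 ≤ p := by
      by_contra hh
      have hp6 : p ≠ 6 := fun e => absurd (e ▸ h.prime_p) (by norm_num)
      exact h53 ⟨by omega, by omega⟩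
    have key : ∀ j : ℕ, (j + 7) * (j + 7) + (j + 7) ≤ 3 ^ (j + 4) := by
      intro j
      induction j with
      | zero => norm_num
      | succ j ih =>
        rw [show j + 1 + 4 = (j + 4) + 1 by omega, pow_succ]
        nlinarith
    have h3 : p * p + p ≤ q ^ (p - 3) := by
      have := key (p - 7)
      rw [show p - 7 + 7 = p by omega, show p - 7 + 4 = p - 3 by omega] at this
      exact this.trans (Nat.pow_le_pow_left hq _)
    have h4 : q ^ (p - 1) = q * q * q ^ (p - 3) := by
      rw [← pow_two, ← pow_add]; congr 1; omega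
    have h5' : q * q * (p * p + p) ≤ q ^ (p - 1) := by
      rw [h4]; exact Nat.mul_le_mul_left _ h3
    have h6 : 0 < q ^ (p - 2) := pow_pos h.prime_q.pos _
    have h8 : p * q * (p * q + 1) ≤ q * q * (p * p + p) :=
      calc p * q * (p * q + 1) = p * q * (p * q) + p * q * 1 := by ring
        _ ≤ p * q * (p * q) + p * q * q := Nat.add_le_add_left (Nat.mul_le_mul_left _ (by omega)) _
        _ = q * q * (p * p + p) := by ring
    omega
  · have h1 : q * u * (p - 1) < q * (q * q ^ k) := by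
      have := Nat.mul_le_mul_right (p - 1) hu
      rw [h.geo_mul] at this
      have h3 := h.pow_le_pow_swap
      rw [hpow] at h3
      have h4 : 0 < p ^ q := pow_pos h.prime_p.pos _
      omega
    have h3 : (q * u * p) * (p - 1) < (q + 1) * (q * q ^ k) * (p - 1) := by
      have h4 : p * q ≤ (q + 1) * (p - 1) := by
        obtain ⟨j, rfl⟩ : ∃ j, p = j + 1 := ⟨p - 1, by omega⟩
        simp only [Nat.add_sub_cancel]
        nlinarith
      calc q * u * p * (p - 1) = p * (q * u * (p - 1)) := by ring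
        _ < p * (q * (q * q ^ k)) := (Nat.mul_lt_mul_left (by omega)).2 h1
        _ = p * q * (q * q ^ k) := by ring
        _ ≤ (q + 1) * (p - 1) * (q * q ^ k) := Nat.mul_le_mul_right _ h4
        _ = (q + 1) * (q * q ^ k) * (p - 1) := by ring
    have h4 := Nat.lt_of_mul_lt_mul_right h3
    have h5 : q * (u * p) < q * ((q + 1) * q ^ k) := by
      calc q * (u * p) = q * u * p := by ring
        _ < (q + 1) * (q * q ^ k) := h4
        _ = q * ((q + 1) * q ^ k) := by ring
    have h6 := Nat.lt_of_mul_lt_mul_left h5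
    rw [hp1, hp2] at hN
    have h7 : p * u = u * p := mul_comm _ _
    have h8 : (q + 1) * q ^ k = q * q ^ k + q ^ k := by ring
    omega

/-- Facts on the quotient `a = N / u` of a proper divisor `u` that is `≡ 1 mod q`. -/
theorem quot_facts {u a : ℕ} (hua : u * a = geoN p q) (huq : u % q = 1) (ha : a ≠ 1) :
    q ≤ a ∧ a % q = (if p % q = 1 then 0 else 1) ∧ Odd a := by
  have hodd : Odd a := by
    have := h.facts.1
    rw [← hua, Nat.odd_mul] at this
    exact this.2
  have hmod : a % q = geoN p q % q := by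
    rw [← hua, Nat.mul_mod, huq, one_mul, Nat.mod_mod]
  rw [h.geo_mod_q] at hmod
  refine ⟨?_, hmod, hodd⟩
  obtain ⟨j, hj⟩ := hodd
  by_contra hlt
  rw [Nat.mod_eq_of_lt (by omega)] at hmod
  split_ifs at hmod <;> omega

/-- Peterfalvi's counting inequality has no solution unless `V` is full. -/
theorem count_absurd {u v : ℕ} (hu : 2 * q + 1 ≤ u) (hv : 2 * p + 1 ≤ v) (h53 : ¬ (p = 5 ∧ q = 3))
    (h73 : p = 7 → q = 3 → 19 ≤ u) {o o' : ℝ} (ho : (q : ℝ) * (p - 1) ≤ o)
    (ho' : (2 * (p : ℝ) + 1) * (q - 1) ≤ o') :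
    (q : ℝ) / o + (p : ℝ) / o' <
      ((p : ℝ) + q - 1) / (p * q) - 1 / (u * q) - 1 / (v * p) := by
  have hq : (3 : ℝ) ≤ q := by exact_mod_cast h.three_le
  have hp : (q : ℝ) + 2 ≤ p := by exact_mod_cast h.two_add_le
  have hu' : (2 * q + 1 : ℝ) ≤ u := by exact_mod_cast hu
  have hv' : (2 * p + 1 : ℝ) ≤ v := by exact_mod_cast hv
  have a1 : (q : ℝ) / o ≤ 1 / ((p : ℝ) - 1) := by
    rw [show 1 / ((p : ℝ) - 1) = (q : ℝ) / (q * (p - 1)) by field_simp]
    exact div_le_div_of_nonneg_left (by positivity) (by nlinarith) ho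
  have a2 : (p : ℝ) / o' ≤ p / ((2 * (p : ℝ) + 1) * (q - 1)) :=
    div_le_div_of_nonneg_left (by positivity) (by nlinarith) ho'
  have a3 : 1 / ((v : ℝ) * p) ≤ 1 / ((2 * p + 1) * p) :=
    one_div_le_one_div_of_le (by nlinarith) (by nlinarith)
  have a4 : 1 / ((u : ℝ) * q) ≤ 1 / ((2 * q + 1) * q) :=
    one_div_le_one_div_of_le (by nlinarith) (by nlinarith)
  by_cases hq3 : q = 3
  · subst hq3
    push_cast at a1 a2 a4 ⊢
    by_cases hp7 : p = 7
    · subst hp7
      have h19 : (19 : ℝ) ≤ u := by exact_mod_cast h73 rfl rfl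
      have a5 : 1 / ((u : ℝ) * 3) ≤ 1 / (19 * 3) :=
        one_div_le_one_div_of_le (by norm_num) (by linarith)
      norm_num at a1 a2 a3 a5 ⊢
      linarith
    · have hp11 : (11 : ℝ) ≤ p := by
        have h5 := h.five_le
        have h6 : p ≠ 6 := fun e => absurd (e ▸ h.prime_p) (by norm_num)
        have h8 : p ≠ 8 := fun e => absurd (e ▸ h.prime_p) (by norm_num)
        have h9 : p ≠ 9 := fun e => absurd (e ▸ h.prime_p) (by norm_num)
        have h10 : p ≠ 10 := fun e => absurd (e ▸ h.prime_p) (by norm_num)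
        have : p ≠ 5 := fun e => h53 ⟨e, rfl⟩
        exact_mod_cast (show 11 ≤ p by omega)
      have hp0 : (0 : ℝ) < p := by linarith
      have b1 : 1 / ((p : ℝ) - 1) ≤ (11 / 10) / p := by
        rw [div_le_div_iff₀ (by linarith) hp0]
        linarith
      have b2 : (p : ℝ) / ((2 * p + 1) * (3 - 1)) ≤ 1 / 4 - (11 / 92) / p := by
        rw [le_sub_iff_add_le, div_add_div _ _ (by positivity) hp0.ne',
          div_le_iff₀ (by positivity)]
        nlinarith
      have b3 : 1 / ((2 * (p : ℝ) + 1) * p) ≤ (1 / 23) / p := by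
        rw [div_le_div_iff₀ (by positivity) hp0]
        nlinarith
      have b4 : ((p : ℝ) + 3 - 1) / (p * 3) = 1 / 3 + (2 / 3) / p := by
        field_simp
        ring
      have b5 : (1 : ℝ) / ((2 * 3 + 1) * 3) = 1 / 21 := by norm_num
      have b6 : ((11 / 10 + 1 / 23 - 2 / 3 - 11 / 92 : ℝ)) / p < 1 / 28 := by
        rw [div_lt_iff₀ hp0]
        linarith
      rw [sub_div, sub_div, add_div] at b6
      linarith
  · have hq5 : (5 : ℝ) ≤ q := by
      have := h.three_le
      have h4 : q ≠ 4 := fun e => absurd (e ▸ h.prime_q) (by norm_num)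
      exact_mod_cast (show 5 ≤ q by omega)
    by_cases hp7 : p = 7
    · subst hp7
      have hq' : q = 5 := by
        have := h.two_add_le
        have : (5 : ℝ) ≤ q := hq5
        have : 5 ≤ q := by exact_mod_cast this
        omega
      subst hq'
      norm_num at a1 a2 a3 a4 ⊢
      linarith
    have hp11 : (11 : ℝ) ≤ p := by
      have h5 : 7 ≤ p := by exact_mod_cast (show (7 : ℝ) ≤ p by linarith)
      have h8 : p ≠ 8 := fun e => absurd (e ▸ h.prime_p) (by norm_num)
      have h9 : p ≠ 9 := fun e => absurd (e ▸ h.prime_p) (by norm_num)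
      have h10 : p ≠ 10 := fun e => absurd (e ▸ h.prime_p) (by norm_num)
      exact_mod_cast (show 11 ≤ p by omega)
    have hp0 : (0 : ℝ) < p := by linarith
    have hq0 : (0 : ℝ) < q := by linarith
    have hp1 : (0 : ℝ) < (p : ℝ) - 1 := by linarith
    have hq1 : (0 : ℝ) < (q : ℝ) - 1 := by linarith
    -- every term against a multiple of `1 / q`
    have b1 : 1 / ((p : ℝ) - 1) ≤ 1 / p + (1 / 10) / q := by
      rw [div_add_div _ _ hp0.ne' hq0.ne', div_le_div_iff₀ hp1 (by positivity)]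
      nlinarith
    have b2 : (p : ℝ) / ((2 * p + 1) * (q - 1)) ≤ (5 / 8) / q := by
      rw [div_le_div_iff₀ (by positivity) hq0]
      nlinarith
    have b3 : 1 / ((2 * (p : ℝ) + 1) * p) ≤ (1 / 23) / q := by
      rw [div_le_div_iff₀ (by positivity) hq0]
      nlinarith
    have b4 : 1 / ((2 * (q : ℝ) + 1) * q) ≤ (1 / 11) / q := by
      rw [div_le_div_iff₀ (by positivity) hq0]
      nlinarith
    have b5 : 1 / ((p : ℝ) * q) ≤ (1 / 11) / q := by
      rw [div_le_div_iff₀ (by positivity) hq0]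
      nlinarith
    have b6 : ((p : ℝ) + q - 1) / (p * q) = 1 / q + 1 / p - 1 / (p * q) := by
      field_simp
    have b7 : (1 / 10 : ℝ) / q + (5 / 8) / q + (1 / 23) / q + (1 / 11) / q + (1 / 11) / q < 1 / q := by
      rw [← add_div, ← add_div, ← add_div, ← add_div]
      exact div_lt_div_of_pos_right (by norm_num) hq0
    linarith

/-- No density `X` satisfies both bounds when `e = q` and `u < N`. -/
theorem small_index_absurd {u : ℕ} (hu : 7 ≤ u) {X o : ℝ} (hX : ((q : ℝ) - 2) / (p * q) ≤ X)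
    (ho : (q : ℝ) * (p - 1) ≤ o) (hV : X * ((u : ℝ) - 2) ^ 2 ≤ (q : ℝ) / o) : False := by
  have hq : (3 : ℝ) ≤ q := by exact_mod_cast h.three_le
  have hp : (q : ℝ) + 2 ≤ p := by exact_mod_cast h.two_add_le
  have hu' : (7 : ℝ) ≤ u := by exact_mod_cast hu
  have h1 : (q : ℝ) / o ≤ 1 / ((p : ℝ) - 1) := by
    rw [show 1 / ((p : ℝ) - 1) = (q : ℝ) / (q * (p - 1)) by field_simp]
    exact div_le_div_of_nonneg_left (by positivity) (by nlinarith) ho
  have h2 : ((q : ℝ) - 2) / (p * q) * 25 ≤ 1 / ((p : ℝ) - 1) := by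
    refine le_trans ?_ (hV.trans h1)
    exact mul_le_mul hX (by nlinarith) (by norm_num)
      (le_trans (div_nonneg (by linarith) (by positivity)) hX)
  rw [div_mul_eq_mul_div, div_le_div_iff₀ (by nlinarith) (by linarith)] at h2
  nlinarith

/-- No density `X` satisfies both bounds when `e = q` and `u = N`. -/
theorem full_index_absurd {n : ℕ} (hn : n * q + 1 = geoN p q) {X : ℝ}
    (hX : ((q : ℝ) - 2) / (p * q) ≤ X) (hY : X * (n : ℝ) ^ 2 ≤ 2 * (X + 1)) : False := by
  have hq : (3 : ℝ) ≤ q := by exact_mod_cast h.three_le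
  have hp : (q : ℝ) + 2 ≤ p := by exact_mod_cast h.two_add_le
  have hn' : p + 1 ≤ n := by
    have h1 := h.geo_ge
    have h2 := h.lt
    by_contra hh
    have h3 : n * q ≤ p * q := Nat.mul_le_mul_right q (by omega)
    have h4 : p * q + p ≤ p * p := by
      rw [← Nat.mul_succ]; exact Nat.mul_le_mul_left p h2
    omega
  have hn'' : (p : ℝ) + 1 ≤ n := by exact_mod_cast hn'
  have h2 : ((q : ℝ) - 2) / (p * q) * ((n : ℝ) ^ 2 - 2) ≤ 2 := by
    refine le_trans (mul_le_mul_of_nonneg_right hX (by nlinarith)) ?_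
    nlinarith
  rw [div_mul_eq_mul_div, div_le_iff₀ (by nlinarith)] at h2
  have h3 : ((q : ℝ) - 2) * ((p : ℝ) ^ 2 + 2 * p - 1) ≤ ((q : ℝ) - 2) * ((n : ℝ) ^ 2 - 2) :=
    mul_le_mul_of_nonneg_left (by nlinarith) (by linarith)
  have h4 : 2 * ((p : ℝ) * q) ≤ 6 * p * ((q : ℝ) - 2) := by nlinarith
  have h6 : 0 < ((q : ℝ) - 2) * ((p : ℝ) ^ 2 - 4 * p - 1) := mul_pos (by linarith) (by nlinarith)
  nlinarith

/-- `h` is `N` when it is a multiple of `N` congruent to one modulo `2pq` and not too large. -/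
theorem eq_geo_of_bound {k : ℕ} (hpq : p % q ≠ 1) (hdvd : geoN p q ∣ k) (hk : Odd k)
    (hkq : k % (p * q) = 1) (hb : k - 1 ≤ p * (geoN p q - 1) ∨ k - 1 ≤ q * (p * q * (p * q + 1))) :
    k = geoN p q := by
  obtain ⟨r, rfl⟩ := hdvd
  have hq := h.three_le
  have h5 := h.five_le
  have hN := h.geo_ge
  have hodd : Odd r := (Nat.odd_mul.1 hk).2
  have hNm : geoN p q % (p * q) = 1 := by
    have hc : Nat.Coprime p q := (Nat.coprime_primes h.prime_p h.prime_q).2 (by have := h.lt; omega)
    have : geoN p q ≡ 1 [MOD p * q] := (Nat.modEq_and_modEq_iff_modEq_mul hc).1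
      ⟨by rw [Nat.ModEq, h.geo_mod, Nat.mod_eq_of_lt h.prime_p.one_lt],
        by rw [Nat.ModEq, h.geo_mod_q, if_neg hpq, Nat.mod_eq_of_lt (by omega : 1 < q)]⟩
    rwa [Nat.ModEq, Nat.one_mod_eq_one.2 (by nlinarith)] at this
  have hr : r % (p * q) = 1 := by
    rw [Nat.mul_mod, hNm, one_mul, Nat.mod_mod] at hkq
    exact hkq
  by_contra hne
  have hr1 : r ≠ 1 := fun e => hne (by rw [e, mul_one])
  have hbig : 2 * (p * q) + 1 ≤ r := by
    have hm := Nat.div_add_mod r (p * q)
    rw [hr] at hm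
    generalize r / (p * q) = j at hm
    obtain ⟨i, hi⟩ := hodd
    have hpqodd : Odd (p * q) := (h.prime_p.odd_of_ne_two (by omega)).mul
      (h.prime_q.odd_of_ne_two (by omega))
    rcases j with _ | _ | j
    · omega
    · obtain ⟨l, hl⟩ := hpqodd
      omega
    · nlinarith
  have hk1 : geoN p q * (2 * (p * q) + 1) ≤ geoN p q * r := Nat.mul_le_mul_left _ hbig
  have hq2 : q * (p * q + 1) ≤ 2 * geoN p q := by
    have hlt := h.lt
    by_cases hq3 : q = 3
    · subst hq3
      nlinarith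
    · have h4 : p ^ 4 ≤ geoN p q := (Nat.pow_le_pow_right (by omega) (by
        have : q ≠ 4 := fun e => absurd (e ▸ h.prime_q) (by norm_num)
        omega)).trans h.pow_le_geo
      have h7 : q * (p * q + 1) ≤ p * (p * p + 1) :=
        Nat.mul_le_mul hlt.le (Nat.add_le_add_right (Nat.mul_le_mul_left p hlt.le) 1)
      have h8 : p * (p * p + 1) ≤ p ^ 4 := by
        have : p * p + 1 ≤ p ^ 3 := by nlinarith
        calc p * (p * p + 1) ≤ p * p ^ 3 := Nat.mul_le_mul_left p this
          _ = p ^ 4 := by ring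
      omega
  rcases hb with hb | hb
  · have h3 : p * (geoN p q - 1) ≤ p * geoN p q := Nat.mul_le_mul_left _ (Nat.sub_le _ _)
    have h4 : geoN p q + 1 ≤ geoN p q * (2 * (p * q) + 1) - p * (geoN p q - 1) := by
      have : p * (geoN p q - 1) + p = p * geoN p q := by
        rw [← Nat.mul_succ]; congr 1; omega
      have h9 : geoN p q * (2 * (p * q) + 1) = geoN p q * (2 * (p * q)) + geoN p q := by ring
      have h10 : p * geoN p q < geoN p q * (2 * (p * q)) := by nlinarith
      omega
    omega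
  · have h3 : q * (p * q * (p * q + 1)) + 2 ≤ geoN p q * (2 * (p * q) + 1) := by
      have h4 := hq2
      calc q * (p * q * (p * q + 1)) + 2 = p * q * (q * (p * q + 1)) + 2 := by ring
        _ ≤ p * q * (2 * geoN p q) + geoN p q := by
          have := Nat.mul_le_mul_left (p * q) h4
          omega
        _ = geoN p q * (2 * (p * q) + 1) := by ring
    omega

end OddPq

end CfsgLib.OddEnd
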