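import Cfsg.Agent.OddEnd.FourteenMaster
import Cfsg.Agent.OddEnd.FourteenArith

/-!
Peterfalvi section 14: the values off both supports of a bridge whose norm is exhausted by the grid.
-/

set_option autoImplicit false
set_option linter.unusedSectionVars false

namespace CfsgLib.OddEnd

open Subgroup CfsgLib.Char
open scoped ComplexConjugate

universe u

variable {G : Type u} [Group G] [Fintype G] {W₁ W₂ : Subgroup G}
variable {χ : (↥(W₁ ⊔ W₂) →* ℂˣ) → G → ℂ}
variable [Fintype (Row W₁ W₂)]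
variable {ι : Type u} [Fintype ι] {κ : Type u} [Fintype κ] {S P U : Subgroup G}

/-- A stable set outside the supports of a family and of a side, on which the grid is constant along rows. -/
structure OffRegion (F : Family G ι) (I : SideImages χ S P U κ) (Y : Finset G) : Prop where
  pow : ∀ t : ℕ, t.Coprime (Nat.card G) → ∀ g ∈ Y, g ^ t ∈ Y
  notX : ∀ g ∈ Y, g ∉ F.X
  off : ∀ g ∈ Y, g ∉ conjSet (bridgeSet S P W₁ W₂)
  row : ∀ g ∈ Y, ∀ (r r' : Row W₁ W₂) (l : Col W₁ W₂), r ≠ row₀ → r' ≠ row₀ →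
    χ (cell r l) g = χ (cell r' l) g
  cell_eq : ∀ g ∈ Y, ∀ (r : Row W₁ W₂) (l : Col W₁ W₂), r ≠ row₀ → l ≠ col₀ →
    χ (cell r l) g = χ (cell r col₀) g + χ (cell row₀ l) g - 1

/-- The squared norms of a signed irreducible sum to at most the group order over any set. -/
theorem sum_norm_sq_le_of_signed {η : G → ℂ} (hη : IsSignedIrr η) (Y : Finset G) :
    ∑ g ∈ Y, ‖η g‖ ^ 2 ≤ (Nat.card G : ℝ) := by
  have h := IsSignedIrr.classInner_self hη
  rw [CfsgLib.Char.classInner_self, Complex.ofReal_eq_one,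
    inv_mul_eq_one₀ (Nat.cast_ne_zero.2 Nat.card_pos.ne')] at h
  exact (Finset.sum_le_sum_of_subset_of_nonneg (Finset.subset_univ Y) fun g _ _ => by positivity).trans
    h.symm.le

/-- A generalized character without zeros on a stable set has average energy at least one there. -/
theorem card_le_mass_of_ne {θ : G → ℂ} (hθ : Cfsg.IsGeneralizedCharacter G θ) (Y : Finset G)
    (hY : ∀ t : ℕ, t.Coprime (Nat.card G) → ∀ g ∈ Y, g ^ t ∈ Y) (hne : ∀ g ∈ Y, θ g ≠ 0) :
    (Y.card : ℝ) ≤ ∑ g ∈ Y, ‖θ g‖ ^ 2 := by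
  have h := card_le_mass hθ Y hY
  rwa [Finset.filter_true_of_mem hne] at h

variable [Fintype (Col W₁ W₂)]

namespace Meets

variable {F : Family G ι} {I : SideImages χ S P U κ} (hM : Meets F I)
include hM

open scoped Classical in
/-- The index `|W₁|` is impossible. -/
theorem index_left_absurd {p q : ℕ} (pq : OddPq p q) (hp : Nat.card W₂ = p) (hq : Nat.card W₁ = q)
    {Y : Finset G} (hR : OffRegion F I Y)
    (hY : ((q : ℝ) - 2) / (p * q) ≤ (Y.card : ℝ) / Nat.card G)
    {t : Row W₁ W₂ → ℤ} (ht1 : ∀ r, t r = 1)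
    (ht : ∀ r l, Cfsg.classInner F.α (χ (cell r l)) =
      ((t r + if l = col₀ then 0 else (0 : ℤ) - 1 : ℤ) : ℂ))
    (he : F.e = q) {l : Col W₁ W₂} (hl : l ≠ col₀) {g₀ : ℤ}
    (hg : ∀ i, Cfsg.classInner (I.β l) (F.z i) = ((g₀ * F.r i : ℤ) : ℂ)) (hg1 : g₀ * g₀ = 1) {k : ℕ}
    (hk : k * q + 1 = Nat.card U) (hsq : F.sq = k) (hu : 7 ≤ Nat.card U)
    (hcase : Nat.card U = geoN p q ∨ q * (p - 1) * Nat.card U ≤ nFree S P U) : False := by
  have hrow : Fintype.card (Row W₁ W₂) = q := by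
    rw [← Nat.card_eq_fintype_card, (card_trivL hM.self).2, hq]
  obtain ⟨r₁, hr₁⟩ := exists_row_ne hM.self hM.left
  obtain ⟨ε, hε, heq⟩ := hM.eq_off_support ht (by
    simp only [ht1, Finset.sum_const, Finset.card_univ, hrow, nsmul_eq_mul]
    rw [he]
    simp)
  set x : G → ℂ := χ (cell r₁ col₀) with hxdef
  set y : G → ℂ := χ (cell row₀ l) with hydef
  set z : G → ℂ := F.z F.i₀ with hzdef
  have h11 : χ (cell (row₀ : Row W₁ W₂) (col₀ : Col W₁ W₂)) = fun _ => (1 : ℂ) := by
    rw [cell_row₀, show ((col₀ : Col W₁ W₂).1 : ↥(W₁ ⊔ W₂) →* ℂˣ) = 1 from rfl, hM.family.map_one]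
  have hz : ∀ g ∈ Y, 1 + ((q : ℂ) - 1) * x g = ε * z g := by
    intro g hgY
    rw [hzdef, ← heq g (hR.notX g hgY), Finset.sum_eq_single (col₀ : Col W₁ W₂)]
    · rw [← Finset.add_sum_erase _ _ (Finset.mem_univ (row₀ : Row W₁ W₂)), h11,
        Finset.sum_congr rfl fun r hr => show ((t r + if (col₀ : Col W₁ W₂) = col₀ then 0 else (0 : ℤ) - 1 : ℤ) : ℂ) *
            χ (cell r col₀) g = x g by
          rw [if_pos rfl, ht1, hxdef, hR.row g hgY r r₁ col₀ (Finset.ne_of_mem_erase hr) hr₁]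
          simp,
        Finset.sum_const, Finset.card_erase_of_mem (Finset.mem_univ _), Finset.card_univ, hrow, nsmul_eq_mul,
        if_pos rfl, ht1, Nat.cast_sub pq.prime_q.one_le]
      simp
    · intro c _ hc
      refine Finset.sum_eq_zero fun r _ => ?_
      rw [if_neg hc, ht1]
      simp
    · simp
  have hz0 : ∀ g ∈ Y, z g ≠ 0 := fun g hgY h0 => by
    have h := hz g hgY
    rw [h0, mul_zero] at h
    exact one_add_mul_ne_zero pq.three_le
      (IsGeneralized.isIntegral (isGeneralized_family hM.family _) g) h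
  have hmass : (Y.card : ℝ) ≤ ∑ g ∈ Y, ‖z g‖ ^ 2 := card_le_mass_of_ne (F.z_gen _) Y hR.pow hz0
  have hy : ∀ g ∈ Y, y g = 1 + ((g₀ * k : ℤ) : ℂ) * z g := by
    intro g hgY
    have h := hM.β_eq_off_support hl hg (k := k) (by rw [hq]; exact hk) (by rw [hg1, one_mul, hsq])
      (hR.notX g hgY)
    rw [I.β_off l hl g (hR.off g hgY), hsq] at h
    linear_combination h
  have hlam : ∀ s, ∀ g ∈ Y, I.lam s g = (((q : ℤ) * g₀ * k : ℤ) + ε) * z g := by
    intro s g hgY
    rw [I.lam_off s l hl g (fun hh => hR.off g hgY (punctured_subset_bridge S P hh)),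
      ← Finset.add_sum_erase _ _ (Finset.mem_univ (row₀ : Row W₁ W₂)),
      Finset.sum_congr rfl fun r hr => show χ (cell r l) g = x g + y g - 1 by
        rw [hR.cell_eq g hgY r l (Finset.ne_of_mem_erase hr) hl, hxdef, hydef,
          hR.row g hgY r r₁ col₀ (Finset.ne_of_mem_erase hr) hr₁],
      Finset.sum_const, Finset.card_erase_of_mem (Finset.mem_univ _), Finset.card_univ, hrow, nsmul_eq_mul,
      Nat.cast_sub pq.prime_q.one_le, ← hydef]
    have h1 := hy g hgY
    have h2 := hz g hgY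
    push_cast at h1 ⊢
    linear_combination (q : ℂ) * h1 + h2
  have hG0 : (0 : ℝ) < Nat.card G := Nat.cast_pos.2 Nat.card_pos
  have hnε : ‖ε‖ = 1 := by rcases hε with rfl | rfl <;> simp
  have hng : ‖((g₀ : ℤ) : ℂ)‖ = 1 := by
    rcases Int.eq_one_or_neg_one_of_mul_eq_one hg1 with rfl | rfl <;> simp
  rcases hcase with hgeo | hfree
  · refine pq.full_index_absurd (n := k) (hgeo ▸ hk) hY ?_
    have h1 : ∀ g ∈ Y, (k : ℝ) ^ 2 * ‖z g‖ ^ 2 ≤ 2 * ‖y g‖ ^ 2 + 2 := by
      intro g hgY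
      have e : ‖y g - 1‖ = (k : ℝ) * ‖z g‖ := by
        rw [hy g hgY, add_sub_cancel_left, norm_mul, Int.cast_mul, norm_mul, hng, one_mul]
        simp
      rw [← mul_pow, ← e]
      have h3 : ‖y g - 1‖ ≤ ‖y g‖ + 1 := (norm_sub_le _ _).trans (by rw [norm_one])
      nlinarith [norm_nonneg (y g - 1), sq_nonneg (‖y g‖ - 1)]
    have h2 := Finset.sum_le_sum h1
    rw [← Finset.mul_sum, Finset.sum_add_distrib, Finset.sum_const, nsmul_eq_mul, ← Finset.mul_sum] at h2
    have h3 := sum_norm_sq_le_of_signed (hM.family.irr_or_neg (cell row₀ l)) Y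
    rw [← hydef] at h3
    rw [div_mul_eq_mul_div, div_le_iff₀ hG0,
      show 2 * ((Y.card : ℝ) / Nat.card G + 1) * Nat.card G = 2 * ((Y.card : ℝ) + Nat.card G) by field_simp]
    nlinarith [mul_le_mul_of_nonneg_left hmass (sq_nonneg (k : ℝ))]
  · have hp1 : 0 < p - 1 := by have := pq.prime_p.two_le; omega
    have hn0 : 0 < nFree S P U := lt_of_lt_of_le (by
      have := pq.prime_q.pos
      positivity) hfree
    obtain ⟨s⟩ : Nonempty κ := by
      by_contra hne
      rw [not_nonempty_iff] at hne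
      have h := I.lam_count
      rw [Fintype.card_eq_zero, zero_mul, zero_add, hp] at h
      have h2 := hfree.trans h
      rw [mul_assoc, mul_comm (p - 1) (Nat.card U)] at h2
      have h3 : q * (Nat.card U * (p - 1)) ≤ 1 * (Nat.card U * (p - 1)) := by rwa [one_mul]
      have := Nat.le_of_mul_le_mul_right h3 (by positivity)
      have := pq.three_le
      omega
    refine pq.small_index_absurd hu (o := (nFree S P U : ℝ) / Nat.card U) hY ?_ ?_
    · rw [le_div_iff₀ (by exact_mod_cast (by omega : 0 < Nat.card U))]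
      have : (((q * (p - 1) * Nat.card U : ℕ)) : ℝ) ≤ (nFree S P U : ℝ) := by exact_mod_cast hfree
      rw [Nat.cast_mul, Nat.cast_mul, Nat.cast_sub pq.prime_p.one_le, Nat.cast_one] at this
      exact this
    set Z : Finset G := Finset.univ.filter fun g => g ∈ conjSet ((P : Set G) \ {1}) with hZdef
    have hm := I.lam_mass s Z (fun g => by simp [hZdef])
    rw [hq, inv_mul_eq_div, le_div_iff₀ hG0] at hm
    have hdis : Disjoint Y Z := Finset.disjoint_left.2 fun g hgY hz' =>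
      hR.off g hgY (punctured_subset_bridge S P (Finset.mem_filter.1 hz').2)
    have h2 := sum_norm_sq_le_of_signed (I.lam_signed s) (Y ∪ Z)
    rw [Finset.sum_union hdis] at h2
    have hcoef : ((Nat.card U : ℝ) - 2) ≤ ‖((((q : ℤ) * g₀ * k : ℤ)) : ℂ) + ε‖ := by
      have e1 : ‖((((q : ℤ) * g₀ * k : ℤ)) : ℂ)‖ = (Nat.card U : ℝ) - 1 := by
        rw [Int.cast_mul, Int.cast_mul, norm_mul, norm_mul, hng, mul_one, ← hk]
        simp [mul_comm]
      have h4 := norm_sub_le (((((q : ℤ) * g₀ * k : ℤ)) : ℂ) + ε) ε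
      rw [add_sub_cancel_right, e1, hnε] at h4
      linarith
    have hu2 : (0 : ℝ) ≤ (Nat.card U : ℝ) - 2 := by
      have : (7 : ℝ) ≤ Nat.card U := by exact_mod_cast hu
      linarith
    have h5 : ((Nat.card U : ℝ) - 2) ^ 2 * Y.card ≤ ∑ g ∈ Y, ‖I.lam s g‖ ^ 2 := by
      refine (mul_le_mul_of_nonneg_left hmass (sq_nonneg _)).trans ?_
      rw [Finset.mul_sum]
      refine Finset.sum_le_sum fun g hgY => ?_
      rw [hlam s g hgY, norm_mul, mul_pow]
      exact mul_le_mul_of_nonneg_right (pow_le_pow_left₀ hu2 hcoef 2) (sq_nonneg _)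
    have hn0' : (0 : ℝ) < nFree S P U := by exact_mod_cast hn0
    rw [div_div_eq_mul_div, div_mul_eq_mul_div, div_le_iff₀ hG0]
    push_cast at hm
    rw [mul_comm (q : ℝ) (Nat.card U : ℝ)]
    linarith

open scoped Classical in
/-- An array exhausting the norm bounds the degrees of the family by the density of the region. -/
theorem odd_array_bound {p q : ℕ} (pq : OddPq p q) (hp : Nat.card W₂ = p) (hq : Nat.card W₁ = q)
    {Y : Finset G} (hR : OffRegion F I Y) (hY : 1 / ((p : ℝ) * q) ≤ (Y.card : ℝ) / Nat.card G)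
    {t : Row W₁ W₂ → ℤ} {c d : ℤ} (ht0 : t row₀ = 1) (hc : ∀ r, r ≠ row₀ → t r = c)
    (ht : ∀ r l, Cfsg.classInner F.α (χ (cell r l)) = ((t r + if l = col₀ then 0 else d - 1 : ℤ) : ℂ))
    (_hco : Odd c) (_hdo : Odd d)
    (hsum : (F.e : ℤ) ≤
      ∑ r, (t r * t r + ((Nat.card W₂ : ℤ) - 1) * ((t r + d - 1) * (t r + d - 1)))) :
    F.sq ≤ ((p : ℤ) * q) := by
  have hrow : Fintype.card (Row W₁ W₂) = q := by
    rw [← Nat.card_eq_fintype_card, (card_trivL hM.self).2, hq]
  have hcol : Fintype.card (Col W₁ W₂) = p := by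
    rw [← Nat.card_eq_fintype_card, (card_trivL hM.self).1, hp]
  obtain ⟨r₁, hr₁⟩ := exists_row_ne hM.self hM.left
  obtain ⟨l₁, hl₁⟩ := hM.exists_col
  obtain ⟨ε, hε, heq⟩ := hM.eq_off_support ht hsum
  set x : G → ℂ := χ (cell r₁ col₀) with hxdef
  set y : G → ℂ := χ (cell row₀ l₁) with hydef
  set z : G → ℂ := F.z F.i₀ with hzdef
  have h11 : χ (cell (row₀ : Row W₁ W₂) (col₀ : Col W₁ W₂)) = fun _ => (1 : ℂ) := by
    rw [cell_row₀, show ((col₀ : Col W₁ W₂).1 : ↥(W₁ ⊔ W₂) →* ℂˣ) = 1 from rfl, hM.family.map_one]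
  have hz : ∀ g ∈ Y, ε * z g = 1 + (c : ℂ) * ((q : ℂ) - 1) * x g + ((p : ℂ) - 1) *
      ((d : ℂ) * y g + ((q : ℂ) - 1) * ((c : ℂ) + d - 1) * (x g + y g - 1)) := by
    intro g hgY
    rw [hzdef, ← heq g (hR.notX g hgY), ← Finset.add_sum_erase _ _ (Finset.mem_univ (col₀ : Col W₁ W₂)),
      Finset.sum_congr rfl fun k hk => show
          ∑ r, ((t r + if k = col₀ then 0 else d - 1 : ℤ) : ℂ) * χ (cell r k) g =
            (d : ℂ) * y g + ((q : ℂ) - 1) * ((c : ℂ) + d - 1) * (x g + y g - 1) by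
        have hk' := Finset.ne_of_mem_erase hk
        have hy' : χ (cell row₀ k) g = y g := I.pair_off row₀ k l₁ hk' hl₁ g (hR.off g hgY)
        rw [← Finset.add_sum_erase _ _ (Finset.mem_univ (row₀ : Row W₁ W₂)),
          Finset.sum_congr rfl fun r hr => show
              ((t r + if k = col₀ then 0 else d - 1 : ℤ) : ℂ) * χ (cell r k) g =
                ((c : ℂ) + d - 1) * (x g + y g - 1) by
            rw [if_neg hk', hc r (Finset.ne_of_mem_erase hr),
              hR.cell_eq g hgY r k (Finset.ne_of_mem_erase hr) hk',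
              hR.row g hgY r r₁ col₀ (Finset.ne_of_mem_erase hr) hr₁, hy', hxdef]
            push_cast
            ring,
          Finset.sum_const, Finset.card_erase_of_mem (Finset.mem_univ _), Finset.card_univ, hrow, nsmul_eq_mul,
          if_neg hk', ht0, hy', Nat.cast_sub pq.prime_q.one_le]
        push_cast
        ring,
      Finset.sum_const, Finset.card_erase_of_mem (Finset.mem_univ _), Finset.card_univ, hcol, nsmul_eq_mul,
      Nat.cast_sub pq.prime_p.one_le,
      ← Finset.add_sum_erase _ _ (Finset.mem_univ (row₀ : Row W₁ W₂)), h11,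
      Finset.sum_congr rfl fun r hr => show
          ((t r + if (col₀ : Col W₁ W₂) = col₀ then 0 else d - 1 : ℤ) : ℂ) * χ (cell r col₀) g = (c : ℂ) * x g by
        rw [if_pos rfl, add_zero, hc r (Finset.ne_of_mem_erase hr), hxdef,
          hR.row g hgY r r₁ col₀ (Finset.ne_of_mem_erase hr) hr₁],
      Finset.sum_const, Finset.card_erase_of_mem (Finset.mem_univ _), Finset.card_univ, hrow, nsmul_eq_mul,
      if_pos rfl, ht0, Nat.cast_sub pq.prime_q.one_le]
    push_cast
    ring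
  obtain ⟨a, ha⟩ := pq.prime_q.odd_of_ne_two (by have := pq.three_le; omega)
  obtain ⟨b, hb⟩ := pq.prime_p.odd_of_ne_two (by have := pq.five_le; omega)
  have hz0 : ∀ g ∈ Y, z g ≠ 0 := fun g hgY h0 => by
    have h := hz g hgY
    rw [h0, mul_zero, ha, hb] at h
    have hix := IsGeneralized.isIntegral (isGeneralized_family hM.family (cell r₁ col₀)) g
    have hiy := IsGeneralized.isIntegral (isGeneralized_family hM.family (cell row₀ l₁)) g
    rw [← hxdef] at hix
    rw [← hydef] at hiy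
    have hint : ∀ n : ℤ, IsIntegral ℤ (n : ℂ) := fun n => by
      simpa using isIntegral_algebraMap (R := ℤ) (A := ℂ) (x := n)
    refine one_add_mul_ne_zero (q := 3) le_rfl
      (x := ((c * a : ℤ) : ℂ) * x g + ((b : ℤ) : ℂ) *
        ((d : ℂ) * y g + ((2 * a * (c + d - 1) : ℤ) : ℂ) * (x g + y g - 1))) ?_ ?_
    · exact ((hint _).mul hix).add ((hint _).mul
        (((hint _).mul hiy).add ((hint _).mul ((hix.add hiy).sub isIntegral_one))))
    · push_cast at h ⊢
      linear_combination -h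
  have hmass : (Y.card : ℝ) ≤ ∑ g ∈ Y, ‖z g‖ ^ 2 := card_le_mass_of_ne (F.z_gen _) Y hR.pow hz0
  set Ψ : G → ℂ := ∑ i, (F.r i : ℂ) • F.z i with hΨ
  have hΨY : ∀ g ∈ Y, Ψ g = (F.sq : ℂ) * z g := by
    intro g hgY
    simp only [hΨ, Finset.sum_apply, Pi.smul_apply, smul_eq_mul, Family.sq, Int.cast_sum, Finset.sum_mul, hzdef]
    refine Finset.sum_congr rfl fun i _ => ?_
    rw [F.z_off i g (hR.notX g hgY)]
    push_cast
    ring
  have hΨn : Cfsg.classInner Ψ Ψ = (F.sq : ℂ) := by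
    rw [hΨ, classInner_sum_left, Family.sq, Int.cast_sum]
    refine Finset.sum_congr rfl fun i _ => ?_
    rw [classInner_smul_left, classInner_sum_right, Finset.sum_eq_single i]
    · rw [classInner_smul_right, F.z_self, map_intCast, mul_one, Int.cast_mul]
    · intro j _ hj
      rw [classInner_smul_right, F.orth i j (Ne.symm hj), mul_zero]
    · simp
  have hG0 : (0 : ℝ) < Nat.card G := Nat.cast_pos.2 Nat.card_pos
  have hΨn' : ∑ g, ‖Ψ g‖ ^ 2 = (Nat.card G : ℝ) * (F.sq : ℝ) := by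
    rw [CfsgLib.Char.classInner_self, ← Complex.ofReal_intCast, Complex.ofReal_inj,
      inv_mul_eq_iff_eq_mul₀ hG0.ne'] at hΨn
    exact hΨn
  have hsq1 : 1 ≤ F.sq := by
    have h := Finset.single_le_sum (f := fun i => F.r i * F.r i) (fun i _ => mul_self_nonneg _)
      (Finset.mem_univ F.i₀)
    simp only [F.r_i₀, mul_one] at h
    exact h
  have hsq1' : (1 : ℝ) ≤ (F.sq : ℝ) := by exact_mod_cast hsq1
  have h1 : (F.sq : ℝ) ^ 2 * Y.card ≤ (Nat.card G : ℝ) * (F.sq : ℝ) := by
    rw [← hΨn']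
    refine le_trans ?_ (Finset.sum_le_sum_of_subset_of_nonneg (Finset.subset_univ Y)
      fun g _ _ => by positivity)
    refine (mul_le_mul_of_nonneg_left hmass (sq_nonneg _)).trans (le_of_eq ?_)
    rw [Finset.mul_sum]
    exact Finset.sum_congr rfl fun g hgY => by
      rw [hΨY g hgY, norm_mul, Complex.norm_intCast, mul_pow, sq_abs]
  have h2 : (F.sq : ℝ) * Y.card ≤ (Nat.card G : ℝ) := by nlinarith
  have hpq : (0 : ℝ) < (p : ℝ) * q := by
    have := pq.prime_p.pos
    have := pq.prime_q.pos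
    positivity
  rw [div_le_div_iff₀ hpq hG0, one_mul] at hY
  have h3 : (F.sq : ℝ) ≤ (p : ℝ) * q := by
    by_contra hh
    push Not at hh
    nlinarith
  exact_mod_cast h3

end Meets

end CfsgLib.OddEnd
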