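import Cfsg.Agent.OddEnd.FourteenSwap
import Cfsg.Agent.Char.CyclicExist

/-!
Peterfalvi section 14: the elements outside the sets of both sides, the values of the images of both
sides there, and the count of both sides.
-/

set_option autoImplicit false
set_option linter.unusedSectionVars false

namespace CfsgLib.OddEnd

open Subgroup CfsgLib.Char CfsgLib.OddLocal
open scoped ComplexConjugate

universe u

variable {G : Type u} [Group G] [Fintype G] {S K P U W₁ W₂ T K' Q V : Subgroup G} {p q : ℕ}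

/-- `Y` consists of the elements not conjugate to an element of `P`, of `Q` or to a mixed element. -/
def IsRegion (P Q W₁ W₂ : Subgroup G) (Y : Finset G) : Prop :=
  ∀ g, g ∈ Y ↔ g ≠ 1 ∧ g ∉ conjSet ((P : Set G) \ {1}) ∧ g ∉ conjSet ((Q : Set G) \ {1}) ∧
    g ∉ conjSet ((↑(W₁ ⊔ W₂) : Set G) \ (↑W₁ ∪ ↑W₂))

theorem exists_region (P Q W₁ W₂ : Subgroup G) : ∃ Y : Finset G, IsRegion P Q W₁ W₂ Y := by
  classical
  exact ⟨Finset.univ.filter fun g => g ≠ 1 ∧ g ∉ conjSet ((P : Set G) \ {1}) ∧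
    g ∉ conjSet ((Q : Set G) \ {1}) ∧ g ∉ conjSet ((↑(W₁ ⊔ W₂) : Set G) \ (↑W₁ ∪ ↑W₂)),
    fun g => by simp⟩

variable {Y : Finset G}

theorem IsRegion.symm (hY : IsRegion P Q W₁ W₂ Y) : IsRegion Q P W₂ W₁ Y := fun g => by
  rw [hY g, sup_comm W₂ W₁, Set.union_comm (W₂ : Set G)]
  tauto

/-- Outside the bridge set of the first side. -/
theorem region_off (hY : IsRegion P Q W₁ W₂ Y) (S : Subgroup G) {g : G} (hg : g ∈ Y) :
    g ∉ conjSet (bridgeSet S P W₁ W₂) := by
  rintro ⟨a, ha | ⟨m, hm, w, hw, hw1, hw2, rfl⟩, x, hx⟩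
  · exact ((hY g).1 hg).2.1 ⟨a, ha, x, hx⟩
  · refine ((hY g).1 hg).2.2.2 ⟨w, ⟨hw, ?_⟩, m⁻¹ * x, ?_⟩
    · rintro (h | h)
      · exact hw1 h
      · exact hw2 h
    · have e : m⁻¹ * x * g * (m⁻¹ * x)⁻¹ = m⁻¹ * (x * g * x⁻¹) * m := by group
      rw [e, hx]; group

theorem region_pow (hY : IsRegion P Q W₁ W₂ Y) {t : ℕ} (ht : t.Coprime (Nat.card G)) {g : G}
    (hg : g ∈ Y) : g ^ t ∈ Y := by
  have key : ∀ a : G, ∃ i : ℕ, (a ^ t) ^ i = a := fun a =>
    exists_pow_eq_self_of_coprime (x := a) (n := t)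
      (Nat.Coprime.coprime_dvd_right (orderOf_dvd_natCard a) ht)
  have hpow : ∀ A : Subgroup G, ∀ a ∈ (A : Set G) \ {1}, ∀ i : ℕ, a ^ i ≠ 1 →
      a ^ i ∈ (A : Set G) \ {1} := fun A a ha i h => ⟨A.pow_mem ha.1 i, h⟩
  obtain ⟨h1, h2, h3, h4⟩ := (hY g).1 hg
  obtain ⟨i, hi⟩ := key g
  have hset : ∀ A : Subgroup G, g ∉ conjSet ((A : Set G) \ {1}) →
      g ^ t ∉ conjSet ((A : Set G) \ {1}) := by
    rintro A hA ⟨a, ha, x, hx⟩
    have e : x * g * x⁻¹ = a ^ i := by
      rw [← hx, conj_pow, hi]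
    refine hA ⟨a ^ i, hpow A a ha i fun h0 => h1 ?_, x, e⟩
    rw [h0] at e
    exact conj_eq_one_iff.1 e
  refine (hY _).2 ⟨fun h0 => h1 (by rw [← hi, h0, one_pow]), hset P h2, hset Q h3, ?_⟩
  rintro ⟨a, ha, x, hx⟩
  refine h4 ⟨a ^ i, ⟨Subgroup.pow_mem _ ha.1 i, fun h => ha.2 ?_⟩, x, ?_⟩
  · obtain ⟨j, hj⟩ := key a
    have hai : (a ^ i) ^ t = a := by
      have e : x * g * x⁻¹ = a ^ i := by rw [← hx, conj_pow, hi]
      rw [← e, conj_pow, hx]
    rcases h with h | h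
    · exact Or.inl (hai ▸ W₁.pow_mem h t)
    · exact Or.inr (hai ▸ W₂.pow_mem h t)
  · rw [← hx, conj_pow, hi]

theorem card_side (D : SideData S K P U W₁ W₂ p q) :
    Nat.card S = Nat.card P * (Nat.card U * q) := by
  rw [FittingHall.card_complIn D.compl', FittingHall.card_complIn D.compl, D.mod.card_W, mul_assoc]

/-- The density of the conjugates of the non-identity elements of `P`. -/
theorem density_punctured (D : SideData S K P U W₁ W₂ p q) :
    ((conjSet ((P : Set G) \ {1})).ncard : ℝ) / Nat.card G =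
      1 / ((Nat.card U * q : ℕ) : ℝ) - 1 / (Nat.card S : ℝ) := by
  classical
  have hsub : ((P : Set G) \ {1}) ⊆ bridgeSet S P W₁ W₂ := fun a ha => Or.inl ha
  have hD : Cfsg.DadeHypothesis ((P : Set G) \ {1}) S (fun _ => ⊥) :=
    { one_not_mem := fun e => e.2 rfl
      subset := hsub.trans D.dade.subset
      conj_mem := fun m hm a ha => ⟨(mem_normalizer_iff.1 (D.P_norm hm) a).1 ha.1,
        fun e => ha.2 (conj_eq_one_iff.1 e)⟩
      fusion := fun a ha g hg => D.dade.fusion a (hsub ha) g (hsub hg)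
      le_centralizer := fun a ha => D.dade.le_centralizer a (hsub ha)
      conj_mem_H := fun a ha => D.dade.conj_mem_H a (hsub ha)
      inf_eq_bot := fun a ha => D.dade.inf_eq_bot a (hsub ha)
      sup_eq := fun a ha => D.dade.sup_eq a (hsub ha)
      coprime := fun a ha b hb => D.dade.coprime a (hsub ha) b (hsub hb) }
  rw [density_conjSet hD, Set.ncard_sdiff_singleton_of_mem P.one_mem, ← Nat.card_coe_set_eq,
    Nat.cast_sub Nat.card_pos, card_side D, sub_div]
  congr 1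
  · rw [Nat.cast_mul, one_div, div_mul_eq_div_div, SetLike.coe_sort_coe,
      div_self (Nat.cast_ne_zero.2 Nat.card_pos.ne'), one_div]
  · simp

theorem region_density (D : SideData S K P U W₁ W₂ p q) (D' : SideData T K' Q V W₂ W₁ q p)
    (hY : IsRegion P Q W₁ W₂ Y) :
    ((p : ℝ) + q - 1) / (p * q) - 1 / ((Nat.card U * q : ℕ) : ℝ) - 1 / ((Nat.card V * p : ℕ) : ℝ) ≤
      (Y.card : ℝ) / Nat.card G := by
  classical
  have hW := D.primeDade.selfNorm
  have hp := density_punctured D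
  have hq := density_punctured D'
  have hm := density_mixed hW
  rw [D.card_W₂, D.mod.card_W] at hm
  set A := conjSet ((P : Set G) \ {1})
  set B := conjSet ((Q : Set G) \ {1})
  set C := conjSet ((↑(W₁ ⊔ W₂) : Set G) \ (↑W₁ ∪ ↑W₂))
  have hcov : (Set.univ : Set G) ⊆ (Y : Set G) ∪ ({1} ∪ (A ∪ (B ∪ C))) := by
    intro g _
    by_cases h : g ∈ Y
    · exact Or.inl h
    · refine Or.inr ?_
      have := mt (hY g).2 h
      push Not at this
      by_cases h1 : g = 1
      · exact Or.inl h1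
      by_cases h2 : g ∈ A
      · exact Or.inr (Or.inl h2)
      by_cases h3 : g ∈ B
      · exact Or.inr (Or.inr (Or.inl h3))
      exact Or.inr (Or.inr (Or.inr (this h1 h2 h3)))
  have h1 : Nat.card G ≤ Y.card + (1 + (A.ncard + (B.ncard + C.ncard))) := by
    rw [← Set.ncard_univ]
    refine (Set.ncard_le_ncard hcov (Set.toFinite _)).trans ((Set.ncard_union_le _ _).trans ?_)
    rw [Set.ncard_coe_finset]
    refine Nat.add_le_add_left ((Set.ncard_union_le _ _).trans ?_) _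
    rw [Set.ncard_singleton]
    exact Nat.add_le_add_left ((Set.ncard_union_le _ _).trans
      (Nat.add_le_add_left (Set.ncard_union_le _ _) _)) _
  have hG0 : (0 : ℝ) < Nat.card G := Nat.cast_pos.2 Nat.card_pos
  have h2 := div_le_div_of_nonneg_right (Nat.cast_le (α := ℝ).2 h1) hG0.le
  push_cast at h2
  rw [div_self hG0.ne', add_div, add_div, add_div, add_div, hp, hq, hm] at h2
  have hS : 1 / (Nat.card G : ℝ) ≤ 1 / (Nat.card S : ℝ) :=
    one_div_le_one_div_of_le (Nat.cast_pos.2 Nat.card_pos) (Nat.cast_le.2 S.card_le_card_group)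
  have hT : 0 ≤ 1 / (Nat.card T : ℝ) := by positivity
  have hpq : ((p : ℝ) + q - 1) / (p * q) = 1 - ((p : ℝ) - 1) * ((q : ℝ) - 1) / ((p : ℝ) * q) := by
    have hp0 : (p : ℝ) ≠ 0 := Nat.cast_ne_zero.2 D.mod.prime_p.ne_zero
    have hq0 : (q : ℝ) ≠ 0 := Nat.cast_ne_zero.2 D.mod.prime_q.ne_zero
    field_simp
    ring
  push_cast at h2 ⊢
  rw [hpq]
  linarith

variable [Fintype (Row W₁ W₂)] {χ : (↥(W₁ ⊔ W₂) →* ℂˣ) → G → ℂ}

/-- Off the mixed elements the grid is determined by its first row and column. -/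
theorem grid_off (hχ : Cfsg.IsCyclicTIFamily W₁ W₂ χ) {r : Row W₁ W₂} {l : Col W₁ W₂} (hr : r ≠ row₀)
    (hl : l ≠ col₀) {g : G} (hg : g ∉ conjSet ((↑(W₁ ⊔ W₂) : Set G) \ (↑W₁ ∪ ↑W₂))) :
    χ (cell r l) g = χ (cell r col₀) g + χ (cell row₀ l) g - 1 := by
  classical
  have h := congrFun (hχ.induced_eq r.1 l.1 (fun e => hr (Subtype.ext e))
    (fun e => hl (Subtype.ext e)) r.2 l.2) g
  have h0 : Cfsg.indFun (W₁ ⊔ W₂)
      (fun w => 1 - (r.1 w : ℂ) - (l.1 w : ℂ) + (r.1 w : ℂ) * (l.1 w : ℂ)) g = 0 := by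
    rw [indFun_def]
    convert mul_zero _
    refine Finset.sum_eq_zero fun x _ => ?_
    by_cases hm : x⁻¹ * g * x ∈ W₁ ⊔ W₂
    · rw [extendByZero_of_mem _ hm]
      by_cases h1 : x⁻¹ * g * x ∈ W₁
      · rw [l.2 ⟨_, hm⟩ h1]; simp
      by_cases h2 : x⁻¹ * g * x ∈ W₂
      · rw [r.2 ⟨_, hm⟩ h2]; simp
      refine absurd ⟨x⁻¹ * g * x, ⟨hm, ?_⟩, x⁻¹, by group⟩ hg
      rintro (e | e)
      · exact h1 e
      · exact h2 e
    · exact extendByZero_of_not_mem _ hm
  rw [h0] at h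
  simp only [cell_col₀, cell_row₀]
  show χ (r.1 * l.1) g = _
  linear_combination -h

variable [Fintype (Row W₂ W₁)] {κ κ' : Type u} [Fintype κ] [Fintype κ']
  (I : SideImages χ S P U κ) (J : SideImages (fun ω => χ (ω.comp (swapHom W₁ W₂))) T Q V κ')
include I J

/-- The value of an image of the first side. -/
theorem lam_value (D : SideData S K P U W₁ W₂ p q) (hχ : Cfsg.IsCyclicTIFamily W₁ W₂ χ)
    (hY : IsRegion P Q W₁ W₂ Y) {g : G} (hg : g ∈ Y) {r : Row W₁ W₂} {l : Col W₁ W₂}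
    (hr : r ≠ row₀) (hl : l ≠ col₀) (s : κ) :
    I.lam s g = (q : ℂ) * χ (cell row₀ l) g + ((q : ℂ) - 1) * (χ (cell r col₀) g - 1) := by
  classical
  obtain ⟨-, hP, -, hmix⟩ := (hY g).1 hg
  rw [I.lam_off s l hl g hP, ← Finset.add_sum_erase _ _ (Finset.mem_univ (row₀ : Row W₁ W₂)),
    Finset.sum_congr rfl fun r' hr' => show χ (cell r' l) g =
      χ (cell r col₀) g + χ (cell row₀ l) g - 1 by
      rw [grid_off hχ (Finset.ne_of_mem_erase hr') hl hmix,
        row_pair_off J (Finset.ne_of_mem_erase hr') hr col₀ (region_off hY.symm T hg)],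
    Finset.sum_const, Finset.card_erase_of_mem (Finset.mem_univ _), Finset.card_univ, nsmul_eq_mul]
  have hc : Fintype.card (Row W₁ W₂) = q := by
    rw [← Nat.card_eq_fintype_card, (card_trivL D.primeDade.selfNorm).2, D.mod.card_W]
  rw [hc, Nat.cast_sub D.mod.prime_q.one_le]
  push_cast
  ring

/-- The value of an image of the second side. -/
theorem lam_value' (D : SideData S K P U W₁ W₂ p q) (hχ : Cfsg.IsCyclicTIFamily W₁ W₂ χ)
    (hY : IsRegion P Q W₁ W₂ Y) {g : G} (hg : g ∈ Y) {r : Row W₁ W₂} {l : Col W₁ W₂}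
    (hr : r ≠ row₀) (hl : l ≠ col₀) (s : κ') :
    J.lam s g = (p : ℂ) * χ (cell r col₀) g + ((p : ℂ) - 1) * (χ (cell row₀ l) g - 1) := by
  classical
  have : Fintype (Col W₁ W₂) := Fintype.ofFinite _
  obtain ⟨-, -, hQ, hmix⟩ := (hY g).1 hg
  have hsum : J.lam s g = ∑ k : Col W₁ W₂, χ (cell r k) g := by
    rw [J.lam_off s (rowSwap r) (rowSwap_ne hr) g hQ,
      ← colSwap_bijective.sum_comp (fun r' : Row W₂ W₁ =>
        χ ((cell r' (rowSwap r)).comp (swapHom W₁ W₂)) g)]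
    simp only [cell_swap]
  rw [hsum, ← Finset.add_sum_erase _ _ (Finset.mem_univ (col₀ : Col W₁ W₂)),
    Finset.sum_congr rfl fun k hk => show χ (cell r k) g =
      χ (cell r col₀) g + χ (cell row₀ l) g - 1 by
      rw [grid_off hχ hr (Finset.ne_of_mem_erase hk) hmix,
        I.pair_off row₀ k l (Finset.ne_of_mem_erase hk) hl g (region_off hY S hg)],
    Finset.sum_const, Finset.card_erase_of_mem (Finset.mem_univ _), Finset.card_univ, nsmul_eq_mul]
  have hc : Fintype.card (Col W₁ W₂) = p := by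
    rw [← Nat.card_eq_fintype_card, (card_trivL D.primeDade.selfNorm).1, D.card_W₂]
  rw [hc, Nat.cast_sub D.mod.prime_p.one_le]
  push_cast
  ring

omit J in
/-- The energy of an image away from its own side. -/
theorem lam_offmass (D : SideData S K P U W₁ W₂ p q) (hY : IsRegion P Q W₁ W₂ Y) (s : κ) :
    ∑ g ∈ Y, ‖I.lam s g‖ ^ 2 ≤
      (Nat.card G : ℝ) * (((Nat.card U * q : ℕ) : ℝ) / nFree S P U) := by
  classical
  set Z : Finset G := Finset.univ.filter fun g => g ∈ conjSet ((P : Set G) \ {1}) with hZdef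
  have hm := I.lam_mass s Z (fun g => by simp [hZdef])
  rw [D.mod.card_W] at hm
  have h1 : (Nat.card G : ℝ)⁻¹ * ∑ g, ‖I.lam s g‖ ^ 2 = 1 := by
    have := IsSignedIrr.classInner_self (I.lam_signed s)
    rw [CfsgLib.Char.classInner_self] at this
    exact_mod_cast this
  have hdis : Disjoint Y Z := Finset.disjoint_left.2 fun g hg hz =>
    ((hY g).1 hg).2.1 (Finset.mem_filter.1 hz).2
  have h2 : ∑ g ∈ Y, ‖I.lam s g‖ ^ 2 + ∑ g ∈ Z, ‖I.lam s g‖ ^ 2 ≤ ∑ g, ‖I.lam s g‖ ^ 2 := by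
    rw [← Finset.sum_union hdis]
    exact Finset.sum_le_sum_of_subset_of_nonneg (Finset.subset_univ _) fun g _ _ => by positivity
  have hG0 : (0 : ℝ) < Nat.card G := Nat.cast_pos.2 Nat.card_pos
  have h3 : ∑ g, ‖I.lam s g‖ ^ 2 = (Nat.card G : ℝ) := by
    rwa [inv_mul_eq_iff_eq_mul₀ hG0.ne', mul_one] at h1
  rw [inv_mul_eq_div, le_div_iff₀ hG0] at hm
  linarith

/-- Each element of the region lies in the support of one of the two sides. -/
theorem both_sides_count [Nonempty κ] [Nonempty κ'] (D : SideData S K P U W₁ W₂ p q)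
    (D' : SideData T K' Q V W₂ W₁ q p) (hχ : Cfsg.IsCyclicTIFamily W₁ W₂ χ) (hqp : q < p) :
    ((p : ℝ) + q - 1) / (p * q) - 1 / ((Nat.card U * q : ℕ) : ℝ) - 1 / ((Nat.card V * p : ℕ) : ℝ) ≤
      ((Nat.card U * q : ℕ) : ℝ) / nFree S P U + ((Nat.card V * p : ℕ) : ℝ) / nFree T Q V := by
  classical
  obtain ⟨Y, hY⟩ := exists_region P Q W₁ W₂
  obtain ⟨s⟩ := (inferInstance : Nonempty κ)
  obtain ⟨s'⟩ := (inferInstance : Nonempty κ')
  have hq2 := D.mod.prime_q.two_le
  have hp2 := D.mod.prime_p.two_le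
  have hW := D.primeDade.selfNorm
  obtain ⟨r, hr⟩ : ∃ r : Row W₁ W₂, r ≠ row₀ := by
    have : Nontrivial (Row W₁ W₂) := Finite.one_lt_card_iff_nontrivial.1 (by
      rw [(card_trivL hW).2, D.mod.card_W]; omega)
    exact exists_ne _
  obtain ⟨l, hl⟩ : ∃ l : Col W₁ W₂, l ≠ col₀ := by
    have : Nontrivial (Col W₁ W₂) := Finite.one_lt_card_iff_nontrivial.1 (by
      rw [(card_trivL hW).1, D.card_W₂]; omega)
    exact exists_ne _
  have hint : ∀ ω g, IsIntegral ℤ (χ ω g) := fun ω g =>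
    IsGeneralized.isIntegral (isGeneralized_family hχ ω) g
  have hsub : Y ⊆ Y.filter (fun g => I.lam s g ≠ 0) ∪ Y.filter (fun g => J.lam s' g ≠ 0) := by
    intro g hg
    by_contra hn
    simp only [Finset.mem_union, Finset.mem_filter, hg, true_and, not_or, not_not] at hn
    refine no_common_zero D.mod.prime_p D.mod.prime_q hqp (hint (cell r col₀) g)
      (hint (cell row₀ l) g) ⟨?_, ?_⟩
    · rw [← lam_value I J D hχ hY hg hr hl s]; exact hn.1
    · rw [← lam_value' I J D hχ hY hg hr hl s']; exact hn.2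
  have hpow : ∀ t : ℕ, t.Coprime (Nat.card G) → ∀ g ∈ Y, g ^ t ∈ Y := fun t ht g hg =>
    region_pow hY ht hg
  have h1 := (card_le_mass (I.lam_signed s).isGeneralized Y hpow).trans (lam_offmass I D hY s)
  have h2 := (card_le_mass (J.lam_signed s').isGeneralized Y hpow).trans
    (lam_offmass J D' hY.symm s')
  have h3 : (Y.card : ℝ) ≤ ((Y.filter fun g => I.lam s g ≠ 0).card : ℝ) +
      ((Y.filter fun g => J.lam s' g ≠ 0).card : ℝ) := by
    exact_mod_cast (Finset.card_le_card hsub).trans (Finset.card_union_le _ _)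
  have hG0 : (0 : ℝ) < Nat.card G := Nat.cast_pos.2 Nat.card_pos
  refine (region_density D D' hY).trans ((div_le_iff₀ hG0).2 ?_)
  linarith

end CfsgLib.OddEnd
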