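import Cfsg.Agent.OddEnd.FourteenSetup
import Cfsg.Agent.OddEnd.FourteenOff
import Cfsg.Agent.OddEnd.FourteenRegion

/-!
Peterfalvi section 14: the index of the kernel of the subgroup over `U` is not `|W₁|`.
-/

set_option autoImplicit false
set_option linter.unusedSectionVars false

namespace CfsgLib.OddEnd

open Subgroup CfsgLib.Char CfsgLib.OddLocal

universe u

variable {G : Type u} [Group G] [Fintype G] {ι : Type u} [Fintype ι] {S T P Q U V W₁ W₂ : Subgroup G}
variable [Fintype (Row W₁ W₂)] {χ : (↥(W₁ ⊔ W₂) →* ℂˣ) → G → ℂ}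
variable {κ κ' : Type u} [Fintype κ] [Fintype κ']

/-- A set stable under coprime powers has stable complement. -/
theorem pow_notMem_of_stable {X : Set G}
    (hX : ∀ g ∈ X, ∀ t : ℕ, t.Coprime (Nat.card G) → g ^ t ∈ X) {t : ℕ} (ht : t.Coprime (Nat.card G))
    {g : G} (hg : g ∉ X) : g ^ t ∉ X := by
  intro h
  refine hg ?_
  have hpos : 0 < Nat.totient (Nat.card G) := Nat.totient_pos.2 Nat.card_pos
  have h2 := hX _ h (t ^ (Nat.totient (Nat.card G) - 1)) (ht.pow_left _)
  rwa [← pow_mul, ← pow_succ', Nat.sub_add_cancel hpos, ← pow_mod_natCard,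
    show t ^ Nat.totient (Nat.card G) % Nat.card G = 1 % Nat.card G from Nat.ModEq.pow_totient ht,
    pow_mod_natCard, pow_one] at h2

/-- The elements of the region outside the support of a family. -/
theorem exists_offRegion_minus (hχ : Cfsg.IsCyclicTIFamily W₁ W₂ χ) (F : Family G ι)
    (hpow : ∀ g ∈ F.X, ∀ t : ℕ, t.Coprime (Nat.card G) → g ^ t ∈ F.X) (I : SideImages χ S P U κ)
    [Fintype (Row W₂ W₁)] (J : SideImages (fun ω => χ (ω.comp (swapHom W₁ W₂))) T Q V κ') :
    ∃ Y₀ Y : Finset G, IsRegion P Q W₁ W₂ Y₀ ∧ OffRegion F I Y ∧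
      (Y₀.card : ℝ) / Nat.card G - (F.X.ncard : ℝ) / Nat.card G ≤ (Y.card : ℝ) / Nat.card G := by
  classical
  obtain ⟨Y₀, hY⟩ := exists_region P Q W₁ W₂
  refine ⟨Y₀, Y₀.filter (fun g => g ∉ F.X), hY, ?_, ?_⟩
  · constructor
    · intro t ht g hg
      rw [Finset.mem_filter] at hg ⊢
      exact ⟨region_pow hY ht hg.1, pow_notMem_of_stable hpow ht hg.2⟩
    · exact fun g hg => (Finset.mem_filter.1 hg).2
    · exact fun g hg => region_off hY S (Finset.mem_filter.1 hg).1
    · exact fun g hg r r' l hr hr' =>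
        row_pair_off J hr hr' l (region_off hY.symm T (Finset.mem_filter.1 hg).1)
    · exact fun g hg r l hr hl => grid_off hχ hr hl ((hY g).1 (Finset.mem_filter.1 hg).1).2.2.2
  · rw [← sub_div]
    refine div_le_div_of_nonneg_right ?_ (Nat.cast_nonneg _)
    rw [sub_le_iff_le_add]
    have h1 : Y₀.card ≤ (Y₀.filter (fun g => g ∉ F.X)).card + F.X.ncard := by
      rw [Set.ncard_eq_toFinset_card', add_comm, ← Finset.card_filter_add_card_filter_not (s := Y₀) (· ∈ F.X)]
      exact Nat.add_le_add_right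
        (Finset.card_le_card fun g hg => Set.mem_toFinset.2 (Finset.mem_filter.1 hg).2) _
    exact_mod_cast h1

namespace PairData

variable (h : PairData S T W₁ W₂ U V) (hG : Cfsg.IsMinSimpleOddOrder G) (h13 : UptoThirteen G)
  (hlt : Nat.card W₁ < Nat.card W₂)
variable [Fintype (Col W₁ W₂)] [Fintype (Row W₂ W₁)] [Fintype (Col W₂ W₁)]
  (hχ : Cfsg.IsCyclicTIFamily W₁ W₂ χ)
  (I : SideImages χ S (Cfsg.fittingHallOf S) U κ)
  (J : SideImages (fun ω => χ (ω.comp (swapHom W₁ W₂))) T (Cfsg.fittingHallOf T) V κ')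
variable {L : Subgroup G} {F : Family G ι} (hO : OverFamily T W₁ W₂ U L F)
include h hG h13 hlt hχ I J hO

open scoped Classical in
/-- The index of the kernel of the subgroup over `U` is `|W₁| |W₂|`. -/
theorem index_eq : F.e = Nat.card W₂ * Nat.card W₁ ∧
    ∃ y ∈ Cfsg.fittingHallOf T, W₂.map (MulAut.conj y).toMonoidHom ≤ L := by
  refine hO.index.resolve_left fun he => ?_
  have pq := h.oddPq hG h13 hlt
  have hq3 := pq.three_le
  obtain ⟨hum, -, hu1⟩ := h.u_facts hG h13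
  obtain ⟨-, -, hv1⟩ := h.symm.u_facts hG h13
  have hM : Meets F I := h.meets hG h13 hχ hO.coatom (h.not_conj_typeI hG h13 hO.coatom hO.typeI).1 hO.X_sub I
  have hMJ : Meets F J := h.symm.meets hG h13 (family_swap hχ) hO.coatom
    (h.symm.not_conj_typeI hG h13 hO.coatom hO.typeI).1 hO.X_sub J
  obtain ⟨t, d, ht0, ht⟩ := hM.exists_array
  obtain ⟨-, c, -, -, hc⟩ := array_row_const hMJ ht
  have hm := hM.master_const ht0 hc ht
  rw [he] at hm
  obtain ⟨hc1, hd0, -⟩ := array_small (p := (Nat.card W₂ : ℤ)) (q := (Nat.card W₁ : ℤ))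
    (by omega) (by omega) (mul_nonneg (Nat.cast_nonneg _) (mul_self_nonneg _)) hm
  subst hd0
  have ht1 : ∀ r, t r = 1 := fun r => by
    by_cases hr : r = row₀
    · rw [hr, ht0]
    · rw [hc r hr, hc1]
  obtain ⟨l, hl⟩ := hM.exists_col
  obtain ⟨g₀, hg, hgo⟩ := hM.exists_parity ht0 ht hl
  rw [zero_add] at hgo
  obtain ⟨k, hk, hkb⟩ := hM.coeff_bound hl hg
  have hg0 : 1 ≤ g₀ * g₀ := one_le_mul_self fun e => by subst e; simp at hgo
  have hsq1 := F.sq_pos
  -- the kernel is `U`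
  have hdvd : Nat.card U ∣ Nat.card (Cfsg.fittingHallOf L) := card_dvd_of_le hO.U_le
  have hle : Nat.card U ≤ Nat.card (Cfsg.fittingHallOf L) := Nat.le_of_dvd Nat.card_pos hdvd
  have hsqh := hO.sq_eq
  rw [he] at hsqh
  have hsk : F.sq ≤ (k : ℤ) := le_trans (by nlinarith) hkb
  have hkZ : (k : ℤ) * Nat.card W₁ + 1 = Nat.card U := by exact_mod_cast hk
  have hleZ : (Nat.card U : ℤ) ≤ Nat.card (Cfsg.fittingHallOf L) := by exact_mod_cast hle
  have hqZ : (0 : ℤ) < Nat.card W₁ := by omega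
  have hsq : F.sq = (k : ℤ) := by
    refine le_antisymm hsk (le_of_mul_le_mul_right ?_ hqZ)
    linarith
  have hhu : Nat.card (Cfsg.fittingHallOf L) = Nat.card U := by
    rw [hsq] at hsqh
    omega
  have hg1 : g₀ * g₀ = 1 := by
    rw [hsq] at hkb
    rw [hsq] at hsq1
    nlinarith
  -- the region
  obtain ⟨Y₀, Y, hY₀, hR, hYc⟩ := exists_offRegion_minus hχ F hO.X_pow I J
  have hdens := region_density (h.sideData hG h13) (h.symm.sideData hG h13) hY₀
  have hXd := hO.X_density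
  rw [hO.card_L, he, hhu, Nat.cast_mul] at hXd
  have hY : ((Nat.card W₁ : ℝ) - 2) / ((Nat.card W₂ : ℝ) * Nat.card W₁) ≤
      (Y.card : ℝ) / Nat.card G := by
    rw [Nat.cast_mul, Nat.cast_mul] at hdens
    have hq0 : (0 : ℝ) < Nat.card W₁ := by exact_mod_cast (by omega : 0 < Nat.card W₁)
    have hp0 : (0 : ℝ) < Nat.card W₂ := by exact_mod_cast Nat.card_pos
    have hu0 : (0 : ℝ) < Nat.card U := by exact_mod_cast Nat.card_pos
    have hqv : (Nat.card W₁ : ℝ) ≤ Nat.card V := by exact_mod_cast (by omega : Nat.card W₁ ≤ Nat.card V)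
    have h1 : 1 / ((Nat.card V : ℝ) * Nat.card W₂) ≤ 1 / ((Nat.card W₂ : ℝ) * Nat.card W₁) := by
      rw [mul_comm (Nat.card W₂ : ℝ)]
      exact one_div_le_one_div_of_le (by positivity) (mul_le_mul_of_nonneg_right hqv hp0.le)
    have h2 : ((Nat.card W₂ : ℝ) + Nat.card W₁ - 1) / ((Nat.card W₂ : ℝ) * Nat.card W₁) -
        1 / ((Nat.card U : ℝ) * Nat.card W₁) -
        ((Nat.card U : ℝ) - 1) / ((Nat.card U : ℝ) * Nat.card W₁) -
        1 / ((Nat.card W₂ : ℝ) * Nat.card W₁) =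
          ((Nat.card W₁ : ℝ) - 2) / ((Nat.card W₂ : ℝ) * Nat.card W₁) := by
      field_simp
      ring
    linarith
  refine hM.index_left_absurd pq rfl rfl hR hY ht1 ?_ he hl hg hg1 hk hsq (by omega) ?_
  · exact ht
  · by_cases hu : Nat.card U = geoN (Nat.card W₂) (Nat.card W₁)
    · exact Or.inl hu
    · exact Or.inr (h.of_ne_geo hG h13 hlt hu).1

end PairData

end CfsgLib.OddEnd
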