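import Cfsg.Agent.OddEnd.FourteenSetup

/-!
Peterfalvi section 14: the family of the other side of a pair, next to the family over `N(U)`.
-/

set_option autoImplicit false
set_option linter.unusedSectionVars false

namespace CfsgLib.OddEnd

open Subgroup CfsgLib.Char CfsgLib.OddLocal

universe u

variable {G : Type u} [Group G] [Fintype G]

namespace PairData

variable {S T W₁ W₂ U V : Subgroup G} (h : PairData S T W₁ W₂ U V)
variable (hG : Cfsg.IsMinSimpleOddOrder G) (h13 : UptoThirteen G)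
include h hG h13

/-- Either the other side has a family disjoint from that of `L`, or a conjugate of `V` lies in `L_F`. -/
theorem exists_partner_family [Fintype (Row W₁ W₂)] [Fintype (Row W₂ W₁)]
    {χ : (↥(W₁ ⊔ W₂) →* ℂˣ) → G → ℂ} (hχ : Cfsg.IsCyclicTIFamily W₁ W₂ χ)
    {κ κ' : Type u} [Fintype κ] [Fintype κ'] (I : SideImages χ S (Cfsg.fittingHallOf S) U κ)
    (J : SideImages (fun ω => χ (ω.comp (swapHom W₁ W₂))) T (Cfsg.fittingHallOf T) V κ')
    {ι : Type u} [Fintype ι] {L : Subgroup G} {F : Family G ι} (hO : OverFamily T W₁ W₂ U L F) :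
    (∃ (ι' : Type u) (_ : Fintype ι') (F' : Family G ι'), Disjoint F'.X F.X ∧ Meets F' I ∧
      ((Nat.card V : ℤ) - 1 ≤ F'.sq * F'.e) ∧
      (F'.e = Nat.card W₂ ∨ (F'.e = Nat.card W₂ * Nat.card W₁ ∧ Meets F' J))) ∨
    (∃ g : G, V.map (MulAut.conj g).toMonoidHom ≤ Cfsg.fittingHallOf L) := by
  have hdisj : ∀ (M : Subgroup G), IsCoatom M → (∀ g : G, L ≠ M.map (MulAut.conj g).toMonoidHom) →
      ∀ {X : Set G}, X ⊆ Cfsg.tildeOf M (core1 M) → Disjoint X F.X := fun M hM hne X hX =>
    (Set.disjoint_iff_inter_eq_empty.2 ((Cfsg.Agent.S1379.result hG).1 M L hM hO.coatom hne)).mono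
      hX hO.X_sub
  rcases h.symm.types hG h13.upto12 with hII | h3
  · obtain ⟨M, hM, hNV⟩ := h.symm.exists_over_U hG h13
    obtain ⟨hfr, hVM, -⟩ := h13.normalizer_U T S W₂ W₁ V U h.symm hII M hM hNV
    obtain ⟨hI, ι', _, F', he, hsq, hX, -, -⟩ := family_typeI hG h13.upto12.frob hM hfr
    by_cases hconj : ∃ g : G, L = M.map (MulAut.conj g).toMonoidHom
    · obtain ⟨g, hg⟩ := hconj
      exact Or.inr ⟨g, hg ▸ (map_mono hVM).trans (fittingHallOf_conj_le M g)⟩
    push Not at hconj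
    refine Or.inl ⟨ι', inferInstance, F', hdisj M hM hconj hX,
      h.meets hG h13 hχ hM (h.not_conj_typeI hG h13 hM hI).1 hX I, ?_, ?_⟩
    · have hle : Nat.card V ≤ Nat.card (Cfsg.fittingHallOf M) :=
        Nat.le_of_dvd Nat.card_pos (card_dvd_of_le hVM)
      rw [hsq]
      omega
    · rcases h.symm.kernel_index hG h13 hII hM hNV with e | ⟨e, -⟩
      · exact Or.inl (he.trans e)
      · exact Or.inr ⟨(he.trans e).trans (mul_comm _ _),
          h.symm.meets hG h13 (family_swap hχ) hM (h.symm.not_conj_typeI hG h13 hM hI).1 hX J⟩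
  · obtain ⟨ι', _, F', he, hsq, hX, -⟩ := family_typeIII hG h13.upto12 h h3
    exact Or.inl ⟨ι', inferInstance, F',
      hdisj T h.coatom_T (h.symm.not_conj_typeI hG h13 hO.coatom hO.typeI).1 hX,
      h.meets hG h13 hχ h.coatom_T (h.not_conj_partner hG h13).1 hX I, hsq.ge, Or.inl he⟩

end PairData

end CfsgLib.OddEnd
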