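import Cfsg.Agent.OddEnd.FourteenSetup
import Cfsg.Agent.OddEnd.FourteenOff
import Cfsg.Agent.OddEnd.FourteenRegion
import Cfsg.Agent.OddEnd.FourteenPartner

/-!
Peterfalvi section 14, the case `|U| = (p ^ q - 1) / (p - 1)`: the subgroup over `N(U)` normalises `U`.
-/

set_option autoImplicit false
set_option linter.unusedSectionVars false

namespace CfsgLib.OddEnd

open Subgroup CfsgLib.Char CfsgLib.OddLocal

universe u

variable {G : Type u} [Group G] [Fintype G]

/-- The elements of the region off the support of a family. -/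
theorem exists_offRegion {S T W₁ W₂ U L P Q V K K' : Subgroup G} {p q : ℕ}
    (D : SideData S K P U W₁ W₂ p q) (D' : SideData T K' Q V W₂ W₁ q p)
    [Fintype (Row W₁ W₂)] [Fintype (Row W₂ W₁)]
    {χ : (↥(W₁ ⊔ W₂) →* ℂˣ) → G → ℂ} (hχ : Cfsg.IsCyclicTIFamily W₁ W₂ χ)
    {κ κ' : Type u} [Fintype κ] [Fintype κ'] (I : SideImages χ S P U κ)
    (J : SideImages (fun ω => χ (ω.comp (swapHom W₁ W₂))) T Q V κ')
    {ι : Type u} [Fintype ι] {F : Family G ι} (hO : OverFamily T W₁ W₂ U L F) (he : F.e = p * q)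
    (hu : p ≤ Nat.card U) (hv : q ≤ Nat.card V) :
    ∃ Y : Finset G, OffRegion F I Y ∧ 1 / ((p : ℝ) * q) ≤ (Y.card : ℝ) / Nat.card G := by
  classical
  obtain ⟨Y₀, hY₀⟩ := exists_region P Q W₁ W₂
  refine ⟨Y₀.filter fun g => g ∉ F.X, ⟨?_, fun g hg => (Finset.mem_filter.1 hg).2,
    fun g hg => region_off hY₀ S (Finset.mem_filter.1 hg).1,
    fun g hg r r' l hr hr' => row_pair_off J hr hr' l (region_off hY₀.symm T (Finset.mem_filter.1 hg).1),
    fun g hg r l hr hl => grid_off hχ hr hl ((hY₀ g).1 (Finset.mem_filter.1 hg).1).2.2.2⟩, ?_⟩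
  · intro t ht g hg
    obtain ⟨hgY, hgX⟩ := Finset.mem_filter.1 hg
    refine Finset.mem_filter.2 ⟨region_pow hY₀ ht hgY, fun hX => hgX ?_⟩
    have hinj : Function.Injective fun a : G => a ^ t := (powCoprime (Nat.coprime_comm.1 ht)).injective
    have himg : (fun a : G => a ^ t) '' F.X = F.X := by
      refine Set.eq_of_subset_of_ncard_le ?_ (Set.ncard_image_of_injective _ hinj).ge (Set.toFinite _)
      rintro _ ⟨a, ha, rfl⟩
      exact hO.X_pow a ha t ht
    obtain ⟨a, ha, hat⟩ := himg.symm ▸ hX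
    exact hinj hat ▸ ha
  have hd := region_density D D' hY₀
  have hsub : (Y₀.card : ℝ) ≤ ((Y₀.filter fun g => g ∉ F.X).card : ℝ) + (F.X.ncard : ℝ) := by
    have h1 : Y₀.card ≤ (Y₀.filter fun g => g ∉ F.X).card + F.X.ncard := by
      rw [Set.ncard_eq_toFinset_card' F.X]
      refine le_trans (Finset.card_le_card ?_) (Finset.card_union_le _ _)
      intro g hg
      by_cases hX : g ∈ F.X
      · exact Finset.mem_union_right _ (Set.mem_toFinset.2 hX)
      · exact Finset.mem_union_left _ (Finset.mem_filter.2 ⟨hg, hX⟩)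
    exact_mod_cast h1
  have hG0 : (0 : ℝ) < Nat.card G := Nat.cast_pos.2 Nat.card_pos
  have hp0 : (0 : ℝ) < p := Nat.cast_pos.2 D.mod.prime_p.pos
  have hq0 : (0 : ℝ) < q := Nat.cast_pos.2 D.mod.prime_q.pos
  have hX : (F.X.ncard : ℝ) / Nat.card G ≤ 1 / ((p : ℝ) * q) := by
    refine hO.X_density.trans ?_
    have hL0 : (0 : ℝ) < Nat.card (Cfsg.fittingHallOf L) := Nat.cast_pos.2 Nat.card_pos
    rw [hO.card_L, he, Nat.cast_mul, Nat.cast_mul, div_le_div_iff₀ (by positivity) (by positivity)]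
    nlinarith
  have h1 : (1 : ℝ) / ((Nat.card U * q : ℕ) : ℝ) ≤ 1 / ((p : ℝ) * q) := by
    rw [Nat.cast_mul]
    exact one_div_le_one_div_of_le (by positivity)
      (mul_le_mul_of_nonneg_right (Nat.cast_le.2 hu) hq0.le)
  have h2 : (1 : ℝ) / ((Nat.card V * p : ℕ) : ℝ) ≤ 1 / ((p : ℝ) * q) := by
    rw [Nat.cast_mul, mul_comm (p : ℝ) (q : ℝ)]
    exact one_div_le_one_div_of_le (by positivity)
      (mul_le_mul_of_nonneg_right (Nat.cast_le.2 hv) hp0.le)
  have h3 := div_le_div_of_nonneg_right hsub hG0.le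
  rw [add_div] at h3
  have h4 : (4 : ℝ) * (1 / ((p : ℝ) * q)) ≤ ((p : ℝ) + q - 1) / ((p : ℝ) * q) := by
    rw [mul_one_div]
    refine div_le_div_of_nonneg_right ?_ (by positivity)
    have h5 : (3 : ℝ) ≤ q := by
      have := D.mod.prime_q.two_le
      have := D.mod.odd_q
      exact_mod_cast (by omega : 3 ≤ q)
    have h6 : (2 : ℝ) ≤ p := by exact_mod_cast D.mod.prime_p.two_le
    linarith
  linarith

/-- Two subgroups of the same order inside a cyclic subgroup are equal. -/
theorem eq_of_le_cyclic {C H H' : Subgroup G} (hC : IsCyclic C) (h : H ≤ C) (h' : H' ≤ C)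
    (hc : Nat.card H = Nat.card H') : H = H' := by
  classical
  let T : Finset C := Finset.univ.filter fun x : C => x ^ Nat.card H = 1
  have key : ∀ A : Subgroup G, A ≤ C → Nat.card A = Nat.card H →
      (Finset.univ.filter fun x : C => (x : G) ∈ A) = T := fun A hA hAc => by
    refine Finset.eq_of_subset_of_card_le (fun x hx => ?_) ?_
    · refine Finset.mem_filter.2 ⟨Finset.mem_univ _, Subtype.ext ?_⟩
      rw [← hAc, SubmonoidClass.coe_pow, OneMemClass.coe_one]
      exact congrArg Subtype.val (pow_card_eq_one' (x := (⟨_, (Finset.mem_filter.1 hx).2⟩ : A)))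
    · refine (IsCyclic.card_pow_eq_one_le Nat.card_pos).trans (le_of_eq ?_)
      rw [← hAc, ← Fintype.card_subtype, ← Nat.card_eq_fintype_card]
      exact (Nat.card_congr (subgroupOfEquivOfLe hA).toEquiv).symm
  refine SetLike.ext fun x => ?_
  by_cases hx : x ∈ C
  · have e := (key H h rfl).trans (key H' h' hc.symm).symm
    simpa using Finset.ext_iff.1 e ⟨x, hx⟩
  · exact ⟨fun hh => absurd (h hh) hx, fun hh => absurd (h' hh) hx⟩

namespace PairData

variable {S T W₁ W₂ U V : Subgroup G} (h : PairData S T W₁ W₂ U V)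
variable (hG : Cfsg.IsMinSimpleOddOrder G) (h13 : UptoThirteen G)
  (hlt : Nat.card W₁ < Nat.card W₂)
variable [Fintype (Row W₁ W₂)] [Fintype (Col W₁ W₂)] [Fintype (Row W₂ W₁)] [Fintype (Col W₂ W₁)]
  {χ : (↥(W₁ ⊔ W₂) →* ℂˣ) → G → ℂ} (hχ : Cfsg.IsCyclicTIFamily W₁ W₂ χ)
  {κ κ' : Type u} [Fintype κ] [Fintype κ'] (I : SideImages χ S (Cfsg.fittingHallOf S) U κ)
  (J : SideImages (fun ω => χ (ω.comp (swapHom W₁ W₂))) T (Cfsg.fittingHallOf T) V κ')
  {ι : Type u} [Fintype ι] {L : Subgroup G} {F : Family G ι} (hO : OverFamily T W₁ W₂ U L F)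
include h hG h13 hlt hχ I J hO

/-- The order of the kernel of `L` is at most `p (u - 1)`, `q p q (p q + 1)`, or a conjugate of `V` lies
in it and `h - 1 ≤ q (v - 1)`. -/
theorem kernel_bound (he : F.e = Nat.card W₂ * Nat.card W₁)
    (hu : Nat.card U = geoN (Nat.card W₂) (Nat.card W₁)) :
    (Nat.card (Cfsg.fittingHallOf L) - 1 ≤ Nat.card W₂ * (Nat.card U - 1) ∨
      Nat.card (Cfsg.fittingHallOf L) - 1 ≤
        Nat.card W₁ * (Nat.card W₂ * Nat.card W₁ * (Nat.card W₂ * Nat.card W₁ + 1))) ∨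
    ((∃ g : G, V.map (MulAut.conj g).toMonoidHom ≤ Cfsg.fittingHallOf L) ∧
      Nat.card (Cfsg.fittingHallOf L) - 1 ≤ Nat.card W₁ * (Nat.card V - 1)) := by
  classical
  have pq := h.oddPq hG h13 hlt
  have hne := h.not_conj_typeI hG h13 hO.coatom hO.typeI
  have hne' := h.symm.not_conj_typeI hG h13 hO.coatom hO.typeI
  have hM : Meets F I := h.meets hG h13 hχ hO.coatom hne.1 hO.X_sub I
  have hM' : Meets F J := h.symm.meets hG h13 (family_swap hχ) hO.coatom hne'.1 hO.X_sub J
  obtain ⟨t, d, ht0, ht⟩ := hM.exists_array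
  obtain ⟨t', c, ht'0, ht', hc⟩ := array_row_const hM' ht
  set p := Nat.card W₂ with hp
  set q := Nat.card W₁ with hq
  set k := Nat.card (Cfsg.fittingHallOf L) with hk
  have hsq := hO.sq_eq
  rw [← hk, he, Nat.cast_mul] at hsq
  have hk1 : 1 ≤ k := Nat.card_pos
  have hp0 : (0 : ℤ) ≤ (p : ℤ) * q := by positivity
  rcases Int.even_or_odd d with hd | hd
  · obtain ⟨l, hl⟩ := hM.exists_col
    obtain ⟨g, hg, hodd⟩ := hM.exists_parity ht0 ht hl
    obtain ⟨n, hn, hb⟩ := hM.coeff_bound hl hg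
    have hg1 : 1 ≤ g * g := one_le_mul_self fun e => by
      subst e
      rw [add_zero] at hodd
      exact (Int.not_odd_iff_even.2 hd) hodd
    have h1 : F.sq ≤ (n : ℤ) := le_trans (le_mul_of_one_le_left (by have := F.sq_pos; omega) hg1) hb
    have h2 := mul_le_mul_of_nonneg_right h1 hp0
    rw [hsq] at h2
    have h3 : (k : ℤ) - 1 ≤ ((p * (n * q) : ℕ) : ℤ) := by push_cast; linarith
    have h4 : k - 1 ≤ p * (n * q) := by omega
    exact Or.inl (Or.inl (h4.trans (le_of_eq (by rw [← hn, ← hq, Nat.add_sub_cancel]))))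
  rcases Int.even_or_odd c with hce | hco
  · -- the bound by the other side
    obtain ⟨l, hl⟩ := hM'.exists_col
    obtain ⟨g, hg, hodd⟩ := hM'.exists_parity ht'0 ht' hl
    obtain ⟨n, hn, hb⟩ := hM'.coeff_bound hl hg
    have hg1 : 1 ≤ g * g := one_le_mul_self fun e => by
      subst e
      rw [add_zero] at hodd
      exact (Int.not_odd_iff_even.2 hce) hodd
    have h1 : F.sq ≤ (n : ℤ) := le_trans (le_mul_of_one_le_left (by have := F.sq_pos; omega) hg1) hb
    have h2 := mul_le_mul_of_nonneg_right h1 hp0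
    rw [hsq] at h2
    have h3 : (k : ℤ) - 1 ≤ ((q * (n * p) : ℕ) : ℤ) := by push_cast; linarith
    have h4 : k - 1 ≤ q * (n * p) := by omega
    have hkv : k - 1 ≤ q * (Nat.card V - 1) :=
      h4.trans (le_of_eq (by rw [← hn, ← hp, Nat.add_sub_cancel]))
    rcases h.exists_partner_family hG h13 hχ I J hO with ⟨ι', _, F', hdis, -, hv, he'⟩ | hV
    · refine Or.inl (Or.inr ?_)
      obtain ⟨a, b, ha, hb', hab⟩ := family_parity F F' hG.1 hdis.symm
      have hFa := Family.cross_bound F F' ha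
      have hFb := Family.cross_bound F' F hb'
      rw [he] at hFa
      have he'' : F'.e ≤ p * q := by
        rcases he' with e | ⟨e, -⟩ <;> rw [e]
        exact Nat.le_mul_of_pos_right _ Nat.card_pos
      rcases Int.even_or_odd a with hae | hao
      · have hb1 : 1 ≤ b * b := one_le_mul_self fun e => by
          subst e
          rw [add_zero] at hab
          exact (Int.not_odd_iff_even.2 hae) hab
        have h5 : F.sq ≤ ((p * q + 1 : ℕ) : ℤ) := by
          refine le_trans (le_trans (le_mul_of_one_le_left (by have := F.sq_pos; omega) hb1) hFb) ?_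
          push_cast
          have : (F'.e : ℤ) ≤ ((p * q : ℕ) : ℤ) := by exact_mod_cast he''
          push_cast at this
          linarith
        have h6 := mul_le_mul_of_nonneg_right h5 hp0
        rw [hsq] at h6
        have h7 : k - 1 ≤ (p * q + 1) * (p * q) := by
          have : ((k - 1 : ℕ) : ℤ) ≤ (((p * q + 1) * (p * q) : ℕ) : ℤ) := by
            rw [Nat.cast_sub hk1]; push_cast at h6 ⊢; linarith
          exact_mod_cast this
        refine h7.trans ((Nat.le_mul_of_pos_left _ (Nat.card_pos (α := W₁))).trans (le_of_eq ?_))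
        ring
      · have ha1 : 1 ≤ a * a := one_le_mul_self fun e => by subst e; simp at hao
        have h5 : F'.sq ≤ ((p * q + 1 : ℕ) : ℤ) := by
          refine le_trans (le_mul_of_one_le_left (by have := F'.sq_pos; omega) ha1) ?_
          push_cast at hFa ⊢
          linarith
        have h6 : (Nat.card V : ℤ) - 1 ≤ ((p * q + 1 : ℕ) : ℤ) * ((p * q : ℕ) : ℤ) :=
          hv.trans (mul_le_mul h5 (by exact_mod_cast he'') (by positivity) (by positivity))
        have h7 : Nat.card V - 1 ≤ (p * q + 1) * (p * q) := by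
          have : ((Nat.card V - 1 : ℕ) : ℤ) ≤ (((p * q + 1) * (p * q) : ℕ) : ℤ) := by
            rw [Nat.cast_sub Nat.card_pos]; push_cast at h6 ⊢; linarith
          exact_mod_cast this
        refine hkv.trans ((Nat.mul_le_mul_left _ h7).trans (le_of_eq ?_))
        ring
    · exact Or.inr ⟨hV, hkv⟩
  · -- all cells odd
    refine Or.inl (Or.inr ?_)
    obtain ⟨-, -, hu1⟩ := h.u_facts hG h13
    obtain ⟨-, -, hv1⟩ := h.symm.u_facts hG h13
    obtain ⟨Y, hR, hY⟩ := exists_offRegion (h.sideData hG h13) (h.symm.sideData hG h13) hχ I J hO he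
      (by
        rw [hu]
        have := pq.geo_ge
        omega)
      (by omega)
    have hd1 : 1 ≤ d * d := one_le_mul_self fun e => by subst e; simp at hd
    have hc1 : 1 ≤ c * c := one_le_mul_self fun e => by subst e; simp at hco
    have hx1 : 1 ≤ (c + d - 1) * (c + d - 1) := one_le_mul_self fun e => by
      obtain ⟨i, rfl⟩ := hco
      obtain ⟨j, rfl⟩ := hd
      omega
    have hsum : (F.e : ℤ) ≤
        ∑ r, (t r * t r + ((Nat.card W₂ : ℤ) - 1) * ((t r + d - 1) * (t r + d - 1))) := by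
      rw [sum_rows h.typeP_S.selfNormalizing hc
        (fun x => x * x + ((Nat.card W₂ : ℤ) - 1) * ((x + d - 1) * (x + d - 1))), ht0, he, ← hp, ← hq,
        Nat.cast_mul]
      have hq1 : (0 : ℤ) ≤ (q : ℤ) - 1 := by have := pq.three_le; omega
      have hp1 : (0 : ℤ) ≤ (p : ℤ) - 1 := by have := pq.five_le; omega
      rw [show (1 : ℤ) + d - 1 = d by ring]
      nlinarith [mul_le_mul_of_nonneg_left hd1 hp1, mul_le_mul_of_nonneg_left hc1 hq1,
        mul_le_mul_of_nonneg_left hx1 (mul_nonneg hq1 hp1)]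
    have h1 := hM.odd_array_bound pq rfl rfl hR hY ht0 hc ht hco hd hsum
    have h2 := mul_le_mul_of_nonneg_right h1 hp0
    rw [hsq] at h2
    have h3 : k - 1 ≤ p * q * (p * q) := by
      have : ((k - 1 : ℕ) : ℤ) ≤ ((p * q * (p * q) : ℕ) : ℤ) := by
        rw [Nat.cast_sub hk1]; push_cast at h2 ⊢; linarith
      exact_mod_cast this
    exact h3.trans ((Nat.mul_le_mul_left _ (Nat.le_succ _)).trans (Nat.le_mul_of_pos_left _ Nat.card_pos))

/-- When `U` has the largest order, the subgroup over its normaliser normalises it. -/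
theorem kernel_normalizes (he : F.e = Nat.card W₂ * Nat.card W₁)
    (hu : Nat.card U = geoN (Nat.card W₂) (Nat.card W₁)) :
    L ≤ normalizer (U : Set G) := by
  classical
  have pq := h.oddPq hG h13 hlt
  obtain ⟨hpq, -, -⟩ := h.of_eq_geo hG h13 hlt hu
  have hLn := FittingHall.le_normalizer_of L
  set k := Nat.card (Cfsg.fittingHallOf L) with hk
  have hdvd : geoN (Nat.card W₂) (Nat.card W₁) ∣ k := hu ▸ card_dvd_of_le hO.U_le
  have hkodd : Odd k := hG.1.of_dvd_nat (Cfsg.fittingHallOf L).card_subgroup_dvd_card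
  have hkmod : k % (Nat.card W₂ * Nat.card W₁) = 1 := by
    have hsq := hO.sq_eq
    rw [← hk, he] at hsq
    obtain ⟨n, hn⟩ : ∃ n : ℕ, F.sq = (n : ℤ) := Int.eq_ofNat_of_zero_le (by have := F.sq_pos; omega)
    rw [hn] at hsq
    have h1 : ((Nat.card W₂ * Nat.card W₁ * n + 1 : ℕ) : ℤ) = (k : ℤ) := by
      push_cast at hsq ⊢
      linarith
    have h2 : Nat.card W₂ * Nat.card W₁ * n + 1 = k := by exact_mod_cast h1
    rw [← h2, Nat.mul_add_mod]
    exact Nat.one_mod_eq_one.2 (by nlinarith [pq.five_le, pq.three_le])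
  rcases h.kernel_bound hG h13 hlt hχ I J hO he hu with hb | ⟨⟨g, hg⟩, hb⟩
  · have hkN := pq.eq_geo_of_bound hpq hdvd hkodd hkmod (by rwa [← hu])
    have hUL : U = Cfsg.fittingHallOf L :=
      Subgroup.eq_of_le_of_card_ge hO.U_le (le_of_eq (hkN.trans hu.symm))
    rw [hUL]
    exact hLn
  -- a conjugate of `V` fills the kernel
  set p := Nat.card W₂ with hp
  set q := Nat.card W₁ with hq
  have hVc : Nat.card (V.map (MulAut.conj g).toMonoidHom) = Nat.card V :=
    card_map_of_injective (MulAut.conj g).injective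
  obtain ⟨r, hr⟩ : Nat.card V ∣ k := hVc ▸ card_dvd_of_le hg
  obtain ⟨hvm, -, hv1⟩ := h.symm.u_facts hG h13
  rw [← hp] at hvm
  have hkp : k % p = 1 := by
    rw [← Nat.mod_mul_right_mod k p q, hkmod, Nat.mod_eq_of_lt pq.prime_p.one_lt]
  have hrp : r % p = 1 := by
    rw [hr, Nat.mul_mod, hvm, one_mul, Nat.mod_mod] at hkp
    exact hkp
  have hr1 : r = 1 := by
    by_contra hr1
    have hrge : p + 1 ≤ r := by
      have := Nat.div_add_mod r p
      rw [hrp] at this
      rcases Nat.eq_zero_or_pos (r / p) with h0 | h0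
      · rw [h0] at this; omega
      · have := Nat.le_mul_of_pos_right p h0
        omega
    have h5 : Nat.card V * (p + 1) ≤ k := hr ▸ Nat.mul_le_mul_left _ hrge
    have h6 : q * (Nat.card V - 1) + Nat.card V + 1 ≤ Nat.card V * (p + 1) := by
      have h7 : q * (Nat.card V - 1) ≤ q * Nat.card V := Nat.mul_le_mul_left _ (Nat.sub_le _ _)
      have h8 : (q + 1) * Nat.card V ≤ p * Nat.card V := Nat.mul_le_mul_right _ hlt
      rw [add_mul, one_mul] at h8
      rw [mul_add, mul_one, mul_comm (Nat.card V) p]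
      omega
    omega
  rw [hr1, mul_one] at hr
  have hLV : V.map (MulAut.conj g).toMonoidHom = Cfsg.fittingHallOf L :=
    Subgroup.eq_of_le_of_card_ge hg (le_of_eq (hr.trans hVc.symm))
  obtain ⟨a, -, hcase⟩ := (h.symm.sideData hG h13).cases_count
  rcases hcase with ⟨-, hcyc⟩ | ⟨-, hpr⟩
  · have hcL : IsCyclic (Cfsg.fittingHallOf L) := by
      rw [← hLV]
      exact isCyclic_of_surjective
        (V.equivMapOfInjective (MulAut.conj g).toMonoidHom (MulAut.conj g).injective).toMonoidHom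
        (MulEquiv.surjective _)
    intro l hl
    rw [mem_normalizer_iff_map_conj_eq]
    refine eq_of_le_cyclic hcL ?_ hO.U_le (card_map_of_injective (MulAut.conj l).injective)
    rintro _ ⟨x, hx, rfl⟩
    exact (mem_normalizer_iff.1 (hLn hl) x).1 (hO.U_le hx)
  · exfalso
    obtain ⟨r', hr', hrd⟩ := Nat.exists_prime_and_dvd (n := geoN p q) (by
      have := pq.geo_ge
      omega)
    have h9 := hpr r' hr' (hr ▸ hrd.trans hdvd)
    have h10 := (pq.facts.2.2 hpq).2 r' hrd
    have h11 : r' ≤ q - 1 := Nat.le_of_dvd (by have := pq.three_le; omega) h9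
    rw [Nat.mod_eq_of_lt (show r' < q by have := hr'.one_lt; omega)] at h10
    exact hr'.ne_one h10

end PairData

end CfsgLib.OddEnd
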