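import Cfsg.Agent.OddEnd.FourteenModule

/-!
The dichotomy for the module `P` of `UW`, the counting of characters of `P` with trivial stabiliser
in `U`, and the field description in the case of full order.
-/

set_option autoImplicit false
set_option linter.unusedSectionVars false
set_option linter.style.haveILetI false
set_option linter.deprecated false

namespace CfsgLib.OddEnd

open scoped Classical

variable {G : Type*} [Group G] [Finite G] {P U W : Subgroup G} {p q : ℕ}

/-- The facts used in the reducible case. -/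
theorem ModuleHyp.ext_closure (h : ModuleHyp P U W p q) {e : W → ↥P}
    (hcl : Subgroup.closure (Set.range e) = ⊤) {v : G} (hv : v ∈ U)
    (hfix : ∀ w, v * (e w : G) * v⁻¹ = (e w : G)) : v = 1 := by
  refine h.eq_one_of_centralizes hv fun x hx => ?_
  have hle : Subgroup.closure (Set.range e) ≤ (Subgroup.centralizer ({v} : Set G)).comap P.subtype := by
    rw [Subgroup.closure_le]
    rintro _ ⟨w, rfl⟩
    exact Subgroup.mem_centralizer_singleton_iff.2 (mul_inv_eq_iff_eq_mul.1 (hfix w)).symm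
  have := hle (hcl ▸ Subgroup.mem_top (⟨x, hx⟩ : ↥P))
  exact mul_inv_eq_iff_eq_mul.2 (Subgroup.mem_centralizer_singleton_iff.1 this).symm

/-- `U` is either cyclic and free on `P`, or a small group of exponent dividing `p - 1`. -/
theorem module_cases (h : ModuleHyp P U W p q) :
    (IsCyclic U ∧ (∀ v ∈ U, v ≠ 1 → ∀ x ∈ P, v * x = x * v → x = 1) ∧
      Nat.card U ∣ (p ^ q - 1) / (p - 1)) ∨
    ((∀ v ∈ U, v ^ (p - 1) = 1) ∧ Nat.card U ∣ (p - 1) ^ (q - 1)) := by
  haveI := Fact.mk h.prime_p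
  by_cases hi : UIrred P U
  · exact Or.inl ⟨(h.cyclic_of_irred hi).1, h.free_of_irred hi, (h.cyclic_of_irred hi).2⟩
  right
  obtain ⟨e, Φ, c, hew, hΦ, hc, hcl, he1⟩ := h.exists_lines hi
  haveI : Fintype W := Fintype.ofFinite W
  have hker : ∀ v : U, (∀ w, c v w = 1) → v = 1 := by
    intro v hv
    refine Subtype.ext (h.ext_closure hcl v.2 fun w => ?_)
    haveI : Fact (1 < p) := ⟨h.prime_p.one_lt⟩
    rw [hc v w, hv w, Units.val_one, ZMod.val_one, pow_one]
  refine ⟨fun v hv => ?_, ?_⟩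
  · have : (⟨v, hv⟩ : U) ^ (p - 1) = 1 := hker _ fun w => by
      rw [map_pow, Pi.pow_apply]
      exact ZMod.units_pow_card_sub_one_eq_one p _
    exact congrArg Subtype.val this
  -- ratios of the scalars on the lines
  let R₀ : U →* ({w : W // w ≠ 1} → (ZMod p)ˣ) :=
    { toFun := fun v w => c v w.1 / c v 1
      map_one' := by funext w; simp
      map_mul' := fun a b => by funext w; simp [mul_div_mul_comm] }
  have hR : Function.Injective R₀ := by
    intro a b hab'
    have hk : R₀ (a / b) = 1 := by rw [map_div, hab', div_self']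
    have hsc : ∀ w, c (a / b) w = c (a / b) 1 := by
      intro w
      by_cases hw : w = 1
      · rw [hw]
      exact div_eq_one.1 (congrFun hk ⟨w, hw⟩)
    have : ((a / b : U) : G) = 1 := by
      refine h.eq_one_of_scalar (a / b).2 ((c (a / b) 1 : ZMod p)).val fun x hx => ?_
      letI : CommGroup ↥P :=
        { (inferInstance : Group ↥P) with mul_comm := fun a b => Subtype.ext (h.commP a.2 b.2) }
      have heq : ModuleHyp.cj (h.U_norm (a / b).2) = powMonoidHom ((c (a / b) 1 : ZMod p)).val := by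
        refine MonoidHom.eq_of_eqOn_dense hcl ?_
        rintro _ ⟨w, rfl⟩
        refine Subtype.ext ?_
        show ((a / b : U) : G) * (e w : G) * ((a / b : U) : G)⁻¹ = _
        rw [hc (a / b) w, hsc w]
        rfl
      exact congrArg Subtype.val (DFunLike.congr_fun heq ⟨x, hx⟩)
    exact div_eq_one.1 (Subtype.ext this : a / b = 1)
  have hq1 : Nat.card {w : W // w ≠ 1} = q - 1 := by
    rw [Nat.card_eq_fintype_card, Fintype.card_subtype_compl, Fintype.card_subtype_eq,
      ← Nat.card_eq_fintype_card, h.card_W]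
  have h1 := Subgroup.card_dvd_of_injective R₀ hR
  rwa [Nat.card_fun, hq1, Nat.card_eq_fintype_card (α := (ZMod p)ˣ), ZMod.card_units] at h1

/-- A free action on `P` gives free action on nontrivial characters. -/
theorem freeChar_iff_ne_one (h : ModuleHyp P U W p q)
    (hfree : ∀ v ∈ U, v ≠ 1 → ∀ x ∈ P, v * x = x * v → x = 1) (φ : ↥P →* ℂˣ) :
    FreeChar U φ ↔ φ ≠ 1 := by
  constructor
  · rintro hf rfl
    exact h.U_ne ((Subgroup.eq_bot_iff_forall U).2 fun v hv => hf v hv fun x y _ => rfl)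
  intro hne v hv hfix
  by_contra hv1
  letI : CommGroup ↥P :=
    { (inferInstance : Group ↥P) with mul_comm := fun a b => Subtype.ext (h.commP a.2 b.2) }
  let δ : ↥P →* ↥P := ModuleHyp.cj (h.U_norm hv) / MonoidHom.id ↥P
  have hδ : Function.Injective δ := by
    rw [injective_iff_map_eq_one]
    intro x hx
    rw [MonoidHom.div_apply, div_eq_one] at hx
    exact Subtype.ext (hfree v hv hv1 x x.2 (mul_inv_eq_iff_eq_mul.1 (congrArg Subtype.val hx)))
  refine hne (MonoidHom.ext fun y => ?_)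
  obtain ⟨x, rfl⟩ := (Finite.injective_iff_surjective.1 hδ) y
  rw [MonoidHom.one_apply, MonoidHom.div_apply, map_div, MonoidHom.id_apply,
    hfix x (ModuleHyp.cj (h.U_norm hv) x) rfl, div_self']

theorem card_free_of_free (h : ModuleHyp P U W p q)
    (hfree : ∀ v ∈ U, v ≠ 1 → ∀ x ∈ P, v * x = x * v → x = 1) :
    Nat.card {φ : ↥P →* ℂˣ // FreeChar U φ} = p ^ q - 1 := by
  letI : CommGroup ↥P :=
    { (inferInstance : Group ↥P) with mul_comm := fun a b => Subtype.ext (h.commP a.2 b.2) }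
  have hall : Nat.card (↥P →* ℂˣ) = p ^ q :=
    (CommGroup.card_monoidHom_of_hasEnoughRootsOfUnity ↥P ℂ).trans h.card_P
  haveI : Finite (↥P →* ℂˣ) := Nat.finite_of_card_ne_zero (by
    rw [hall]; exact pow_ne_zero _ h.p_ne_zero)
  haveI : Fintype (↥P →* ℂˣ) := Fintype.ofFinite _
  rw [Nat.card_congr (Equiv.subtypeEquivRight (freeChar_iff_ne_one h hfree)),
    Nat.card_eq_fintype_card, Fintype.card_subtype_compl, Fintype.card_subtype_eq,
    ← Nat.card_eq_fintype_card, hall]

/-- A `W`-invariant nontrivial character has trivial stabiliser in `U`. -/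
theorem free_of_fixed (h : ModuleHyp P U W p q) (φ : ↥P →* ℂˣ) (hne : φ ≠ 1)
    (hW : ∀ w ∈ W, ∀ x y : ↥P, (y : G) = w * x * w⁻¹ → φ y = φ x) : FreeChar U φ := by
  haveI := Fact.mk h.prime_p
  by_cases hi : UIrred P U
  · exact (freeChar_iff_ne_one h (h.free_of_irred hi) φ).2 hne
  obtain ⟨e, Φ, c, hew, hΦ, hc, hcl, he1⟩ := h.exists_lines hi
  have hconst : ∀ w, φ (e w) = φ (e 1) := by
    intro w
    refine hW w w.2 (e 1) (e w) ?_
    have := hew 1 w
    rwa [mul_one] at this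
  have hζ : φ (e 1) ≠ 1 := by
    intro hz
    refine hne (MonoidHom.eq_of_eqOn_dense hcl ?_)
    rintro _ ⟨w, rfl⟩
    rw [hconst w, hz, MonoidHom.one_apply]
  have hζp : orderOf (φ (e 1)) = p := orderOf_eq_prime (by
    rw [← map_pow, show e 1 ^ p = 1 from Subtype.ext (h.elem.2 _ (e 1).2), map_one]) hζ
  intro v hv hfix
  haveI : Fact (1 < p) := ⟨h.prime_p.one_lt⟩
  refine h.ext_closure hcl hv fun w => ?_
  have h2 := hfix (e w) (e w ^ ((c ⟨v, hv⟩ w : ZMod p)).val) (by
    rw [SubmonoidClass.coe_pow]; exact (hc ⟨v, hv⟩ w).symm)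
  rw [map_pow, hconst w] at h2
  nth_rw 2 [← pow_one (φ (e 1))] at h2
  rw [pow_eq_pow_iff_modEq, hζp, ← ZMod.natCast_eq_natCast_iff, ZMod.natCast_zmod_val,
    Nat.cast_one] at h2
  rw [hc ⟨v, hv⟩ w, h2, ZMod.val_one, pow_one]

/-- There are at least `(p - 1) ^ q` characters with trivial stabiliser. -/
theorem card_free (h : ModuleHyp P U W p q) :
    (p - 1) ^ q ≤ Nat.card {φ : ↥P →* ℂˣ // FreeChar U φ} := by
  haveI := Fact.mk h.prime_p
  by_cases hi : UIrred P U
  · rw [card_free_of_free h (h.free_of_irred hi)]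
    have : (p - 1) ^ q < p ^ q :=
      Nat.pow_lt_pow_left (Nat.sub_lt h.prime_p.pos one_pos) h.prime_q.ne_zero
    omega
  letI : CommGroup ↥P :=
    { (inferInstance : Group ↥P) with mul_comm := fun a b => Subtype.ext (h.commP a.2 b.2) }
  obtain ⟨e, Φ, c, hew, hΦ, hc, hcl, he1⟩ := h.exists_lines hi
  haveI : Fintype W := Fintype.ofFinite W
  let ev : (W → ZMod p) → Multiplicative (ZMod p) →* ℂˣ := fun _ =>
    (ZMod.stdAddChar (N := p)).toMonoidHom.toHomUnits
  let pair : (W → ZMod p) → (↥P →* Multiplicative (ZMod p)) := fun a =>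
    { toFun := fun x => Multiplicative.ofAdd (∑ w, a w * Φ.symm (Additive.ofMul x) w)
      map_one' := by simp
      map_mul' := fun x y => by
        rw [ofMul_mul, map_add, ← ofAdd_add, ← Finset.sum_add_distrib]
        simp [mul_add] }
  have hval : ∀ a w, pair a (e w) = Multiplicative.ofAdd (a w) := by
    intro a w
    show Multiplicative.ofAdd (∑ w', a w' * Φ.symm (Additive.ofMul (e w)) w') = _
    rw [← hΦ w, Φ.symm_apply_apply, Finset.sum_eq_single w]
    · rw [Pi.single_eq_same, mul_one]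
    · intro w' _ hw'
      rw [Pi.single_eq_of_ne hw', mul_zero]
    · intro hc
      exact absurd (Finset.mem_univ w) hc
  have hchar : ∀ a w, (ev a).comp (pair a) (e w) = ((ev a) (Multiplicative.ofAdd (a w))) :=
    fun a w => by rw [MonoidHom.comp_apply, hval]
  have hinj : ∀ x y : ZMod p, (ev 0) (Multiplicative.ofAdd x) = (ev 0) (Multiplicative.ofAdd y) → x = y :=
    fun x y hxy => ZMod.injective_stdAddChar (congrArg Units.val hxy)
  have hfree : ∀ a : W → ZMod p, (∀ w, a w ≠ 0) → FreeChar U ((ev a).comp (pair a)) := by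
    intro a ha v hv hfix
    haveI : Fact (1 < p) := ⟨h.prime_p.one_lt⟩
    refine h.ext_closure hcl hv fun w => ?_
    have h2 := hfix (e w) (e w ^ ((c ⟨v, hv⟩ w : ZMod p)).val) (by
      rw [SubmonoidClass.coe_pow]; exact (hc ⟨v, hv⟩ w).symm)
    rw [map_pow, hchar, ← map_pow, ← ofAdd_nsmul] at h2
    have h3 := hinj _ _ h2
    rw [nsmul_eq_mul, ZMod.natCast_zmod_val] at h3
    have h4 : (c ⟨v, hv⟩ w : ZMod p) = 1 := (mul_eq_right₀ (ha w)).1 h3
    rw [hc ⟨v, hv⟩ w, h4, ZMod.val_one, pow_one]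
  let F : ((↥W) → {x : ZMod p // x ≠ 0}) → {φ : ↥P →* ℂˣ // FreeChar U φ} := fun a =>
    ⟨(ev 0).comp (pair fun w => (a w).1), hfree _ fun w => (a w).2⟩
  have hFinj : Function.Injective F := by
    intro a b hab
    funext w
    have := DFunLike.congr_fun (congrArg Subtype.val hab) (e w)
    rw [MonoidHom.comp_apply, MonoidHom.comp_apply, hval, hval] at this
    exact Subtype.ext (hinj _ _ this)
  haveI : Finite (↥P →* ℂˣ) := Nat.finite_of_card_ne_zero (by
    rw [CommGroup.card_monoidHom_of_hasEnoughRootsOfUnity ↥P ℂ]; exact Nat.card_pos.ne')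
  refine le_trans (le_of_eq ?_) (Nat.card_le_card_of_injective F hFinj)
  rw [Nat.card_fun, h.card_W, Nat.card_eq_fintype_card, Fintype.card_subtype_compl,
    Fintype.card_subtype_eq, ZMod.card]

/-- The field description when `U` has the full order `(p ^ q - 1) / (p - 1)`. -/
theorem field_model (h : ModuleHyp P U W p q) (W₂ : Subgroup G) (hW₂ : W₂ ≤ P)
    (hc : Nat.card W₂ = p) (hfree : ∀ v ∈ U, v ≠ 1 → ∀ x ∈ P, v * x = x * v → x = 1)
    (hu : Nat.card U * (p - 1) = p ^ q - 1) :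
    ∃ (F : Type) (_ : Field F) (_ : Fintype F) (f : G → F) (ψ : G → F),
      Fintype.card F = p ^ q ∧ Set.BijOn f (P : Set G) Set.univ ∧
      (∀ x ∈ P, ∀ x' ∈ P, f (x * x') = f x + f x') ∧
      (∀ u ∈ U, ψ u ≠ 0 ∧ ∀ x ∈ P, f (u * x * u⁻¹) = ψ u * f x) ∧
      (∀ u ∈ U, ∀ u' ∈ U, ψ (u * u') = ψ u * ψ u') ∧ Set.InjOn ψ (U : Set G) ∧
      (∀ x ∈ P, x ∈ W₂ ↔ f x ^ p = f x) := by
  haveI := Fact.mk h.prime_p
  have hi : UIrred P U := by
    by_contra hi
    obtain ⟨m, hm, hm1, hmU⟩ := h.exists_line hi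
    let o : U → Subgroup.zpowers m := fun v => ⟨v * m * (v : G)⁻¹, hmU v v.2⟩
    have ho : Function.Injective o := by
      intro a b hab
      have h2 : (a : G) * m * (a : G)⁻¹ = b * m * (b : G)⁻¹ := congrArg Subtype.val hab
      by_contra hne
      refine hm1 (hfree ((b : G)⁻¹ * a) (U.mul_mem (U.inv_mem b.2) a.2) ?_ m hm ?_)
      · exact fun he => hne (Subtype.ext (inv_mul_eq_one.1 he).symm)
      · calc (b : G)⁻¹ * a * m = (b : G)⁻¹ * ((a : G) * m * (a : G)⁻¹) * a := by group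
          _ = m * ((b : G)⁻¹ * a) := by rw [h2]; group
    have h1 := Nat.card_le_card_of_injective o ho
    rw [Nat.card_zpowers, h.orderOf_eq hm hm1] at h1
    have h2 : p ^ q - 1 ≤ p * (p - 1) := hu ▸ Nat.mul_le_mul_right _ h1
    have h3 : p ^ 3 ≤ p ^ q := Nat.pow_le_pow_right h.prime_p.pos
      (lt_of_le_of_ne h.prime_q.two_le (Ne.symm h.odd_q))
    have h4 : p * (p - 1) < p ^ 2 := by
      rw [sq]; exact Nat.mul_lt_mul_of_pos_left (Nat.sub_lt h.prime_p.pos one_pos) h.prime_p.pos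
    have h5 : p ^ 2 * 2 ≤ p ^ 3 := by
      rw [pow_succ p 2]; exact Nat.mul_le_mul_left _ h.prime_p.two_le
    have h6 : 1 ≤ p ^ 2 := Nat.one_le_pow _ _ h.prime_p.pos
    omega
  obtain ⟨x₀, hx₀, hx₀1⟩ : ∃ x₀ ∈ W₂, x₀ ≠ 1 := by
    by_contra hn
    push Not at hn
    rw [(Subgroup.eq_bot_iff_forall W₂).2 hn, Subgroup.card_bot] at hc
    exact h.prime_p.one_lt.ne hc
  have hz : Subgroup.zpowers x₀ = W₂ := Subgroup.eq_of_le_of_card_ge (Subgroup.zpowers_le.2 hx₀)
    (by rw [Nat.card_zpowers, h.orderOf_eq (hW₂ hx₀) hx₀1, hc])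
  obtain ⟨F, iF, iT, iC, f, ψ, hF, hf, hfadd, hψ, hψmul, hψinj, hf0⟩ :=
    h.exists_field hi (hW₂ hx₀) hx₀1
  refine ⟨F, iF, iT, f, ψ, hF, hf, hfadd, hψ, hψmul, hψinj, fun x hx => ?_⟩
  have hpow : ∀ n : ℕ, f (x₀ ^ n) = n := by
    intro n
    induction n with
    | zero =>
      have := hfadd 1 P.one_mem 1 P.one_mem
      rw [one_mul, left_eq_add] at this
      simp [this]
    | succ n ih =>
      rw [pow_succ, hfadd _ (P.pow_mem (hW₂ hx₀) n) x₀ (hW₂ hx₀), ih, hf0]
      push_cast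
      rfl
  rw [pow_char_eq_self_iff]
  constructor
  · intro hxW
    obtain ⟨n, rfl⟩ := mem_powers_iff_mem_zpowers.2 (hz.symm ▸ hxW)
    exact ⟨n, (hpow n).symm⟩
  · rintro ⟨n, hn⟩
    rw [hf.injOn hx (P.pow_mem (hW₂ hx₀) n) (by rw [hpow n, hn])]
    exact W₂.pow_mem hx₀ n

end CfsgLib.OddEnd
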