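import Cfsg.Agent.OddEnd.FourteenMass

/-!
Peterfalvi section 14: the signed irreducible images of the characters induced from `P`, and the data that one
side contributes in `G`.
-/

set_option autoImplicit false
set_option linter.unusedSectionVars false
set_option linter.style.haveILetI false

namespace CfsgLib.OddEnd

open Subgroup CfsgLib.Char
open scoped ComplexConjugate

universe u

variable {G : Type u} [Group G] [Fintype G]

namespace SideData

variable {S K P U W₁ W₂ : Subgroup G} {p q : ℕ} (D : SideData S K P U W₁ W₂ p q) [Fintype S]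
  [Fintype (Row W₁ W₂)] {χ : (↥(W₁ ⊔ W₂) →* ℂˣ) → G → ℂ} {μ : (↥(W₁ ⊔ W₂) →* ℂˣ) → S → ℂ}
  {δ : (↥(W₁ ⊔ W₂) →* ℂˣ) → ℂ} (hμ : IsMuG S K W₁ W₂ μ δ) (hχ : Cfsg.IsCyclicTIFamily W₁ W₂ χ)
include D hμ hχ

theorem inner_colSum_of_array [DecidableEq (Col W₁ W₂)] {θ : G → ℂ} {m : Col W₁ W₂} {a : ℂ}
    (h : ∀ r j, Cfsg.classInner θ (χ (cell r j)) = if j = m then a else 0) (j : Col W₁ W₂) :
    Cfsg.classInner θ (colSum χ j) = if j = m then (q : ℂ) * a else 0 := by
  rw [colSum, classInner_sum_right, Finset.sum_congr rfl fun r _ => h r j, Finset.sum_const,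
    Finset.card_univ, ← Nat.card_eq_fintype_card, (card_trivL D.primeDade.selfNorm).2, D.mod.card_W,
    nsmul_eq_mul, mul_ite, mul_zero]

theorem colSum_inner_grid [DecidableEq (Col W₁ W₂)] (j l : Col W₁ W₂) :
    Cfsg.classInner (colSum χ j) (colSum χ l) = if j = l then (q : ℂ) else 0 := by
  rw [D.inner_colSum_of_array hμ hχ (m := j) (a := 1) (fun r i => colSum_inner_cell hχ r i j), mul_one]
  exact if_congr eq_comm rfl rfl

/-- All images sit in the same way on the grid. -/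
theorem orb_form_all [DecidableEq (Col W₁ W₂)] {l : Col W₁ W₂} (hl : l ≠ col₀) :
    ∃ (m : Col W₁ W₂) (σ : ℂ), m ≠ col₀ ∧ ((m = l ∧ σ = 1) ∨ (m = colInv l ∧ σ = -1)) ∧
      ∀ f, IsOrb S P f → ∀ r j,
        Cfsg.classInner (orbImage S P μ l f) (χ (cell r j)) = if j = m then -σ else 0 := by
  classical
  by_cases hA : ∃ f, IsOrb S P f ∧
      ∀ r j, Cfsg.classInner (orbImage S P μ l f) (χ (cell r j)) = if j = l then -1 else 0
  · obtain ⟨f₀, hf₀, hA₀⟩ := hA
    refine ⟨l, 1, hl, Or.inl ⟨rfl, rfl⟩, fun f hf r j => ?_⟩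
    rcases D.orb_form hμ hχ hf hl with h | h
    · exact h r j
    exfalso
    set x := orbImage S P μ l f₀ + colSum χ l with hx
    set y := orbImage S P μ l f - colSum χ (colInv l) with hy
    have hne : colInv l ≠ l := colInv_self_ne D.primeDade.odd hl
    have e1 : Cfsg.classInner x x = 1 := by
      rw [hx, classInner_add_left, classInner_add_right, classInner_add_right, D.orbImage_inner hμ hf₀ hf₀ hl,
        D.inner_colSum_of_array hμ hχ hA₀, D.colSum_inner_grid hμ hχ, ← classInner_conj (orbImage S P μ l f₀),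
        D.inner_colSum_of_array hμ hχ hA₀]
      simp
    have e2 : Cfsg.classInner y y = 1 := by
      rw [hy, classInner_sub_left, classInner_sub_right, classInner_sub_right, D.orbImage_inner hμ hf hf hl,
        D.inner_colSum_of_array hμ hχ h, D.colSum_inner_grid hμ hχ, ← classInner_conj (orbImage S P μ l f),
        D.inner_colSum_of_array hμ hχ h]
      simp
    have e3 : Cfsg.classInner x y = (if f₀ = f then 1 else 0) + (q : ℂ) := by
      rw [hx, hy, classInner_add_left, classInner_sub_right, classInner_sub_right,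
        D.orbImage_inner hμ hf₀ hf hl, D.inner_colSum_of_array hμ hχ hA₀, D.colSum_inner_grid hμ hχ,
        ← classInner_conj (orbImage S P μ l f), D.inner_colSum_of_array hμ hχ h]
      simp [hne, hne.symm]
    have e4 : Cfsg.classInner (x - y) (x - y) =
        2 - 2 * ((if f₀ = f then 1 else 0) + (q : ℂ)) := by
      rw [classInner_sub_left, classInner_sub_right x x y, classInner_sub_right y x y, e1, e2, e3, ← classInner_conj x y, e3]
      split_ifs <;> simp <;> ring
    rw [classInner_self] at e4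
    have h0 := congrArg Complex.re e4
    simp only [Complex.ofReal_re] at h0
    have h1 : (0 : ℝ) ≤ (Nat.card G : ℝ)⁻¹ * ∑ g : G, ‖(x - y) g‖ ^ 2 := by positivity
    rw [h0] at h1
    have h2 : (2 : ℝ) ≤ q := by exact_mod_cast D.mod.prime_q.two_le
    have h3 := D.mod.prime_q.two_le
    split_ifs at h1 <;> simp at h1 <;> omega
  · push Not at hA
    refine ⟨colInv l, -1, colInv_ne hl, Or.inr ⟨rfl, rfl⟩, fun f hf r j => ?_⟩
    rcases D.orb_form hμ hχ hf hl with h | h
    · obtain ⟨r', j', hh⟩ := hA f hf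
      exact absurd (h r' j') hh
    · rw [h r j, neg_neg]

end SideData

theorem subClass {H : Type u} [Group H] {f g : H → ℂ} (hf : Cfsg.IsClassFunction H f)
    (hg : Cfsg.IsClassFunction H g) : Cfsg.IsClassFunction H (f - g) := fun x y => by
  rw [Pi.sub_apply, Pi.sub_apply, hf x y, hg x y]

/-- The image in `G` of an irreducible induced character. -/
noncomputable def orbLam {W₁ W₂ : Subgroup G} (S P : Subgroup G) [Fintype S] [Fintype (Row W₁ W₂)]
    (χ : (↥(W₁ ⊔ W₂) →* ℂˣ) → G → ℂ) (μ : (↥(W₁ ⊔ W₂) →* ℂˣ) → S → ℂ) (l m : Col W₁ W₂) (σ : ℂ)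
    (f : S → ℂ) : G → ℂ :=
  σ • orbImage S P μ l f + colSum χ m

/-- The image in `G` of a bridge. -/
noncomputable def bridgeImage {W₁ W₂ : Subgroup G} (S P : Subgroup G) [Fintype S]
    (μ : (↥(W₁ ⊔ W₂) →* ℂˣ) → S → ℂ) (l : Col W₁ W₂) : G → ℂ :=
  tiMap (bridgeSet S P W₁ W₂) S (bridgeChar S P W₁ - μ (cell row₀ l))

namespace SideData

variable {S K P U W₁ W₂ : Subgroup G} {p q : ℕ} (D : SideData S K P U W₁ W₂ p q) [Fintype S]
  [Fintype (Row W₁ W₂)] {χ : (↥(W₁ ⊔ W₂) →* ℂˣ) → G → ℂ} {μ : (↥(W₁ ⊔ W₂) →* ℂˣ) → S → ℂ}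
  {δ : (↥(W₁ ⊔ W₂) →* ℂˣ) → ℂ} (hμ : IsMuG S K W₁ W₂ μ δ) (hχ : Cfsg.IsCyclicTIFamily W₁ W₂ χ)
include D hμ hχ

theorem colSum_gen (l : Col W₁ W₂) : Cfsg.IsGeneralizedCharacter G (colSum χ l) :=
  isGeneralized_sum _ fun _ _ => isGeneralized_family hχ _

/-- The nontrivial columns of the family agree off the conjugates of `P#`. -/
theorem colSum_off {j k : Col W₁ W₂} (hj : j ≠ col₀) (hk : k ≠ col₀) {g : G}
    (hg : g ∉ conjSet ((P : Set G) \ {1})) : colSum χ j g = colSum χ k g := by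
  have h := congrFun (D.col_diff_image hμ hχ hj hk) g
  rw [tiMap_off_sub D.dade (fun x y => by
    rw [Pi.sub_apply, Pi.sub_apply, D.colSum_class hμ j x y, D.colSum_class hμ k x y])
    (fun x hx => ?_) hg, Pi.sub_apply] at h
  · exact sub_eq_zero.1 h.symm
  · rw [Pi.sub_apply, sub_eq_zero]
    by_cases hP : (x : G) ∈ P
    · have hx1 : x = 1 := Subtype.ext (by_contra fun h => hx ⟨hP, h⟩)
      rw [hx1, D.colSum_one hμ hj, D.colSum_one hμ hk]
    · rw [D.colSum_zero hμ hj hP, D.colSum_zero hμ hk hP]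

variable {l m : Col W₁ W₂} {σ : ℂ}
  (hm : (m = l ∧ σ = 1) ∨ (m = colInv l ∧ σ = -1)) (hl : l ≠ col₀)
include hm hl

theorem lam_sign : σ * σ = 1 ∧ conj σ = σ ∧ ‖σ‖ = 1 ∧ m ≠ col₀ := by
  rcases hm with ⟨rfl, rfl⟩ | ⟨rfl, rfl⟩
  · simp [hl]
  · simp [colInv_ne hl]

theorem orbLam_gen {f : S → ℂ} (hf : IsOrb S P f) :
    Cfsg.IsGeneralizedCharacter G (orbLam S P χ μ l m σ f) := by
  refine IsGeneralized.add ?_ (D.colSum_gen hμ hχ m)
  have h := D.orbImage_gen hμ hf hl
  rcases hm with ⟨-, rfl⟩ | ⟨-, rfl⟩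
  · rwa [one_smul]
  · rw [neg_smul, one_smul]
    exact IsGeneralized.neg h

variable (hform : ∀ f, IsOrb S P f → ∀ [DecidableEq (Col W₁ W₂)], ∀ r j,
  Cfsg.classInner (orbImage S P μ l f) (χ (cell r j)) = if j = m then -σ else 0)
include hform

theorem orbLam_grid {f : S → ℂ} (hf : IsOrb S P f) (ω : ↥(W₁ ⊔ W₂) →* ℂˣ) :
    Cfsg.classInner (orbLam S P χ μ l m σ f) (χ ω) = 0 := by
  classical
  obtain ⟨r, j, rfl⟩ := exists_cell D.primeDade.selfNorm ω
  rw [orbLam, classInner_add_left, classInner_smul_left, hform f hf, colSum_inner_cell hχ]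
  split_ifs with h
  · linear_combination -(D.lam_sign hμ hχ hm hl).1
  · simp

theorem orbLam_inner [DecidableEq (S → ℂ)] {f f' : S → ℂ} (hf : IsOrb S P f) (hf' : IsOrb S P f') :
    Cfsg.classInner (orbLam S P χ μ l m σ f) (orbLam S P χ μ l m σ f') = if f = f' then 1 else 0 := by
  classical
  obtain ⟨hσ, hσc, -, -⟩ := D.lam_sign hμ hχ hm hl
  have h0 : Cfsg.classInner (orbLam S P χ μ l m σ f) (colSum χ m) = 0 := by
    rw [colSum, classInner_sum_right]
    exact Finset.sum_eq_zero fun r _ => D.orbLam_grid hμ hχ hm hl hform hf _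
  conv_lhs => arg 2; rw [orbLam]
  rw [classInner_add_right, h0, add_zero, classInner_smul_right, hσc, orbLam, classInner_add_left,
    classInner_smul_left, D.orbImage_inner hμ hf hf' hl, ← classInner_conj (orbImage S P μ l f') (colSum χ m),
    D.inner_colSum_of_array hμ hχ (hform f' hf'), if_pos rfl, map_mul, map_neg, hσc, map_natCast]
  linear_combination (if f = f' then (1 : ℂ) else 0) * hσ

theorem orbLam_signed {f : S → ℂ} (hf : IsOrb S P f) : IsSignedIrr (orbLam S P χ μ l m σ f) := by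
  classical
  refine IsGeneralized.isIrr_or_neg (D.orbLam_gen hμ hχ hm hl hf) ?_
  rw [D.orbLam_inner hμ hχ hm hl hform hf hf, if_pos rfl]

omit hform in
theorem orbLam_conj {f : S → ℂ} (hf : IsOrb S P f) :
    Cfsg.conjFun (orbLam S P χ μ l m σ f) = orbLam S P χ μ l m σ (Cfsg.conjFun f) := by
  have h1 : Cfsg.conjFun (orbLam S P χ μ l m σ f) =
      conj σ • Cfsg.conjFun (orbImage S P μ l f) + Cfsg.conjFun (colSum χ m) := by
    funext g
    simp [orbLam, Cfsg.conjFun]
  rw [h1, D.orbImage_conj hμ hf, D.colSum_conj hμ hχ,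
    D.orbImage_change hμ hχ (D.orb_conj hf) (colInv_ne hl) hl, (D.lam_sign hμ hχ hm hl).2.1, orbLam]
  rcases hm with ⟨rfl, rfl⟩ | ⟨rfl, rfl⟩
  · funext g
    simp
    ring
  · rw [colInv_colInv]
    funext g
    simp
    ring

omit hform in
theorem orbLam_off {f : S → ℂ} (hf : IsOrb S P f) {j : Col W₁ W₂} (hj : j ≠ col₀) {g : G}
    (hg : g ∉ conjSet ((P : Set G) \ {1})) : orbLam S P χ μ l m σ f g = colSum χ j g := by
  rw [orbLam, Pi.add_apply, Pi.smul_apply, D.orbImage_off hμ hf hl hg, smul_zero, zero_add,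
    D.colSum_off hμ hχ (D.lam_sign hμ hχ hm hl).2.2.2 hj hg]

theorem orbLam_mass {f₀ : S → ℂ} (hf₀ : IsOrb S P f₀) (Z : Finset G)
    (hZ : ∀ g, g ∈ Z ↔ g ∈ conjSet ((P : Set G) \ {1})) :
    1 - ((Nat.card U * Nat.card W₁ : ℕ) : ℝ) / nFree S P U ≤
      (Nat.card G : ℝ)⁻¹ * ∑ g ∈ Z, ‖orbLam S P χ μ l m σ f₀ g‖ ^ 2 := by
  classical
  obtain ⟨hσ, hσc, hσn, -⟩ := D.lam_sign hμ hχ hm hl
  obtain ⟨φ₁, -, -, hcol, -⟩ := D.col_facts hμ hl
  have hgrid : ∀ j : Col W₁ W₂, Cfsg.classInner (colSum χ j) (orbLam S P χ μ l m σ f₀) = 0 := fun j => by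
    rw [← classInner_conj, colSum, classInner_sum_right,
      Finset.sum_eq_zero fun r _ => D.orbLam_grid hμ hχ hm hl hform hf₀ _, map_zero]
  have h := D.mass_bound hf₀ (η := σ • orbLam S P χ μ l m σ f₀) (fun a b => by
      simp only [Pi.smul_apply, IsGeneralized.isClassFunction (D.orbLam_gen hμ hχ hm hl hf₀) a b])
    (φ₁ := φ₁) (fun ψ hψ _ => ?_) Z hZ
  · simpa [Pi.smul_apply, norm_smul, hσn] using h
  rw [hcol, classInner_smul_right, hσc]
  rcases D.irr_or_big hψ with hirr | hbig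
  · have ho : IsOrb S P (indP S P ψ) := ⟨hirr, ψ, rfl⟩
    have e : orbImage S P μ l (indP S P ψ) = σ • (orbLam S P χ μ l m σ (indP S P ψ) - colSum χ m) := by
      rw [orbLam, add_sub_cancel_right, smul_smul, hσ, one_smul]
    rw [show tiMap (bridgeSet S P W₁ W₂) S (indP S P ψ - colSum μ l) = orbImage S P μ l (indP S P ψ) from rfl,
      e, classInner_smul_left, classInner_sub_left, hgrid, sub_zero, D.orbLam_inner hμ hχ hm hl hform ho hf₀,
      ← mul_assoc, hσ, one_mul]
    split_ifs <;> rfl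
  · obtain ⟨j, hj, hjc, -⟩ := D.exists_col hμ hψ hbig
    have hne : indP S P ψ ≠ f₀ := fun e => by
      have h1 := IsIrrCharacter.classInner_self hf₀.1
      rw [← e, show indP S P ψ = colSum μ j from hjc, D.colSum_inner hμ, if_pos rfl] at h1
      exact D.mod.prime_q.ne_one (by exact_mod_cast h1)
    rw [if_neg hne, show indP S P ψ = colSum μ j from hjc, D.col_diff_image hμ hχ hj hl, classInner_sub_left,
      hgrid, hgrid, sub_zero, mul_zero]

end SideData

namespace SideData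

variable {S K P U W₁ W₂ : Subgroup G} {p q : ℕ}

/-- One side of a pair contributes a full set of images. -/
theorem exists_sideImages (D : SideData S K P U W₁ W₂ p q) [Fintype (Row W₁ W₂)]
    {χ : (↥(W₁ ⊔ W₂) →* ℂˣ) → G → ℂ} (hχ : Cfsg.IsCyclicTIFamily W₁ W₂ χ) :
    ∃ (κ : Type u) (_ : Fintype κ), Nonempty (SideImages χ S P U κ) := by
  classical
  haveI := Fintype.ofFinite ↥S
  haveI := D.normal_P
  obtain ⟨μ, δ, hμ⟩ := D.primeDade.exists_isMuG
  obtain ⟨φ, hφ, hI⟩ := D.exists_inv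
  obtain ⟨l, hl, -, -⟩ := D.exists_col hμ hφ hI
  obtain ⟨m, σ, -, hm, hform'⟩ := D.orb_form_all hμ hχ hl
  have hform : ∀ f, IsOrb S P f → ∀ [DecidableEq (Col W₁ W₂)], ∀ r j,
      Cfsg.classInner (orbImage S P μ l f) (χ (cell r j)) = if j = m then -σ else 0 := fun f hf _ r j => by
    rw [hform' f hf r j]
    split_ifs <;> rfl
  haveI : Finite {f : S → ℂ // IsOrb S P f} := by
    haveI := D.finite_dualP
    exact Finite.of_injective
      (fun f : {f : S → ℂ // IsOrb S P f} => (⟨f.1, f.2.2.imp fun φ h => h.symm⟩ : Set.range (indP S P)))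
      fun a b e => Subtype.ext (congrArg Subtype.val e :)
  letI : Fintype {f : S → ℂ // IsOrb S P f} := Fintype.ofFinite _
  refine ⟨{f : S → ℂ // IsOrb S P f}, inferInstance, ⟨{
    β := bridgeImage S P μ
    lam := fun f => orbLam S P χ μ l m σ f.1
    lamBar := fun f => ⟨Cfsg.conjFun f.1, D.orb_conj f.2⟩
    β_gen := fun j hj => ?_
    β_off := fun j _ g hg => tiMap_off D.dade hg
    β_one := fun j hj => ?_
    β_norm := fun j hj => ?_
    β_mixed := fun j hj w h1 h2 => ?_
    β_diff := fun j k hj hk => ?_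
    β_conj := fun j hj => ⟨colInv j, colInv_ne hj, ?_, ?_⟩
    pair_off := fun r j k hj hk g hg => ?_
    lam_signed := fun f => D.orbLam_signed hμ hχ hm hl hform f.2
    lam_orth := fun f f' hne => ?_
    lamBar_ne := fun f e => D.orb_conj_ne f.2 (congrArg Subtype.val e)
    lam_conj := fun f => D.orbLam_conj hμ hχ hm hl f.2
    lam_grid := fun f ω => D.orbLam_grid hμ hχ hm hl hform f.2 ω
    lam_off := fun f j hj g hg => ?_
    lam_mass := fun f Z hZ => D.orbLam_mass hμ hχ hm hl hform f.2 Z hZ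
    lam_count := D.nFree_le hμ }⟩⟩
  · exact isGeneralized_tiMap D.dade
      (IsGeneralized.sub D.bridgeChar_gen (IsIrrCharacter.isGeneralized (hμ.irr _)))
      fun _ hx => D.bridge_support hμ hj hx
  · rw [bridgeImage, tiMap_inner_one D.dade (subClass D.bridgeChar_class
      (IsIrrCharacter.isClassFunction (hμ.irr _))) fun _ hx => D.bridge_support hμ hj hx]
    exact D.bridge_inner_one hμ hj
  · obtain ⟨k, hk, hn⟩ := D.bridge_norm hμ hj
    refine ⟨k, hk, ?_⟩
    have hc := subClass D.bridgeChar_class (IsIrrCharacter.isClassFunction (hμ.irr (cell row₀ j)))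
    rw [bridgeImage, tiMap_inner D.dade hc (fun _ hx => D.bridge_support hμ hj hx) hc, hn]
  · have hK : (w : G) ∉ K := fun hK => h2 (D.W_inf_K w.2 hK)
    rw [bridgeImage, tiMap_self D.dade (subClass D.bridgeChar_class
        (IsIrrCharacter.isClassFunction (hμ.irr _))) (a := ⟨w, D.primeDade.sup_le' w.2⟩)
      (D.primeDade.mixed w w.2 h1 h2), Pi.sub_apply, D.bridgeChar_off_K (x := ⟨w, D.primeDade.sup_le' w.2⟩) hK,
      hμ.value _ ⟨w, D.primeDade.sup_le' w.2⟩ w.2 h2, D.delta_one hμ hj, one_mul, cell_row₀]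
  · have hc := fun i : Col W₁ W₂ => subClass D.bridgeChar_class
      (IsIrrCharacter.isClassFunction (hμ.irr (cell row₀ i)))
    rw [bridgeImage, bridgeImage, ← tiMap_sub D.dade (hc j) (hc k), sub_sub_sub_cancel_left]
    exact (D.col_pair hμ hχ row₀ hk hj).2
  · rw [bridgeImage, bridgeImage, tiMap_conjFun D.dade (subClass D.bridgeChar_class
      (IsIrrCharacter.isClassFunction (hμ.irr _)))]
    congr 1
    funext x
    have e1 := congrFun D.bridgeChar_conj x
    have e2 : μ (cell row₀ (colInv j)) x = conj (μ (cell row₀ j) x) := by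
      have e3 := congrFun (hμ.map conjAut (cell row₀ j)).1 x
      rw [mapHom_conjAut] at e3
      simp only [cell_row₀] at e3 ⊢
      exact e3
    show conj ((bridgeChar S P W₁ - μ (cell row₀ j)) x) = _
    rw [Pi.sub_apply, map_sub, Pi.sub_apply, e2]
    exact congrArg (· - _) e1
  · rw [D.family_conj hμ hχ, cell_row₀, cell_row₀]
    rfl
  · have h := congrFun (D.col_pair hμ hχ r hj hk).2 g
    rw [tiMap_off D.dade hg, Pi.sub_apply] at h
    exact sub_eq_zero.1 h.symm
  · rw [D.orbLam_inner hμ hχ hm hl hform f.2 f'.2, if_neg fun e => hne (Subtype.ext e)]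
  · rw [D.orbLam_off hμ hχ hm hl f.2 hj hg, colSum, Finset.sum_apply]

end SideData

end CfsgLib.OddEnd
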