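import Cfsg.Agent.OddEnd.Defs
import Cfsg.Agent.S1368
import Cfsg.Agent.OddLocal.KappaTypeCore
import Cfsg.Agent.S1381
import Cfsg.Agent.S1382
import Cfsg.Agent.S1383
import Cfsg.Agent.S1472

/-!
The last step of the odd order theorem: pairs of maximal subgroups of type P, and the reduction of the
solvability of groups of odd order to the final configuration (Peterfalvi 14.7, BG Appendix C).
-/

set_option autoImplicit false
set_option linter.style.haveILetI false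

namespace CfsgLib.OddEnd

open Subgroup CfsgLib.OddLocal

universe u

variable {G : Type u} [Group G] [Finite G]

/-- The standing hypotheses on a pair of maximal subgroups of type P. -/
structure PairData (S T W₁ W₂ U V : Subgroup G) : Prop where
  coatom_S : IsCoatom S
  coatom_T : IsCoatom T
  typeP_S : Cfsg.IsTypePWith S W₁ U W₂
  typeP_T : Cfsg.IsTypePWith T W₂ V W₁
  meet : S ⊓ T = W₁ ⊔ W₂
  someII : Cfsg.IsOfTypeII S ∨ Cfsg.IsOfTypeII T
  types_S : Cfsg.IsOfTypeII S ∨ Cfsg.IsOfTypeIII S ∨ Cfsg.IsOfTypeIV S ∨ Cfsg.IsOfTypeV S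
  types_T : Cfsg.IsOfTypeII T ∨ Cfsg.IsOfTypeIII T ∨ Cfsg.IsOfTypeIV T ∨ Cfsg.IsOfTypeV T

omit [Finite G] in
theorem PairData.symm {S T W₁ W₂ U V : Subgroup G} (h : PairData S T W₁ W₂ U V) :
    PairData T S W₂ W₁ V U :=
  ⟨h.coatom_T, h.coatom_S, h.typeP_T, h.typeP_S, by rw [inf_comm, sup_comm, h.meet], h.someII.symm,
    h.types_T, h.types_S⟩

variable (hG : Cfsg.IsMinSimpleOddOrder G)
include hG

/-- Type P data over a given decomposition, together with the type. -/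
theorem typeP_of_decomp {M K U : Subgroup G} (hM : IsCoatom M) (hKU : Cfsg.IsSigmaDecomposition M K U)
    (hK1 : K ≠ ⊥) :
    (∃ V : Subgroup G, Cfsg.IsTypePWith M K V (Kap.star M K)) ∧
      (Cfsg.IsOfTypeII M ∨ Cfsg.IsOfTypeIII M ∨ Cfsg.IsOfTypeIV M ∨ Cfsg.IsOfTypeV M) := by
  by_cases hU : U = ⊥
  · obtain ⟨V, hVn, hKV, hV⟩ := Kap.exists_kernel_complement hG hM hKU hK1
    refine ⟨⟨V, Kap.typeP_data hG hM hKU hK1 hVn hKV hV⟩, Or.inr ?_⟩
    by_cases hF : Cfsg.fittingHallOf M = Cfsg.sigmaCore M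
    · exact Or.inr (Or.inr ((Cfsg.Agent.S1383.result hG M hM K U hKU).2 ⟨hK1, hU, hF⟩))
    · exact ((Cfsg.Agent.S1382.result hG M hM K U hKU).2 ⟨hK1, hU, hF⟩).imp_right Or.inl
  · obtain ⟨hUc, -⟩ := Cfsg.Agent.S1363.result hG M hM K U hKU hK1
    have hF := Kap.fittingHallOf_eq_of_outer hG hM hKU hK1 hU
    have hnil : Group.IsNilpotent U := by
      letI : CommGroup U := { (inferInstance : Group U) with mul_comm := fun a b => hUc.is_comm.comm a b }
      exact CommGroup.isNilpotent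
    exact ⟨⟨U, Kap.typeP_data hG hM hKU hK1 hnil hKU.normal
      (hF.symm ▸ Kap.outer_compl_derived hG hM hKU hK1)⟩,
      Or.inl (Kap.typeTwo_of hG hM hKU hK1 hU)⟩

theorem typeII_of_hasOuter {M K U : Subgroup G} (hM : IsCoatom M)
    (hKU : Cfsg.IsSigmaDecomposition M K U) (hK1 : K ≠ ⊥) (h : Kap.HasOuter M) :
    Cfsg.IsOfTypeII M := by
  refine Kap.typeTwo_of hG hM hKU hK1 fun hU => ?_
  exact Kap.not_hasOuter_of_decomp_bot hG hM (hU ▸ hKU) h

/-- A maximal subgroup with a κ-prime gives a pair with `|W₁| < |W₂|`. -/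
theorem exists_pair {M : Subgroup G} (hM : IsCoatom M) (hκ : (Cfsg.kappa M).Nonempty) :
    ∃ S T W₁ W₂ U V : Subgroup G, PairData S T W₁ W₂ U V ∧ Nat.card W₁ < Nat.card W₂ := by
  obtain ⟨K, U, hKU⟩ := Kap.exists_decomp_any hG hM
  have hK1 := (Kap.kappa_nonempty_iff hG hM hKU).1 hκ
  obtain ⟨N, hN, hNH, hKe, -, hout⟩ := Kap.exists_partner hG hM hKU.hall hK1
  have hL1 : Kap.star M K ≠ ⊥ := Kap.fixed_ne_bot hG hM hKU.hall hK1
  obtain ⟨U', hKU'⟩ := Kap.exists_decomp hG hN (Kap.kappa_cyclic hG hN hNH) hNH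
  obtain ⟨⟨V₁, hP₁⟩, ht₁⟩ := typeP_of_decomp hG hM hKU hK1
  obtain ⟨⟨V₂, hP₂⟩, ht₂⟩ := typeP_of_decomp hG hN hKU' hL1
  rw [← hKe] at hP₂
  have hmeet : M ⊓ N = K ⊔ Kap.star M K :=
    (Cfsg.Agent.S1368.result hG M hM K U hKU hK1 N hN hKe hNH).1
  have hD : PairData M N K (Kap.star M K) V₁ V₂ :=
    ⟨hM, hN, hP₁, hP₂, hmeet, hout.imp (typeII_of_hasOuter hG hM hKU hK1)
      (typeII_of_hasOuter hG hN hKU' hL1), ht₁, ht₂⟩
  have hne : Nat.card K ≠ Nat.card ↥(Kap.star M K) := fun he => by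
    obtain ⟨p, hp, hd⟩ := Nat.exists_prime_and_dvd (fun h1 : Nat.card K = 1 => hK1 (eq_bot_of_card_eq _ h1))
    exact (hKU.hall.2.1 p hp hd).2.2.1 (Kap.primes_star hG hM p hp (he ▸ hd))
  rcases lt_or_gt_of_ne hne with h | h
  · exact ⟨_, _, _, _, _, _, hD, h⟩
  · exact ⟨_, _, _, _, _, _, hD.symm, h⟩

omit hG

/-- The conclusion of Peterfalvi 14.7 for a pair with `|W₁| < |W₂|`. -/
def FinalConfig (S T W₁ W₂ U : Subgroup G) : Prop :=
  (Nat.card W₁).Prime ∧ (Nat.card W₂).Prime ∧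
    Cfsg.IsElementaryAbelian (Nat.card W₂) (Cfsg.fittingHallOf S) ∧
    Nat.card (Cfsg.fittingHallOf S) = Nat.card W₂ ^ Nat.card W₁ ∧ IsCyclic U ∧
    Nat.card U * (Nat.card W₂ - 1) = Nat.card W₂ ^ Nat.card W₁ - 1 ∧
    (∀ u ∈ U, u ≠ 1 → ∀ x ∈ Cfsg.fittingHallOf S, u * x = x * u → x = 1) ∧
    Nat.Coprime ((Nat.card W₂ ^ Nat.card W₁ - 1) / (Nat.card W₂ - 1)) (Nat.card W₂ - 1) ∧
    U ≤ Subgroup.normalizer (Cfsg.fittingHallOf S : Set G) ∧
    (Nat.card (Cfsg.fittingHallOf T)).Coprime (Nat.card W₂) ∧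
    Cfsg.IsElementaryAbelian (Nat.card W₁) (Cfsg.fittingHallOf T) ∧
    W₂ ≤ Subgroup.normalizer (Cfsg.fittingHallOf T : Set G) ∧
    ∃ y ∈ Cfsg.fittingHallOf T, W₂.map (MulAut.conj y).toMonoidHom ≤ Subgroup.normalizer (U : Set G) ∧
    ∃ (F : Type) (_ : Field F) (_ : Fintype F) (f : G → F) (ψ : G → F),
      Fintype.card F = Nat.card W₂ ^ Nat.card W₁ ∧ Set.BijOn f (Cfsg.fittingHallOf S : Set G) Set.univ ∧
      (∀ x ∈ Cfsg.fittingHallOf S, ∀ x' ∈ Cfsg.fittingHallOf S, f (x * x') = f x + f x') ∧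
      (∀ u ∈ U, ψ u ≠ 0 ∧ ∀ x ∈ Cfsg.fittingHallOf S, f (u * x * u⁻¹) = ψ u * f x) ∧
      (∀ u ∈ U, ∀ u' ∈ U, ψ (u * u') = ψ u * ψ u') ∧ Set.InjOn ψ (U : Set G) ∧
      (∀ x ∈ Cfsg.fittingHallOf S, x ∈ W₂ ↔ f x ^ Nat.card W₂ = f x)

/-- BG Appendix C: the final configuration is impossible. -/
theorem FinalConfig.contradiction {S T W₁ W₂ U : Subgroup G} (h : FinalConfig S T W₁ W₂ U)
    (hlt : Nat.card W₁ < Nat.card W₂) : False := by
  obtain ⟨hq, hp, -, -, -, hUcard, -, hA, hUP, hcop, hTe, hW₂N, y, hy, hyU, F, _, _, f, ψ, hF, hf, hfadd, hψ,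
    hψmul, hψinj, hW₂⟩ := h
  haveI := Fact.mk hp
  haveI := Fact.mk hq
  refine absurd (Cfsg.Agent.S1472.result (Nat.card W₂) (Nat.card W₁) hA F hF (Cfsg.fittingHallOf S) U
    (Cfsg.fittingHallOf T) f ψ hf hfadd hUP hψ hψmul hψinj hUcard hTe.1 hcop
    (fun x hx he => hW₂N ((hW₂ x hx).2 he)) y hy fun x hx he => ?_) (not_le.2 hlt)
  exact hyU ⟨x, (hW₂ x hx).2 he, rfl⟩

end CfsgLib.OddEnd

namespace CfsgLib.OddEnd

universe u

/-- Groups of odd order are solvable once no minimal simple group of odd order exists. -/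
theorem odd_solvable_of_no_minSimple
    (hno : ∀ (H : Type u) [Group H] [Finite H], ¬ Cfsg.IsMinSimpleOddOrder H) :
    ∀ (G : Type u) [Group G] [Finite G], Odd (Nat.card G) → Group.IsSolvable G := by
  suffices key : ∀ (n : ℕ) (G : Type u) [Group G] [Finite G], Nat.card G = n → Odd (Nat.card G) →
      Group.IsSolvable G from fun G _ _ h => key _ G rfl h
  intro n
  induction n using Nat.strong_induction_on with
  | _ n ih =>
    intro G _ _ hn hodd
    by_cases hc : IsMulCommutative G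
    · exact Group.isSolvable_of_comm fun a b => hc.is_comm.comm a b
    have hsub : ∀ H : Subgroup G, H ≠ ⊤ → Group.IsSolvable H := fun H hH => by
      refine ih _ ?_ _ rfl (hodd.of_dvd_nat (Subgroup.card_subgroup_dvd_card H))
      rw [← hn]
      exact lt_of_le_of_ne (Nat.le_of_dvd Nat.card_pos (Subgroup.card_subgroup_dvd_card H))
        fun e => hH (Subgroup.eq_top_of_card_eq H e)
    by_cases hs : ∀ N : Subgroup G, N.Normal → N = ⊥ ∨ N = ⊤
    · haveI : Nontrivial G := by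
        by_contra h
        rw [not_nontrivial_iff_subsingleton] at h
        exact hc ⟨⟨fun a b => Subsingleton.elim _ _⟩⟩
      exact absurd ⟨hodd, ⟨hs⟩, hc, hsub⟩ (hno G)
    push Not at hs
    obtain ⟨N, hN, hN1, hN2⟩ := hs
    haveI := hN
    haveI hNs : Group.IsSolvable N := hsub N hN2
    haveI : Group.IsSolvable (G ⧸ N) := by
      refine ih _ ?_ _ rfl (hodd.of_dvd_nat ((N.index_eq_card) ▸ N.index_dvd_card))
      rw [← hn, ← N.index_eq_card, ← N.card_mul_index]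
      exact lt_mul_of_one_lt_left (Nat.pos_of_ne_zero Subgroup.index_ne_zero_of_finite)
        ((Subgroup.one_lt_card_iff_ne_bot N).2 hN1)
    exact Group.isSolvable_of_ker_le_range N.subtype (QuotientGroup.mk' N) (by simp)

/-- The odd order theorem from the final configuration of Peterfalvi 14.7 and the existence of a κ-prime. -/
theorem odd_solvable_of_final
    (hex : ∀ (H : Type u) [Group H] [Finite H], Cfsg.IsMinSimpleOddOrder H →
      ∃ M : Subgroup H, IsCoatom M ∧ (Cfsg.kappa M).Nonempty)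
    (hfin : ∀ (H : Type u) [Group H] [Finite H], Cfsg.IsMinSimpleOddOrder H →
      ∀ S T W₁ W₂ U V : Subgroup H, PairData S T W₁ W₂ U V → Nat.card W₁ < Nat.card W₂ →
        FinalConfig S T W₁ W₂ U) :
    ∀ (G : Type u) [Group G] [Finite G], Odd (Nat.card G) → Group.IsSolvable G :=
  odd_solvable_of_no_minSimple fun H _ _ hH => by
    obtain ⟨M, hM, hκ⟩ := hex H hH
    obtain ⟨S, T, W₁, W₂, U, V, hD, hlt⟩ := exists_pair hH hM hκ
    exact (hfin H hH S T W₁ W₂ U V hD hlt).contradiction hlt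

end CfsgLib.OddEnd
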