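import Cfsg.Agent.OddEnd.AllTypeI
import Cfsg.Agent.OddEnd.FinalStep

/-!
The odd order theorem from the final configuration (Peterfalvi 14.7) alone.
-/

set_option autoImplicit false

namespace CfsgLib.OddEnd

universe u

theorem odd_solvable_of_final_config
    (hfin : ∀ (H : Type u) [Group H] [Finite H], Cfsg.IsMinSimpleOddOrder H →
      ∀ S T W₁ W₂ U V : Subgroup H, PairData S T W₁ W₂ U V → Nat.card W₁ < Nat.card W₂ →
        FinalConfig S T W₁ W₂ U) :
    ∀ (G : Type u) [Group G] [Finite G], Odd (Nat.card G) → Group.IsSolvable G :=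
  odd_solvable_of_final (fun H _ _ hH => by
    by_contra h
    exact not_all_kappa_empty hH fun M hM => Set.not_nonempty_iff_eq_empty.1 fun hne => h ⟨M, hM, hne⟩) hfin

end CfsgLib.OddEnd
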