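import Mathlib
import Cfsg.Prelude.Def_Transfer

/-!
An abelian group `U` of odd order with a fixed point free automorphism group `W` of prime order `q`,
acting faithfully on an elementary abelian group `P` of order `p ^ q`, irreducibly together with `W`:
either `U` is irreducible and `P` is a field with `U` a group of multiplications, or `P` is a sum of
`q` lines permuted regularly by `W`.
-/

set_option autoImplicit false
set_option linter.unusedSectionVars false
set_option linter.style.haveILetI false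
set_option linter.deprecated false

namespace CfsgLib.OddEnd

open scoped Pointwise Classical

variable {G : Type*} [Group G] [Finite G] {P U W : Subgroup G} {p q : ℕ}

/-- The hypotheses on the module `P` of `UW`. -/
structure ModuleHyp (P U W : Subgroup G) (p q : ℕ) : Prop where
  prime_p : p.Prime
  prime_q : q.Prime
  odd_p : p ≠ 2
  odd_q : q ≠ 2
  elem : Cfsg.IsElementaryAbelian p P
  card_P : Nat.card P = p ^ q
  comm : IsMulCommutative U
  U_ne : U ≠ ⊥
  U_odd : Odd (Nat.card U)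
  coprime : (Nat.card U).Coprime (p * q)
  U_norm : U ≤ Subgroup.normalizer (P : Set G)
  W_norm : W ≤ Subgroup.normalizer (P : Set G)
  W_normU : W ≤ Subgroup.normalizer (U : Set G)
  card_W : Nat.card W = q
  W_free : ∀ w ∈ W, w ≠ 1 → ∀ v ∈ U, w * v = v * w → v = 1
  faithful : U ⊓ Subgroup.centralizer (P : Set G) = ⊥
  irr : ∀ N : Subgroup G, N ≤ P → U ⊔ W ≤ Subgroup.normalizer (N : Set G) → N ≠ ⊥ → N = P

/-- A character of `P` with trivial stabiliser in `U`. -/
def FreeChar (U : Subgroup G) (φ : ↥P →* ℂˣ) : Prop :=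
  ∀ v ∈ U, (∀ x y : ↥P, (y : G) = v * x * v⁻¹ → φ y = φ x) → v = 1

namespace ModuleHyp

theorem p_ne_zero (h : ModuleHyp P U W p q) : p ≠ 0 := h.prime_p.ne_zero

theorem commP (h : ModuleHyp P U W p q) {x y : G} (hx : x ∈ P) (hy : y ∈ P) : x * y = y * x := by
  haveI := h.elem.1
  exact congrArg Subtype.val (mul_comm' (⟨x, hx⟩ : P) ⟨y, hy⟩)

theorem commU (h : ModuleHyp P U W p q) {x y : G} (hx : x ∈ U) (hy : y ∈ U) : x * y = y * x := by
  haveI := h.comm
  exact congrArg Subtype.val (mul_comm' (⟨x, hx⟩ : U) ⟨y, hy⟩)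

theorem conj_mem {g : G} (hg : g ∈ Subgroup.normalizer (P : Set G)) {x : G} (hx : x ∈ P) :
    g * x * g⁻¹ ∈ P :=
  (Subgroup.mem_normalizer_iff.1 hg x).1 hx

/-- Conjugation by an element of the normalizer, as an endomorphism. -/
def cj {g : G} (hg : g ∈ Subgroup.normalizer (P : Set G)) : ↥P →* ↥P where
  toFun x := ⟨g * x * g⁻¹, conj_mem hg x.2⟩
  map_one' := Subtype.ext (by simp)
  map_mul' x y := Subtype.ext (by simp [mul_assoc])

theorem orderOf_eq (h : ModuleHyp P U W p q) {x : G} (hx : x ∈ P) (hx1 : x ≠ 1) : orderOf x = p :=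
  haveI := Fact.mk h.prime_p
  orderOf_eq_prime (h.elem.2 x hx) hx1

theorem eq_one_of_centralizes (h : ModuleHyp P U W p q) {v : G} (hv : v ∈ U)
    (hc : ∀ x ∈ P, v * x * v⁻¹ = x) : v = 1 := by
  have : v ∈ U ⊓ Subgroup.centralizer (P : Set G) :=
    ⟨hv, Subgroup.mem_centralizer_iff.2 fun x hx => (mul_inv_eq_iff_eq_mul.1 (hc x hx)).symm⟩
  rwa [h.faithful, Subgroup.mem_bot] at this

theorem exists_w (h : ModuleHyp P U W p q) : ∃ w ∈ W, w ≠ 1 := by
  by_contra hc
  push Not at hc
  have : W = ⊥ := (Subgroup.eq_bot_iff_forall W).2 hc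
  have hq := h.card_W
  rw [this, Subgroup.card_bot] at hq
  exact h.prime_q.one_lt.ne hq

/-- No nontrivial element of `U` acts on `P` as a power map. -/
theorem eq_one_of_scalar (h : ModuleHyp P U W p q) {v : G} (hv : v ∈ U) (c : ℕ)
    (hc : ∀ x ∈ P, v * x * v⁻¹ = x ^ c) : v = 1 := by
  obtain ⟨w, hw, hw1⟩ := h.exists_w
  have hwv : w * v * w⁻¹ ∈ U := (Subgroup.mem_normalizer_iff.1 (h.W_normU hw) v).1 hv
  have key : w * v * w⁻¹ * v⁻¹ = 1 := by
    refine h.eq_one_of_centralizes (U.mul_mem hwv (U.inv_mem hv)) fun x hx => ?_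
    have hvi : v⁻¹ * x * v ∈ P := by
      simpa using conj_mem (h.U_norm (U.inv_mem hv)) hx
    have hwi : w⁻¹ * (v⁻¹ * x * v) * w ∈ P := by
      simpa using conj_mem (h.W_norm (W.inv_mem hw)) hvi
    calc w * v * w⁻¹ * v⁻¹ * x * (w * v * w⁻¹ * v⁻¹)⁻¹
        = w * (v * (w⁻¹ * (v⁻¹ * x * v) * w) * v⁻¹) * w⁻¹ := by group
      _ = w * (w⁻¹ * (v⁻¹ * x * v) * w) ^ c * w⁻¹ := by rw [hc _ hwi]
      _ = (w * (w⁻¹ * (v⁻¹ * x * v) * w) * w⁻¹) ^ c := (conj_pow).symm
      _ = (v⁻¹ * x * v) ^ c := by group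
      _ = v * (v⁻¹ * x * v) * v⁻¹ := (hc _ hvi).symm
      _ = x := by group
  refine h.W_free w hw hw1 v hv ?_
  exact mul_inv_eq_iff_eq_mul.1 (mul_inv_eq_one.1 key)

end ModuleHyp

/-! ### The irreducible case -/

/-- `U` is irreducible on `P`. -/
def UIrred (P U : Subgroup G) : Prop :=
  ∀ N : Subgroup G, N ≤ P → U ≤ Subgroup.normalizer (N : Set G) → N ≠ ⊥ → N = P

theorem ModuleHyp.free_of_irred (h : ModuleHyp P U W p q) (hi : UIrred P U) :
    ∀ v ∈ U, v ≠ 1 → ∀ x ∈ P, v * x = x * v → x = 1 := by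
  intro v hv hv1 x hx hvx
  by_contra hx1
  have hN : P ⊓ Subgroup.centralizer ({v} : Set G) = P := by
    refine hi _ inf_le_left ?_ fun hb => hx1 ?_
    · refine le_trans (le_inf h.U_norm (le_trans ?_ Subgroup.le_normalizer))
        (Subgroup.inf_normalizer_le_normalizer_inf)
      exact fun u hu => Subgroup.mem_centralizer_singleton_iff.2 (h.commU hu hv)
    · have : x ∈ P ⊓ Subgroup.centralizer ({v} : Set G) :=
        ⟨hx, Subgroup.mem_centralizer_singleton_iff.2 hvx.symm⟩
      rwa [hb, Subgroup.mem_bot] at this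
  refine hv1 (h.eq_one_of_centralizes hv fun y hy => mul_inv_eq_iff_eq_mul.2 ?_)
  exact (Subgroup.mem_centralizer_singleton_iff.1 (hN.symm.le hy).2).symm

/-- A finite field of characteristic `p`: the fixed points of `p`-th powers are the prime field. -/
theorem pow_char_eq_self_iff {F : Type*} [Field F] [Fact p.Prime] [CharP F p] {y : F} :
    y ^ p = y ↔ ∃ n : ℕ, (n : F) = y := by
  classical
  have hp : p.Prime := Fact.out
  constructor
  · intro hy
    let R : Finset F := (Polynomial.X ^ p - Polynomial.X : Polynomial F).roots.toFinset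
    let S : Finset F := Finset.univ.image (ZMod.castHom (dvd_refl p) F)
    have hne : (Polynomial.X ^ p - Polynomial.X : Polynomial F) ≠ 0 :=
      FiniteField.X_pow_card_sub_X_ne_zero F hp.one_lt
    have hsub : S ⊆ R := by
      intro z hz
      obtain ⟨a, -, rfl⟩ := Finset.mem_image.1 hz
      rw [Multiset.mem_toFinset, Polynomial.mem_roots hne]
      simp only [Polynomial.IsRoot.def, Polynomial.eval_sub, Polynomial.eval_pow, Polynomial.eval_X]
      rw [← map_pow, ZMod.pow_card, sub_self]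
    have hcard : R.card ≤ S.card := by
      rw [Finset.card_image_of_injective _ (ZMod.castHom (dvd_refl p) F).injective, Finset.card_univ,
        ZMod.card]
      refine (Multiset.toFinset_card_le _).trans ((Polynomial.card_roots' _).trans ?_)
      rw [FiniteField.X_pow_card_sub_X_natDegree_eq F hp.one_lt]
    have hmem : y ∈ S := by
      rw [Finset.eq_of_subset_of_card_le hsub hcard, Multiset.mem_toFinset,
        Polynomial.mem_roots hne]
      simp [hy]
    obtain ⟨a, -, ha⟩ := Finset.mem_image.1 hmem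
    exact ⟨a.val, by rw [← ha, ← map_natCast (ZMod.castHom (dvd_refl p) F), ZMod.natCast_zmod_val]⟩
  · rintro ⟨n, rfl⟩
    exact map_natCast (frobenius F p) n

/-- If `U` is irreducible, `P` is the additive group of a field in which `U` acts by
multiplications; any nontrivial element may be made to correspond to `1`. -/
theorem ModuleHyp.exists_field (h : ModuleHyp P U W p q) (hi : UIrred P U) {x₀ : G} (hx₀ : x₀ ∈ P)
    (hx₀1 : x₀ ≠ 1) :
    ∃ (F : Type) (_ : Field F) (_ : Fintype F) (_ : CharP F p) (f : G → F) (ψ : G → F),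
      Fintype.card F = p ^ q ∧ Set.BijOn f (P : Set G) Set.univ ∧
      (∀ x ∈ P, ∀ x' ∈ P, f (x * x') = f x + f x') ∧
      (∀ u ∈ U, ψ u ≠ 0 ∧ ∀ x ∈ P, f (u * x * u⁻¹) = ψ u * f x) ∧
      (∀ u ∈ U, ∀ u' ∈ U, ψ (u * u') = ψ u * ψ u') ∧ Set.InjOn ψ (U : Set G) ∧
      f x₀ = 1 := by
  classical
  haveI := Fact.mk h.prime_p
  letI : CommGroup ↥P :=
    { (inferInstance : Group ↥P) with mul_comm := fun a b => Subtype.ext (h.commP a.2 b.2) }
  let cu : U → (AddMonoid.End (Additive ↥P)) := fun u =>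
    (ModuleHyp.cj (h.U_norm u.2)).toAdditive
  have cu_apply : ∀ (u : U) (x : ↥P),
      ((cu u (Additive.ofMul x)).toMul : G) = u * x * (u : G)⁻¹ := fun u x => rfl
  have cu_comm : ∀ a b : U, cu a * cu b = cu b * cu a := by
    intro a b
    refine AddMonoidHom.ext fun x => Additive.toMul.injective (Subtype.ext ?_)
    show (a : G) * ((b : G) * (x.toMul : G) * (b : G)⁻¹) * (a : G)⁻¹
      = (b : G) * ((a : G) * (x.toMul : G) * (a : G)⁻¹) * (b : G)⁻¹
    have hab := h.commU a.2 b.2
    calc _ = ((a : G) * b) * (x.toMul : G) * ((a : G) * b)⁻¹ := by group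
      _ = ((b : G) * a) * (x.toMul : G) * ((b : G) * a)⁻¹ := by rw [hab]
      _ = _ := by group
  let L : Subring (AddMonoid.End (Additive ↥P)) := Subring.closure (Set.range cu)
  letI : CommRing L := Subring.closureCommRingOfComm (fun x hx y hy => by
    obtain ⟨a, rfl⟩ := hx
    obtain ⟨b, rfl⟩ := hy
    exact cu_comm a b)
  have hinj : ∀ f : L, f ≠ 0 → ∀ x : Additive ↥P,
      (f : AddMonoid.End (Additive ↥P)) x = 0 → x = 0 := by
    intro f hf x hx
    let K : Subgroup ↥P := (AddMonoidHom.ker (f : AddMonoid.End (Additive ↥P))).toSubgroup'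
    by_contra hx0
    have hK : K.map P.subtype = P := by
      refine hi _ (Subgroup.map_subtype_le _) ?_ fun hb => hx0 ?_
      · intro u hu
        refine Subgroup.mem_normalizer_iff_map_conj_eq.2
          (Subgroup.eq_of_le_of_card_ge ?_
            (Subgroup.card_map_of_injective (MulAut.conj u).injective).ge)
        rintro _ ⟨_, ⟨y, hy, rfl⟩, rfl⟩
        refine ⟨(cu ⟨u, hu⟩ (Additive.ofMul y)).toMul, ?_, rfl⟩
        show (f : AddMonoid.End (Additive ↥P)) (cu ⟨u, hu⟩ (Additive.ofMul y)) = 0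
        have hc : (f : AddMonoid.End (Additive ↥P)) * cu ⟨u, hu⟩ =
            cu ⟨u, hu⟩ * (f : AddMonoid.End (Additive ↥P)) :=
          congrArg Subtype.val (mul_comm f (⟨cu ⟨u, hu⟩, Subring.subset_closure ⟨_, rfl⟩⟩ : L))
        have hy' : (f : AddMonoid.End (Additive ↥P)) (Additive.ofMul y) = 0 := hy
        calc (f : AddMonoid.End (Additive ↥P)) (cu ⟨u, hu⟩ (Additive.ofMul y))
            = cu ⟨u, hu⟩ ((f : AddMonoid.End (Additive ↥P)) (Additive.ofMul y)) :=
              DFunLike.congr_fun hc (Additive.ofMul y)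
          _ = 0 := by rw [hy', map_zero]
      · rw [Subgroup.map_eq_bot_iff_of_injective _ P.subtype_injective] at hb
        have : x.toMul ∈ K := hx
        rw [hb, Subgroup.mem_bot] at this
        exact Additive.toMul.injective this
    refine hf (Subtype.ext (AddMonoidHom.ext fun y => ?_))
    obtain ⟨z, hz, hzy⟩ := hK.symm.le (y.toMul).2
    have : z = y.toMul := Subtype.ext hzy
    subst this
    exact hz
  let x0 : Additive ↥P := Additive.ofMul ⟨x₀, hx₀⟩
  have hx0 : x0 ≠ 0 := fun he => hx₀1 (congrArg Subtype.val (Additive.ofMul.injective he))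
  haveI : Finite (AddMonoid.End (Additive ↥P)) :=
    Finite.of_injective (fun f => (f : Additive ↥P → Additive ↥P)) DFunLike.coe_injective
  haveI : Nontrivial L :=
    ⟨⟨1, 0, fun e => hx0 (DFunLike.congr_fun (congrArg Subtype.val e) x0)⟩⟩
  haveI : NoZeroDivisors L := ⟨fun {a b} hab => by
    by_contra hc
    push Not at hc
    exact hx0 (hinj b hc.2 x0 (hinj a hc.1 _
      (DFunLike.congr_fun (congrArg Subtype.val hab) x0)))⟩
  haveI : IsDomain L := NoZeroDivisors.to_isDomain L
  letI : Field L := (Finite.isField_of_domain L).toField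
  let ev : L →+ Additive ↥P :=
    { toFun := fun f => (f : AddMonoid.End (Additive ↥P)) x0
      map_zero' := rfl
      map_add' := fun _ _ => rfl }
  have hev : Function.Bijective ev := by
    constructor
    · intro f g hfg
      by_contra hne
      refine hx0 (hinj (f - g) (sub_ne_zero.2 hne) x0 ?_)
      show (f : AddMonoid.End (Additive ↥P)) x0 - (g : AddMonoid.End (Additive ↥P)) x0 = 0
      exact sub_eq_zero.2 hfg
    · have hR : (ev.range.toSubgroup').map P.subtype = P := by
        refine hi _ (Subgroup.map_subtype_le _) ?_ fun hb => hx0 ?_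
        · intro u hu
          refine Subgroup.mem_normalizer_iff_map_conj_eq.2
            (Subgroup.eq_of_le_of_card_ge ?_
              (Subgroup.card_map_of_injective (MulAut.conj u).injective).ge)
          rintro _ ⟨_, ⟨y, ⟨g, hg⟩, rfl⟩, rfl⟩
          refine ⟨(cu ⟨u, hu⟩ (Additive.ofMul y)).toMul,
            ⟨(⟨cu ⟨u, hu⟩, Subring.subset_closure ⟨_, rfl⟩⟩ : L) * g, ?_⟩, rfl⟩
          show cu ⟨u, hu⟩ ((g : AddMonoid.End (Additive ↥P)) x0) = _
          exact congrArg (cu ⟨u, hu⟩) hg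
        · rw [Subgroup.map_eq_bot_iff_of_injective _ P.subtype_injective] at hb
          have : x0.toMul ∈ ev.range.toSubgroup' := ⟨1, rfl⟩
          rw [hb, Subgroup.mem_bot] at this
          exact Additive.toMul.injective this
      intro y
      obtain ⟨z, hz, hzy⟩ := hR.symm.le (y.toMul).2
      have : z = y.toMul := Subtype.ext hzy
      subst this
      exact hz
  let e₁ : Additive ↥P ≃+ L := (AddEquiv.ofBijective ev hev).symm
  have hcardL : Nat.card L = p ^ q := by
    rw [Nat.card_eq_of_bijective _ hev]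
    exact (Nat.card_congr Additive.toMul).trans h.card_P
  letI : Fintype (GaloisField p q) := Fintype.ofFinite _
  letI : Fintype L := Fintype.ofFinite L
  have hcardF : Fintype.card (GaloisField p q) = p ^ q := by
    rw [← Nat.card_eq_fintype_card, GaloisField.card p q h.prime_q.ne_zero]
  let r : L ≃+* GaloisField p q :=
    FiniteField.ringEquivOfCardEq (K := L) (K' := GaloisField p q)
      (by rw [hcardF, ← Nat.card_eq_fintype_card, hcardL])
  let f : G → GaloisField p q := fun x =>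
    if hx : x ∈ P then r (e₁ (Additive.ofMul ⟨x, hx⟩)) else 0
  let ψ : G → GaloisField p q := fun u =>
    if hu : u ∈ U then r ⟨cu ⟨u, hu⟩, Subring.subset_closure ⟨_, rfl⟩⟩ else 0
  have hfe : ∀ x (hx : x ∈ P), f x = r (e₁ (Additive.ofMul ⟨x, hx⟩)) := fun x hx => dif_pos hx
  have hψe : ∀ u (hu : u ∈ U), ψ u = r ⟨cu ⟨u, hu⟩, Subring.subset_closure ⟨_, rfl⟩⟩ :=
    fun u hu => dif_pos hu
  have hact : ∀ u ∈ U, ∀ x ∈ P, f (u * x * u⁻¹) = ψ u * f x := by
    intro u hu x hx
    rw [hfe _ (ModuleHyp.conj_mem (h.U_norm hu) hx), hfe x hx, hψe u hu, ← map_mul]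
    congr 1
    apply e₁.symm.injective
    rw [e₁.symm_apply_apply]
    exact (congrArg (cu ⟨u, hu⟩) (e₁.symm_apply_apply (Additive.ofMul ⟨x, hx⟩))).symm
  refine ⟨GaloisField p q, inferInstance, inferInstance, inferInstance, f, ψ, hcardF,
    ⟨fun _ _ => trivial, ?_, ?_⟩, ?_, fun u hu => ⟨?_, hact u hu⟩, ?_, ?_, ?_⟩
  · intro x hx y hy hxy
    rw [hfe x hx, hfe y hy] at hxy
    exact congrArg Subtype.val (Additive.ofMul.injective (e₁.injective (r.injective hxy)))
  · intro y _
    refine ⟨((e₁.symm (r.symm y)).toMul : G), SetLike.coe_mem _, ?_⟩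
    rw [hfe _ (SetLike.coe_mem _), Subtype.coe_eta, ofMul_toMul, e₁.apply_symm_apply,
      r.apply_symm_apply]
  · intro x hx x' hx'
    rw [hfe _ (P.mul_mem hx hx'), hfe x hx, hfe x' hx', ← map_add, ← map_add]
    rfl
  · rw [hψe u hu, map_ne_zero_iff _ r.injective]
    intro he
    have := DFunLike.congr_fun (congrArg Subtype.val he) x0
    have h2 : (u * x₀ * u⁻¹ : G) = 1 := congrArg (fun z => ((z : Additive ↥P).toMul : G)) this
    exact hx₀1 (conj_eq_one_iff.1 h2)
  · intro u hu u' hu'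
    rw [hψe _ (U.mul_mem hu hu'), hψe u hu, hψe u' hu', ← map_mul]
    congr 1
    refine Subtype.ext (AddMonoidHom.ext fun x => Additive.toMul.injective (Subtype.ext ?_))
    show (u * u') * (x.toMul : G) * (u * u')⁻¹ = u * (u' * (x.toMul : G) * u'⁻¹) * u⁻¹
    group
  · intro u hu u' hu' he
    rw [hψe u hu, hψe u' hu'] at he
    have hc := congrArg Subtype.val (r.injective he)
    have : u'⁻¹ * u = 1 := by
      refine h.eq_one_of_centralizes (U.mul_mem (U.inv_mem hu') hu) fun x hx => ?_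
      have := congrArg (fun z => ((z : Additive ↥P).toMul : G))
        (DFunLike.congr_fun hc (Additive.ofMul ⟨x, hx⟩))
      have h3 : u * x * u⁻¹ = u' * x * u'⁻¹ := this
      calc u'⁻¹ * u * x * (u'⁻¹ * u)⁻¹ = u'⁻¹ * (u * x * u⁻¹) * u' := by group
        _ = x := by rw [h3]; group
    exact (inv_mul_eq_one.1 this).symm
  · rw [hfe x₀ hx₀]
    have : e₁ x0 = 1 := by
      apply e₁.symm.injective
      rw [e₁.symm_apply_apply]
      rfl
    show r (e₁ x0) = 1
    rw [this, map_one]

/-- The irreducible case of the dichotomy. -/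
theorem ModuleHyp.cyclic_of_irred (h : ModuleHyp P U W p q) (hi : UIrred P U) :
    IsCyclic U ∧ Nat.card U ∣ (p ^ q - 1) / (p - 1) := by
  classical
  haveI := Fact.mk h.prime_p
  obtain ⟨x₀, hx₀, hx₀1⟩ : ∃ x₀ ∈ P, x₀ ≠ 1 := by
    by_contra hc
    push Not at hc
    have hq := h.card_P
    rw [(Subgroup.eq_bot_iff_forall P).2 hc, Subgroup.card_bot] at hq
    exact (one_lt_pow₀ h.prime_p.one_lt h.prime_q.ne_zero).ne hq
  obtain ⟨F, _, _, _, f, ψ, hF, hf, hfadd, hψ, hψmul, hψinj, -⟩ := h.exists_field hi hx₀ hx₀1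
  have hψ1 : ψ 1 = 1 := by
    have := hψmul 1 U.one_mem 1 U.one_mem
    rw [one_mul] at this
    exact (mul_eq_left₀ (hψ 1 U.one_mem).1).1 this.symm
  let Ψ : U →* F :=
    { toFun := fun u => ψ u
      map_one' := hψ1
      map_mul' := fun a b => hψmul a a.2 b b.2 }
  have hΨ : Function.Injective Ψ := fun a b hab => Subtype.ext (hψinj a.2 b.2 hab)
  have hcyc : IsCyclic U := isCyclic_of_injective_ringHom Ψ hΨ
  refine ⟨hcyc, ?_⟩
  have hΨ' : Function.Injective Ψ.toHomUnits := fun a b hab => hΨ (congrArg Units.val hab)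
  have hdvd : Nat.card U ∣ p ^ q - 1 := by
    have := Subgroup.card_dvd_of_injective Ψ.toHomUnits hΨ'
    rwa [Nat.card_units, Nat.card_eq_fintype_card (α := F), hF] at this
  have hcop : (Nat.card U).Coprime (p - 1) := by
    refine Nat.coprime_of_dvd fun r hr hrU hrp => ?_
    haveI := Fact.mk hr
    obtain ⟨v, hv⟩ := exists_prime_orderOf_dvd_card' r hrU
    have h1 : (ψ v : F) ^ (p - 1) = 1 := by
      rw [← hψ1]
      show Ψ v ^ (p - 1) = Ψ 1
      rw [← map_pow, orderOf_dvd_iff_pow_eq_one.1 (hv ▸ hrp)]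
    have h2 : (ψ v : F) ^ p = ψ v := by
      conv_lhs => rw [← Nat.succ_pred_eq_of_pos h.prime_p.pos, pow_succ]
      rw [show p.pred = p - 1 from rfl, h1, one_mul]
    obtain ⟨c, hc⟩ := pow_char_eq_self_iff.1 h2
    have hpow : ∀ n : ℕ, ∀ x ∈ P, f (x ^ n) = n * f x := by
      intro n x hx
      induction n with
      | zero =>
        have := hfadd 1 P.one_mem 1 P.one_mem
        rw [one_mul, left_eq_add] at this
        simp [this]
      | succ n ih => rw [pow_succ, hfadd _ (P.pow_mem hx n) x hx, ih]; push_cast; ring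
    have : (v : G) = 1 := by
      refine h.eq_one_of_scalar v.2 c fun x hx => ?_
      refine hf.injOn (ModuleHyp.conj_mem (h.U_norm v.2) hx) (P.pow_mem hx c) ?_
      rw [(hψ v v.2).2 x hx, hpow c x hx, hc]
    rw [show v = 1 from Subtype.ext this, orderOf_one] at hv
    exact hr.one_lt.ne hv
  have hdiv : p - 1 ∣ p ^ q - 1 := Nat.sub_one_dvd_pow_sub_one p q
  rw [← Nat.mul_div_cancel' hdiv] at hdvd
  exact hcop.dvd_of_dvd_mul_left hdvd

/-! ### The reducible case -/

/-- A minimal `U`-invariant subgroup is a line when `U` is reducible. -/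
theorem ModuleHyp.exists_line (h : ModuleHyp P U W p q) (hi : ¬ UIrred P U) :
    ∃ m ∈ P, m ≠ 1 ∧ ∀ v ∈ U, v * m * v⁻¹ ∈ Subgroup.zpowers m := by
  classical
  haveI := Fact.mk h.prime_p
  obtain ⟨N₀, hN₀P, hN₀U, hN₀1, hN₀ne⟩ :
      ∃ N : Subgroup G, N ≤ P ∧ U ≤ Subgroup.normalizer (N : Set G) ∧ N ≠ ⊥ ∧ N ≠ P := by
    unfold UIrred at hi
    push Not at hi
    exact hi
  obtain ⟨M, hMle, hM⟩ := exists_minimal_le_of_wellFoundedLT
    (fun N : Subgroup G => N ≤ P ∧ U ≤ Subgroup.normalizer (N : Set G) ∧ N ≠ ⊥) N₀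
    ⟨hN₀P, hN₀U, hN₀1⟩
  obtain ⟨hMP, hMU, hM1⟩ := hM.prop
  let T : W → Subgroup G := fun w => M.map (MulAut.conj (w : G)).toMonoidHom
  have hTP : ∀ w, T w ≤ P := by
    rintro w _ ⟨x, hx, rfl⟩
    exact ModuleHyp.conj_mem (h.W_norm w.2) (hMP hx)
  have hTU : ∀ w, U ≤ Subgroup.normalizer (T w : Set G) := by
    intro w u hu
    have hu' : (w : G)⁻¹ * u * w ∈ U := by
      simpa using (Subgroup.mem_normalizer_iff.1 (h.W_normU (W.inv_mem w.2)) u).1 hu
    refine Subgroup.mem_normalizer_iff_map_conj_eq.2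
      (Subgroup.eq_of_le_of_card_ge ?_ (Subgroup.card_map_of_injective (MulAut.conj u).injective).ge)
    rintro _ ⟨_, ⟨x, hx, rfl⟩, rfl⟩
    refine ⟨_, (Subgroup.mem_normalizer_iff.1 (hMU hu') x).1 hx, ?_⟩
    simp [mul_assoc]
  have hTcard : ∀ w, Nat.card (T w) = Nat.card M := fun w =>
    Subgroup.card_map_of_injective (MulAut.conj (w : G)).injective
  have hTmin : ∀ w (N : Subgroup G), N ≤ T w → U ≤ Subgroup.normalizer (N : Set G) → N ≠ ⊥ →
      N = T w := by
    intro w N hN hNU hN1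
    let N' : Subgroup G := N.map (MulAut.conj (w : G)⁻¹).toMonoidHom
    have hN'M : N' ≤ M := by
      rintro _ ⟨y, hy, rfl⟩
      obtain ⟨x, hx, rfl⟩ := hN hy
      simpa [mul_assoc] using hx
    have hN'U : U ≤ Subgroup.normalizer (N' : Set G) := by
      intro u hu
      have hu' : (w : G) * u * (w : G)⁻¹ ∈ U :=
        (Subgroup.mem_normalizer_iff.1 (h.W_normU w.2) u).1 hu
      refine Subgroup.mem_normalizer_iff_map_conj_eq.2
        (Subgroup.eq_of_le_of_card_ge ?_ (Subgroup.card_map_of_injective (MulAut.conj u).injective).ge)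
      rintro _ ⟨_, ⟨x, hx, rfl⟩, rfl⟩
      refine ⟨_, (Subgroup.mem_normalizer_iff.1 (hNU hu') x).1 hx, ?_⟩
      simp [mul_assoc]
    have hN'1 : N' ≠ ⊥ := fun hb => hN1
      ((Subgroup.map_eq_bot_iff_of_injective _ (MulAut.conj (w : G)⁻¹).injective).1 hb)
    have := hM.eq_of_le ⟨hN'M.trans hMP, hN'U, hN'1⟩ hN'M
    refine Subgroup.eq_of_le_of_card_ge hN ?_
    rw [hTcard w, ← this]
    exact (Subgroup.card_map_of_injective (MulAut.conj (w : G)⁻¹).injective).le
  -- the order of a sum of translates is a power of the order of `M`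
  have hsum : ∀ s : Finset W, s.sup T ≤ P ∧ U ≤ Subgroup.normalizer ((s.sup T : Subgroup G) : Set G) ∧
      ∃ n : ℕ, Nat.card (s.sup T : Subgroup G) = Nat.card M ^ n := by
    intro s
    induction s using Finset.induction_on with
    | empty =>
      refine ⟨bot_le, ?_, 0, by simp⟩
      intro u _
      rw [Finset.sup_empty]
      exact Subgroup.normalizer_eq_top (H := (⊥ : Subgroup G)) ▸ Subgroup.mem_top u
    | @insert w s _ ih =>
      obtain ⟨hsP, hsU, n, hn⟩ := ih
      rw [Finset.sup_insert]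
      refine ⟨sup_le (hTP w) hsP,
        fun u hu => ?_, ?_⟩
      · refine Subgroup.mem_normalizer_iff_map_conj_eq.2 ?_
        rw [Subgroup.map_sup, Subgroup.mem_normalizer_iff_map_conj_eq.1 (hTU w hu),
          Subgroup.mem_normalizer_iff_map_conj_eq.1 (hsU hu)]
      by_cases hb : T w ⊓ s.sup T = ⊥
      · refine ⟨n + 1, ?_⟩
        have hnorm : T w ≤ Subgroup.normalizer ((s.sup T : Subgroup G) : Set G) := fun x hx =>
          Subgroup.mem_normalizer_iff_map_conj_eq.2 (Subgroup.eq_of_le_of_card_ge (by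
            rintro _ ⟨y, hy, rfl⟩
            show x * y * x⁻¹ ∈ _
            rwa [h.commP (hTP w hx) (hsP hy), mul_inv_cancel_right])
            (Subgroup.card_map_of_injective (MulAut.conj x).injective).ge)
        rw [pow_succ', ← hn, ← hTcard w]
        rw [← Nat.card_prod]
        refine (Nat.card_eq_of_bijective
          (fun z : ↥(T w) × ↥(s.sup T : Subgroup G) => (⟨z.1 * z.2,
            Subgroup.mul_mem_sup z.1.2 z.2.2⟩ : ↥(T w ⊔ s.sup T))) ⟨?_, ?_⟩).symm
        · rintro ⟨a, b⟩ ⟨a', b'⟩ heq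
          have := Subgroup.mul_injective_of_disjoint (disjoint_iff.2 hb) (congrArg Subtype.val heq)
          exact this
        · rintro ⟨z, hz⟩
          have hz' : z ∈ (T w : Set G) * ((s.sup T : Subgroup G) : Set G) := by
            rw [← Subgroup.coe_mul_of_left_le_normalizer_right _ _ hnorm]
            exact hz
          obtain ⟨a, ha, b, hb', rfl⟩ := Set.mem_mul.1 hz'
          exact ⟨(⟨a, ha⟩, ⟨b, hb'⟩), rfl⟩
      · refine ⟨n, ?_⟩
        have := hTmin w _ inf_le_left
          ((le_inf (hTU w) hsU).trans Subgroup.inf_normalizer_le_normalizer_inf) hb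
        rw [sup_eq_right.2 (inf_eq_left.1 this), hn]
  haveI : Fintype W := Fintype.ofFinite W
  obtain ⟨hSP, hSU, n, hn⟩ := hsum Finset.univ
  have hMS : M ≤ (Finset.univ : Finset W).sup T := by
    refine le_trans ?_ (Finset.le_sup (Finset.mem_univ (1 : W)))
    exact fun x hx => ⟨x, hx, by simp⟩
  have hS : (Finset.univ : Finset W).sup T = P := by
    refine h.irr _ hSP (sup_le hSU ?_) fun hb => hM1 (le_bot_iff.1 (hMS.trans hb.le))
    intro w hw
    refine Subgroup.mem_normalizer_iff_map_conj_eq.2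
      (Subgroup.eq_of_le_of_card_ge ?_ (Subgroup.card_map_of_injective (MulAut.conj w).injective).ge)
    rw [Finset.sup_eq_iSup, Subgroup.map_iSup]
    refine iSup_le fun w' => ?_
    rw [Subgroup.map_iSup]
    refine iSup_le fun _ => le_trans ?_
      (le_iSup₂ (f := fun (i : W) (_ : i ∈ (Finset.univ : Finset W)) => T i)
        (⟨w, hw⟩ * w') (Finset.mem_univ _))
    rintro _ ⟨_, ⟨x, hx, rfl⟩, rfl⟩
    exact ⟨x, hx, by simp [mul_assoc]⟩
  rw [hS, h.card_P] at hn
  obtain ⟨d, hdq, hd⟩ := (Nat.dvd_prime_pow h.prime_p).1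
    (h.card_P ▸ Subgroup.card_dvd_of_le hMP)
  rw [hd, ← pow_mul] at hn
  have hdn := Nat.pow_right_injective h.prime_p.two_le hn
  have hdlt : d ≠ q := by
    rintro rfl
    have : M = P := Subgroup.eq_of_le_of_card_ge hMP (by rw [h.card_P, hd])
    exact hN₀ne (le_antisymm hN₀P (this ▸ hMle))
  have hd1 : d = 1 := (h.prime_q.eq_one_or_self_of_dvd d ⟨n, hdn⟩).resolve_right hdlt
  rw [hd1, pow_one] at hd
  obtain ⟨m, hm, hm1⟩ := (Subgroup.ne_bot_iff_exists_ne_one.1 hM1) |> fun ⟨x, hx⟩ =>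
    (⟨(x : G), x.2, fun he => hx (Subtype.ext he)⟩ : ∃ m ∈ M, m ≠ 1)
  have hMz : Subgroup.zpowers m = M := Subgroup.eq_of_le_of_card_ge
    (Subgroup.zpowers_le.2 hm) (by rw [Nat.card_zpowers, h.orderOf_eq (hMP hm) hm1, hd])
  exact ⟨m, hMP hm, hm1, fun v hv => hMz.symm ▸ (Subgroup.mem_normalizer_iff.1 (hMU hv) m).1 hm⟩

/-- In the reducible case `P` is a sum of `q` lines permuted regularly by `W`. -/
theorem ModuleHyp.exists_lines (h : ModuleHyp P U W p q) [Fact p.Prime] (hi : ¬ UIrred P U) :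
    ∃ (e : W → ↥P) (Φ : (W → ZMod p) ≃+ Additive ↥P) (c : U →* (W → (ZMod p)ˣ)),
      (∀ w w' : W, (e (w' * w) : G) = w' * (e w : G) * (w' : G)⁻¹) ∧
      (∀ w, Φ (Pi.single w 1) = Additive.ofMul (e w)) ∧
      (∀ (v : U) (w : W), (v : G) * (e w : G) * (v : G)⁻¹ = (e w : G) ^ ((c v w : ZMod p)).val) ∧
      Subgroup.closure (Set.range e) = ⊤ ∧ ∀ w, e w ≠ 1 := by
  classical
  haveI : Fintype W := Fintype.ofFinite W
  haveI : NeZero p := ⟨h.p_ne_zero⟩
  letI : CommGroup ↥P :=
    { (inferInstance : Group ↥P) with mul_comm := fun a b => Subtype.ext (h.commP a.2 b.2) }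
  obtain ⟨m, hm, hm1, hmU⟩ := h.exists_line hi
  let e : W → ↥P := fun w => ⟨w * m * (w : G)⁻¹, ModuleHyp.conj_mem (h.W_norm w.2) hm⟩
  have hew : ∀ w w' : W, (e (w' * w) : G) = w' * (e w : G) * (w' : G)⁻¹ := by
    intro w w'
    simp [e, mul_assoc]
  have he1 : ∀ w, e w ≠ 1 := fun w he => hm1 (conj_eq_one_iff.1 (congrArg Subtype.val he))
  have hord : ∀ w, orderOf (e w : G) = p := fun w =>
    h.orderOf_eq (e w).2 fun he => he1 w (Subtype.ext he)
  have hline : ∀ (v : U) (w : W), ∃ a : ZMod p,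
      (v : G) * (e w : G) * (v : G)⁻¹ = (e w : G) ^ a.val := by
    intro v w
    have hv' : (w : G)⁻¹ * v * w ∈ U := by
      simpa using (Subgroup.mem_normalizer_iff.1 (h.W_normU (W.inv_mem w.2)) v).1 v.2
    obtain ⟨k, hk⟩ := mem_powers_iff_mem_zpowers.2 (hmU _ hv')
    refine ⟨(k : ZMod p), ?_⟩
    have h2 : (e w : G) ^ ((k : ZMod p)).val = (e w : G) ^ k := by
      rw [ZMod.val_natCast]
      conv_rhs => rw [← pow_mod_orderOf, hord w]
    rw [h2]
    show _ = ((w : G) * m * (w : G)⁻¹) ^ k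
    rw [conj_pow, show m ^ k = _ from hk]
    show (v : G) * ((w : G) * m * (w : G)⁻¹) * (v : G)⁻¹ = _
    group
  choose a ha using hline
  have huniq : ∀ (w : W) (x y : ZMod p), (e w : G) ^ x.val = (e w : G) ^ y.val → x = y := by
    intro w x y hxy
    rw [pow_eq_pow_iff_modEq, hord w] at hxy
    rw [← ZMod.natCast_zmod_val x, ← ZMod.natCast_zmod_val y]
    exact (ZMod.natCast_eq_natCast_iff _ _ _).2 hxy
  have hmul : ∀ (v v' : U) (w : W), a (v * v') w = a v w * a v' w := by
    intro v v' w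
    refine huniq w _ _ ?_
    rw [← ha]
    calc ((v * v' : U) : G) * (e w : G) * ((v * v' : U) : G)⁻¹
        = (v : G) * ((v' : G) * (e w : G) * (v' : G)⁻¹) * (v : G)⁻¹ := by
          simp [mul_assoc]
      _ = ((v : G) * (e w : G) * (v : G)⁻¹) ^ (a v' w).val := by
          rw [ha v' w]
          exact (conj_pow (a := (v : G))).symm
      _ = (e w : G) ^ (a v w * a v' w).val := by
          rw [ha v w, ← pow_mul, ZMod.val_mul]
          conv_lhs => rw [← pow_mod_orderOf, hord w]
  have hone : ∀ w, a 1 w = 1 := by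
    intro w
    refine huniq w _ _ ?_
    rw [← ha]
    haveI : Fact (1 < p) := ⟨h.prime_p.one_lt⟩
    simp [ZMod.val_one]
  let c₀ : U →* (W → ZMod p) :=
    { toFun := fun v => a v
      map_one' := funext hone
      map_mul' := fun v v' => funext (hmul v v') }
  let c : U →* (W → (ZMod p)ˣ) :=
    Pi.monoidHom fun w => ((Pi.evalMonoidHom (fun _ : W => ZMod p) w).comp c₀).toHomUnits
  have hclosure : Subgroup.closure (Set.range e) = ⊤ := by
    let N : Subgroup G := (Subgroup.closure (Set.range e)).map P.subtype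
    have hgen : N = Subgroup.closure (P.subtype '' Set.range e) := MonoidHom.map_closure _ _
    have hN : N = P := by
      refine h.irr N (Subgroup.map_subtype_le _) (sup_le ?_ ?_) fun hb => he1 1 ?_
      · intro u hu
        refine Subgroup.mem_normalizer_iff_map_conj_eq.2
          (Subgroup.eq_of_le_of_card_ge ?_
            (Subgroup.card_map_of_injective (MulAut.conj u).injective).ge)
        rw [hgen, MonoidHom.map_closure, Subgroup.closure_le]
        rintro _ ⟨_, ⟨_, ⟨w, rfl⟩, rfl⟩, rfl⟩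
        show u * (e w : G) * u⁻¹ ∈ _
        rw [ha ⟨u, hu⟩ w]
        exact Subgroup.pow_mem _
          (Subgroup.subset_closure (Set.mem_image_of_mem P.subtype (Set.mem_range_self w))) _
      · intro u hu
        refine Subgroup.mem_normalizer_iff_map_conj_eq.2
          (Subgroup.eq_of_le_of_card_ge ?_
            (Subgroup.card_map_of_injective (MulAut.conj u).injective).ge)
        rw [hgen, MonoidHom.map_closure, Subgroup.closure_le]
        rintro _ ⟨_, ⟨_, ⟨w, rfl⟩, rfl⟩, rfl⟩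
        show u * (e w : G) * u⁻¹ ∈ _
        rw [← hew w ⟨u, hu⟩]
        exact Subgroup.subset_closure ⟨_, ⟨_, rfl⟩, rfl⟩
      · rw [Subgroup.map_eq_bot_iff_of_injective _ P.subtype_injective] at hb
        have := Subgroup.subset_closure (k := Set.range e) ⟨1, rfl⟩
        rw [hb] at this
        exact Subgroup.mem_bot.1 this
    exact eq_top_iff.2 fun x _ => by
      obtain ⟨y, hy, hyx⟩ := hN.symm.le x.2
      rwa [← Subtype.ext hyx]
  let Φ₀ : (W → ZMod p) →+ Additive ↥P := ∑ w : W,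
    (ZMod.lift p ⟨zmultiplesHom _ (Additive.ofMul (e w)), by
      rw [zmultiplesHom_apply, natCast_zsmul, ← ofMul_pow]
      exact congrArg Additive.ofMul (Subtype.ext (h.elem.2 _ (e w).2))⟩).comp
        (Pi.evalAddMonoidHom (fun _ : W => ZMod p) w)
  have hΦ₀ : ∀ w, Φ₀ (Pi.single w 1) = Additive.ofMul (e w) := by
    intro w
    rw [AddMonoidHom.finsetSum_apply, Finset.sum_eq_single w]
    · rw [AddMonoidHom.comp_apply, Pi.evalAddMonoidHom_apply, Pi.single_eq_same, ← Int.cast_one,
        ZMod.lift_coe]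
      simp
    · intro w' _ hw'
      rw [AddMonoidHom.comp_apply, Pi.evalAddMonoidHom_apply, Pi.single_eq_of_ne hw', map_zero]
    · intro hc
      exact absurd (Finset.mem_univ w) hc
  have hsurj : Function.Surjective Φ₀ := by
    have htop : (Φ₀.range).toSubgroup' = ⊤ := by
      rw [eq_top_iff, ← hclosure, Subgroup.closure_le]
      rintro _ ⟨w, rfl⟩
      exact ⟨Pi.single w 1, hΦ₀ w⟩
    intro y
    exact htop.ge (Subgroup.mem_top y.toMul)
  have hbij : Function.Bijective Φ₀ := by
    refine hsurj.bijective_of_nat_card_le (le_of_eq ?_)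
    rw [Nat.card_fun, Nat.card_zmod, h.card_W]
    exact ((Nat.card_congr Additive.toMul).trans h.card_P).symm
  exact ⟨e, AddEquiv.ofBijective Φ₀ hbij, c, hew, hΦ₀, fun v w => ha v w, hclosure, he1⟩

end CfsgLib.OddEnd
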