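import Cfsg.Agent.OddEnd.TenArith
import Cfsg.Agent.Char.CyclicUnique
import Cfsg.Agent.Char.Coherence

/-!
# Coefficient arrays of generalized characters along the family of a cyclic TI-subgroup
-/

set_option autoImplicit false

namespace CfsgLib.OddEnd

open CfsgLib.Char
open scoped ComplexConjugate

universe u

variable {G : Type u} [Group G] {W₁ W₂ : Subgroup G}

/-- The linear characters of `W` trivial on `W₂`: the rows of the grid. -/
abbrev Row (W₁ W₂ : Subgroup G) := {φ : ↥(W₁ ⊔ W₂) →* ℂˣ // TrivR φ}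

/-- The linear characters of `W` trivial on `W₁`: the columns of the grid. -/
abbrev Col (W₁ W₂ : Subgroup G) := {ψ : ↥(W₁ ⊔ W₂) →* ℂˣ // TrivL ψ}

def row₀ : Row W₁ W₂ := ⟨1, trivR_one⟩

def col₀ : Col W₁ W₂ := ⟨1, trivL_one⟩

/-- The grid index. -/
def cell (r : Row W₁ W₂) (l : Col W₁ W₂) : ↥(W₁ ⊔ W₂) →* ℂˣ := r.1 * l.1

theorem cell_injective {r r' : Row W₁ W₂} {l l' : Col W₁ W₂} (h : cell r l = cell r' l') :
    r = r' ∧ l = l' := by
  obtain ⟨h1, h2⟩ := hom_pair_ext r.2 l.2 r'.2 l'.2 h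
  exact ⟨Subtype.ext h1, Subtype.ext h2⟩

theorem cell_row₀ (l : Col W₁ W₂) : cell row₀ l = l.1 := hom_one_mul' _

theorem cell_col₀ (r : Row W₁ W₂) : cell r col₀ = r.1 := hom_mul_one' _

theorem exists_cell [Finite G] (hW : Cfsg.IsSelfNormalizingCyclic W₁ W₂) (ω : ↥(W₁ ⊔ W₂) →* ℂˣ) :
    ∃ r l, cell r l = ω := by
  obtain ⟨-, -, hdisj, hcomm, -, -⟩ := hW
  obtain ⟨p₁, p₂, hp⟩ := exists_split hdisj hcomm
  exact ⟨⟨_, hp.comp₁_trivial ω⟩, ⟨_, hp.comp₂_trivial ω⟩, hp.hom_mul ω⟩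

theorem hW_swap (hW : Cfsg.IsSelfNormalizingCyclic W₁ W₂) : Cfsg.IsSelfNormalizingCyclic W₂ W₁ := by
  obtain ⟨h1, h2, hdisj, hcomm, hcyc, hN⟩ := hW
  refine ⟨h2, h1, by rwa [inf_comm], fun a ha b hb => (hcomm b hb a ha).symm, by rwa [sup_comm],
    fun X hX hne => ?_⟩
  rw [sup_comm] at hX ⊢
  exact hN X (by rwa [Set.union_comm] at hX) hne

/-- The map `W₁ W₂ → W₂ W₁`. -/
noncomputable def swapHom (W₁ W₂ : Subgroup G) : ↥(W₁ ⊔ W₂) →* ↥(W₂ ⊔ W₁) :=
  Subgroup.inclusion (sup_comm W₁ W₂).le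

theorem swapHom_coe (w : ↥(W₁ ⊔ W₂)) : (swapHom W₁ W₂ w : G) = w := rfl

variable [Fintype G] {χ : (↥(W₁ ⊔ W₂) →* ℂˣ) → G → ℂ}

/-- The same family, read with the factors exchanged. -/
theorem family_swap (hχ : Cfsg.IsCyclicTIFamily W₁ W₂ χ) :
    Cfsg.IsCyclicTIFamily W₂ W₁ (fun ω => χ (ω.comp (swapHom W₁ W₂))) := by
  classical
  have hinj : ∀ ω η : ↥(W₂ ⊔ W₁) →* ℂˣ, ω.comp (swapHom W₁ W₂) = η.comp (swapHom W₁ W₂) → ω = η :=
    fun ω η e => MonoidHom.ext fun w => by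
      have := DFunLike.congr_fun e (swapHom W₂ W₁ w)
      rwa [MonoidHom.comp_apply, MonoidHom.comp_apply,
        show swapHom W₁ W₂ (swapHom W₂ W₁ w) = w from rfl] at this
  refine ⟨fun ω => hχ.irr_or_neg _, fun ω η => ?_, ?_, fun ω w h1 h2 => ?_, fun φ ψ hφ hψ hφ2 hψ1 => ?_⟩
  · rw [hχ.orthonormal]
    by_cases e : ω = η
    · subst e; simp
    · rw [if_neg e, if_neg fun e' => e (hinj _ _ e')]
  · exact hχ.map_one
  · exact hχ.eq_on (ω.comp (swapHom W₁ W₂)) (swapHom W₂ W₁ w) h2 h1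
  · have key : ∀ φ : ↥(W₂ ⊔ W₁) →* ℂˣ, φ ≠ 1 → φ.comp (swapHom W₁ W₂) ≠ 1 := fun φ h e =>
      h (hinj φ 1 (by rw [e]; rfl))
    have h := hχ.induced_eq (ψ.comp (swapHom W₁ W₂)) (φ.comp (swapHom W₁ W₂)) (key ψ hψ) (key φ hφ)
      (fun w hw => hψ1 (swapHom W₁ W₂ w) hw) (fun w hw => hφ2 (swapHom W₁ W₂ w) hw)
    have hfun : Cfsg.indFun (W₂ ⊔ W₁) (fun w => 1 - (φ w : ℂ) - (ψ w : ℂ) + (φ w : ℂ) * (ψ w : ℂ)) =
        Cfsg.indFun (W₁ ⊔ W₂) (fun w => 1 - ((ψ.comp (swapHom W₁ W₂)) w : ℂ) -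
          ((φ.comp (swapHom W₁ W₂)) w : ℂ) +
          ((ψ.comp (swapHom W₁ W₂)) w : ℂ) * ((φ.comp (swapHom W₁ W₂)) w : ℂ)) := by
      have hc : Nat.card ↥(W₂ ⊔ W₁) = Nat.card ↥(W₁ ⊔ W₂) := by rw [sup_comm]
      funext g
      rw [indFun_def, indFun_def, hc]
      congr 1
      refine Finset.sum_congr rfl fun x _ => ?_
      by_cases hm : x⁻¹ * g * x ∈ W₁ ⊔ W₂
      · have hm' : x⁻¹ * g * x ∈ W₂ ⊔ W₁ := (sup_comm W₁ W₂).le hm
        rw [extendByZero_of_mem _ hm, extendByZero_of_mem _ hm']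
        simp only [MonoidHom.comp_apply]
        rw [show swapHom W₁ W₂ ⟨x⁻¹ * g * x, hm⟩ = ⟨x⁻¹ * g * x, hm'⟩ from rfl]
        ring
      · rw [extendByZero_of_not_mem _ hm, extendByZero_of_not_mem _ fun e => hm ((sup_comm W₂ W₁).le e)]
    rw [hfun, h]
    funext g
    rw [show (φ * ψ).comp (swapHom W₁ W₂) = ψ.comp (swapHom W₁ W₂) * φ.comp (swapHom W₁ W₂) from
      MonoidHom.ext fun w => mul_comm _ _]
    ring

variable (hχ : Cfsg.IsCyclicTIFamily W₁ W₂ χ)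
include hχ

theorem isGeneralized_family (ω : ↥(W₁ ⊔ W₂) →* ℂˣ) : Cfsg.IsGeneralizedCharacter G (χ ω) :=
  IsSignedIrr.isGeneralized (hχ.irr_or_neg ω)

theorem family_injective {ω η : ↥(W₁ ⊔ W₂) →* ℂˣ} (h : χ ω = χ η) : ω = η := by
  classical
  by_contra hne
  have h1 := hχ.orthonormal ω η
  rw [if_neg hne, h, hχ.orthonormal, if_pos rfl] at h1
  exact one_ne_zero h1

/-- Bessel's inequality on the grid, with room for further orthonormal functions. -/
theorem grid_bessel [Fintype (Row W₁ W₂)] [Fintype (Col W₁ W₂)] {θ : G → ℂ}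
    (x : Row W₁ W₂ → Col W₁ W₂ → ℤ) (hx : ∀ r l, Cfsg.classInner θ (χ (cell r l)) = (x r l : ℂ))
    (E : Finset (G → ℂ)) (hE : ∀ α ∈ E, ∀ β ∈ E, α ≠ β → Cfsg.classInner α β = 0)
    (hE1 : ∀ α ∈ E, Cfsg.classInner α α = 1) (hEχ : ∀ α ∈ E, ∀ ω, Cfsg.classInner α (χ ω) = 0)
    (m : (G → ℂ) → ℤ) (hm : ∀ α ∈ E, Cfsg.classInner θ α = (m α : ℂ)) :
    ((∑ l, ∑ r, x r l * x r l + ∑ α ∈ E, m α * m α : ℤ) : ℝ) ≤ (Cfsg.classInner θ θ).re := by
  classical
  let f : Row W₁ W₂ × Col W₁ W₂ → G → ℂ := fun p => χ (cell p.1 p.2)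
  have hf : Function.Injective f := fun p p' e =>
    Prod.ext (cell_injective (family_injective hχ e)).1 (cell_injective (family_injective hχ e)).2
  set s := Finset.univ.image f
  have hdis : Disjoint s E := Finset.disjoint_left.2 fun α hα hαE => by
    obtain ⟨p, -, rfl⟩ := Finset.mem_image.1 hα
    have h1 := hEχ _ hαE (cell p.1 p.2)
    rw [hE1 _ hαE] at h1
    exact one_ne_zero h1
  have horth : ∀ α ∈ s ∪ E, ∀ β ∈ s ∪ E, Cfsg.classInner α β = if α = β then 1 else 0 := by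
    have hsE : ∀ α ∈ s, ∀ β ∈ E, Cfsg.classInner β α = 0 := fun α hα β hβ => by
      obtain ⟨p, -, rfl⟩ := Finset.mem_image.1 hα
      exact hEχ β hβ _
    intro α hα β hβ
    rcases Finset.mem_union.1 hα with hα | hα <;> rcases Finset.mem_union.1 hβ with hβ | hβ
    · obtain ⟨p, -, rfl⟩ := Finset.mem_image.1 hα
      obtain ⟨p', -, rfl⟩ := Finset.mem_image.1 hβ
      rw [hχ.orthonormal]
      by_cases e : cell p.1 p.2 = cell p'.1 p'.2
      · rw [if_pos e, if_pos (congrArg χ e)]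
      · rw [if_neg e, if_neg fun e' => e (family_injective hχ e')]
    · rw [if_neg fun (e : α = β) => Finset.disjoint_left.1 hdis hα (e ▸ hβ), ← classInner_conj, hsE α hα β hβ, map_zero]
    · rw [if_neg fun (e : α = β) => Finset.disjoint_left.1 hdis hβ (e ▸ hα), hsE β hβ α hα]
    · split_ifs with e
      · exact e ▸ hE1 α hα
      · exact hE α hα β hβ e
  refine le_trans (le_of_eq ?_) (bessel (s ∪ E) horth θ)
  rw [Finset.sum_union hdis, Finset.sum_image fun a _ b _ e => hf e, Fintype.sum_prod_type,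
    Finset.sum_comm (s := (Finset.univ : Finset (Col W₁ W₂))), Int.cast_add, Int.cast_sum, Int.cast_sum]
  congr 1
  · refine Finset.sum_congr rfl fun r _ => ?_
    rw [Int.cast_sum]
    exact Finset.sum_congr rfl fun l _ => (norm_classInner_int (hx r l)).symm
  · exact Finset.sum_congr rfl fun α hα => (norm_classInner_int (hm α hα)).symm

theorem grid_bessel' [Fintype (Row W₁ W₂)] [Fintype (Col W₁ W₂)] {θ : G → ℂ} {N : ℤ}
    (x : Row W₁ W₂ → Col W₁ W₂ → ℤ) (hx : ∀ r l, Cfsg.classInner θ (χ (cell r l)) = (x r l : ℂ))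
    (hN : Cfsg.classInner θ θ = (N : ℂ)) : ∑ l, ∑ r, x r l * x r l ≤ N := by
  have h := grid_bessel hχ x hx ∅ (by simp) (by simp) (by simp) (fun _ => 0) (by simp)
  rw [hN, Finset.sum_empty, add_zero, Complex.intCast_re] at h
  exact_mod_cast h

/-- The array of a generalized character vanishing on `V` is additive. -/
theorem grid_additive {θ : G → ℂ} (hθ : Cfsg.IsGeneralizedCharacter G θ)
    (hV : ∀ w : ↥(W₁ ⊔ W₂), (w : G) ∉ W₁ → (w : G) ∉ W₂ → θ w = 0) :
    ∃ (n : ℤ) (t : Row W₁ W₂ → ℤ) (u : Col W₁ W₂ → ℤ), Cfsg.classInner θ (χ 1) = (n : ℂ) ∧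
      t row₀ = n ∧ u col₀ = 0 ∧ ∀ r l, Cfsg.classInner θ (χ (cell r l)) = ((t r + u l : ℤ) : ℂ) := by
  have : Fintype ↥(W₁ ⊔ W₂) := Fintype.ofFinite _
  choose a ha using fun ω => IsGeneralized.exists_classInner_eq_int hθ (isGeneralized_family hχ ω)
  refine ⟨a 1, fun r => a r.1, fun l => a l.1 - a 1, ha 1, rfl, by simp [col₀], fun r l => ?_⟩
  rw [show cell r l = r.1 * l.1 from rfl,
    cyclicTI_additive hχ (IsGeneralized.isClassFunction hθ) hV r.2 l.2, ha, ha, ha]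
  push_cast
  ring

/-- A norm two generalized character agreeing on `V` with a difference in one row is that difference. -/
theorem pair_eq (hW : Cfsg.IsSelfNormalizingCyclic W₁ W₂) (hodd : Odd (Nat.card ↥(W₁ ⊔ W₂)))
    {θ : G → ℂ} (hθ : Cfsg.IsGeneralizedCharacter G θ) {r : Row W₁ W₂} {j k : Col W₁ W₂}
    (hjk : j ≠ k) (hj : j ≠ col₀) (hk : k ≠ col₀) {d : ℂ} (hd : d = 1 ∨ d = -1)
    (hV : ∀ w : ↥(W₁ ⊔ W₂), (w : G) ∉ W₁ → (w : G) ∉ W₂ →
      θ w = d * (χ (cell r j) w - χ (cell r k) w))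
    (hnorm : Cfsg.classInner θ θ = 2) (h1 : Cfsg.classInner θ (χ 1) = 0) :
    θ = d • (χ (cell r j) - χ (cell r k)) := by
  classical
  have := Fintype.ofFinite (Row W₁ W₂)
  have := Fintype.ofFinite (Col W₁ W₂)
  obtain ⟨dz, hdz, rfl⟩ : ∃ dz : ℤ, (dz = 1 ∨ dz = -1) ∧ d = (dz : ℂ) := by
    rcases hd with rfl | rfl
    · exact ⟨1, Or.inl rfl, by norm_num⟩
    · exact ⟨-1, Or.inr rfl, by norm_num⟩
  set X : G → ℂ := (dz : ℂ) • (χ (cell r j) - χ (cell r k)) with hX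
  have hXgen : Cfsg.IsGeneralizedCharacter G X :=
    IsGeneralized.intCast_smul (IsGeneralized.sub (isGeneralized_family hχ _) (isGeneralized_family hχ _)) dz
  have hXc : ∀ r' l', Cfsg.classInner X (χ (cell r' l')) =
      ((if r' = r then (if l' = j then dz else if l' = k then -dz else 0) else 0 : ℤ) : ℂ) := fun r' l' => by
    have hiff : ∀ l, cell r l = cell r' l' ↔ r' = r ∧ l' = l := fun l =>
      ⟨fun e => ⟨(cell_injective e).1.symm, (cell_injective e).2.symm⟩, fun e => by rw [e.1, e.2]⟩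
    rw [hX, classInner_smul_left, classInner_sub_left, hχ.orthonormal, hχ.orthonormal]
    by_cases hr : r' = r
    · subst hr
      simp only [hiff, true_and, if_true]
      by_cases e1 : l' = j
      · subst e1; simp [hjk]
      · by_cases e2 : l' = k
        · subst e2; simp [e1]
        · simp [e1, e2]
    · simp [hiff, hr]
  obtain ⟨n, t, u, hn, ht, hu, hadd⟩ := grid_additive hχ (θ := θ - X) (IsGeneralized.sub hθ hXgen)
    fun w a b => by rw [Pi.sub_apply, hV w a b]; simp [hX]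
  have hX1 : Cfsg.classInner X (χ 1) = 0 := by
    have := hXc row₀ col₀
    rw [cell_row₀, if_neg hj.symm, if_neg hk.symm] at this
    simpa [col₀] using this
  have hn0 : n = 0 := by
    rw [classInner_sub_left, h1, hX1, sub_zero] at hn
    exact_mod_cast hn.symm
  subst hn0
  have hθc : ∀ r' l', Cfsg.classInner θ (χ (cell r' l')) = ((t r' + u l' +
      if r' = r then (if l' = j then dz else if l' = k then -dz else 0) else 0 : ℤ) : ℂ) := fun r' l' => by
    have := hadd r' l'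
    rw [classInner_sub_left, hXc, sub_eq_iff_eq_add] at this
    rw [this]
    exact (Int.cast_add _ _).symm
  have hR : 3 ≤ Fintype.card (Row W₁ W₂) := by
    rw [← Nat.card_eq_fintype_card, (card_trivL hW).2]
    rw [card_sup_eq hW.2.2.1 hW.2.2.2.1, Nat.odd_mul] at hodd
    exact three_le_card_of_odd hW.1 hodd.1
  obtain ⟨ht0, hu0⟩ := pair_rigid row₀ col₀ t u ht hu hR r j k hjk hj hk dz hdz
    (grid_bessel' hχ _ hθc (N := 2) (by rw [hnorm]; norm_num))
  have hc : ∀ ω, Cfsg.classInner θ (χ ω) = Cfsg.classInner X (χ ω) := fun ω => by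
    obtain ⟨r', l', rfl⟩ := exists_cell hW ω
    rw [hθc, hXc, ht0, hu0, zero_add, zero_add]
  have h2 : Cfsg.classInner X X = 2 := by
    rw [show Cfsg.classInner X X = Cfsg.classInner X ((dz : ℂ) • (χ (cell r j) - χ (cell r k))) from rfl,
      classInner_smul_right, classInner_sub_right, hXc, hXc, if_pos rfl, if_pos rfl, if_pos rfl,
      if_neg hjk.symm, if_pos rfl]
    rcases hdz with rfl | rfl <;> norm_num
  refine sub_eq_zero.1 (classInner_self_eq_zero ?_)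
  have h3 : Cfsg.classInner θ X = 2 := by
    rw [show Cfsg.classInner θ X = Cfsg.classInner θ ((dz : ℂ) • (χ (cell r j) - χ (cell r k))) from rfl,
      classInner_smul_right, classInner_sub_right, hc, hc, ← classInner_sub_right, ← classInner_smul_right]
    exact h2
  rw [classInner_sub_left, classInner_sub_right, classInner_sub_right, hnorm, h3, h2,
    ← classInner_conj θ X, h3, map_ofNat]
  norm_num

end CfsgLib.OddEnd
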