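import Cfsg.Agent.OddEnd.TenPrime
import Cfsg.Agent.OddEnd.TenFamily
import Cfsg.Agent.Char.DadeApps

/-!
# A prime action inside a group, with a Dade hypothesis covering the mixed elements

Peterfalvi (4.6)–(4.8): the Dade image of a difference of two characters `μ` in one row is the
corresponding difference of members of the family of the cyclic TI-subgroup.
-/

set_option autoImplicit false

namespace CfsgLib.OddEnd

open CfsgLib.Char
open scoped ComplexConjugate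

universe u

variable {G : Type u} [Group G]

/-- `L = K W₁` with `C_K(x) = W₂` for `x ∈ W₁#`, with a Dade hypothesis for a support `A` that contains
the mixed elements of `W = W₁ W₂`. -/
structure PrimeDade (L K W₁ W₂ : Subgroup G) (A : Set G) (R : G → Subgroup G) : Prop where
  le : K ≤ L
  normal : (K.subgroupOf L).Normal
  left_le : W₁ ≤ L
  action : IsPrimeAction (K.subgroupOf L) (W₁.subgroupOf L) (W₂.subgroupOf L)
  selfNorm : Cfsg.IsSelfNormalizingCyclic W₁ W₂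
  odd : Odd (Nat.card ↥(W₁ ⊔ W₂))
  dade : Cfsg.DadeHypothesis A L R
  mixed : ∀ w ∈ W₁ ⊔ W₂, w ∉ W₁ → w ∉ W₂ → w ∈ A
  mixed_R : ∀ w ∈ W₁ ⊔ W₂, w ∉ W₁ → w ∉ W₂ → R w = ⊥

/-- The `μ_ω`, indexed by the linear characters of `W ≤ G`. -/
structure IsMuG (L K W₁ W₂ : Subgroup G) (μ : (↥(W₁ ⊔ W₂) →* ℂˣ) → L → ℂ)
    (δ : (↥(W₁ ⊔ W₂) →* ℂˣ) → ℂ) : Prop where
  inj : Function.Injective μ
  irr : ∀ ω, Cfsg.IsIrrCharacter L (μ ω)
  sign : ∀ ω, δ ω = 1 ∨ δ ω = -1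
  sign_eq : ∀ ω ω' : ↥(W₁ ⊔ W₂) →* ℂˣ,
    (∀ w : ↥(W₁ ⊔ W₂), (w : G) ∈ W₂ → ω w = ω' w) → δ ω = δ ω'
  restrict_eq : ∀ ω ω' : ↥(W₁ ⊔ W₂) →* ℂˣ,
    (∀ w : ↥(W₁ ⊔ W₂), (w : G) ∈ W₂ → ω w = ω' w) → ∀ k : L, (k : G) ∈ K → μ ω k = μ ω' k
  value : ∀ ω, ∀ (x : L) (hx : (x : G) ∈ W₁ ⊔ W₂), (x : G) ∉ W₂ → μ ω x = δ ω * (ω ⟨x, hx⟩ : ℂ)
  vanish : ∀ θ : L → ℂ, Cfsg.IsIrrCharacter L θ → (∀ ω, θ ≠ μ ω) → ∀ x : L, (x : G) ∉ K → θ x = 0
  one : μ 1 = (fun _ => (1 : ℂ)) ∧ δ 1 = 1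
  map : ∀ (σ : ℂ ≃+* ℂ) (ω : ↥(W₁ ⊔ W₂) →* ℂˣ),
    μ (mapHom σ ω) = (fun x => σ (μ ω x)) ∧ δ (mapHom σ ω) = δ ω

variable {L K W₁ W₂ : Subgroup G} {A : Set G} {R : G → Subgroup G}

section

variable (h : PrimeDade L K W₁ W₂ A R)
include h

theorem PrimeDade.right_le : W₂ ≤ K := fun x hx => by
  have hxL : x ∈ L := by
    by_cases hx1 : x = 1
    · subst hx1; exact L.one_mem
    obtain ⟨a, ha, ha1⟩ := (Subgroup.bot_or_exists_ne_one W₁).resolve_left h.selfNorm.1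
    have hm : a * x ∈ A := h.mixed _ (Subgroup.mul_mem _ (Subgroup.mem_sup_left ha) (Subgroup.mem_sup_right hx))
      (fun hm => hx1 (by
        have h' : x ∈ W₁ ⊓ W₂ := Subgroup.mem_inf.2 ⟨by simpa using W₁.mul_mem (W₁.inv_mem ha) hm, hx⟩
        rwa [h.selfNorm.2.2.1, Subgroup.mem_bot] at h'))
      (fun hm => ha1 (by
        have h' : a ∈ W₁ ⊓ W₂ := Subgroup.mem_inf.2 ⟨ha, by simpa using W₂.mul_mem hm (W₂.inv_mem hx)⟩
        rwa [h.selfNorm.2.2.1, Subgroup.mem_bot] at h'))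
    simpa using L.mul_mem (L.inv_mem (h.left_le ha)) (h.dade.subset hm)
  exact h.action.le (show (⟨x, hxL⟩ : L) ∈ W₂.subgroupOf L from hx)

theorem PrimeDade.sup_le' : W₁ ⊔ W₂ ≤ L := sup_le h.left_le (h.right_le.trans h.le)

theorem PrimeDade.mem_sup_iff (x : L) :
    x ∈ W₁.subgroupOf L ⊔ W₂.subgroupOf L ↔ (x : G) ∈ W₁ ⊔ W₂ := by
  rw [← Subgroup.subgroupOf_sup h.left_le (h.right_le.trans h.le), Subgroup.mem_subgroupOf]

/-- Elements of `L` outside `K` are conjugate under `L` into `W` outside `W₂`. -/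
theorem PrimeDade.exists_conj [Finite G] {x : L} (hx : (x : G) ∉ K) :
    ∃ g : L, ((g * x * g⁻¹ : L) : G) ∈ W₁ ⊔ W₂ ∧ ((g * x * g⁻¹ : L) : G) ∉ W₂ := by
  have := h.normal
  obtain ⟨g, h1, h2⟩ := exists_conj_mem h.action (x := x) (by rwa [Subgroup.mem_subgroupOf])
  exact ⟨g, (h.mem_sup_iff _).1 h1, fun e => h2 e⟩

theorem PrimeDade.exists_isMuG [Finite G] [Fintype L] : ∃ μ δ, IsMuG L K W₁ W₂ μ δ := by
  have := h.normal
  obtain ⟨μ, δ, hμ⟩ := exists_isMu h.action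
  let ι : ↥(W₁.subgroupOf L ⊔ W₂.subgroupOf L) →* ↥(W₁ ⊔ W₂) :=
    MonoidHom.mk' (fun x => ⟨((x : L) : G), (h.mem_sup_iff x).1 x.2⟩) fun x y => rfl
  let ι' : ↥(W₁ ⊔ W₂) →* ↥(W₁.subgroupOf L ⊔ W₂.subgroupOf L) :=
    MonoidHom.mk' (fun x => ⟨⟨(x : G), h.sup_le' x.2⟩, (h.mem_sup_iff _).2 x.2⟩) fun x y => rfl
  have hι : ∀ x, ι (ι' x) = x := fun x => rfl
  have hcomp : ∀ {ω η : ↥(W₁ ⊔ W₂) →* ℂˣ}, ω.comp ι = η.comp ι → ω = η := fun {ω η} e =>
    MonoidHom.ext fun w => by simpa [hι] using DFunLike.congr_fun e (ι' w)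
  refine ⟨fun ω => μ (ω.comp ι), fun ω => δ (ω.comp ι), fun ω η e => hcomp (hμ.inj e),
    fun ω => hμ.irr _, fun ω => hμ.sign _, fun ω η e => hμ.sign_eq _ _ fun w hw => e (ι w) hw,
    fun ω η e k hk => hμ.restrict_eq _ _ (fun w hw => e (ι w) hw) k hk, fun ω x hx hx2 => ?_,
    fun θ hθ hne x hx => ?_, ?_, fun σ ω => ?_⟩
  · exact hμ.value (ω.comp ι) ⟨x, (h.mem_sup_iff x).2 hx⟩ fun e => hx2 e
  · obtain ⟨g, hg, hg2⟩ := exists_conj_mem h.action (x := x) (by rwa [Subgroup.mem_subgroupOf])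
    have := hμ.vanish θ hθ (fun η e => hne (η.comp ι') (by
      rw [e]
      congr 1)) ⟨_, hg⟩ hg2
    rwa [IsIrrCharacter.isClassFunction hθ x g] at this
  · exact hμ.map_one h.action
  · exact hμ.map_ringEquiv h.action σ (ω.comp ι)

/-- Induction from `K` of an irreducible character: irreducible and supported on `K`, or a column. -/
theorem PrimeDade.ind_cases [Finite G] [Fintype L] [Fintype (Row W₁ W₂)]
    {μ : (↥(W₁ ⊔ W₂) →* ℂˣ) → L → ℂ} {δ : (↥(W₁ ⊔ W₂) →* ℂˣ) → ℂ} (hμ : IsMuG L K W₁ W₂ μ δ)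
    {θ : ↥(K.subgroupOf L) → ℂ} (hθ : Cfsg.IsIrrCharacter ↥(K.subgroupOf L) θ) :
    Cfsg.IsIrrCharacter L (Cfsg.indFun (K.subgroupOf L) θ) ∨
      ∃ l : Col W₁ W₂, Cfsg.indFun (K.subgroupOf L) θ = ∑ r : Row W₁ W₂, μ (cell r l) ∧
        ∀ (r : Row W₁ W₂) (k : ↥(K.subgroupOf L)), μ (cell r l) k = θ k := by
  classical
  have := h.normal
  have := Fintype.ofFinite ↥(K.subgroupOf L)
  obtain ⟨hind, -, hcol⟩ := h.action.invariant_chars
  by_cases hfix : ∀ x ∈ W₁.subgroupOf L, conjOn x θ = θ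
  swap
  · push Not at hfix
    exact Or.inl (hind θ hθ hfix)
  refine Or.inr ?_
  obtain ⟨ν, ε, hν⟩ := exists_isMu h.action
  obtain ⟨ω₀, hω₀⟩ := hν.exists_column h.action hθ hfix
  have hν' : ∀ ω, ∃ η, ν ω = μ η := fun ω => by
    by_contra hh
    push Not at hh
    obtain ⟨c, hc, hc1⟩ := (Subgroup.bot_or_exists_ne_one _).resolve_left h.action.ne_bot₁
    have hc2 : c ∉ W₂.subgroupOf L := fun hm => hc1 (by
      have h' : c ∈ W₁.subgroupOf L ⊓ W₂.subgroupOf L := Subgroup.mem_inf.2 ⟨hc, hm⟩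
      rwa [h.action.disjoint₁₂, Subgroup.mem_bot] at h')
    have h0 := hμ.vanish (ν ω) (hν.irr ω) hh c fun hK => hc1 (by
      have h' : c ∈ K.subgroupOf L ⊓ W₁.subgroupOf L := Subgroup.mem_inf.2 ⟨hK, hc⟩
      rwa [h.action.inf_eq, Subgroup.mem_bot] at h')
    rw [hν.value ω ⟨c, Subgroup.mem_sup_left hc⟩ hc2] at h0
    exact mul_ne_zero (by rcases hν.sign ω with e | e <;> rw [e] <;> norm_num) (Units.ne_zero _) h0
  obtain ⟨η, hη⟩ := hν' ω₀
  rw [hη] at hω₀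
  obtain ⟨r₀, l, hl⟩ := exists_cell h.selfNorm η
  have hres : ∀ r : Row W₁ W₂, ∀ k : ↥(K.subgroupOf L), μ (cell r l) k = μ η k := fun r k =>
    hμ.restrict_eq _ _ (fun w hw => by
      rw [← hl, cell, cell, MonoidHom.mul_apply, MonoidHom.mul_apply, r.2 w hw, r₀.2 w hw]) k k.2
  obtain ⟨C, hC, hCirr, hCsum⟩ := hcol θ hθ hfix
  have hmem : ∀ r : Row W₁ W₂, μ (cell r l) ∈ C := fun r => by
    have h1 : Cfsg.classInner (Cfsg.indFun (K.subgroupOf L) θ) (μ (cell r l)) ≠ 0 := by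
      rw [classInner_indFun θ (IsIrrCharacter.isClassFunction (hμ.irr _)), ← classInner_conj, map_ne_zero,
        show (fun k : ↥(K.subgroupOf L) => μ (cell r l) k) = fun k : ↥(K.subgroupOf L) => μ η k from
          funext (hres r)]
      exact hω₀
    by_contra hn
    rw [hCsum, classInner_sum_left] at h1
    exact h1 (Finset.sum_eq_zero fun ξ hξ => IsIrrCharacter.classInner_of_ne (hCirr ξ hξ) (hμ.irr _)
      fun e => hn (e ▸ hξ))
  have hinj : Function.Injective fun r : Row W₁ W₂ => μ (cell r l) := fun a b e =>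
    (cell_injective (hμ.inj e)).1
  have hC' : C = Finset.univ.image fun r : Row W₁ W₂ => μ (cell r l) := (Finset.eq_of_subset_of_card_le
    (fun ξ hξ => by obtain ⟨r, -, rfl⟩ := Finset.mem_image.1 hξ; exact hmem r)
    (by
      rw [hC, Finset.card_image_of_injective _ hinj, Finset.card_univ, ← Nat.card_eq_fintype_card,
        ← Nat.card_congr (Subgroup.subgroupOfEquivOfLe h.left_le).symm.toEquiv]
      have := Fintype.ofFinite G
      exact ((card_trivL h.selfNorm).2).ge)).symm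
  refine ⟨l, by rw [hCsum, hC', Finset.sum_image fun a _ b _ e => hinj e], fun r k => ?_⟩
  -- all summands restrict to `θ`
  have horb : conjOrbit θ = {θ} := by
    ext ψ
    rw [mem_conjOrbit, Finset.mem_singleton]
    constructor
    · rintro ⟨g, rfl⟩
      have htop : inertia θ = ⊤ := by
        rw [eq_top_iff, ← h.action.sup_eq]
        exact sup_le (le_inertia (IsIrrCharacter.isClassFunction hθ)) fun x hx => hfix x hx
      exact (mem_inertia θ g).1 (htop ▸ Subgroup.mem_top g)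
    · rintro rfl; exact ⟨1, (conjOn_one _).symm⟩
  have hξi : Cfsg.classInner (Cfsg.indFun (K.subgroupOf L) θ) (μ (cell r l)) = 1 := by
    rw [hCsum, classInner_sum_left, Finset.sum_eq_single (μ (cell r l)) (fun ξ hξ hne' =>
      IsIrrCharacter.classInner_of_ne (hCirr ξ hξ) (hμ.irr _) hne') (fun h' => absurd (hmem r) h')]
    exact IsIrrCharacter.classInner_self (hμ.irr _)
  have h1 : Cfsg.classInner (fun k : ↥(K.subgroupOf L) => μ (cell r l) k) θ = 1 := by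
    rw [← classInner_conj, ← classInner_indFun θ (IsIrrCharacter.isClassFunction (hμ.irr _)), hξi]
    exact map_one _
  have h2 := restrict_eq_smul_sum (hμ.irr (cell r l)) hθ (by rw [h1]; exact one_ne_zero)
  rw [h1, horb, Finset.sum_singleton, one_smul] at h2
  exact congrFun h2 k

variable [Fintype G] [Fintype L] {χ : (↥(W₁ ⊔ W₂) →* ℂˣ) → G → ℂ}

omit [Fintype L] in
/-- The Dade map at a mixed element. -/
theorem PrimeDade.dade_mixed {f : L → ℂ} (hf : Cfsg.IsClassFunction L f) {w : ↥(W₁ ⊔ W₂)}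
    (h1 : (w : G) ∉ W₁) (h2 : (w : G) ∉ W₂) :
    Cfsg.dadeIsometry A L R f w = f ⟨w, h.sup_le' w.2⟩ :=
  dadeIsometry_apply h.dade hf (a := ⟨w, h.sup_le' w.2⟩) (h.mixed w w.2 h1 h2) (Subgroup.one_mem _)
    (x := 1) (by simp)

/-- Peterfalvi (4.8). -/
theorem PrimeDade.pair (hχ : Cfsg.IsCyclicTIFamily W₁ W₂ χ)
    {μ : (↥(W₁ ⊔ W₂) →* ℂˣ) → L → ℂ} {δ : (↥(W₁ ⊔ W₂) →* ℂˣ) → ℂ} (hμ : IsMuG L K W₁ W₂ μ δ)
    {r : Row W₁ W₂} {j k : Col W₁ W₂} (hjk : j ≠ k) (hj : j ≠ col₀) (hk : k ≠ col₀)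
    (hδ : δ (cell r j) = δ (cell r k))
    (hK : ∀ x : L, (x : G) ∈ K → (x : G) ∉ A → μ (cell r j) x = μ (cell r k) x) :
    (∀ x : L, (x : G) ∉ A → (μ (cell r j) - μ (cell r k)) x = 0) ∧
    Cfsg.dadeIsometry A L R (μ (cell r j) - μ (cell r k)) =
      δ (cell r j) • (χ (cell r j) - χ (cell r k)) := by
  classical
  set f := μ (cell r j) - μ (cell r k) with hf
  have hgen : Cfsg.IsGeneralizedCharacter L f :=
    IsGeneralized.sub (IsIrrCharacter.isGeneralized (hμ.irr _)) (IsIrrCharacter.isGeneralized (hμ.irr _))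
  have hcl := IsGeneralized.isClassFunction hgen
  have hsupp : ∀ x : L, (x : G) ∉ A → f x = 0 := fun x hx => by
    by_cases hxK : (x : G) ∈ K
    · rw [hf, Pi.sub_apply, hK x hxK hx, sub_self]
    obtain ⟨g, hg, hg2⟩ := h.exists_conj hxK
    have hg1 : ((g * x * g⁻¹ : L) : G) ∈ W₁ := by
      by_contra hn
      refine hx ?_
      have := h.dade.conj_mem (g : G)⁻¹ (L.inv_mem g.2) _ (h.mixed _ hg hn hg2)
      simpa [mul_assoc] using this
    rw [← hcl x g, hf, Pi.sub_apply, hμ.value _ _ hg hg2, hμ.value _ _ hg hg2, hδ, cell, cell,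
      MonoidHom.mul_apply, MonoidHom.mul_apply, j.2 ⟨_, hg⟩ hg1, k.2 ⟨_, hg⟩ hg1, sub_self]
  refine ⟨hsupp, pair_eq hχ h.selfNorm h.odd (isGeneralized_dadeIsometry h.dade hgen hsupp) hjk hj hk
    (hμ.sign _) (fun w h1 h2 => ?_) ?_ ?_⟩
  · rw [h.dade_mixed hcl h1 h2, hf, Pi.sub_apply, hμ.value _ _ w.2 h2, hμ.value _ _ w.2 h2, hδ,
      hχ.eq_on _ w h1 h2, hχ.eq_on _ w h1 h2, mul_sub]
  · have hne : μ (cell r j) ≠ μ (cell r k) := fun e => hjk (cell_injective (hμ.inj e)).2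
    rw [classInner_dadeIsometry_dadeIsometry h.dade hcl hsupp hcl, hf, classInner_sub_left, classInner_sub_right,
      classInner_sub_right, IsIrrCharacter.classInner_self (hμ.irr _),
      IsIrrCharacter.classInner_self (hμ.irr _), IsIrrCharacter.classInner_of_ne (hμ.irr _) (hμ.irr _) hne,
      IsIrrCharacter.classInner_of_ne (hμ.irr _) (hμ.irr _) (Ne.symm hne)]
    norm_num
  · have hne : ∀ l : Col W₁ W₂, l ≠ col₀ → μ (cell r l) ≠ fun _ => (1 : ℂ) := fun l hl e => by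
      rw [← hμ.one.1] at e
      have := hμ.inj e
      rw [show (1 : ↥(W₁ ⊔ W₂) →* ℂˣ) = cell row₀ col₀ from (hom_one_mul' _).symm] at this
      exact hl (cell_injective this).2
    rw [hχ.map_one, classInner_dadeIsometry h.dade hcl hsupp (fun _ _ => rfl) (ψ := fun _ => 1) fun a ha => ?_,
      hf, classInner_sub_left, IsIrrCharacter.classInner_of_ne (hμ.irr _) isIrrCharacter_one (hne j hj),
      IsIrrCharacter.classInner_of_ne (hμ.irr _) isIrrCharacter_one (hne k hk), sub_self]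
    rw [finsum_mem_eq_finite_toFinset_sum _ (Set.toFinite _), Finset.sum_const, nsmul_eq_mul, mul_one,
      ← Set.ncard_eq_toFinset_card, ← Nat.card_coe_set_eq]
    exact (inv_mul_cancel₀ (by exact_mod_cast (Nat.card_pos (α := ↥(R (a : G)))).ne')).symm

end

end CfsgLib.OddEnd
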