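import Cfsg.Agent.OddEnd.TenDade
import Cfsg.Agent.OddLocal.KappaTypeCore
import Cfsg.Agent.OddLocal.KappaPairApps
import Cfsg.Agent.S1373
import Cfsg.Agent.S1382
import Cfsg.Agent.S1537
import Cfsg.Agent.S1538

/-!
# A maximal subgroup with `U = 1` and its partner (Peterfalvi 10.1)

`M = K M_σ` with `M' = M_σ`; the partner `N` is of type II.
-/

set_option autoImplicit false
set_option linter.unusedSectionVars false

namespace CfsgLib.OddEnd

open Subgroup Cfsg CfsgLib.OddLocal CfsgLib.OddLocal.Kap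
open scoped commutatorElement

universe u

variable {G : Type u} [Group G]

/-- A prime action read off from data in the ambient group. -/
theorem primeAction_of [Finite G] {L Kd W₁ W₂ : Subgroup G} (hKL : Kd ≤ L) (hn : L ≤ normalizer (Kd : Set G))
    (hc : Cfsg.IsComplIn Kd W₁ L) (h1 : W₁ ≠ ⊥) (hcyc : IsCyclic W₁)
    (hco : (Nat.card W₁).Coprime (Nat.card Kd)) (h2 : W₂ ≠ ⊥) (hcyc2 : IsCyclic W₂) (h2K : W₂ ≤ Kd)
    (hodd : Odd (Nat.card L)) (hC : ∀ x ∈ W₁, x ≠ 1 → L ⊓ centralizer ({x} : Set G) = W₁ ⊔ W₂) :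
    CfsgLib.Char.IsPrimeAction (Kd.subgroupOf L) (W₁.subgroupOf L) (W₂.subgroupOf L) := by
  obtain ⟨-, hW1L, hdis, hfac⟩ := hc
  have hW2L : W₂ ≤ L := h2K.trans hKL
  have hinf : Kd.subgroupOf L ⊓ W₁.subgroupOf L = ⊥ := eq_bot_iff.2 fun x hx => by
    have h : (x : G) ∈ Kd ⊓ W₁ := ⟨hx.1, hx.2⟩
    rw [hdis, mem_bot] at h
    exact mem_bot.2 (Subtype.ext h)
  have hnor : (Kd.subgroupOf L).Normal := ⟨fun k hk g => (mem_normalizer_iff.1 (hn g.2) k).1 hk⟩
  have hsup : Kd.subgroupOf L ⊔ W₁.subgroupOf L = ⊤ := eq_top_iff.2 fun x _ => by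
    obtain ⟨a, ha, b, hb, e⟩ := hfac x x.2
    rw [show x = (⟨a, hKL ha⟩ : L) * ⟨b, hW1L hb⟩ from Subtype.ext e]
    exact mul_mem (mem_sup_left ha) (mem_sup_right hb)
  have hcard : ∀ {X : Subgroup G}, X ≤ L → Nat.card ↥(X.subgroupOf L) = Nat.card X := fun hX =>
    Nat.card_congr (subgroupOfEquivOfLe hX).toEquiv
  have hne : ∀ {X : Subgroup G}, X ≤ L → X ≠ ⊥ → X.subgroupOf L ≠ ⊥ := fun hX h e => h (by
    rw [← Subgroup.card_eq_one, ← hcard hX, e, card_bot])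
  have hidx : (W₁.subgroupOf L).index = Nat.card (Kd.subgroupOf L) := by
    have h := (isComplement'_of_disjoint_and_mul_eq_univ (disjoint_iff.2 hinf)
      (by rw [← normal_mul, hsup, coe_top]))
    exact h.index_eq_card
  refine
    { inf_eq := hinf
      sup_eq := hsup
      ne_bot₁ := hne hW1L h1
      cyclic₁ := isCyclic_of_surjective (subgroupOfEquivOfLe hW1L).symm.toMonoidHom
        (subgroupOfEquivOfLe hW1L).symm.surjective
      hall := by rw [hidx, hcard hW1L, hcard hKL]; exact hco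
      ne_bot₂ := hne hW2L h2
      cyclic₂ := isCyclic_of_surjective (subgroupOfEquivOfLe hW2L).symm.toMonoidHom
        (subgroupOfEquivOfLe hW2L).symm.surjective
      le := fun x hx => h2K hx
      centralizer_eq := fun x hx hx1 => ?_
      odd := ?_ }
  · have hxG : (x : G) ≠ 1 := fun e => hx1 (Subtype.ext e)
    ext y
    constructor
    · rintro ⟨hyK, hyc⟩
      have hy : (y : G) ∈ W₁ ⊔ W₂ := (hC x hx hxG).le ⟨y.2, mem_centralizer_singleton_iff.2
        (congrArg Subtype.val (mem_centralizer_singleton_iff.1 hyc))⟩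
      have hN : W₁ ≤ normalizer (W₂ : Set G) := fun a ha => by
        refine mem_normalizer_iff.2 fun b => ?_
        by_cases ha1 : a = 1
        · simp [ha1]
        have hcom : ∀ c ∈ W₂, c * a = a * c := fun c hc =>
          mem_centralizer_singleton_iff.1 ((hC a ha ha1).ge (mem_sup_right hc)).2
        refine ⟨fun hb => by rw [← hcom b hb, mul_inv_cancel_right]; exact hb, fun hb => ?_⟩
        have := hcom _ hb
        rw [show a * b * a⁻¹ * a = a * b by group] at this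
        rw [mul_left_cancel this]
        exact hb
      rw [← SetLike.mem_coe, coe_mul_of_left_le_normalizer_right W₁ W₂ hN] at hy
      obtain ⟨a, ha, b, hb, e⟩ := hy
      have haK : a ∈ Kd ⊓ W₁ := ⟨by
        have : (y : G) * b⁻¹ ∈ Kd := Kd.mul_mem hyK (Kd.inv_mem (h2K hb))
        rwa [← show a * b = (y : G) from e, mul_inv_cancel_right] at this, ha⟩
      rw [hdis, mem_bot] at haK
      change (y : G) ∈ W₂
      rw [← show a * b = (y : G) from e, haK, one_mul]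
      exact hb
    · intro hy
      exact ⟨h2K hy, mem_centralizer_singleton_iff.2 (Subtype.ext
        (mem_centralizer_singleton_iff.1 ((hC x hx hxG).ge (mem_sup_right hy)).2))⟩
  · obtain ⟨m, hm⟩ := card_dvd_of_le (le_top : W₁.subgroupOf L ⊔ W₂.subgroupOf L ≤ ⊤)
    rw [card_top] at hm
    exact (Nat.odd_mul.1 (hm ▸ hodd)).1

variable [Finite G]

/-- `M` with `U = 1`, and its partner `N`. -/
structure TenPair (M N K Ks V : Subgroup G) : Prop where
  hG : Cfsg.IsMinSimpleOddOrder G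
  hM : IsCoatom M
  hN : IsCoatom N
  hKU : Cfsg.IsSigmaDecomposition M K ⊥
  hK1 : K ≠ ⊥
  hNV : Cfsg.IsSigmaDecomposition N Ks V
  hV1 : V ≠ ⊥
  hKs : Ks = star M K
  hKe : K = star N Ks

theorem exists_tenPair (hG : Cfsg.IsMinSimpleOddOrder G) {M K : Subgroup G} (hM : IsCoatom M)
    (hKU : Cfsg.IsSigmaDecomposition M K ⊥) (hK1 : K ≠ ⊥) :
    ∃ N V : Subgroup G, TenPair M N K (star M K) V := by
  obtain ⟨N, hN, hNH, hHe, -, hout⟩ := exists_partner hG hM hKU.hall hK1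
  obtain ⟨V, hV⟩ := exists_decomp hG hN (star_cyclic hG hM hKU.hall hK1) hNH
  refine ⟨N, V, hG, hM, hN, hKU, hK1, hV, fun e => ?_, rfl, hHe⟩
  subst e
  rcases hout with h | h
  · exact not_hasOuter_of_decomp_bot hG hM hKU h
  · exact not_hasOuter_of_decomp_bot hG hN hV h

namespace TenPair

variable {M N K Ks V : Subgroup G} (P : TenPair M N K Ks V)
include P

theorem oddG (H : Subgroup G) : Odd (Nat.card H) := by
  obtain ⟨m, hm⟩ := H.card_subgroup_dvd_card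
  exact (Nat.odd_mul.1 (hm ▸ P.hG.1)).1

theorem Ks_ne : Ks ≠ ⊥ := P.hKs ▸ fixed_ne_bot P.hG P.hM P.hKU.hall P.hK1

theorem Ks_le : Ks ≤ Cfsg.sigmaCore M := P.hKs.trans_le inf_le_left

theorem K_le : K ≤ Cfsg.sigmaCore N := P.hKe.trans_le inf_le_left

theorem Ks_prime : (Nat.card Ks).Prime := decomp_prime P.hG P.hN P.hNV P.Ks_ne P.hV1

theorem derived_M : ⁅M, M⁆ = Cfsg.sigmaCore M := derived_eq_of_bot P.hG P.hM P.hKU P.hK1 rfl

theorem compl_M : Cfsg.IsComplIn (Cfsg.sigmaCore M) K M :=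
  P.derived_M ▸ derived_compl P.hG P.hM P.hKU P.hK1

theorem derived_N : ⁅N, N⁆ = V ⊔ Cfsg.sigmaCore N :=
  (Cfsg.Agent.S1365.result P.hG N P.hN Ks V P.hNV P.Ks_ne).1

theorem fitting_N : Cfsg.fittingHallOf N = Cfsg.sigmaCore N :=
  fittingHallOf_eq_of_outer P.hG P.hN P.hNV P.Ks_ne P.hV1

theorem not_typeI_M : ¬ Cfsg.IsOfTypeI M := fun h => P.hK1 (bot_of_typeF P.hG P.hM P.hKU h.1)

theorem not_typeI_N : ¬ Cfsg.IsOfTypeI N := fun h => P.Ks_ne (bot_of_typeF P.hG P.hN P.hNV h.1)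

theorem core_M : Cfsg.typeCore M = Cfsg.sigmaCore M := by
  rw [Cfsg.typeCore]
  split_ifs with h
  · exact P.derived_M
  · by_contra hne
    exact h ((Cfsg.Agent.S1382.result P.hG M P.hM K ⊥ P.hKU).2 ⟨P.hK1, rfl, hne⟩)

theorem core_N : Cfsg.typeCore N = Cfsg.sigmaCore N := by
  rw [Cfsg.typeCore, if_neg fun h => P.hV1 ((Cfsg.Agent.S1382.result P.hG N P.hN Ks V P.hNV).1 h).2.1,
    P.fitting_N]

theorem typeA_M : Cfsg.typeA M = (Cfsg.sigmaCore M : Set G) \ {1} := by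
  rw [Cfsg.typeA, if_neg P.not_typeI_M, P.derived_M, P.core_M]
  ext a
  exact ⟨fun h => ⟨h.1, h.2.1⟩, fun h => ⟨h.1, h.2, a, h.1, h.2, rfl⟩⟩

theorem typeA_N : Cfsg.typeA N =
    {a | a ∈ ⁅N, N⁆ ∧ a ≠ 1 ∧ ∃ x ∈ Cfsg.sigmaCore N, x ≠ 1 ∧ a * x = x * a} := by
  rw [Cfsg.typeA, if_neg P.not_typeI_N, P.core_N]

theorem meet_M {x : G} (hx : x ∈ K) (hx1 : x ≠ 1) : M ⊓ centralizer ({x} : Set G) = K ⊔ Ks :=
  P.hKs ▸ meet_centralizer P.hG P.hM P.hKU.hall P.hK1 hx hx1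

theorem meet_N {x : G} (hx : x ∈ Ks) (hx1 : x ≠ 1) : N ⊓ centralizer ({x} : Set G) = Ks ⊔ K := by
  have h := meet_centralizer P.hG P.hN P.hNV.hall P.Ks_ne hx hx1
  rwa [← P.hKe] at h

/-- The centralizer of a non-identity element of `C_{M_σ}(K)` lies in `M`. -/
theorem centralizer_le {x : G} (hx : x ∈ Ks) (hx1 : x ≠ 1) : centralizer ({x} : Set G) ≤ M := by
  have := Fact.mk P.Ks_prime
  have ho : orderOf x = Nat.card Ks :=
    ((Nat.dvd_prime P.Ks_prime).1 (Ks.orderOf_dvd_natCard hx)).resolve_left fun e => hx1 (orderOf_eq_one_iff.1 e)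
  exact (fixed_centralizer P.hG P.hM P.hKU.hall P.hK1 (s := Nat.card Ks) (P.hKs ▸ hx :) ho).1.1

theorem W_M : Cfsg.IsSelfNormalizingCyclic K Ks := P.hKs ▸ selfNormalizing_pair P.hG P.hM P.hKU P.hK1

theorem W_N : Cfsg.IsSelfNormalizingCyclic Ks K := hW_swap P.W_M

/-- The mixed elements lie in `A₀(M)` and have their centralizers in `W`. -/
theorem mixed_M {w : G} (hw : w ∈ K ⊔ Ks) (h1 : w ∉ K) (h2 : w ∉ Ks) :
    w ∈ Cfsg.typeA0 M ∧ centralizer ({w} : Set G) ≤ K ⊔ Ks := by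
  constructor
  · obtain ⟨V', hVn, hKV, hV'⟩ := exists_kernel_complement P.hG P.hM P.hKU P.hK1
    have hP := typeP_data P.hG P.hM P.hKU P.hK1 hVn hKV hV'
    rw [← show Ks = Cfsg.sigmaCore M ⊓ centralizer (K : Set G) from P.hKs] at hP
    exact Or.inr ⟨P.not_typeI_M, K, V', Ks, hP, 1, M.one_mem, w, hw, h1, h2, by group⟩
  · obtain ⟨e, he⟩ := CfsgLib.Char.exists_prod_equiv P.W_M.2.2.1 P.W_M.2.2.2.1
    obtain ⟨⟨a, b⟩, hab⟩ := e.surjective ⟨w, hw⟩
    have hval : w = (a : G) * b := by rw [← he (a, b), hab]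
    have ha1 : (a : G) ≠ 1 := fun e' => h2 (by rw [hval, e', one_mul]; exact b.2)
    have hb1 : (b : G) ≠ 1 := fun e' => h1 (by rw [hval, e', mul_one]; exact a.2)
    have h := (centralizer_mul P.hG P.hM P.hKU.hall P.hK1 a.2 ha1 (P.hKs.le b.2) hb1).le
    rw [hval]
    exact h.trans (by rw [P.hKs])

theorem mixed_N {w : G} (hw : w ∈ Ks ⊔ K) (h1 : w ∉ Ks) (h2 : w ∉ K) :
    w ∈ Cfsg.typeA0 N ∧ centralizer ({w} : Set G) ≤ Ks ⊔ K := by
  constructor
  · obtain ⟨V', hVn, hKV, hV'⟩ := exists_kernel_complement P.hG P.hN P.hNV P.Ks_ne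
    have hP := typeP_data P.hG P.hN P.hNV P.Ks_ne hVn hKV hV'
    rw [← show K = Cfsg.sigmaCore N ⊓ centralizer (Ks : Set G) from P.hKe] at hP
    exact Or.inr ⟨P.not_typeI_N, Ks, V', K, hP, 1, N.one_mem, w, hw, h1, h2, by group⟩
  · rw [sup_comm] at hw ⊢
    exact (P.mixed_M hw h2 h1).2

theorem le_M : K ⊔ Ks ≤ M := sup_le P.hKU.hall.1 (P.Ks_le.trans (map_subtype_le _))

theorem le_N : Ks ⊔ K ≤ N := sup_le P.hNV.hall.1 (P.K_le.trans (map_subtype_le _))

theorem dade_M : Cfsg.DadeHypothesis (Cfsg.typeA0 M) M (Cfsg.supportR M) :=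
  (Cfsg.Agent.S1537.result P.hG M P.hM _ (Or.inr (Or.inr rfl))).2

theorem dade_N : Cfsg.DadeHypothesis (Cfsg.typeA0 N) N (Cfsg.supportR N) :=
  (Cfsg.Agent.S1537.result P.hG N P.hN _ (Or.inr (Or.inr rfl))).2

/-- `M` as a prime action with Dade hypothesis on `A₀(M)`. -/
theorem primeDade_M : PrimeDade M (Cfsg.sigmaCore M) K Ks (Cfsg.typeA0 M) (Cfsg.supportR M) where
  le := map_subtype_le _
  normal := ⟨fun k hk g => (mem_normalizer_iff.1 (TH.le_normalizer_core M g.2) k).1 hk⟩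
  left_le := P.hKU.hall.1
  action := primeAction_of (map_subtype_le _) (TH.le_normalizer_core M) P.compl_M P.hK1 P.hKU.cyclic
    (P.derived_M ▸ kappa_coprime_derived P.hG P.hM P.hKU P.hK1) P.Ks_ne
    (P.hKs ▸ star_cyclic P.hG P.hM P.hKU.hall P.hK1) P.Ks_le (P.oddG M) fun _ hx hx1 => P.meet_M hx hx1
  selfNorm := P.W_M
  odd := P.oddG _
  dade := P.dade_M
  mixed := fun _ hw h1 h2 => (P.mixed_M hw h1 h2).1
  mixed_R := fun _ hw h1 h2 => supportR_eq_bot P.hG ((P.mixed_M hw h1 h2).2.trans P.le_M)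

/-- `N` as a prime action with Dade hypothesis on `A₀(N)`. -/
theorem primeDade_N : PrimeDade N ⁅N, N⁆ Ks K (Cfsg.typeA0 N) (Cfsg.supportR N) where
  le := (derived_compl P.hG P.hN P.hNV P.Ks_ne).1
  normal := ⟨fun k hk g => (mem_normalizer_iff.1 (le_normalizer_derived N g.2) k).1 hk⟩
  left_le := P.hNV.hall.1
  action := primeAction_of (derived_compl P.hG P.hN P.hNV P.Ks_ne).1 (le_normalizer_derived N)
    (derived_compl P.hG P.hN P.hNV P.Ks_ne) P.Ks_ne P.hNV.cyclic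
    (kappa_coprime_derived P.hG P.hN P.hNV P.Ks_ne) P.hK1 P.hKU.cyclic
    (P.K_le.trans (P.derived_N.ge.trans' le_sup_right)) (P.oddG N) fun _ hx hx1 => P.meet_N hx hx1
  selfNorm := P.W_N
  odd := P.oddG _
  dade := P.dade_N
  mixed := fun _ hw h1 h2 => (P.mixed_N hw h1 h2).1
  mixed_R := fun _ hw h1 h2 => supportR_eq_bot P.hG ((P.mixed_N hw h1 h2).2.trans P.le_N)

theorem typeII_N : Cfsg.IsOfTypeII N := typeTwo_of P.hG P.hN P.hNV P.Ks_ne P.hV1

/-- `A₀(N)` is a TI-set with normalizer `N`. -/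
theorem ti_N : Cfsg.IsTISubset (Cfsg.typeA0 N) ∧ normalizer (Cfsg.typeA0 N) = N :=
  (Cfsg.Agent.S1538.result P.hG N P.hN P.typeII_N).1

/-- The support subgroups of `N` are trivial on `A₀(N)`. -/
theorem supportR_N {a : G} (ha : a ∈ Cfsg.typeA0 N) : Cfsg.supportR N a = ⊥ := by
  refine supportR_eq_bot P.hG fun c hc => ?_
  by_contra hcN
  have hca : c * a * c⁻¹ = a := by rw [mem_centralizer_singleton_iff.1 hc, mul_inv_cancel_right]
  exact (Cfsg.DadeHypothesis.one_not_mem P.dade_N)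
    (P.ti_N.1 c (by rw [P.ti_N.2]; exact hcN) a ha (hca.symm ▸ ha) ▸ ha)

end TenPair

end CfsgLib.OddEnd
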