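import Cfsg.Agent.OddEnd.ThirteenFacts
import Cfsg.Agent.OddEnd.TenDade
import Cfsg.Agent.OddEnd.TenSetup
import Cfsg.Agent.OddEnd.FourteenModule
import Cfsg.Agent.Char.Dade

/-!
Peterfalvi section 14: the facts on one side of a pair of maximal subgroups of type P.
-/

set_option autoImplicit false
set_option linter.unusedSectionVars false
set_option linter.style.haveILetI false

namespace CfsgLib.OddEnd

open Subgroup CfsgLib.OddLocal
open scoped commutatorElement

universe u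

variable {G : Type u} [Group G]

/-- The facts from Peterfalvi sections 10-13 used in section 14. -/
structure UptoThirteen (G : Type u) [Group G] [Finite G] : Prop where
  upto12 : Upto12 G
  /-- S1547. -/
  faithful : ∀ S T W₁ W₂ U V : Subgroup G, PairData S T W₁ W₂ U V →
    U ⊓ centralizer ((Cfsg.fittingHallOf S : Subgroup G) : Set G) = ⊥
  /-- S1549. -/
  normalizer_U : ∀ S T W₁ W₂ U V : Subgroup G, PairData S T W₁ W₂ U V → Cfsg.IsOfTypeII S →
    ∀ L : Subgroup G, IsCoatom L → normalizer (U : Set G) ≤ L →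
      (∀ x ∈ Cfsg.fittingHallOf L, x ≠ 1 → L ⊓ centralizer ({x} : Set G) ≤ Cfsg.fittingHallOf L) ∧
        U ≤ Cfsg.fittingHallOf L ∧
        ((Cfsg.fittingHallOf L ⊓ W₁ = ⊥ ∧ Cfsg.fittingHallOf L ⊔ W₁ = L) ∨
          ∃ y ∈ Cfsg.fittingHallOf T,
            Cfsg.fittingHallOf L ⊓ (W₁ ⊔ W₂.map (MulAut.conj y).toMonoidHom) = ⊥ ∧
              Cfsg.fittingHallOf L ⊔ (W₁ ⊔ W₂.map (MulAut.conj y).toMonoidHom) = L)

/-- The non-identity elements of `P` and the conjugates under `S` of the mixed elements of `W₁ W₂`. -/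
def bridgeSet (S P W₁ W₂ : Subgroup G) : Set G :=
  ((P : Set G) \ {1}) ∪
    {a | ∃ m ∈ S, ∃ w ∈ W₁ ⊔ W₂, w ∉ W₁ ∧ w ∉ W₂ ∧ a = m * w * m⁻¹}

/-- One side of a pair: `S = (P ⋊ U) ⋊ W₁` with `C_P(W₁) = W₂`. -/
structure SideData (S K P U W₁ W₂ : Subgroup G) (p q : ℕ) [Finite G] : Prop where
  mod : ModuleHyp P U W₁ p q
  K_le : K ≤ S
  K_norm : S ≤ normalizer (K : Set G)
  P_norm : S ≤ normalizer (P : Set G)
  compl : Cfsg.IsComplIn P U K
  compl' : Cfsg.IsComplIn K W₁ S
  card_W₂ : Nat.card W₂ = p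
  W₂_le : W₂ ≤ P
  u_mod : Nat.card U % q = 1
  odd : Odd (Nat.card S)
  dade : Cfsg.DadeHypothesis (bridgeSet S P W₁ W₂) S (fun _ => ⊥)
  primeDade : PrimeDade S K W₁ W₂ (bridgeSet S P W₁ W₂) (fun _ => ⊥)

variable [Finite G]

/-- A free action of a group of prime order leaves one fixed point. -/
theorem card_mod_eq_one {U W : Subgroup G} {q : ℕ} (hq : q.Prime) (hW : Nat.card W = q)
    (hn : W ≤ normalizer (U : Set G))
    (hfree : ∀ w ∈ W, w ≠ 1 → ∀ v ∈ U, w * v = v * w → v = 1) : Nat.card U % q = 1 := by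
  haveI := Fact.mk hq
  let _ : MulAction W U :=
    { smul := fun w v => ⟨w * v * (w : G)⁻¹, (mem_normalizer_iff.1 (hn w.2) v).1 v.2⟩
      one_smul := fun v => Subtype.ext (by show ((1 : W) : G) * v * ((1 : W) : G)⁻¹ = v; simp)
      mul_smul := fun a b v => Subtype.ext (by
        show ((a * b : W) : G) * v * ((a * b : W) : G)⁻¹ = a * (b * v * (b : G)⁻¹) * (a : G)⁻¹
        simp [mul_assoc]) }
  have hp : IsPGroup q W := IsPGroup.of_card (n := 1) (by rw [hW, pow_one])
  have h := hp.card_modEq_card_fixedPoints U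
  have hf : Nat.card (MulAction.fixedPoints W U) = 1 := by
    refine Nat.card_eq_one_iff_exists.2 ⟨⟨1, fun w => Subtype.ext (by
      show (w : G) * 1 * (w : G)⁻¹ = 1; simp)⟩, ?_⟩
    rintro ⟨v, hv⟩
    obtain ⟨w, hw, hw1⟩ := (Subgroup.bot_or_exists_ne_one W).resolve_left fun e =>
      hq.ne_one (by rw [← hW, e, Subgroup.card_bot])
    have h1 : (⟨w, hw⟩ : W) • v = v := hv ⟨w, hw⟩
    have h2 : w * (v : G) * w⁻¹ = v := congrArg Subtype.val h1
    exact Subtype.ext (Subtype.ext (hfree w hw hw1 v v.2 (mul_inv_eq_iff_eq_mul.1 h2)))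
  rw [Nat.ModEq, hf, Nat.one_mod_eq_one.2 hq.ne_one] at h
  exact h

namespace PairData

variable {S T W₁ W₂ U V : Subgroup G} (h : PairData S T W₁ W₂ U V)
variable (hG : Cfsg.IsMinSimpleOddOrder G) (h13 : UptoThirteen G)
include h hG h13

theorem coprime_U : (Nat.card U).Coprime (Nat.card W₂ * Nat.card W₁) :=
  (h.coprime_H_U.symm.coprime_dvd_right (card_dvd_of_le h.right_le_H)).mul_right
    (h.coprime_left.symm.coprime_dvd_left (card_dvd_of_le h.U_le))

theorem moduleHyp :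
    ModuleHyp (Cfsg.fittingHallOf S) U W₁ (Nat.card W₂) (Nat.card W₁) where
  prime_p := h.prime_right hG h13.upto12
  prime_q := h.prime_left hG h13.upto12
  odd_p := by have := h.symm.left_odd hG h13.upto12; omega
  odd_q := by have := h.left_odd hG h13.upto12; omega
  elem := h.elem hG h13.upto12
  card_P := h.card_H hG h13.upto12
  comm := h.U_comm hG h13.upto12
  U_ne := h.U_ne hG h13.upto12
  U_odd := hG.1.of_dvd_nat U.card_subgroup_dvd_card
  coprime := h.coprime_U hG h13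
  U_norm := h.U_le_normalizer_H
  W_norm := h.left_le_normalizer_H
  W_normU := h.typeP_S.U_normal
  card_W := rfl
  W_free := fun _ hw hw1 _ hv hc => h.U_fixed hv hw hw1 hc
  faithful := h13.faithful S T W₁ W₂ U V h
  irr := fun _ hN hn hN1 => h.eq_of_invariant hG h13.upto12 hN hn hN1

theorem bridgeSet_subset : bridgeSet S (Cfsg.fittingHallOf S) W₁ W₂ ⊆ Cfsg.typeA0 S := by
  have hnI := h.not_typeI hG h13.upto12
  rintro a (⟨ha, ha1⟩ | ⟨m, hm, w, hw, hw1, hw2, rfl⟩)
  · refine Or.inl ?_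
    rw [Cfsg.typeA, if_neg hnI]
    refine ⟨h.H_le ha, ha1, a, ?_, ha1, rfl⟩
    rw [Cfsg.typeCore]
    split_ifs
    · exact h.H_le ha
    · exact ha
  · exact Or.inr ⟨hnI, W₁, U, W₂, h.typeP_S, m, hm, w, hw, hw1, hw2, rfl⟩

theorem dade_bridge : Cfsg.DadeHypothesis (bridgeSet S (Cfsg.fittingHallOf S) W₁ W₂) S (fun _ => ⊥) := by
  obtain ⟨hTI, hN⟩ := h.typeA0_ti hG h13.upto12
  have hsub := h.bridgeSet_subset hG h13
  obtain ⟨x, hx, hx1⟩ := (Subgroup.bot_or_exists_ne_one W₂).resolve_left h.typeP_S.selfNormalizing.2.1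
  have hD := Cfsg.Agent.S1537.result hG S h.coatom_S (Cfsg.typeA0 S) (Or.inr (Or.inr rfl))
  have hD' := (CfsgLib.Char.dade_bot_iff (A := Cfsg.typeA0 S) ⟨x, hsub (Or.inl ⟨h.right_le_H hx, hx1⟩)⟩
    hD.2.one_not_mem S).1 ⟨hTI, hN⟩
  exact
    { one_not_mem := fun e => hD'.one_not_mem (hsub e)
      subset := hsub.trans hD'.subset
      conj_mem := by
        rintro m hm a (⟨ha, ha1⟩ | ⟨m', hm', w, hw, hw1, hw2, rfl⟩)
        · exact Or.inl ⟨(mem_normalizer_iff.1 (FittingHall.le_normalizer_of S hm) a).1 ha,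
            fun e => ha1 (conj_eq_one_iff.1 e)⟩
        · exact Or.inr ⟨m * m', mul_mem hm hm', w, hw, hw1, hw2, by group⟩
      fusion := fun a ha g hg => hD'.fusion a (hsub ha) g (hsub hg)
      le_centralizer := fun a ha => hD'.le_centralizer a (hsub ha)
      conj_mem_H := fun a ha => hD'.conj_mem_H a (hsub ha)
      inf_eq_bot := fun a ha => hD'.inf_eq_bot a (hsub ha)
      sup_eq := fun a ha => hD'.sup_eq a (hsub ha)
      coprime := fun a ha b hb => hD'.coprime a (hsub ha) b (hsub hb) }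

theorem primeDade_bridge :
    PrimeDade S ⁅S, S⁆ W₁ W₂ (bridgeSet S (Cfsg.fittingHallOf S) W₁ W₂) (fun _ => ⊥) := by
  have hn : S ≤ normalizer ((⁅S, S⁆ : Subgroup G) : Set G) := le_normalizer_commutator_self le_normalizer
  have hW2S : W₂ ≤ S := h.right_le_H.trans (h.H_le.trans h.derived_le)
  refine
    { le := h.derived_le
      normal := ⟨fun k hk g => (mem_normalizer_iff.1 (hn g.2) k).1 hk⟩
      left_le := h.left_le
      action := primeAction_of h.derived_le hn h.typeP_S.W₁_compl h.typeP_S.W₁_ne h.typeP_S.W₁_cyclic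
        h.coprime_left h.typeP_S.selfNormalizing.2.1 (haveI := h.typeP_S.selfNormalizing.2.2.2.2.1; Subgroup.isCyclic_of_le (le_sup_right : W₂ ≤ W₁ ⊔ W₂))
        (h.right_le_H.trans h.H_le) (hG.1.of_dvd_nat S.card_subgroup_dvd_card) fun x hx hx1 => ?_
      selfNorm := h.typeP_S.selfNormalizing
      odd := hG.1.of_dvd_nat (W₁ ⊔ W₂).card_subgroup_dvd_card
      dade := h.dade_bridge hG h13
      mixed := fun w hw h1 h2 => Or.inr ⟨1, one_mem _, w, hw, h1, h2, by group⟩
      mixed_R := fun _ _ _ _ => rfl }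
  haveI := h.typeP_S.selfNormalizing.2.2.2.2.1
  refine le_antisymm (fun y hy => ?_) fun y hy => ⟨sup_le h.left_le hW2S hy,
    mem_centralizer_singleton_iff.2 ?_⟩
  · obtain ⟨d, hd, w, hw, rfl⟩ := h.typeP_S.W₁_compl.2.2.2 y hy.1
    have hc : d * w * x = x * (d * w) := mem_centralizer_singleton_iff.1 hy.2
    haveI := h.typeP_S.W₁_cyclic
    letI : CommGroup W₁ := IsCyclic.commGroup
    have hwx : w * x = x * w := congrArg Subtype.val (mul_comm (⟨w, hw⟩ : W₁) ⟨x, hx⟩)
    have hdx : x * d = d * x := by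
      rw [mul_assoc, hwx, ← mul_assoc, ← mul_assoc] at hc
      exact (mul_right_cancel hc).symm
    exact mul_mem (mem_sup_right (h.mem_right_of_fixed hd hx hx1 hdx)) (mem_sup_left hw)
  · letI : CommGroup ↥(W₁ ⊔ W₂) := IsCyclic.commGroup
    exact congrArg Subtype.val (mul_comm (⟨y, hy⟩ : ↥(W₁ ⊔ W₂)) ⟨x, mem_sup_left hx⟩)

theorem sideData :
    SideData S ⁅S, S⁆ (Cfsg.fittingHallOf S) U W₁ W₂ (Nat.card W₂) (Nat.card W₁) where
  mod := h.moduleHyp hG h13
  K_le := h.derived_le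
  K_norm := le_normalizer_commutator_self le_normalizer
  P_norm := FittingHall.le_normalizer_of S
  compl := h.typeP_S.U_compl
  compl' := h.typeP_S.W₁_compl
  card_W₂ := rfl
  W₂_le := h.right_le_H
  u_mod := card_mod_eq_one (h.prime_left hG h13.upto12) rfl h.typeP_S.U_normal
    fun _ hw hw1 _ hv hc => h.U_fixed hv hw hw1 hc
  odd := hG.1.of_dvd_nat S.card_subgroup_dvd_card
  dade := h.dade_bridge hG h13
  primeDade := h.primeDade_bridge hG h13

end PairData

end CfsgLib.OddEnd
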