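import Cfsg.Agent.OddEnd.ElevenGrid

/-!
Peterfalvi 11.8: if `(1_{M'}^M - ζ)^τ` is `Σ_i η_{i0} - ζ^τ` then `X` with the columns is coherent.
-/

set_option autoImplicit false
set_option linter.unusedSectionVars false

namespace CfsgLib.OddEnd

open CfsgLib.Char
open scoped ComplexConjugate

universe u

variable {G : Type u} [Group G]

theorem tenTau_add (M : Subgroup G) (α β : M → ℂ) : tenTau M (α + β) = tenTau M α + tenTau M β := by
  funext g
  simp only [tenTau, Cfsg.dadeIsometry, Pi.add_apply]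
  split_ifs <;> simp

theorem tenTau_zero (M : Subgroup G) : tenTau M (0 : M → ℂ) = 0 := by
  funext g
  simp only [tenTau, Cfsg.dadeIsometry, Pi.zero_apply]
  split_ifs <;> rfl

/-- The inverse of a row. -/
noncomputable def rowNeg {W₁ W₂ : Subgroup G} (r : Row W₁ W₂) : Row W₁ W₂ :=
  ⟨r.1⁻¹, fun w hw => by rw [MonoidHom.inv_apply, r.2 w hw, inv_one]⟩

namespace ColCtx

open scoped Classical

variable [Fintype G] {M N W₁ W₂ V : Subgroup G} [Fintype M] [Fintype (Row W₁ W₂)]
  {χ : (↥(W₁ ⊔ W₂) →* ℂˣ) → G → ℂ} {μ : (↥(W₁ ⊔ W₂) →* ℂˣ) → M → ℂ}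
  {δ : (↥(W₁ ⊔ W₂) →* ℂˣ) → ℂ} {X : Finset (M → ℂ)} {u : ℕ}
variable (E : ColCtx M χ μ δ X u) (P : TenPair M N W₁ W₂ V)
  {f : (M → ℂ) → G → ℂ} (hf : Images M χ X f) {ζ : M → ℂ} (hζ : ζ ∈ X)
include E P hf hζ

/-- `(μ_l - u ζ)^τ`. -/
theorem gamma_col (hA : ∀ r, Cfsg.classInner (tenTau M (indOne M - ζ)) (χ (cell r col₀)) = 1)
    (hA' : ∀ r l, l ≠ col₀ → Cfsg.classInner (tenTau M (indOne M - ζ)) (χ (cell r l)) = 0)
    (hb : Cfsg.classInner (tenTau M (indOne M - ζ)) (f ζ) = -1)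
    {l : Col W₁ W₂} (hl : l ≠ col₀) :
    Cfsg.classInner (tenTau M ((∑ r : Row W₁ W₂, μ (cell r l)) - (u : ℂ) • ζ)) (f ζ) = -(u : ℂ) ∧
      ∀ ψ ∈ X, ψ ≠ ζ →
        Cfsg.classInner (tenTau M ((∑ r : Row W₁ W₂, μ (cell r l)) - (u : ℂ) • ζ)) (f ψ) = 0 := by
  haveI := Fintype.ofFinite (Col W₁ W₂)
  set q := Nat.card W₁
  set c := (∑ r : Row W₁ W₂, μ (cell r l))
  set Γ₀ := tenTau M (indOne M - ζ)
  set Γ := tenTau M (c - (u : ℂ) • ζ)
  have hs₀ := E.supp_ind P ζ (E.sub hζ) (E.degX ζ hζ)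
  have hs := E.supp_col P hl hζ
  -- the expansion of `Γ₀`
  set Sum₀ : G → ℂ := ∑ r : Row W₁ W₂, χ (cell r col₀)
  have hexp : Γ₀ = Sum₀ - f ζ := by
    have h1 : Cfsg.classInner Γ₀ Γ₀ = (q : ℂ) + 1 := by
      rw [P.tau_inner hs₀ hs₀, classInner_sub_left, classInner_sub_right, classInner_sub_right, E.Ione_norm P,
        (E.inner_Ione P (E.sub hζ)).1, (E.inner_Ione P (E.sub hζ)).2, E.X_inner P hζ hζ, if_pos rfl]
      ring
    have h2 : Cfsg.classInner Γ₀ Sum₀ = (q : ℂ) := by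
      rw [classInner_sum_right, Finset.sum_congr rfl fun r _ => hA r, Finset.sum_const, Finset.card_univ,
        E.cardRow P, nsmul_one]
    have h3 : Cfsg.classInner Sum₀ Sum₀ = (q : ℂ) := by
      rw [classInner_sum_left, Finset.sum_congr rfl fun r _ => by
          rw [classInner_sum_right, Finset.sum_eq_single r (fun s _ hs' => by
            rw [E.fam.orthonormal, if_neg fun e => hs' (cell_injective e).1.symm])
            (fun h => absurd (Finset.mem_univ r) h), E.fam.orthonormal, if_pos rfl],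
        Finset.sum_const, Finset.card_univ, E.cardRow P, nsmul_one]
    have h4 : Cfsg.classInner (f ζ) Sum₀ = 0 := by
      rw [classInner_sum_right]; exact Finset.sum_eq_zero fun r _ => hf.orth ζ hζ _
    refine sub_eq_zero.1 (classInner_self_eq_zero ?_)
    simp only [classInner_sub_left, classInner_sub_right]
    rw [h1, h2, hb, h3, h4, ← classInner_conj Γ₀ Sum₀, h2, ← classInner_conj (f ζ) Sum₀, h4,
      ← classInner_conj Γ₀ (f ζ), hb, hf.norm ζ hζ]
    simp
  have hzex : ∀ r, ∃ z : ℤ, Cfsg.classInner Γ (χ (cell r col₀)) = (z : ℂ) := fun r =>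
    IsGeneralized.exists_classInner_eq_int (P.tau_gen hs) (isGeneralized_family E.fam _)
  choose z hz using hzex
  -- divisible by `q`
  have hdvd : ∀ r, (q : ℤ) ∣ z r := fun r => by
    obtain ⟨hsI, hI⟩ := P.cong_row E.fam E.mu E.hq E.q3 hl (E.col l hl) (E.deg l hl) E.u1
    have he : tenTau M (c - ((u : ℤ) : ℂ) • Cfsg.indFun ((Cfsg.sigmaCore M).subgroupOf M) (fun _ => (1 : ℂ))) =
        Γ - (u : ℂ) • Γ₀ := by
      rw [← tenTau_smul, ← tenTau_sub, indOne, Int.cast_natCast]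
      congr 1
      module
    have h := hI r (z r - u) (by
      rw [he, classInner_sub_left, classInner_smul_left, hz, hA r]; push_cast; ring)
    have hu : (q : ℤ) ∣ (u : ℤ) - 1 := (Int.modEq_iff_dvd.1 (Int.natCast_modEq_iff.2 E.u1.symm))
    have := dvd_add h hu
    rwa [show z r - (u : ℤ) + 1 + ((u : ℤ) - 1) = z r by ring] at this
  have hz0 : z row₀ = 0 := by
    have h := hz row₀
    rw [cell_row₀, show (col₀ : Col W₁ W₂).1 = 1 from rfl, E.fam.map_one, P.tau_one hs, classInner_sub_left,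
      classInner_smul_left, E.inner_one P (E.col l hl), E.inner_one P (E.sub hζ)] at h
    have h' : (0 : ℂ) = (z row₀ : ℂ) := by simpa using h
    exact_mod_cast h'.symm
  -- symmetric under conjugation
  have hsym : ∀ r, z (rowNeg r) = z r := by
    obtain ⟨l', -, hne, hl', hconj⟩ := P.conj_col E.mu hl
    intro r
    have e1 : Cfsg.conjFun (c - (u : ℂ) • ζ) =
        ((c - (u : ℂ) • ζ) - (c - ∑ r : Row W₁ W₂, μ (cell r l'))) + (u : ℂ) • (ζ - Cfsg.conjFun ζ) := by
      rw [← hconj]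
      funext x
      simp only [Cfsg.conjFun, Pi.sub_apply, Pi.add_apply, Pi.smul_apply, smul_eq_mul, map_sub, map_mul, map_natCast]
      ring
    have h1 : Cfsg.classInner (Cfsg.conjFun Γ) (χ (cell r col₀)) = (z r : ℂ) := by
      rw [← tenTau_conj, e1, tenTau_add, tenTau_sub, tenTau_smul, P.tau_col E.fam E.mu hne.symm hl hl' (E.col l hl)
        (E.col l' hl'), hf.diff ζ hζ _ (E.conjX ζ hζ), classInner_add_left, classInner_sub_left,
        classInner_smul_left, classInner_smul_left, classInner_sub_left, hf.orth ζ hζ,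
        hf.orth _ (E.conjX ζ hζ), classInner_sum_left, Finset.sum_eq_zero fun s _ => ?_, hz]
      · ring
      · rw [classInner_sub_left, E.fam.orthonormal, E.fam.orthonormal,
          if_neg fun e => hl (cell_injective e).2, if_neg fun e => hl' (cell_injective e).2, sub_zero]
    have e2 : χ (cell r col₀) = Cfsg.conjFun (χ (cell (rowNeg r) col₀)) := funext fun g => by
      have h := cyclicTI_map P.W_M P.primeDade_M.odd E.fam conjAut (cell (rowNeg r) col₀) g
      rw [mapHom_conjAut, show (cell (rowNeg r) col₀)⁻¹ = cell r col₀ from MonoidHom.ext fun w => by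
        simp [cell_col₀, rowNeg]] at h
      exact h.symm
    rw [e2, classInner_conjFun_conjFun, ← classInner_conj, hz, map_intCast] at h1
    exact_mod_cast h1
  -- Bessel
  have hzl : ∀ r l', ∃ x : ℤ, Cfsg.classInner Γ (χ (cell r l')) = (x : ℂ) := fun r l' =>
    IsGeneralized.exists_classInner_eq_int (P.tau_gen hs) (isGeneralized_family E.fam _)
  choose x hx using hzl
  have hx0 : ∀ r, x r col₀ = z r := fun r => by
    have := hx r col₀
    rw [hz] at this
    exact_mod_cast this.symm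
  have hn : ∀ ψ ∈ X, ψ ≠ ζ → Cfsg.classInner Γ (f ψ - f ζ) = ((u : ℤ) : ℂ) := fun ψ hψ hne => by
    rw [← hf.diff ψ hψ ζ hζ, P.tau_inner hs (P.suppA_sub (E.sub hψ) (E.sub hζ) (by rw [E.degX ψ hψ, E.degX ζ hζ])),
      classInner_sub_left, classInner_sub_right, classInner_sub_right, classInner_smul_left, classInner_smul_left,
      (E.col_irr P l hl hψ).1, (E.col_irr P l hl hζ).1, E.X_inner P hζ hψ, if_neg (Ne.symm hne),
      E.X_inner P hζ hζ, if_pos rfl, Int.cast_natCast]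
    ring
  have hT : Cfsg.classInner Γ Γ = (((q : ℤ) + u * u : ℤ) : ℂ) := by
    rw [P.tau_inner hs hs, classInner_sub_left, classInner_sub_right, classInner_sub_right, classInner_smul_left,
      classInner_smul_left, classInner_smul_right, classInner_smul_right, E.col_inner P, if_pos rfl,
      (E.col_irr P l hl hζ).1, (E.col_irr P l hl hζ).2, E.X_inner P hζ hζ, if_pos rfl, Complex.conj_natCast]
    push_cast
    ring
  obtain ⟨a, ha1, ha, hB⟩ := TenPair.bessel_image E.fam hf (P.tau_gen hs) hζ u hn x hx hT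
  have ha0 : a = ∑ r, z r := by
    have h : Cfsg.classInner Γ Γ₀ = (u : ℂ) := by
      rw [P.tau_inner hs hs₀, classInner_sub_left, classInner_sub_right, classInner_sub_right, classInner_smul_left,
        classInner_smul_left, (E.inner_Ione P (E.col l hl)).2, (E.inner_Ione P (E.sub hζ)).2,
        (E.col_irr P l hl hζ).1, E.X_inner P hζ hζ, if_pos rfl]
      ring
    rw [hexp, classInner_sub_right, ha1, classInner_sum_right, Finset.sum_congr rfl fun r _ => hz r] at h
    have h' : (((∑ r, z r) - (a - (u : ℤ)) : ℤ) : ℂ) = ((u : ℤ) : ℂ) := by push_cast at h ⊢; exact h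
    have : (∑ r, z r) - (a - (u : ℤ)) = u := by exact_mod_cast h'
    linarith
  have hle : ∑ r, z r * z r ≤ ∑ l', ∑ r, x r l' * x r l' :=
    le_trans (le_of_eq (Finset.sum_congr rfl fun r _ => by rw [hx0]))
      (Finset.single_le_sum (f := fun l' => ∑ r, x r l' * x r l')
        (fun l' _ => Finset.sum_nonneg fun r _ => mul_self_nonneg _) (Finset.mem_univ col₀))
  have hrinv : ∀ r : Row W₁ W₂, rowNeg (rowNeg r) = r := fun r => Subtype.ext (inv_inv r.1)
  have hrfix : ∀ r : Row W₁ W₂, rowNeg r = r → r = row₀ := fun r hr => Subtype.ext (MonoidHom.ext fun w => by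
    have h1 : (r.1 w)⁻¹ = r.1 w := DFunLike.congr_fun (congrArg Subtype.val hr) w
    have h2 : r.1 w ^ Nat.card ↥(W₁ ⊔ W₂) = 1 := by rw [← map_pow, pow_card_eq_one', map_one]
    obtain ⟨k, hk⟩ := P.primeDade_M.odd
    have h3 : r.1 w ^ 2 = 1 := by
      rw [pow_two]
      calc r.1 w * r.1 w = (r.1 w)⁻¹ * r.1 w := by rw [h1]
        _ = 1 := inv_mul_cancel _
    rw [hk, pow_succ, pow_mul, h3, one_pow, one_mul] at h2
    exact h2)
  have hsum := sum_multiples_zero row₀ rowNeg hrinv hrfix (Subtype.ext (MonoidHom.ext fun w => inv_one)) z hz0 hsym q u X.card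
    (by exact_mod_cast E.q3) (fun h => E.qodd (by exact_mod_cast h)) (by have := E.u2; have := E.q3; omega)
    (by exact_mod_cast E.card) hdvd (by rw [← ha0]; linarith)
  rw [← ha0] at hsum
  subst hsum
  exact ⟨by rw [ha1]; simp, fun ψ hψ hne => by rw [ha ψ hψ hne, Int.cast_zero]⟩

/-- `X` with all nontrivial columns is coherent. -/
theorem coherent_cols (hA : ∀ r, Cfsg.classInner (tenTau M (indOne M - ζ)) (χ (cell r col₀)) = 1)
    (hA' : ∀ r l, l ≠ col₀ → Cfsg.classInner (tenTau M (indOne M - ζ)) (χ (cell r l)) = 0)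
    (hb : Cfsg.classInner (tenTau M (indOne M - ζ)) (f ζ) = -1) :
    Cfsg.IsCoherent ((↑X : Set (M → ℂ)) ∪ {φ | ∃ l : Col W₁ W₂, l ≠ col₀ ∧ φ = ∑ r, μ (cell r l)})
      ({1}ᶜ : Set M) (tenTau M) := by
  set Y : Set (M → ℂ) := (↑X : Set (M → ℂ)) ∪ {φ | ∃ l : Col W₁ W₂, l ≠ col₀ ∧ φ = ∑ r, μ (cell r l)} with hY
  have hq0 : (Nat.card W₁ : ℂ) ≠ 0 := by exact_mod_cast E.hq.ne_zero
  let T : (M → ℂ) → G → ℂ := fun α => tenTau M (α - (α 1 / (Nat.card W₁ : ℂ)) • ζ) + (α 1 / (Nat.card W₁ : ℂ)) • f ζ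
  have hTadd : ∀ α β, T (α + β) = T α + T β := fun α β => by
    simp only [T, Pi.add_apply, add_div, add_smul]
    rw [show α + β - ((α 1 / (Nat.card W₁ : ℂ)) • ζ + (β 1 / (Nat.card W₁ : ℂ)) • ζ) =
      (α - (α 1 / (Nat.card W₁ : ℂ)) • ζ) + (β - (β 1 / (Nat.card W₁ : ℂ)) • ζ) by abel, tenTau_add]
    abel
  have hTsmul : ∀ (n : ℤ) α, T (n • α) = n • T α := fun n α => by
    have e : n • α = (n : ℂ) • α := (Int.cast_smul_eq_zsmul ℂ n α).symm
    rw [e, ← Int.cast_smul_eq_zsmul ℂ n (T α)]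
    simp only [T, Pi.smul_apply, smul_eq_mul]
    rw [show (n : ℂ) • α - ((n : ℂ) * α 1 / (Nat.card W₁ : ℂ)) • ζ = (n : ℂ) • (α - (α 1 / (Nat.card W₁ : ℂ)) • ζ) by
      rw [smul_sub, smul_smul, mul_div_assoc], tenTau_smul, smul_add, smul_smul, mul_div_assoc]
  have hTX : ∀ ψ ∈ X, T ψ = f ψ := fun ψ hψ => by
    simp only [T, E.degX ψ hψ, div_self hq0, one_smul, hf.diff ψ hψ ζ hζ, sub_add_cancel]
  have hTcol : ∀ l : Col W₁ W₂, l ≠ col₀ → T (∑ r, μ (cell r l)) =
      tenTau M ((∑ r, μ (cell r l)) - (u : ℂ) • ζ) + (u : ℂ) • f ζ := fun l hl => by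
    simp only [T, E.col_one P hl, mul_div_cancel_left₀ _ hq0]
  have hYsub : ∀ φ ∈ Y, φ ∈ tenS M := by
    rintro φ (hφ | ⟨l, hl, rfl⟩)
    · exact E.sub hφ
    · exact E.col l hl
  have hfζ : ∀ l : Col W₁ W₂, l ≠ col₀ → ∀ ψ ∈ X,
      Cfsg.classInner (T (∑ r, μ (cell r l))) (f ψ) = 0 := fun l hl ψ hψ => by
    obtain ⟨h1, h2⟩ := E.gamma_col P hf hζ hA hA' hb hl
    rw [hTcol l hl, classInner_add_left, classInner_smul_left]
    by_cases e : ψ = ζ
    · subst e; rw [h1, hf.norm ψ hψ]; ring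
    · rw [h2 ψ hψ e, hf.disj ζ hζ ψ hψ (Ne.symm e)]; ring
  have hmem : ∀ φ ∈ Y, Cfsg.IsGeneralizedCharacter G (T φ) ∧
      ∀ ψ ∈ Y, Cfsg.classInner (T φ) (T ψ) = Cfsg.classInner φ ψ := by
    rintro φ (hφ | ⟨j, hj, rfl⟩)
    · refine ⟨hTX φ hφ ▸ hf.gen φ hφ, ?_⟩
      rintro ψ (hψ | ⟨k, hk, rfl⟩)
      · rw [hTX φ hφ, hTX ψ hψ, E.X_inner P hφ hψ]
        split_ifs with e
        · rw [e, hf.norm ψ hψ]
        · exact hf.disj φ hφ ψ hψ e
      · rw [hTX φ hφ, ← classInner_conj, hfζ k hk φ hφ, map_zero, (E.col_irr P k hk hφ).2]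
    · have hsj := E.supp_col P hj hζ
      refine ⟨?_, ?_⟩
      · rw [hTcol j hj]
        exact IsGeneralized.add (P.tau_gen hsj)
          (by exact_mod_cast IsGeneralized.intCast_smul (hf.gen ζ hζ) (u : ℤ))
      rintro ψ (hψ | ⟨k, hk, rfl⟩)
      · rw [hTX ψ hψ, hfζ j hj ψ hψ, (E.col_irr P j hj hψ).1]
      · rw [hTcol j hj, hTcol k hk]
        have h1 := (E.gamma_col P hf hζ hA hA' hb hj).1
        have h2 := (E.gamma_col P hf hζ hA hA' hb hk).1
        have h3 : Cfsg.classInner (f ζ) (tenTau M ((∑ r, μ (cell r k)) - (u : ℂ) • ζ)) = -(u : ℂ) := by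
          rw [← classInner_conj, h2, map_neg, Complex.conj_natCast]
        rw [classInner_add_left, classInner_add_right, classInner_add_right, classInner_smul_left,
          classInner_smul_left, classInner_smul_right, classInner_smul_right, h1, h3, hf.norm ζ hζ,
          P.tau_inner hsj (E.supp_col P hk hζ), classInner_sub_left, classInner_sub_right, classInner_sub_right,
          classInner_smul_left, classInner_smul_left, classInner_smul_right, classInner_smul_right,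
          (E.col_irr P j hj hζ).1, (E.col_irr P k hk hζ).2, E.X_inner P hζ hζ, if_pos rfl, Complex.conj_natCast]
        ring
  have hTzero : T 0 = 0 := by
    simp only [T, Pi.zero_apply, zero_div, zero_smul, sub_zero, tenTau_zero, add_zero]
  have hspan : ∀ α ∈ Cfsg.zspan Y, Cfsg.IsGeneralizedCharacter G (T α) ∧
      ∀ β ∈ Cfsg.zspan Y, Cfsg.classInner (T α) (T β) = Cfsg.classInner α β := by
    intro α hα
    induction hα using Submodule.span_induction with
    | mem y hy =>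
      refine ⟨(hmem y hy).1, fun β hβ => ?_⟩
      induction hβ using Submodule.span_induction with
      | mem z hz => exact (hmem y hy).2 z hz
      | zero => rw [hTzero, classInner_zero_right, classInner_zero_right]
      | add a b _ _ iha ihb => rw [hTadd, classInner_add_right (T y) (T a) (T b), classInner_add_right y a b, iha, ihb]
      | smul n a _ iha =>
        rw [hTsmul, ← Int.cast_smul_eq_zsmul ℂ, ← Int.cast_smul_eq_zsmul ℂ, classInner_smul_right,
          classInner_smul_right, iha]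
    | zero => exact ⟨hTzero ▸ isGeneralized_zero, fun β _ => by rw [hTzero, classInner_zero_left, classInner_zero_left]⟩
    | add a b _ _ iha ihb =>
      exact ⟨hTadd a b ▸ IsGeneralized.add iha.1 ihb.1, fun β hβ => by
        rw [hTadd, classInner_add_left (T a) (T b) (T β), classInner_add_left a b β, iha.2 β hβ, ihb.2 β hβ]⟩
    | smul n a _ iha =>
      exact ⟨hTsmul n a ▸ IsGeneralized.zsmul iha.1 n, fun β hβ => by
        rw [hTsmul, ← Int.cast_smul_eq_zsmul ℂ, ← Int.cast_smul_eq_zsmul ℂ, classInner_smul_left,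
          classInner_smul_left, iha.2 β hβ]⟩
  refine ⟨⟨ζ - Cfsg.conjFun ζ, mem_zspanOn_one.2 ⟨Submodule.sub_mem _ (subset_zspan (Or.inl hζ))
      (subset_zspan (Or.inl (E.conjX ζ hζ))), ?_⟩, sub_ne_zero.2 (Ne.symm (P.tenS_conj_ne (E.sub hζ)))⟩,
    T, ⟨fun α _ β _ => hTadd α β, fun α _ n => hTsmul n α, fun α hα β hβ => (hspan α hα).2 β hβ,
      fun α hα => (hspan α hα).1⟩, fun α hα => ?_⟩
  · rw [Pi.sub_apply, E.degX ζ hζ, E.degX _ (E.conjX ζ hζ), sub_self]
  · simp only [T, (mem_zspanOn_one.1 hα).2, zero_div, zero_smul, sub_zero, add_zero]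

end ColCtx

end CfsgLib.OddEnd
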