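import Cfsg.Agent.OddEnd.ElevenColumn
import Cfsg.Agent.OddEnd.ElevenColCoh

/-!
Peterfalvi 11.8: `p < q`, and `(1_{M'}^M - ζ)^τ` has the row shape on the grid.
-/

set_option autoImplicit false
set_option linter.unusedSectionVars false
set_option linter.style.haveILetI false

namespace CfsgLib.OddEnd

open Subgroup CfsgLib.OddLocal CfsgLib.Char
open scoped ComplexConjugate commutatorElement

universe u

variable {G : Type u} [Group G]

namespace Three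

variable [Fintype G] {M W₁ U W₂ N V : Subgroup G} [Fintype M] [Fintype (Row W₁ W₂)]
  {χ : (↥(W₁ ⊔ W₂) →* ℂˣ) → G → ℂ} {μ : (↥(W₁ ⊔ W₂) →* ℂˣ) → M → ℂ}
  {δ : (↥(W₁ ⊔ W₂) →* ℂˣ) → ℂ}
variable (hT : Three M W₁ U W₂) (hG : Cfsg.IsMinSimpleOddOrder G)
  (hd : ⁅⁅M, M⁆, ⁅M, M⁆⁆ = Cfsg.fittingOf M) (P : TenPair M N W₁ W₂ V)
include hT hG hd P

/-- The context of the grid argument. -/
theorem exists_colCtx (hχ : Cfsg.IsCyclicTIFamily W₁ W₂ χ) (hμ : IsMuG M (Cfsg.sigmaCore M) W₁ W₂ μ δ) :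
    ∃ X : Finset (M → ℂ), ColCtx M χ μ δ X ((Cfsg.fittingOf M).relIndex ⁅M, M⁆) ∧
      (∀ φ ∈ X, φ ∈ Cfsg.inducedIrrAbove (coreIn M) (centIn M U)) := by
  obtain ⟨X, -, hsub, hC, hirr, hconj, hdeg, h2, hcard⟩ := hT.exists_X hG hd P hμ
  obtain ⟨hu1, hu2, -⟩ := hT.u_facts hG
  have hcols := hT.cols_mem hG hd P hμ
  refine ⟨X,
    { fam := hχ
      mu := hμ
      hq := hT.prime_left hG
      q3 := hT.q_three hG
      p3 := hT.p_three hG
      qodd := fun h => by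
        obtain ⟨k, hk⟩ := h
        obtain ⟨j, hj⟩ := hG.1.of_dvd_nat W₁.card_subgroup_dvd_card
        omega
      u1 := hu1
      u2 := hu2
      col := fun l hl => inducedIrrAbove_subset_bot _ _ (hcols l hl).1
      deg := fun l hl => (hcols l hl).2
      sub := hsub
      irr := hirr
      conjX := hconj
      degX := hdeg
      two := h2
      card := hcard }, hC⟩

/-- The column shape contradicts the non-coherence of `S(C)`. -/
theorem no_col_shape {R : (M → ℂ) → Finset (G → ℂ)} (hS : Cfsg.IsCoherenceSystem (tenS M) (tenTau M) R)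
    (hnc : ¬ Cfsg.IsCoherent (tenS M) ({1}ᶜ : Set M) (tenTau M))
    {X : Finset (M → ℂ)} (E : ColCtx M χ μ δ X ((Cfsg.fittingOf M).relIndex ⁅M, M⁆))
    (hXC : ∀ φ ∈ X, φ ∈ Cfsg.inducedIrrAbove (coreIn M) (centIn M U))
    {f : (M → ℂ) → G → ℂ} (hf : Images M χ X f) {ζ : M → ℂ} (hζ : ζ ∈ X)
    (hA : ∀ r, Cfsg.classInner (tenTau M (indOne M - ζ)) (χ (cell r col₀)) = 1)
    (hA' : ∀ r l, l ≠ col₀ → Cfsg.classInner (tenTau M (indOne M - ζ)) (χ (cell r l)) = 0)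
    (hb : Cfsg.classInner (tenTau M (indOne M - ζ)) (f ζ) = -1) : False := by
  classical
  haveI := P.normal_core
  haveI := Fintype.ofFinite (Col W₁ W₂)
  haveI := hT.cent_normal hG hd P
  set u := (Cfsg.fittingOf M).relIndex ⁅M, M⁆
  set q := Nat.card W₁
  have hcoh := E.coherent_cols P hf hζ hA hA' hb
  set cols : Finset (M → ℂ) :=
    (Finset.univ.filter fun l : Col W₁ W₂ => l ≠ col₀).image fun l => ∑ r, μ (cell r l) with hcols
  have hset : ((↑X : Set (M → ℂ)) ∪ {φ | ∃ l : Col W₁ W₂, l ≠ col₀ ∧ φ = ∑ r, μ (cell r l)}) =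
      ↑(X ∪ cols) := by
    ext φ
    simp [hcols, eq_comm]
  rw [hset] at hcoh
  set Y := aboveInd (coreIn M) (centIn M U) with hY
  have hmemcol := hT.cols_mem hG hd P E.mu
  have hXY : X ∪ cols ⊆ Y := by
    intro φ hφ
    rcases Finset.mem_union.1 hφ with h | h
    · exact mem_aboveInd.2 (hXC φ h)
    · obtain ⟨l, hl, rfl⟩ := Finset.mem_image.1 h
      exact mem_aboveInd.2 (hmemcol l (Finset.mem_filter.1 hl).2).1
  have hconjc : ∀ φ ∈ X ∪ cols, Cfsg.conjFun φ ∈ X ∪ cols := by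
    intro φ hφ
    rcases Finset.mem_union.1 hφ with h | h
    · exact Finset.mem_union_left _ (E.conjX φ h)
    · obtain ⟨l, hl, rfl⟩ := Finset.mem_image.1 h
      obtain ⟨l', -, -, hl', e⟩ := P.conj_col E.mu (Finset.mem_filter.1 hl).2
      exact Finset.mem_union_right _ (Finset.mem_image.2 ⟨l', Finset.mem_filter.2 ⟨Finset.mem_univ _, hl'⟩, e.symm⟩)
  have hcdq : cdeg ζ = q := by rw [cdeg, E.degX ζ hζ, Complex.natCast_re, Nat.floor_natCast]
  obtain ⟨l₁, hl₁⟩ : ∃ l : Col W₁ W₂, l ≠ col₀ := by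
    by_contra h
    push Not at h
    have h1 : Fintype.card (Col W₁ W₂) ≤ 1 := Fintype.card_le_one_iff.2 fun a b => (h a).trans (h b).symm
    rw [← Nat.card_eq_fintype_card, (card_trivL P.W_M).1] at h1
    have := E.p3
    omega
  set c₁ := ∑ r, μ (cell r l₁)
  have hc₁ : c₁ ∈ X ∪ cols := Finset.mem_union_right _
    (Finset.mem_image.2 ⟨l₁, Finset.mem_filter.2 ⟨Finset.mem_univ _, hl₁⟩, rfl⟩)
  have hw : ((q : ℝ) * u) ^ 2 / q ≤ ∑ φ ∈ X ∪ cols, ((cdeg φ : ℝ) ^ 2 / (cnorm φ : ℝ)) := by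
    have e1 : cdeg c₁ = q * u := by
      rw [cdeg, show c₁ 1 = _ from E.col_one P hl₁, ← Nat.cast_mul, Complex.natCast_re, Nat.floor_natCast]
    have e2 : cnorm c₁ = q := by
      rw [cnorm, show Cfsg.classInner c₁ c₁ = _ from E.col_inner P l₁ l₁, if_pos rfl, Complex.natCast_re, Nat.floor_natCast]
    have h := Finset.single_le_sum (f := fun φ => ((cdeg φ : ℝ) ^ 2 / (cnorm φ : ℝ)))
      (fun φ _ => by positivity) hc₁
    simp only [e1, e2, Nat.cast_mul] at h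
    exact h
  refine hT.not_coherent_C hG hd P hS hnc ?_
  rw [← coe_aboveInd]
  refine coherent_grow hS (X ∪ cols) Y hXY ?_ hconjc ?_ hcoh (Finset.mem_union_left _ hζ) fun φ hφ _ => ?_
  · rw [hY, coe_aboveInd]; exact inducedIrrAbove_subset_bot _ _
  · exact fun φ hφ => mem_aboveInd.2 (conjFun_mem_inducedIrrAbove (mem_aboveInd.1 hφ))
  obtain ⟨θ, h1, -, h3, rfl⟩ := mem_aboveInd.1 hφ
  rw [cdeg_indFun h1, P.core_index, hcdq]
  refine ⟨dvd_mul_right _ _, lt_of_lt_of_le ?_ hw⟩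
  have hle : (cdeg θ : ℝ) ≤ u := by exact_mod_cast hT.cdeg_le hG hd P h1 h3
  have hu2 : (2 * q + 1 : ℝ) ≤ u := by exact_mod_cast E.u2
  have hq0 : (0 : ℝ) < q := by exact_mod_cast E.hq.pos
  rw [lt_div_iff₀ hq0, Nat.cast_mul]
  have hu0 : (0 : ℝ) < u := by linarith
  calc 2 * ((q : ℝ) * (cdeg θ : ℝ)) * q * q ≤ 2 * ((q : ℝ) * u) * q * q := by gcongr
    _ < ((q : ℝ) * u) ^ 2 := by nlinarith [mul_pos (mul_pos hq0 hq0) hu0]

/-- Peterfalvi 11.8: `p < q` and the row shape. -/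
theorem row_data (hnc : ¬ Cfsg.IsCoherent (tenS M) ({1}ᶜ : Set M) (tenTau M))
    (hχ : Cfsg.IsCyclicTIFamily W₁ W₂ χ) (hμ : IsMuG M (Cfsg.sigmaCore M) W₁ W₂ μ δ) :
    Nat.card W₂ < Nat.card W₁ ∧
      ∃ (X : Finset (M → ℂ)) (f : (M → ℂ) → G → ℂ) (ζ : M → ℂ) (A : Row W₁ W₂ → ℤ),
        ColCtx M χ μ δ X ((Cfsg.fittingOf M).relIndex ⁅M, M⁆) ∧ Images M χ X f ∧ ζ ∈ X ∧
        (∀ r, Cfsg.classInner (tenTau M (indOne M - ζ)) (χ (cell r col₀)) = (A r : ℂ)) ∧ A row₀ = 1 ∧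
        (Nat.card W₂ : ℤ) * ∑ r, A r * A r ≤ (Nat.card W₁ : ℤ) := by
  classical
  obtain ⟨X, E, hXC⟩ := hT.exists_colCtx hG hd P hχ hμ
  obtain ⟨ζ, hζ⟩ := Finset.card_pos.1 (lt_trans Nat.zero_lt_one E.two)
  obtain ⟨R, hS⟩ := P.exists_system hχ hμ ⟨ζ, E.sub hζ⟩
  obtain ⟨f, hf⟩ := P.exists_images hχ X E.sub E.irr E.conjX
    (fun φ hφ ψ hψ => by rw [E.degX φ hφ, E.degX ψ hψ]) E.two
  obtain ⟨A, s, b, hA1, hA, hA', hb1, hb, hcase⟩ := E.gamma_zero P hf hζ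
  rcases hcase with ⟨-, hle⟩ | ⟨rfl, hall, hbcase⟩
  · refine ⟨lt_of_le_of_ne ?_ (hT.p_ne_q hG), X, f, ζ, A, E, hf, hζ, hA, hA1, hle⟩
    have h1 : (1 : ℤ) ≤ ∑ r, A r * A r :=
      le_trans (by rw [hA1]; norm_num)
        (Finset.single_le_sum (f := fun r => A r * A r) (fun r _ => mul_self_nonneg _) (Finset.mem_univ row₀))
    have : (Nat.card W₂ : ℤ) ≤ (Nat.card W₁ : ℤ) := le_trans (by nlinarith) hle
    exact_mod_cast this
  exfalso
  have hA1' : ∀ r, Cfsg.classInner (tenTau M (indOne M - ζ)) (χ (cell r col₀)) = 1 := fun r => by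
    rw [hA, hall, Int.cast_one]
  have hA0 : ∀ r l, l ≠ col₀ → Cfsg.classInner (tenTau M (indOne M - ζ)) (χ (cell r l)) = 0 := fun r l hl => by
    rw [hA' r l hl, hall]; simp
  rcases hbcase with rfl | ⟨rfl, hX2⟩
  · exact hT.no_col_shape hG hd P hS hnc E hXC hf hζ hA1' hA0 (by rw [hb1]; simp)
  · refine hT.no_col_shape hG hd P hS hnc E hXC (E.images_swap P hf hX2) hζ hA1' hA0 ?_
    rw [classInner_neg_right, hb _ (E.conjX ζ hζ) (P.tenS_conj_ne (E.sub hζ))]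
    simp

end Three

end CfsgLib.OddEnd
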