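import Cfsg.Agent.OddEnd.ElevenLineChars
import Cfsg.Agent.OddEnd.ElevenRow

/-!
Peterfalvi 11.9: the line case is impossible.
-/

set_option autoImplicit false
set_option linter.unusedSectionVars false
set_option linter.style.haveILetI false

namespace CfsgLib.OddEnd

open Subgroup CfsgLib.OddLocal CfsgLib.Char
open scoped ComplexConjugate commutatorElement

universe u

variable {G : Type u} [Group G] [Fintype G]

namespace Three

variable {M W₁ U W₂ N V A E : Subgroup G} {d : ℕ} [Fintype M] [Fintype (Row W₁ W₂)]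
  {χ : (↥(W₁ ⊔ W₂) →* ℂˣ) → G → ℂ} {μ : (↥(W₁ ⊔ W₂) →* ℂˣ) → M → ℂ}
  {δ : (↥(W₁ ⊔ W₂) →* ℂˣ) → ℂ}
  (hT : Three M W₁ U W₂) (hG : Cfsg.IsMinSimpleOddOrder G)
  (hd : ⁅⁅M, M⁆, ⁅M, M⁆⁆ = Cfsg.fittingOf M) (P : TenPair M N W₁ W₂ V) (hL : StabData M W₁ U W₂ A E d)
include hT hG hd P hL

set_option maxHeartbeats 1000000 in
theorem no_line {X : Finset (M → ℂ)} {u : ℕ} (hu : u = (Cfsg.fittingOf M).relIndex ⁅M, M⁆)
    (C : ColCtx M χ μ δ X u) {f : (M → ℂ) → G → ℂ} (hf : Images M χ X f) {ζ : M → ℂ} (hζ : ζ ∈ X)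
    {a : Row W₁ W₂ → ℤ}
    (ha : ∀ r, Cfsg.classInner (tenTau M (indOne M - ζ)) (χ (cell r col₀)) = (a r : ℂ))
    (hle : (Nat.card W₂ : ℤ) * ∑ r, a r * a r ≤ (Nat.card W₁ : ℤ))
    (hlt : Nat.card W₂ < Nat.card W₁) : False := by
  classical
  haveI := Fintype.ofFinite (Col W₁ W₂)
  set q := Nat.card W₁
  set p := Nat.card W₂
  obtain ⟨m, hm⟩ := hL.dvd
  obtain ⟨Z, hZsub, hZirr, hZconj, hZdeg, hZcard⟩ := hT.exists_Z hG hd P hL hm
  rw [← hu] at hm
  have hd3 := hL.three_le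
  have hcube : d ^ 3 ≤ u := hu ▸ hL.cube_le
  have hm1 : 1 ≤ m := by
    rcases Nat.eq_zero_or_pos m with e | e
    · have := C.u2
      rw [hm, e, mul_zero] at this
      omega
    · exact e
  obtain ⟨g, hg⟩ := P.exists_images C.fam Z hZsub hZirr hZconj
    (fun φ hφ ψ hψ => by rw [hZdeg φ hφ, hZdeg ψ hψ]) (by omega)
  obtain ⟨ψ, hψ⟩ := Finset.card_pos.1 (show 0 < Z.card by omega)
  have hp3 := C.p3
  obtain ⟨l, hl⟩ : ∃ l : Col W₁ W₂, l ≠ col₀ := by
    by_contra h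
    push Not at h
    have h1 : Fintype.card (Col W₁ W₂) ≤ 1 := Fintype.card_le_one_iff.2 fun a b => (h a).trans (h b).symm
    rw [← Nat.card_eq_fintype_card, (card_trivL P.W_M).1] at h1
    omega
  set c := ∑ r : Row W₁ W₂, μ (cell r l)
  have hψc : ∀ {φ : M → ℂ}, φ ∈ Z → ∀ j : Col W₁ W₂, j ≠ col₀ →
      Cfsg.classInner φ (∑ r, μ (cell r j)) = 0 ∧ Cfsg.classInner (∑ r, μ (cell r j)) φ = 0 := fun {φ} hφ j hj => by
    have hne := P.irr_ne_col C.mu (hZsub hφ) (hZirr φ hφ) j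
    exact ⟨P.tenS_orth (hZsub hφ) (C.col j hj) hne, P.tenS_orth (C.col j hj) (hZsub hφ) hne.symm⟩
  have hψX : ∀ {φ : M → ℂ}, φ ∈ X → Cfsg.classInner ψ φ = 0 ∧ Cfsg.classInner φ ψ = 0 := fun {φ} hφ => by
    have hne : ψ ≠ φ := fun e => by
      have h := hZdeg ψ hψ
      rw [e, C.degX φ hφ] at h
      have h' : q = q * d := by exact_mod_cast h
      have := Nat.eq_of_mul_eq_mul_left C.hq.pos (show q * 1 = q * d by rw [mul_one]; exact h')
      omega
    exact ⟨P.tenS_orth (hZsub hψ) (C.sub hφ) hne, P.tenS_orth (C.sub hφ) (hZsub hψ) hne.symm⟩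
  have hψ1 : Cfsg.classInner ψ ψ = 1 := IsIrrCharacter.classInner_self (hZirr ψ hψ)
  have hone : ∀ {φ : M → ℂ}, φ ∈ tenS M → Cfsg.classInner φ (fun _ => 1) = 0 := fun hφ => C.inner_one P hφ
  -- `(c - m ψ)^τ` has a trivial first column
  have hx : SuppA M (c - (m : ℂ) • ψ) := by
    refine P.suppA_of_mem (mem_zspanOn_one.2 ⟨Submodule.sub_mem _ (subset_zspan (C.col l hl)) ?_, ?_⟩)
    · rw [show (m : ℂ) • ψ = (m : ℤ) • ψ by rw [← Int.cast_smul_eq_zsmul ℂ, Int.cast_natCast]]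
      exact Submodule.smul_mem _ _ (subset_zspan (hZsub hψ))
    · rw [Pi.sub_apply, Pi.smul_apply, show c 1 = _ from C.col_one P hl, hZdeg ψ hψ, hm, smul_eq_mul, Nat.cast_mul]
      ring
  obtain ⟨t, s, ht, hs0, hadd, hdiff⟩ := P.grid_of_supp C.fam C.mu hx
  have ht0 : t row₀ = 0 := by
    rw [classInner_sub_left, classInner_smul_left, hone (C.col l hl), hone (hZsub hψ), mul_zero, sub_zero] at ht
    exact_mod_cast ht
  have hs : ∀ k, k ≠ col₀ → k ≠ l → s l - s k = 1 := fun k hk hkl => by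
    have h := hdiff l k (Ne.symm hkl) hl hk
    rw [C.sign P hl, one_mul, classInner_sub_left, classInner_sub_right, classInner_sub_right,
      classInner_smul_left, classInner_smul_left, C.col_inner P, if_pos rfl, C.col_inner P,
      if_neg (Ne.symm hkl), (hψc hψ l hl).1, (hψc hψ k hk).1] at h
    have h' : ((q : ℤ) : ℂ) = (((q : ℤ) * (s l - s k) : ℤ) : ℂ) := by rw [← h]; push_cast; ring
    have h'' : (q : ℤ) * 1 = (q : ℤ) * (s l - s k) := by rw [mul_one]; exact_mod_cast h'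
    exact (mul_left_cancel₀ (by exact_mod_cast C.hq.ne_zero) h'').symm
  have hn : ∀ φ ∈ Z, φ ≠ ψ → Cfsg.classInner (tenTau M (c - (m : ℂ) • ψ)) (g φ - g ψ) = ((m : ℤ) : ℂ) :=
    fun φ hφ hne => by
      rw [← hg.diff φ hφ ψ hψ, P.tau_inner hx (P.suppA_sub (hZsub hφ) (hZsub hψ) (by rw [hZdeg φ hφ, hZdeg ψ hψ])),
        classInner_sub_left, classInner_sub_right, classInner_sub_right, classInner_smul_left, classInner_smul_left,
        (hψc hφ l hl).2, (hψc hψ l hl).2, hψ1, P.tenS_orth (hZsub hψ) (hZsub hφ) (Ne.symm hne), Int.cast_natCast]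
      ring
  have hT1 : Cfsg.classInner (tenTau M (c - (m : ℂ) • ψ)) (tenTau M (c - (m : ℂ) • ψ)) =
      (((q : ℤ) + m * m : ℤ) : ℂ) := by
    rw [P.tau_inner hx hx, classInner_sub_left, classInner_sub_right, classInner_sub_right, classInner_smul_left,
      classInner_smul_left, classInner_smul_right, classInner_smul_right, C.col_inner P, if_pos rfl,
      (hψc hψ l hl).1, (hψc hψ l hl).2, hψ1, Complex.conj_natCast]
    push_cast
    ring
  obtain ⟨b, -, -, hB⟩ := TenPair.bessel_image C.fam hg (P.tau_gen hx) hψ m hn _ hadd hT1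
  have hexcess : 0 ≤ (Z.card : ℤ) * (b * b) - 2 * m * b := by
    have hZ' : (2 * m : ℤ) ≤ Z.card := by exact_mod_cast hZcard
    rcases le_or_gt b 0 with hb | hb
    · nlinarith
    · nlinarith [mul_le_mul_of_nonneg_right hZ' (mul_self_nonneg b),
        mul_nonneg (mul_nonneg (Int.natCast_nonneg m) hb.le) (show (0 : ℤ) ≤ b - 1 by linarith)]
  have hgrid : ∑ r, ∑ k, (t r + s k) * (t r + s k) ≤ (q : ℤ) := by rw [Finset.sum_comm]; linarith
  obtain ⟨k₀, hk₀, hk₀l⟩ : ∃ k : Col W₁ W₂, k ≠ col₀ ∧ k ≠ l := by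
    by_contra h
    push Not at h
    have hsub : (Finset.univ : Finset (Col W₁ W₂)) ⊆ {col₀, l} := fun k _ => by
      rw [Finset.mem_insert, Finset.mem_singleton]
      exact or_iff_not_imp_left.2 (h k)
    have h1 := (Finset.card_le_card hsub).trans Finset.card_le_two
    rw [Finset.card_univ, ← Nat.card_eq_fintype_card, (card_trivL P.W_M).1] at h1
    omega
  have hrow : ∀ r, 1 ≤ ∑ k, (t r + s k) * (t r + s k) ∧
      (∑ k, (t r + s k) * (t r + s k) ≤ 1 → t r = 0) := fun r => by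
    have h3 : ({col₀, l, k₀} : Finset (Col W₁ W₂)) ⊆ Finset.univ := Finset.subset_univ _
    have h4 := sum_mul_self_mono {col₀, l, k₀} (fun k => t r + s k)
    rw [Finset.sum_insert (by simp [Ne.symm hl, Ne.symm hk₀]), Finset.sum_pair (Ne.symm hk₀l), hs0, add_zero,
      show s l = s k₀ + 1 by linarith [hs k₀ hk₀ hk₀l]] at h4
    by_cases e : t r + s k₀ = 0
    · rw [show t r + (s k₀ + 1) = 1 by linarith, e] at h4
      exact ⟨by nlinarith, fun h => mul_self_eq_zero.1 (le_antisymm (by linarith) (mul_self_nonneg _))⟩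
    · have := one_le_mul_self e
      exact ⟨by nlinarith, fun h => mul_self_eq_zero.1 (le_antisymm
        (by nlinarith [mul_self_nonneg (t r + (s k₀ + 1))]) (mul_self_nonneg _))⟩
  have hz : ∀ r, t r = 0 := fun r => by
    refine (hrow r).2 (le_of_not_gt fun hr => ?_)
    have hsum : ∑ _x : Row W₁ W₂, (1 : ℤ) < ∑ x, ∑ k, (t x + s k) * (t x + s k) :=
      Finset.sum_lt_sum (fun x _ => (hrow x).1) ⟨r, Finset.mem_univ r, hr⟩
    rw [Finset.sum_const, Finset.card_univ, C.cardRow P, nsmul_one] at hsum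
    exact absurd hgrid (not_le.2 hsum)
  have hx0 : ∀ r, Cfsg.classInner (tenTau M (c - (m : ℂ) • ψ)) (χ (cell r col₀)) = 0 := fun r => by
    rw [hadd, hz, hs0]; simp
  -- `(ψ - d ζ)^τ`
  have hy : SuppA M (ψ - (d : ℂ) • ζ) := by
    refine P.suppA_of_mem (mem_zspanOn_one.2 ⟨Submodule.sub_mem _ (subset_zspan (hZsub hψ)) ?_, ?_⟩)
    · rw [show (d : ℂ) • ζ = (d : ℤ) • ζ by rw [← Int.cast_smul_eq_zsmul ℂ, Int.cast_natCast]]
      exact Submodule.smul_mem _ _ (subset_zspan (C.sub hζ))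
    · rw [Pi.sub_apply, Pi.smul_apply, C.degX ζ hζ, hZdeg ψ hψ, smul_eq_mul]
      ring
  have hzex : ∀ r k, ∃ z : ℤ, Cfsg.classInner (tenTau M (ψ - (d : ℂ) • ζ)) (χ (cell r k)) = (z : ℂ) := fun r k =>
    IsGeneralized.exists_classInner_eq_int (P.tau_gen hy) (isGeneralized_family C.fam _)
  choose z hz' using hzex
  have hA0 : ∀ r, z r col₀ = 0 → a r ≠ 0 := fun r hr har => by
    obtain ⟨hsI, hI⟩ := P.cong_row C.fam C.mu C.hq C.q3 hl (C.col l hl) (C.deg l hl) C.u1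
    have he : c - ((u : ℤ) : ℂ) • Cfsg.indFun ((Cfsg.sigmaCore M).subgroupOf M) (fun _ => (1 : ℂ)) =
        (c - (m : ℂ) • ψ) + (m : ℂ) • (ψ - (d : ℂ) • ζ) - (u : ℂ) • (indOne M - ζ) := by
      rw [Int.cast_natCast, hm, Nat.cast_mul, indOne]
      module
    have h := hI r 0 (by
      rw [he, tenTau_sub, tenTau_add, tenTau_smul, tenTau_smul, classInner_sub_left, classInner_add_left,
        classInner_smul_left, classInner_smul_left, hx0, hz', hr, ha, har]
      simp)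
    rw [zero_add] at h
    exact C.hq.not_dvd_one (by exact_mod_cast h)
  set T := Finset.univ.filter fun r : Row W₁ W₂ => z r col₀ ≠ 0 with hTdef
  set S := Finset.univ.filter fun r : Row W₁ W₂ => a r ≠ 0
  have hTS : Fintype.card (Row W₁ W₂) ≤ T.card + S.card := by
    rw [← Finset.card_univ]
    refine le_trans (Finset.card_le_card fun r _ => ?_) (Finset.card_union_le T S)
    by_cases e : z r col₀ = 0
    · exact Finset.mem_union_right _ (Finset.mem_filter.2 ⟨Finset.mem_univ _, hA0 r e⟩)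
    · exact Finset.mem_union_left _ (Finset.mem_filter.2 ⟨Finset.mem_univ _, e⟩)
  rw [C.cardRow P] at hTS
  have hS : (S.card : ℤ) ≤ ∑ r, a r * a r :=
    (card_le_sum_mul_self S a fun r hr => (Finset.mem_filter.1 hr).2).trans (sum_mul_self_mono S a)
  have hn2 : ∀ φ ∈ X, φ ≠ ζ → Cfsg.classInner (tenTau M (ψ - (d : ℂ) • ζ)) (f φ - f ζ) = ((d : ℤ) : ℂ) :=
    fun φ hφ hne => by
      rw [← hf.diff φ hφ ζ hζ, P.tau_inner hy (P.suppA_sub (C.sub hφ) (C.sub hζ) (by rw [C.degX φ hφ, C.degX ζ hζ])),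
        classInner_sub_left, classInner_sub_right, classInner_sub_right, classInner_smul_left, classInner_smul_left,
        (hψX hφ).1, (hψX hζ).1, C.X_inner P hζ hφ, if_neg (Ne.symm hne), C.X_inner P hζ hζ, if_pos rfl,
        Int.cast_natCast]
      ring
  have hT2 : Cfsg.classInner (tenTau M (ψ - (d : ℂ) • ζ)) (tenTau M (ψ - (d : ℂ) • ζ)) =
      ((1 + (d : ℤ) * d : ℤ) : ℂ) := by
    rw [P.tau_inner hy hy, classInner_sub_left, classInner_sub_right, classInner_sub_right, classInner_smul_left,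
      classInner_smul_left, classInner_smul_right, classInner_smul_right, hψ1, (hψX hζ).1, (hψX hζ).2,
      C.X_inner P hζ hζ, if_pos rfl, Complex.conj_natCast]
    push_cast
    ring
  obtain ⟨e, -, -, hB2⟩ := TenPair.bessel_image C.fam hf (P.tau_gen hy) hζ d hn2 _ hz' hT2
  have hTle : (T.card : ℤ) ≤ ∑ k, ∑ r, z r k * z r k :=
    le_trans ((card_le_sum_mul_self T (fun r => z r col₀) fun r hr => (Finset.mem_filter.1 hr).2).trans
      (sum_mul_self_mono T fun r => z r col₀))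
      (Finset.single_le_sum (f := fun k => ∑ r, z r k * z r k)
        (fun k _ => Finset.sum_nonneg fun r _ => mul_self_nonneg _) (Finset.mem_univ col₀))
  have hkey : (X.card : ℤ) * ((T.card : ℤ) - 1) ≤ (d : ℤ) * d := by
    have h1 : (T.card : ℤ) - 1 ≤ 2 * d * e - (X.card : ℤ) * (e * e) := by linarith
    have h2 := mul_le_mul_of_nonneg_left h1 (Int.natCast_nonneg X.card)
    nlinarith [mul_self_nonneg ((X.card : ℤ) * e - d)]
  have hq5 : (5 : ℤ) ≤ q := by
    have : 5 ≤ q := by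
      obtain ⟨j, hj⟩ : Odd q := Nat.not_even_iff_odd.1 fun h => C.qodd (even_iff_two_dvd.1 h)
      omega
    exact_mod_cast this
  have hTS' : (q : ℤ) ≤ T.card + S.card := by exact_mod_cast hTS
  have hp' : (3 : ℤ) ≤ p := by exact_mod_cast hp3
  have h3T : 2 * (q : ℤ) - 3 ≤ 3 * ((T.card : ℤ) - 1) := by
    have : 3 * (S.card : ℤ) ≤ q := le_trans (mul_le_mul hp' hS (Int.natCast_nonneg _) (by linarith)) hle
    linarith
  have hcard : (q : ℤ) * X.card + 1 = u := by exact_mod_cast C.card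
  have hcube' : (d : ℤ) ^ 3 ≤ u := by exact_mod_cast hcube
  have hd3' : (3 : ℤ) ≤ d := by exact_mod_cast hd3
  have h5 : (2 * (q : ℤ) - 3) * ((u : ℤ) - 1) ≤ 3 * q * (d * d) := by
    calc (2 * (q : ℤ) - 3) * ((u : ℤ) - 1) ≤ 3 * ((T.card : ℤ) - 1) * ((u : ℤ) - 1) :=
          mul_le_mul_of_nonneg_right h3T (by nlinarith)
      _ = 3 * q * ((X.card : ℤ) * ((T.card : ℤ) - 1)) := by rw [← hcard]; ring
      _ ≤ 3 * q * (d * d) := mul_le_mul_of_nonneg_left hkey (by linarith)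
  have h6 : 7 * (q : ℤ) * ((d : ℤ) ^ 3 - 1) ≤ 15 * q * (d * d) := by
    calc 7 * (q : ℤ) * ((d : ℤ) ^ 3 - 1) ≤ 5 * (2 * (q : ℤ) - 3) * ((d : ℤ) ^ 3 - 1) :=
          mul_le_mul_of_nonneg_right (by linarith) (by nlinarith)
      _ ≤ 5 * (2 * (q : ℤ) - 3) * ((u : ℤ) - 1) := mul_le_mul_of_nonneg_left (by linarith) (by linarith)
      _ ≤ 15 * q * (d * d) := by linarith
  have h7 : 7 * ((d : ℤ) ^ 3 - 1) ≤ 15 * (d * d) := by
    refine le_of_mul_le_mul_left ?_ (show (0 : ℤ) < q by linarith)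
    linarith
  nlinarith

end Three

end CfsgLib.OddEnd
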