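import Cfsg.Agent.OddEnd.ElevenGalois
import Cfsg.Agent.OddEnd.ElevenLine

/-!
Peterfalvi section 11 assembled: the structure of maximal subgroups of type III or IV.
-/

set_option autoImplicit false
set_option linter.unusedSectionVars false
set_option linter.style.haveILetI false

namespace CfsgLib.OddEnd

open Subgroup CfsgLib.OddLocal CfsgLib.Char
open scoped commutatorElement

universe u

variable {G : Type u} [Group G] [Fintype G]

namespace Three

variable {M W₁ U W₂ N V : Subgroup G} [Fintype M] (hT : Three M W₁ U W₂) (hG : Cfsg.IsMinSimpleOddOrder G)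
  (P : TenPair M N W₁ W₂ V)
include hT hG P

/-- Peterfalvi 11.5: `M'' = F(M)`. -/
theorem der2 (hnc : ¬ Cfsg.IsCoherent (tenS M) ({1}ᶜ : Set M) (tenTau M)) :
    ⁅⁅M, M⁆, ⁅M, M⁆⁆ = Cfsg.fittingOf M := by
  classical
  haveI := Fintype.ofFinite (Row W₁ W₂)
  haveI := P.normal_core
  set D := ⁅⁅M, M⁆, ⁅M, M⁆⁆
  have hder : ⁅M, M⁆ = Cfsg.sigmaCore M := P.derived_M
  have hDM : D ≤ M := (commutator_le_self _).trans hT.derived_le
  haveI : (D.subgroupOf M).Normal := (normal_subgroupOf_iff_le_normalizer hDM).2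
    (le_normalizer_commutator_self (normalizer_commutator_ge_left M M))
  set A := D.subgroupOf M
  haveI hsolv : Group.IsSolvable (coreIn M) := by
    haveI : Group.IsSolvable M := hG.2.2.2 M hT.coatom.1
    infer_instance
  have hAK : A < coreIn M := by
    refine lt_of_le_of_ne (fun x hx => hder.le (commutator_le_self _ hx)) fun e => ?_
    have h1 : D = ⁅M, M⁆ := le_antisymm (commutator_le_self _) fun x hx => by
      have hxM : x ∈ M := hT.derived_le hx
      have : (⟨x, hxM⟩ : M) ∈ A := e.ge (hder.le hx)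
      exact this
    obtain ⟨-, hu2, -⟩ := hT.u_facts hG
    have h2 : (Cfsg.fittingOf M).relIndex ⁅M, M⁆ = 1 := relIndex_eq_one.2 (h1.ge.trans (hT.der2_le hG))
    have := hT.q_three hG
    omega
  obtain ⟨φ, hφ, -⟩ := exists_linear_aboveInd hsolv hAK
  have hφS : φ ∈ tenS M := inducedIrrAbove_subset_bot _ _ (mem_aboveInd.1 hφ)
  obtain ⟨χ, hχ⟩ := exists_cyclicTIFamily P.W_M (P.oddG _)
  obtain ⟨μ, δ, hμ⟩ := P.primeDade_M.exists_isMuG
  obtain ⟨R, hS⟩ := P.exists_system hχ hμ ⟨φ, hφS⟩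
  have hcoh := coherent_above_commutator (K := coreIn M) hsolv hS A hAK (commutator_le.2 fun a ha b hb =>
    show ((⁅a, b⁆ : M) : G) ∈ D from commutator_mem_commutator (hder.ge ha) (hder.ge hb))
  have hb := hT.bound_of_coherent hG hS hnc A hAK hcoh
  refine hT.der2_eq hG ?_
  rw [relIndex_subgroupOf (hder ▸ hT.derived_le), ← hder] at hb
  exact hb

/-- Peterfalvi 11.7, 11.9. -/
theorem threeData (hnc : ¬ Cfsg.IsCoherent (tenS M) ({1}ᶜ : Set M) (tenTau M)) : ThreeData M W₁ U W₂ := by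
  classical
  haveI := Fintype.ofFinite (Row W₁ W₂)
  have hd := hT.der2 hG P hnc
  obtain ⟨χ, hχ⟩ := exists_cyclicTIFamily P.W_M (P.oddG _)
  obtain ⟨μ, δ, hμ⟩ := P.primeDade_M.exists_isMuG
  obtain ⟨hlt, X, f, ζ, a, C, hf, hζ, ha, -, hle⟩ := hT.row_data hG hd P hnc hχ hμ
  refine hT.threeData_of_galois hG hd hlt fun K hK hUK => ?_
  have hbot := hT.derived_eq_bot hG hd
  rcases hT.galois_or_line hG hd with h | ⟨L, -, hLH, hUL, hLp, hsup⟩
  · rcases h K (hbot.le.trans bot_le) hK hUK with e | e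
    · exact Or.inl (e.trans hbot)
    · exact Or.inr e
  rw [hbot, relIndex_bot_left] at hLp
  obtain ⟨A, E, d, hL⟩ := hT.exists_stabData hG hd hlt hLH hUL hLp hsup
  exact (hT.no_line hG hd P hL rfl C hf hζ ha hle hlt).elim

end Three

/-- Peterfalvi section 11: types III and IV, given non-coherence (10.8). -/
theorem three_structure (hG : Cfsg.IsMinSimpleOddOrder G)
    (hnc : ∀ {M N K Ks V : Subgroup G}, TenPair M N K Ks V → ∀ [Fintype M],
      ¬ Cfsg.IsCoherent (tenS M) ({1}ᶜ : Set M) (tenTau M))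
    (M W₁ U W₂ : Subgroup G) (hM : IsCoatom M) (h34 : Cfsg.IsOfTypeIII M ∨ Cfsg.IsOfTypeIV M)
    (hP : Cfsg.IsTypePWith M W₁ U W₂) : ThreeData M W₁ U W₂ := by
  have hT : Three M W₁ U W₂ := ⟨hM, hP, h34⟩
  obtain ⟨N, V, P⟩ := hT.exists_pair_ten hG
  haveI := Fintype.ofFinite M
  exact hT.threeData hG P (hnc P)

end CfsgLib.OddEnd
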