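import Cfsg.Agent.OddEnd.Defs
import Cfsg.Agent.OddLocal.KappaSupport
import Cfsg.Agent.OddLocal.KappaTypeF
import Cfsg.Agent.OddLocal.KappaFrobenius
import Cfsg.Agent.S1357
import Cfsg.Agent.S1372
import Cfsg.Agent.S1382
import Cfsg.Agent.S1383

/-!
FT part 12E: a maximal subgroup with nonempty `κ` contains the centralizers of the nonidentity elements of
its `σ`-core, given that type V does not occur and that types III and IV have a cyclic complement to
`M_F` in `M'`.
-/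

set_option autoImplicit false
set_option linter.style.haveILetI false
set_option linter.unusedSectionVars false

namespace CfsgLib.OddEnd

open Subgroup CfsgLib.OddLocal
open scoped commutatorElement

universe u

variable {G : Type u} [Group G] [Finite G] (hG : Cfsg.IsMinSimpleOddOrder G)
include hG

/-- A nonidentity element of a TI Fitting subgroup has its centralizer in `M`. -/
theorem centralizer_le_of_fitting_TI {M : Subgroup G} (hM : IsCoatom M)
    (hTI : Cfsg.IsTISubset (Cfsg.fittingOf M : Set G)) {x : G} (hx : x ∈ Cfsg.fittingOf M) (hx1 : x ≠ 1) :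
    centralizer ({x} : Set G) ≤ M := by
  intro c hc
  have hN := Uniq.coatom_normalizer_eq hG hM (Bender.fitting_le M) (Bender.le_normalizer_fitting M)
    (fun e => hx1 (Subgroup.mem_bot.1 (e ▸ hx)))
  by_contra hcM
  refine hx1 (hTI c (fun h => hcM (hN.le h)) x hx ?_)
  rwa [mem_centralizer_singleton_iff.1 hc, mul_inv_cancel_right]

/-- With `κ(M) ≠ ∅`, no centralizer of a nonidentity element of `M_σ` leaves `M`. -/
theorem centralizer_le_of_kappa_nonempty
    (hV : ∀ M : Subgroup G, IsCoatom M → ¬ Cfsg.IsOfTypeV M)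
    (h11 : ∀ M : Subgroup G, IsCoatom M → Cfsg.IsOfTypeIII M ∨ Cfsg.IsOfTypeIV M →
      ∃ U : Subgroup G, Cfsg.IsComplIn (Cfsg.fittingHallOf M) U ⁅M, M⁆ ∧ IsCyclic U)
    {M : Subgroup G} (hM : IsCoatom M) (hκ : (Cfsg.kappa M).Nonempty) {x : G} (hx : x ∈ Cfsg.sigmaCore M)
    (hx1 : x ≠ 1) : centralizer ({x} : Set G) ≤ M := by
  obtain ⟨E, hE, -⟩ := Tau.exists_complement_of hG hM (X := ⊥) bot_le fun q hq h => by
    rw [card_bot, Nat.dvd_one] at h; exact absurd h hq.ne_one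
  obtain ⟨K, U, hKU, -, -⟩ := Kap.exists_decomp_in hG hM hE
  have hK1 : K ≠ ⊥ := (Kap.kappa_nonempty_iff hG hM hKU).1 hκ
  by_cases hU : U = ⊥
  swap
  · obtain ⟨-, hTI, hle⟩ := Cfsg.Agent.S1372.result hG M hM K U hKU hK1 hU
    exact centralizer_le_of_fitting_TI hG hM hTI (hle hx) hx1
  by_cases hF : Cfsg.fittingHallOf M = Cfsg.sigmaCore M
  · exact absurd ((Cfsg.Agent.S1383.result hG M hM K U hKU).2 ⟨hK1, hU, hF⟩) (hV M hM)
  obtain ⟨-, hTI, -⟩ := Cfsg.Agent.S1357.result hG M hM K U hKU hF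
  by_contra hxC
  obtain ⟨r, hr, x₁, hx₁, hx₁o, hle⟩ := Kap.exists_prime_root (mem_zpowers x) hx1
  haveI := Fact.mk hr
  have hx₁σ : x₁ ∈ Cfsg.sigmaCore M := zpowers_le.2 hx hx₁
  have hx₁M : x₁ ∈ M := map_subtype_le _ hx₁σ
  have hx₁1 : x₁ ≠ 1 := fun e => hr.ne_one (by rw [← hx₁o, e, orderOf_one])
  have hx₁C : ¬ centralizer ({x₁} : Set G) ≤ M := fun h => hxC (hle.trans h)
  obtain ⟨N, hN, -, -, -, hcompl, -, hτ, -⟩ := Kap.exists_over hG hM hx₁σ hx₁1 hx₁C
  have hrτ : r ∈ Cfsg.tau2 N := hτ r hr (dvd_of_eq hx₁o.symm)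
  have hrM : r ∈ Cfsg.sigma M := Kap.mem_sigma_of_mem_core hG hM hr hx₁σ hx₁o
  set H := Cfsg.fittingHallOf M with hH
  have hHM : H ≤ M := FittingHall.of_le M
  have hHn : M ≤ normalizer (H : Set G) := FittingHall.le_normalizer_of M
  by_cases hrH : r ∣ Nat.card H
  · have hx₁H : x₁ ∈ H := Excep.le_of_hall hHM hHn (zpowers_le.2 hx₁M) (by
      rw [Nat.card_zpowers, hx₁o]
      exact (FittingHall.coprime_relIndex M).coprime_dvd_left hrH) (mem_zpowers x₁)
    exact hx₁C (centralizer_le_of_fitting_TI hG hM hTI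
      (Bender.le_fitting hHM hHn (FittingHall.nilpotent_of M) hx₁H) hx₁1)
  -- a plane of `M ⊓ N` would embed in a cyclic group
  obtain ⟨A, T, hA, hA2, -, hAT, -, hTD, -⟩ :=
    Tau.exists_sylow_data hG hN hcompl hrτ (IsPGroup.of_bot (p := r) : IsPGroup r (⊥ : Subgroup G)) bot_le
  set D : Subgroup G := ⁅M, M⁆ with hD
  have hAD : A ≤ D := (Excep.le_sigmaCore hG hM ((hAT.trans hTD).trans inf_le_left)
    (Excep.primes_of_pgroup (IsPGroup.of_card hA2) hrM)).trans (Sig.sigma_core hG hM).2.2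
  obtain ⟨V, hVc, hVcyc⟩ := h11 M hM ((Cfsg.Agent.S1382.result hG M hM K U hKU).2 ⟨hK1, hU, hF⟩)
  haveI := hVcyc
  have hHnD : D ≤ normalizer (H : Set G) := (commutator_le_self M).trans hHn
  haveI : (H.subgroupOf D).Normal := (normal_subgroupOf_iff_le_normalizer hVc.1).2 hHnD
  set π := QuotientGroup.mk' (H.subgroupOf D)
  haveI : IsCyclic (D ⧸ H.subgroupOf D) := by
    refine isCyclic_of_surjective (π.comp (inclusion hVc.2.1)) fun q => ?_
    obtain ⟨d, rfl⟩ := QuotientGroup.mk'_surjective (H.subgroupOf D) q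
    obtain ⟨a, ha, b, hb, hab⟩ := hVc.2.2.2 d d.2
    refine ⟨⟨b, hb⟩, ?_⟩
    show (QuotientGroup.mk (⟨b, hVc.2.1 hb⟩ : D) : D ⧸ H.subgroupOf D) = QuotientGroup.mk d
    rw [QuotientGroup.eq, mem_subgroupOf]
    show b⁻¹ * (d : G) ∈ H
    rw [hab, ← mul_assoc]
    exact (mem_normalizer_iff''.1 (hHnD (hVc.2.1 hb)) a).1 ha
  have hAc : IsCyclic A := by
    refine isCyclic_of_injective (π.comp (inclusion hAD)) ((injective_iff_map_eq_one _).2 fun a ha => ?_)
    have haH : (a : G) ∈ H := mem_subgroupOf.1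
      ((QuotientGroup.eq_one_iff (N := H.subgroupOf D) (inclusion hAD a)).1 ha)
    refine Subtype.ext (by_contra fun ha1 => hrH ?_)
    have hao : orderOf (a : G) = r := orderOf_eq_prime (hA.2 a a.2) ha1
    exact Kap.dvd_of_mem haH hao
  have h1 : Monoid.exponent A ∣ r := Monoid.exponent_dvd_of_forall_pow_eq_one fun a => Subtype.ext (by
    rw [SubmonoidClass.coe_pow]; exact hA.2 a a.2)
  rw [IsCyclic.exponent_eq_card, hA2] at h1
  have := Nat.le_of_dvd hr.pos h1
  nlinarith [hr.two_le]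

/-- Part 12E of the odd order endgame, relative to the facts from Peterfalvi 10.10 and 11.7. -/
theorem noSupportedP_of
    (hV : ∀ M : Subgroup G, IsCoatom M → ¬ Cfsg.IsOfTypeV M)
    (h11 : ∀ M : Subgroup G, IsCoatom M → Cfsg.IsOfTypeIII M ∨ Cfsg.IsOfTypeIV M →
      ∃ U : Subgroup G, Cfsg.IsComplIn (Cfsg.fittingHallOf M) U ⁅M, M⁆ ∧ IsCyclic U) :
    NoSupportedP G := fun _ _ hM _ _ _ hx hx1 hxC _ =>
  Set.not_nonempty_iff_eq_empty.1 fun hκ => hxC (centralizer_le_of_kappa_nonempty hG hV h11 hM hκ hx hx1)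

end CfsgLib.OddEnd
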