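import Cfsg.Agent.OddEnd.Defs
import Cfsg.Prelude.Def_OddOrderChar
import Cfsg.Prelude.Def_Transfer

/-!
Interface of Peterfalvi section 11: the structure of a maximal subgroup of type III or IV.
-/

set_option autoImplicit false

namespace CfsgLib.OddEnd

universe u

/-- The conclusion of Peterfalvi 11.7 and 11.9: such a subgroup is of type III, `H` is elementary abelian of
order `p ^ q` with `p < q`, and `U` is cyclic, acts freely on `H` and has order dividing `(p^q-1)/(p-1)`. -/
structure ThreeData {G : Type u} [Group G] (M W₁ U W₂ : Subgroup G) : Prop where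
  prime_left : (Nat.card W₁).Prime
  prime_right : (Nat.card W₂).Prime
  lt : Nat.card W₂ < Nat.card W₁
  elem : Cfsg.IsElementaryAbelian (Nat.card W₂) (Cfsg.fittingHallOf M)
  card : Nat.card (Cfsg.fittingHallOf M) = Nat.card W₂ ^ Nat.card W₁
  cyclic : IsCyclic U
  faithful : U ⊓ Subgroup.centralizer (Cfsg.fittingHallOf M : Set G) = ⊥
  free : ∀ u ∈ U, u ≠ 1 → ∀ x ∈ Cfsg.fittingHallOf M, u * x = x * u → x = 1
  dvd : Nat.card U ∣ (Nat.card W₂ ^ Nat.card W₁ - 1) / (Nat.card W₂ - 1)
  typeIII : Cfsg.IsOfTypeIII M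

end CfsgLib.OddEnd
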