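import Cfsg.Agent.OddEnd.ElevenLocal
import Cfsg.Agent.OddEnd.ElevenData
import Cfsg.Agent.OddEnd.FinalStep
import Cfsg.Agent.S1360
import Cfsg.Agent.S1363
import Cfsg.Agent.S1545

/-!
Peterfalvi section 13, local facts on a pair of maximal subgroups of type P: the decomposition of each,
and the irreducible action of `U W₁` on `M_F`.
-/

set_option autoImplicit false
set_option linter.unusedSectionVars false
set_option linter.style.haveILetI false

namespace CfsgLib.OddEnd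

open Subgroup CfsgLib.OddLocal
open scoped commutatorElement

universe u

variable {G : Type u} [Group G] [Finite G]

theorem le_normalizer_inf_centralizer_of {H : Subgroup G} {X V : Subgroup G} (hH : X ≤ normalizer (H : Set G))
    (hV : X ≤ normalizer (V : Set G)) : X ≤ normalizer ((H ⊓ centralizer (V : Set G) : Subgroup G) : Set G) := by
  refine fun g hg => Uniq.mem_normalizer_of_map_le ?_
  rintro _ ⟨x, ⟨hx, hxV⟩, rfl⟩
  refine ⟨(mem_normalizer_iff.1 (hH hg) x).1 hx, mem_centralizer_iff.2 fun v hv => ?_⟩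
  have hv' : g⁻¹ * v * g ∈ V := (mem_normalizer_iff''.1 (hV hg) v).1 hv
  have e := mem_centralizer_iff.1 hxV _ hv'
  show v * (g * x * g⁻¹) = g * x * g⁻¹ * v
  calc v * (g * x * g⁻¹) = g * (g⁻¹ * v * g * x) * g⁻¹ := by group
    _ = g * (x * (g⁻¹ * v * g)) * g⁻¹ := by rw [e]
    _ = g * x * g⁻¹ * v := by group

/-- The facts from Peterfalvi sections 10-12 used in section 13. -/
structure Upto12 (G : Type u) [Group G] : Prop where
  frob : EmptyKappaFrobenius G
  noV : ∀ M : Subgroup G, IsCoatom M → ¬ Cfsg.IsOfTypeV M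
  three : ∀ M W₁ U W₂ : Subgroup G, IsCoatom M → Cfsg.IsOfTypeIII M ∨ Cfsg.IsOfTypeIV M →
    Cfsg.IsTypePWith M W₁ U W₂ → ThreeData M W₁ U W₂

namespace PairData

variable {S T W₁ W₂ U V : Subgroup G} (h : PairData S T W₁ W₂ U V)
include h

theorem left_le : W₁ ≤ S := h.typeP_S.W₁_compl.2.1

theorem derived_le : ⁅S, S⁆ ≤ S := commutator_le_self S

theorem U_le : U ≤ ⁅S, S⁆ := h.typeP_S.U_compl.2.1

theorem U_le_S : U ≤ S := h.U_le.trans h.derived_le

theorem H_le : Cfsg.fittingHallOf S ≤ ⁅S, S⁆ := h.typeP_S.U_compl.1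

theorem H_inf_U : Cfsg.fittingHallOf S ⊓ U = ⊥ := h.typeP_S.U_compl.2.2.1

theorem right_le_H : W₂ ≤ Cfsg.fittingHallOf S := h.typeP_S.W₂_le.trans inf_le_left

theorem U_le_normalizer_H : U ≤ normalizer (Cfsg.fittingHallOf S : Set G) :=
  h.U_le_S.trans (FittingHall.le_normalizer_of S)

theorem left_le_normalizer_H : W₁ ≤ normalizer (Cfsg.fittingHallOf S : Set G) :=
  h.left_le.trans (FittingHall.le_normalizer_of S)

theorem mem_right_of_fixed {x : G} (hx : x ∈ ⁅S, S⁆) {a : G} (ha : a ∈ W₁) (ha1 : a ≠ 1)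
    (hc : a * x = x * a) : x ∈ W₂ :=
  (h.typeP_S.W₂_centralizer a ha ha1).le ⟨hx, mem_centralizer_singleton_iff.2 hc.symm⟩

theorem U_fixed {x : G} (hx : x ∈ U) {a : G} (ha : a ∈ W₁) (ha1 : a ≠ 1) (hc : a * x = x * a) : x = 1 :=
  mem_bot.1 (h.H_inf_U ▸ ⟨h.right_le_H (h.mem_right_of_fixed (h.U_le hx) ha ha1 hc), hx⟩)

theorem left_centralizes {a b : G} (ha : a ∈ W₁) (hb : b ∈ W₂) : a * b = b * a :=
  h.typeP_S.selfNormalizing.2.2.2.1 a ha b hb

theorem exists_left : ∃ a ∈ W₁, a ≠ 1 :=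
  (Subgroup.bot_or_exists_ne_one W₁).resolve_left h.typeP_S.W₁_ne

theorem coprime_H_U : (Nat.card (Cfsg.fittingHallOf S)).Coprime (Nat.card U) :=
  FittingHall.coprime_complIn h.derived_le h.typeP_S.U_compl

theorem card_derived : Nat.card ↥⁅S, S⁆ = Nat.card (Cfsg.fittingHallOf S) * Nat.card U :=
  FittingHall.card_complIn h.typeP_S.U_compl

theorem card_S : Nat.card S = Nat.card ↥⁅S, S⁆ * Nat.card W₁ :=
  FittingHall.card_complIn h.typeP_S.W₁_compl

theorem coprime_left : (Nat.card W₁).Coprime (Nat.card ↥⁅S, S⁆) := by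
  have e := CfsgLib.InvariantHall.relIndex_mul_card h.left_le
  rw [h.card_S, mul_comm (Nat.card ↥⁅S, S⁆)] at e
  exact Nat.eq_of_mul_eq_mul_left Nat.card_pos e ▸ h.typeP_S.W₁_hall

theorem coprime_H_UW : (Nat.card (Cfsg.fittingHallOf S)).Coprime (Nat.card ↥(U ⊔ W₁)) := by
  rw [sup_comm, CfsgLib.Solvable.card_sup_of_disjoint h.typeP_S.U_normal (inf_eq_bot_of_coprime
    (h.coprime_left.coprime_dvd_right (card_dvd_of_le h.U_le))), mul_comm (Nat.card W₁)]
  exact h.coprime_H_U.mul_right (h.coprime_left.symm.coprime_dvd_left (card_dvd_of_le h.H_le))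

variable (hG : Cfsg.IsMinSimpleOddOrder G) (hU : Upto12 G)
include hG hU

/-- `S` is of type II or of type III. -/
theorem types : Cfsg.IsOfTypeII S ∨ Cfsg.IsOfTypeIII S := by
  rcases h.types_S with h2 | h3 | h4 | h5
  · exact Or.inl h2
  · exact Or.inr h3
  · exact Or.inr (hU.three S W₁ U W₂ h.coatom_S (Or.inr h4) h.typeP_S).typeIII
  · exact absurd h5 (hU.noV S h.coatom_S)

theorem threeData (h3 : Cfsg.IsOfTypeIII S) : ThreeData S W₁ U W₂ :=
  hU.three S W₁ U W₂ h.coatom_S (Or.inl h3) h.typeP_S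

theorem decomp_II (h2 : Cfsg.IsOfTypeII S) :
    Cfsg.IsSigmaDecomposition S W₁ U ∧ Cfsg.fittingHallOf S = Cfsg.sigmaCore S ∧ U ≠ ⊥ := by
  obtain ⟨K, U₀, hKU⟩ := Kap.exists_decomp_any hG h.coatom_S
  obtain ⟨hK1, hU0⟩ := (Cfsg.Agent.S1381.result hG S h.coatom_S K U₀ hKU).1 h2
  have hF := Kap.fittingHallOf_eq_of_outer hG h.coatom_S hKU hK1 hU0
  refine ⟨?_, hF, fun e => hU0 ((Kap.outer_trivial_iff hG h.coatom_S hKU hK1 h.typeP_S).1 e).1⟩
  have hcard : Nat.card W₁ = Nat.card K := by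
    refine Nat.eq_of_mul_eq_mul_left (Nat.card_pos (α := ↥⁅S, S⁆)) ?_
    rw [← h.card_S, ← FittingHall.card_complIn (Kap.derived_compl hG h.coatom_S hKU hK1)]
  refine ⟨h.typeP_S.W₁_cyclic, ?_, ⟨h.U_le_S, ?_, ?_, fun m hm => ?_⟩, h.typeP_S.U_normal⟩
  · have e1 := CfsgLib.InvariantHall.relIndex_mul_card h.left_le
    have e2 := CfsgLib.InvariantHall.relIndex_mul_card hKU.hall.1
    rw [hcard, ← e2] at e1
    refine ⟨h.left_le, fun r hr hd => hKU.hall.2.1 r hr (hcard ▸ hd), fun r hr hκ hd => ?_⟩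
    exact hKU.hall.2.2 r hr hκ (Nat.eq_of_mul_eq_mul_left Nat.card_pos e1 ▸ hd)
  · exact sup_le h.left_le (map_subtype_le _)
  · refine eq_bot_iff.2 fun x hx => ?_
    obtain ⟨hxU, hxs⟩ := hx
    obtain ⟨w, hw, y, hy, rfl⟩ := (CfsgLib.Solvable.mem_sup_of_le_normalizer
      (h.left_le.trans (TH.le_normalizer_core S))).1 hxs
    replace hy : y ∈ Cfsg.fittingHallOf S := hF.ge hy
    have hwD : w ∈ ⁅S, S⁆ := by
      simpa using (⁅S, S⁆ : Subgroup G).mul_mem (h.U_le hxU) (Subgroup.inv_mem _ (h.H_le hy))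
    have hw1 : w = 1 := mem_bot.1 (h.typeP_S.W₁_compl.2.2.1 ▸ ⟨hwD, hw⟩)
    rw [hw1, one_mul] at hxU ⊢
    exact h.H_inf_U ▸ ⟨hy, hxU⟩
  · obtain ⟨d, hd, w, hw, rfl⟩ := h.typeP_S.W₁_compl.2.2.2 m hm
    obtain ⟨x, hx, v, hv, rfl⟩ := h.typeP_S.U_compl.2.2.2 d hd
    refine ⟨v, hv, v⁻¹ * x * v * w, mul_mem (mem_sup_right ?_) (mem_sup_left hw), by group⟩
    rw [← hF]
    simpa using (mem_normalizer_iff.1 (inv_mem (h.U_le_normalizer_H hv)) x).1 hx

/-- A standard decomposition of `S` with `K = W₁`; the part outside `M_σ` is abelian, nontrivial. -/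
theorem decomp : ∃ U₀ : Subgroup G, Cfsg.IsSigmaDecomposition S W₁ U₀ ∧ W₂ = Kap.star S W₁ ∧
    IsMulCommutative U ∧ U ≠ ⊥ := by
  have key : ∀ U₀ : Subgroup G, Cfsg.IsSigmaDecomposition S W₁ U₀ → W₂ = Kap.star S W₁ := by
    intro U₀ hd
    obtain ⟨V₀, hP'⟩ : ∃ V₀, Cfsg.IsTypePWith S W₁ V₀ (Kap.star S W₁) :=
      (typeP_of_decomp hG h.coatom_S hd h.typeP_S.W₁_ne).1
    obtain ⟨a, ha, ha1⟩ := h.exists_left
    exact (h.typeP_S.W₂_centralizer a ha ha1).symm.trans (hP'.W₂_centralizer a ha ha1)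
  rcases h.types hG hU with h2 | h3
  · obtain ⟨hd, -, hne⟩ := h.decomp_II hG hU h2
    exact ⟨U, hd, key U hd, (Cfsg.Agent.S1363.result hG S h.coatom_S W₁ U hd h.typeP_S.W₁_ne).1, hne⟩
  · have hT : Three S W₁ U W₂ := ⟨h.coatom_S, h.typeP_S, Or.inl h3⟩
    haveI := (h.threeData hG hU h3).cyclic
    exact ⟨⊥, (hT.decomp hG).1, key ⊥ (hT.decomp hG).1, IsCyclic.isMulCommutative, hT.U_ne hG⟩

theorem U_comm : IsMulCommutative U := (h.decomp hG hU).choose_spec.2.2.1

theorem U_ne : U ≠ ⊥ := (h.decomp hG hU).choose_spec.2.2.2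

theorem prime_left : (Nat.card W₁).Prime := by
  rcases h.types hG hU with h2 | h3
  · obtain ⟨hd, -, hne⟩ := h.decomp_II hG hU h2
    exact (Cfsg.Agent.S1372.result hG S h.coatom_S W₁ U hd h.typeP_S.W₁_ne hne).1
  · exact (h.threeData hG hU h3).prime_left

theorem prime_right : (Nat.card W₂).Prime := h.symm.prime_left hG hU

theorem left_odd : 3 ≤ Nat.card W₁ := by
  refine lt_of_le_of_ne (h.prime_left hG hU).two_le fun e => ?_
  have := hG.1.of_dvd_nat W₁.card_subgroup_dvd_card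
  rw [← e] at this
  exact absurd this (by decide)

theorem card_ne : Nat.card W₂ ≠ Nat.card W₁ := fun e => (h.prime_left hG hU).not_dvd_one
  (h.coprime_left ▸ Nat.dvd_gcd dvd_rfl (e ▸ card_dvd_of_le (h.right_le_H.trans h.H_le)))

theorem type_II_of_lt (hlt : Nat.card W₁ < Nat.card W₂) : Cfsg.IsOfTypeII S :=
  (h.types hG hU).resolve_right fun h3 => absurd (h.threeData hG hU h3).lt (by omega)

/-- Only the identity of `M_F` is fixed by all of `U`. -/
theorem H_fixed_U : Cfsg.fittingHallOf S ⊓ centralizer (U : Set G) = ⊥ := by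
  refine eq_bot_iff.2 fun x hx => mem_bot.2 ?_
  rcases h.types hG hU with h2 | h3
  · obtain ⟨hd, hF, hne⟩ := h.decomp_II hG hU h2
    obtain ⟨U₀, h0, h0e, h0x⟩ := Cfsg.Agent.S1360.result hG S h.coatom_S W₁ U hd
    by_contra hx1
    have hU0 : U₀ ≠ ⊥ := fun e => hne (by
      rw [← Subgroup.card_eq_one]
      refine Nat.eq_one_iff_not_exists_prime_dvd.2 fun r hr hrd => hr.not_dvd_one ?_
      haveI := Fact.mk hr
      obtain ⟨y, hy⟩ := exists_prime_orderOf_dvd_card' r hrd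
      have h1 : orderOf y ∣ Monoid.exponent U := Monoid.order_dvd_exponent y
      rw [hy, ← h0e, e, Monoid.exp_eq_one_iff.2 inferInstance] at h1
      exact h1)
    obtain ⟨u, hu, hu1⟩ := (Subgroup.bot_or_exists_ne_one U₀).resolve_left hU0
    exact hu1 (h0x u hu ⟨h.U_le_S (h0 hu), x, hF ▸ hx.1, hx1, mem_centralizer_iff.1 hx.2 u (h0 hu)⟩)
  · obtain ⟨u, hu, hu1⟩ := (Subgroup.bot_or_exists_ne_one U).resolve_left (h.U_ne hG hU)
    exact (h.threeData hG hU h3).free u hu hu1 x hx.1 (mem_centralizer_iff.1 hx.2 u hu)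

/-- The fixed point formula for a subgroup of `M_F` invariant under `U W₁`. -/
theorem card_invariant {N : Subgroup G} (hN : N ≤ Cfsg.fittingHallOf S)
    (hNU : U ⊔ W₁ ≤ normalizer (N : Set G)) : Nat.card N = Nat.card ↥(N ⊓ W₂) ^ Nat.card W₁ := by
  obtain ⟨a, ha, ha1⟩ := h.exists_left
  have hcop : (Nat.card N).Coprime (Nat.card ↥(U ⊔ W₁)) :=
    h.coprime_H_UW.coprime_dvd_left (card_dvd_of_le hN)
  have e := Cfsg.Agent.S1545.result U W₁ N (h.U_ne hG hU) h.typeP_S.W₁_ne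
    (inf_eq_bot_of_coprime (h.coprime_left.coprime_dvd_right (card_dvd_of_le h.U_le)).symm)
    (fun e he u hu => (mem_normalizer_iff.1 (h.typeP_S.U_normal he) u).1 hu)
    (fun e he he1 u hu hc => h.U_fixed hu he he1 hc)
    (fun x hx y hy => (mem_normalizer_iff.1 (hNU hx) y).1 hy)
    (inf_eq_bot_of_coprime hcop)
    (Kap.solvable_le hG h.coatom_S (hN.trans (FittingHall.of_le S))) hcop
  have h1 : N ⊓ centralizer (U : Set G) = ⊥ :=
    le_bot_iff.1 ((inf_le_inf_right _ hN).trans (h.H_fixed_U hG hU).le)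
  have h2 : N ⊓ centralizer ((U ⊔ W₁ : Subgroup G) : Set G) = ⊥ :=
    le_bot_iff.1 ((inf_le_inf_left _ (Subgroup.centralizer_le (SetLike.coe_subset_coe.2 le_sup_left))).trans h1.le)
  have h3 : N ⊓ centralizer (W₁ : Set G) = N ⊓ W₂ := by
    refine le_antisymm (fun x hx => ⟨hx.1, h.mem_right_of_fixed (h.H_le (hN hx.1)) ha ha1
      (mem_centralizer_iff.1 hx.2 a ha)⟩) fun x hx => ⟨hx.1, mem_centralizer_iff.2 fun b hb => ?_⟩
    exact h.left_centralizes hb hx.2
  rw [h1, h2, h3, card_bot, one_pow, one_mul, mul_one] at e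
  exact e

theorem card_H : Nat.card (Cfsg.fittingHallOf S) = Nat.card W₂ ^ Nat.card W₁ := by
  rw [h.card_invariant hG hU le_rfl (sup_le h.U_le_normalizer_H h.left_le_normalizer_H),
    inf_eq_right.2 h.right_le_H]

/-- `U W₁` leaves invariant no proper nontrivial subgroup of `M_F`. -/
theorem eq_of_invariant {N : Subgroup G} (hN : N ≤ Cfsg.fittingHallOf S)
    (hNU : U ⊔ W₁ ≤ normalizer (N : Set G)) (hN1 : N ≠ ⊥) : N = Cfsg.fittingHallOf S := by
  haveI := Fact.mk (h.prime_right hG hU)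
  have hc := h.card_invariant hG hU hN hNU
  rcases ((Nat.dvd_prime (h.prime_right hG hU)).1 (card_dvd_of_le (inf_le_right : N ⊓ W₂ ≤ W₂))) with h1 | h1
  · exact absurd (eq_bot_of_card_eq _ (by rw [hc, h1, one_pow])) hN1
  · exact eq_of_le_of_card_ge hN (by rw [hc, h1, h.card_H hG hU])

theorem elem : Cfsg.IsElementaryAbelian (Nat.card W₂) (Cfsg.fittingHallOf S) := by
  set H := Cfsg.fittingHallOf S with hH
  have hn : U ⊔ W₁ ≤ normalizer (H : Set G) := sup_le h.U_le_normalizer_H h.left_le_normalizer_H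
  have hder : ⁅H, H⁆ = ⊥ := by
    by_contra h1
    have hHH := h.eq_of_invariant hG hU (commutator_le_self H) (le_normalizer_commutator_self hn) h1
    haveI : Group.IsSolvable ↥H := Kap.solvable_le hG h.coatom_S (FittingHall.of_le S)
    haveI : Nontrivial ↥H := (Subgroup.nontrivial_iff_ne_bot H).2 fun e =>
      h1 (by rw [e]; exact Subgroup.commutator_bot_left _)
    have hlt : commutator ↥H < ⊤ := IsSolvable.commutator_lt_top_of_nontrivial ↥H
    refine hlt.ne (map_injective H.subtype_injective ?_)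
    rw [map_subtype_commutator, ← MonoidHom.range_eq_map, range_subtype]
    exact hHH
  haveI hc : IsMulCommutative ↥H := ⟨⟨fun a b => Subtype.ext
    (commutatorElement_eq_one_iff_mul_comm.1 (mem_bot.1 (hder ▸ commutator_mem_commutator a.2 b.2)))⟩⟩
  let N : Subgroup G :=
    { carrier := {x | x ∈ H ∧ x ^ Nat.card W₂ = 1}
      one_mem' := ⟨H.one_mem, one_pow _⟩
      mul_mem' := fun {a b} ha hb => ⟨H.mul_mem ha.1 hb.1, by
        rw [(show Commute a b from congrArg Subtype.val (hc.is_comm.comm ⟨a, ha.1⟩ ⟨b, hb.1⟩)).mul_pow,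
          ha.2, hb.2, one_mul]⟩
      inv_mem' := fun {a} ha => ⟨H.inv_mem ha.1, by rw [inv_pow, ha.2, inv_one]⟩ }
  have hNn : U ⊔ W₁ ≤ normalizer (N : Set G) := fun g hg => mem_normalizer_iff.2 fun x => by
    show x ∈ H ∧ x ^ _ = 1 ↔ g * x * g⁻¹ ∈ H ∧ (g * x * g⁻¹) ^ _ = 1
    rw [conj_pow, conj_eq_one_iff, ← mem_normalizer_iff.1 (hn hg) x]
  have hW2N : W₂ ≤ N := fun x hx => ⟨h.right_le_H hx, orderOf_dvd_iff_pow_eq_one.1 (Kap.dvd_of_mem hx rfl)⟩
  have hNH := h.eq_of_invariant hG hU (N := N) (fun x hx => hx.1) hNn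
    (fun e => h.typeP_S.selfNormalizing.2.1 (le_bot_iff.1 (hW2N.trans e.le)))
  exact ⟨hc, fun a ha => (hNH.ge ha).2⟩

/-- A `W₁`-invariant subgroup of `U` fixing a nonidentity element of `M_F` centralizes `M_F`. -/
theorem invariant_fixed_centralizes {V₀ : Subgroup G} (hV₀ : V₀ ≤ U)
    (hW : W₁ ≤ normalizer (V₀ : Set G)) {x : G} (hx : x ∈ Cfsg.fittingHallOf S) (hx1 : x ≠ 1)
    (hfix : ∀ v ∈ V₀, v * x = x * v) : V₀ ≤ centralizer (Cfsg.fittingHallOf S : Set G) := by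
  have hn : U ⊔ W₁ ≤ normalizer (V₀ : Set G) := by
    refine sup_le (fun u hu => mem_normalizer_iff.2 fun v => ?_) hW
    haveI := h.U_comm hG hU
    constructor
    · intro hv
      rwa [show u * v = v * u from congrArg Subtype.val (IsMulCommutative.is_comm.comm (⟨u, hu⟩ : U) ⟨v, hV₀ hv⟩),
        mul_inv_cancel_right]
    · intro hv
      have hvU : v ∈ U := by
        simpa [mul_assoc] using U.mul_mem (U.mul_mem (U.inv_mem hu) (hV₀ hv)) hu
      rwa [show u * v = v * u from congrArg Subtype.val (IsMulCommutative.is_comm.comm (⟨u, hu⟩ : U) ⟨v, hvU⟩),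
        mul_inv_cancel_right] at hv
  have hN := h.eq_of_invariant hG hU (N := Cfsg.fittingHallOf S ⊓ centralizer (V₀ : Set G)) inf_le_left
    (le_normalizer_inf_centralizer_of (sup_le h.U_le_normalizer_H h.left_le_normalizer_H) hn)
    (fun e => hx1 (mem_bot.1 (e ▸ ⟨hx, mem_centralizer_iff.2 hfix⟩)))
  exact le_centralizer_iff.1 (inf_eq_left.1 hN)

end PairData

end CfsgLib.OddEnd
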