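import Cfsg.Agent.OddEnd.Rho
import Cfsg.Agent.Char.Galois
import Cfsg.Agent.S1494
import Mathlib.GroupTheory.GroupAction.FixedPoints
import Mathlib.GroupTheory.Perm.Cycle.Type

/-!
Congruences modulo `1 - ε`, with denominators prime to `p`.
-/

set_option autoImplicit false

namespace CfsgLib.OddEnd

universe u

variable {p : ℕ}

theorem Cong.of_mul {a b ω : ℂ} (hp : p.Prime) (hω : IsIntegral ℤ ω) (h : a - b = piEl p * ω) :
    Cong p a b :=
  ⟨1, ω, hp.not_dvd_one, hω, by rw [Nat.cast_one, one_mul, h]⟩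

theorem Cong.refl (hp : p.Prime) (a : ℂ) : Cong p a a :=
  Cong.of_mul hp isIntegral_zero (by simp)

theorem Cong.of_eq (hp : p.Prime) {a b : ℂ} (h : a = b) : Cong p a b := h ▸ Cong.refl hp a

theorem Cong.symm {a b : ℂ} (h : Cong p a b) : Cong p b a := by
  obtain ⟨m, ω, hm, hω, h⟩ := h
  exact ⟨m, -ω, hm, hω.neg, by linear_combination -h⟩

theorem Cong.add {a b c d : ℂ} (hp : p.Prime) (h : Cong p a b) (h' : Cong p c d) :
    Cong p (a + c) (b + d) := by
  obtain ⟨m, ω, hm, hω, h⟩ := h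
  obtain ⟨m', ω', hm', hω', h'⟩ := h'
  refine ⟨m * m', (m' : ℂ) * ω + (m : ℂ) * ω', fun hd => (hp.dvd_mul.1 hd).elim hm hm', ?_, ?_⟩
  · exact (((map_natCast (algebraMap ℤ ℂ) m') ▸ isIntegral_algebraMap).mul hω).add
      (((map_natCast (algebraMap ℤ ℂ) m) ▸ isIntegral_algebraMap).mul hω')
  · push_cast
    linear_combination (m' : ℂ) * h + (m : ℂ) * h'

theorem Cong.trans {a b c : ℂ} (hp : p.Prime) (h : Cong p a b) (h' : Cong p b c) : Cong p a c := by
  obtain ⟨m, ω, hm, hω, e⟩ := Cong.add hp h h'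
  exact ⟨m, ω, hm, hω, by linear_combination e⟩

theorem Cong.sum {ι : Type*} (hp : p.Prime) (s : Finset ι) {f g : ι → ℂ}
    (h : ∀ i ∈ s, Cong p (f i) (g i)) : Cong p (∑ i ∈ s, f i) (∑ i ∈ s, g i) := by
  classical
  induction s using Finset.induction with
  | empty => simpa using Cong.refl hp 0
  | insert i s hi ih =>
    rw [Finset.sum_insert hi, Finset.sum_insert hi]
    exact Cong.add hp (h i (Finset.mem_insert_self i s)) (ih fun j hj => h j (Finset.mem_insert_of_mem hj))

theorem Cong.mul_left {a b c : ℂ} (hc : IsIntegral ℤ c) (h : Cong p a b) : Cong p (c * a) (c * b) := by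
  obtain ⟨m, ω, hm, hω, h⟩ := h
  exact ⟨m, c * ω, hm, hc.mul hω, by linear_combination c * h⟩

theorem Cong.mul_natCast {a b : ℂ} (n : ℕ) (h : Cong p a b) : Cong p ((n : ℂ) * a) ((n : ℂ) * b) :=
  Cong.mul_left ((map_natCast (algebraMap ℤ ℂ) n) ▸ isIntegral_algebraMap) h

/-- Division by a natural number prime to `p`. -/
theorem Cong.div {a b : ℂ} (hp : p.Prime) {n : ℕ} (hn : ¬ p ∣ n) (h : Cong p a b) :
    Cong p ((n : ℂ)⁻¹ * a) ((n : ℂ)⁻¹ * b) := by
  obtain ⟨m, ω, hm, hω, h⟩ := h
  have hn0 : (n : ℂ) ≠ 0 := by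
    exact_mod_cast fun e : n = 0 => hn (e ▸ dvd_zero p)
  refine ⟨m * n, ω, fun hd => (hp.dvd_mul.1 hd).elim hm hn, hω, ?_⟩
  push_cast
  field_simp
  linear_combination h

theorem Cong.neg {a b : ℂ} (h : Cong p a b) : Cong p (-a) (-b) := by
  obtain ⟨m, ω, hm, hω, h⟩ := h
  exact ⟨m, -ω, hm, hω.neg, by linear_combination -h⟩

/-- `p` itself is divisible by `1 - ε`. -/
theorem natCast_cong_zero (hp : p.Prime) : Cong p (p : ℂ) 0 := by
  have hε : IsPrimitiveRoot (Complex.exp (2 * Real.pi * Complex.I / p)) p :=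
    Complex.isPrimitiveRoot_exp p hp.ne_zero
  set ε := Complex.exp (2 * Real.pi * Complex.I / p) with hεdef
  obtain ⟨k, rfl⟩ : ∃ k, p = k + 2 := ⟨p - 2, by have := hp.two_le; omega⟩
  have hεint : IsIntegral ℤ ε := CfsgLib.Char.isIntegral_of_pow_eq_one (by omega) hε.pow_eq_one
  have h := hε.prod_one_sub_pow_eq_order
  rw [Finset.prod_range_succ', zero_add, pow_one] at h
  refine Cong.of_mul hp (IsIntegral.prod (s := Finset.range k) (fun i => 1 - ε ^ (i + 1 + 1)) fun i _ => isIntegral_one.sub (hεint.pow (i + 1 + 1))) ?_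
  rw [sub_zero, piEl, ← hεdef]
  push_cast at h ⊢
  linear_combination -h

theorem int_cong_iff (hp : p.Prime) {a b : ℤ} : Cong p (a : ℂ) (b : ℂ) → (p : ℤ) ∣ a - b := by
  rintro ⟨m, ω, hm, hω, h⟩
  have h' : (((m : ℤ) * (a - b) : ℤ) : ℂ) = piEl p * ω := by push_cast; exact h
  have := CfsgLib.Char.int_dvd_of_one_sub_mul hp (Complex.isPrimitiveRoot_exp p hp.ne_zero) hω h'
  refine ((Nat.prime_iff_prime_int.1 hp).dvd_or_dvd this).resolve_left fun hd => hm ?_
  exact_mod_cast hd

/-- A multiple of `p` is congruent to zero. -/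
theorem mul_cong_zero (hp : p.Prime) {c : ℂ} (hc : IsIntegral ℤ c) : Cong p ((p : ℂ) * c) 0 := by
  have h := Cong.mul_left hc (natCast_cong_zero hp)
  rwa [mul_zero, mul_comm c] at h

theorem natCast_cong_of_modEq (hp : p.Prime) {a b : ℕ} (h : a ≡ b [MOD p]) : Cong p (a : ℂ) (b : ℂ) := by
  obtain ⟨c, hc⟩ := Nat.modEq_iff_dvd.1 h.symm
  have h0 := Cong.add hp (mul_cong_zero hp (c := (c : ℂ)) ((map_intCast (algebraMap ℤ ℂ) c) ▸ isIntegral_algebraMap))
    (Cong.refl hp (b : ℂ))
  rw [zero_add] at h0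
  have e : ((a : ℤ) : ℂ) - ((b : ℤ) : ℂ) = ((p : ℤ) : ℂ) * (c : ℂ) := by exact_mod_cast hc
  push_cast at e
  rwa [show (p : ℂ) * (c : ℂ) + (b : ℂ) = (a : ℂ) by linear_combination -e] at h0

/-- Values of a generalized character on commuting elements. -/
theorem cong_apply_mul {G : Type u} [Group G] [Finite G] {χ : G → ℂ} (hχ : Cfsg.IsGeneralizedCharacter G χ)
    (hp : p.Prime) {x y : G} (hx : orderOf x = p) (hxy : Commute x y) : Cong p (χ (x * y)) (χ y) := by
  obtain ⟨ω, hω, h⟩ := Cfsg.Agent.S1494.result χ hχ p hp x y hx hxy.eq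
  exact Cong.of_mul hp hω h

/-- An element of order `p` is congruent to the identity. -/
theorem cong_apply_one {G : Type u} [Group G] [Finite G] {χ : G → ℂ} (hχ : Cfsg.IsGeneralizedCharacter G χ)
    (hp : p.Prime) {x : G} (hx : orderOf x = p) : Cong p (χ x) (χ 1) := by
  simpa using cong_apply_mul hχ hp hx (Commute.one_right x)

/-- A sum invariant under a permutation of order dividing `p` is congruent to the sum over its fixed points. -/
theorem sum_cong_fixed {ι : Type*} [DecidableEq ι] (hp : p.Prime) (s : Finset ι) (σ : ι → ι)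
    (hσ : ∀ i ∈ s, σ i ∈ s) (hord : ∀ i ∈ s, σ^[p] i = i) {f : ι → ℂ} (hf : ∀ i ∈ s, f (σ i) = f i)
    (hint : ∀ i ∈ s, ∃ n : ℕ, ¬ p ∣ n ∧ IsIntegral ℤ ((n : ℂ) * f i)) :
    Cong p (∑ i ∈ s, f i) (∑ i ∈ s.filter (fun i => σ i = i), f i) := by
  haveI := Fact.mk hp
  induction s using Finset.strongInduction with
  | H s ih =>
    by_cases hall : ∀ i ∈ s, σ i = i
    · rw [Finset.filter_true_of_mem hall]
      exact Cong.refl hp _
    push Not at hall
    obtain ⟨i, hi, hne⟩ := hall
    have hit : ∀ k, σ^[k] i ∈ s := fun k => by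
      induction k with
      | zero => simpa using hi
      | succ k ihk => rw [Function.iterate_succ_apply']; exact hσ _ ihk
    have hfit : ∀ k, f (σ^[k] i) = f i := fun k => by
      induction k with
      | zero => rfl
      | succ k ihk => rw [Function.iterate_succ_apply', hf _ (hit k), ihk]
    have hper : Function.minimalPeriod σ i = p := Function.minimalPeriod_eq_prime (hord i hi) hne
    set O := (Finset.range p).image (fun k => σ^[k] i) with hO
    have hinj : Set.InjOn (fun k => σ^[k] i) (Finset.range p : Set ℕ) := fun a ha b hb h => by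
      rw [Finset.coe_range, Set.mem_Iio, ← hper] at ha hb
      exact Function.iterate_injOn_Iio_minimalPeriod ha hb h
    have hOs : O ⊆ s := Finset.image_subset_iff.2 fun k _ => hit k
    have hOσ : ∀ j ∈ O, σ j ∈ O := fun j hj => by
      obtain ⟨k, -, rfl⟩ := Finset.mem_image.1 hj
      refine Finset.mem_image.2 ⟨(k + 1) % p, Finset.mem_range.2 (Nat.mod_lt _ hp.pos), ?_⟩
      show σ^[(k + 1) % p] i = σ (σ^[k] i)
      rw [← Function.iterate_succ_apply' σ k i, ← hper, Function.iterate_mod_minimalPeriod_eq]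
    have hOne : ∀ j ∈ O, σ j ≠ j := fun j hj hfix => by
      obtain ⟨k, -, rfl⟩ := Finset.mem_image.1 hj
      refine hne ?_
      have h1 : σ^[p * (k + 1)] i = i := by
        rw [mul_comm, ← hper]
        exact (Function.isPeriodicPt_minimalPeriod σ i).const_mul (k + 1)
      have h2 : ∀ n, σ^[n] (σ^[k] i) = σ^[k] i := fun n => by
        induction n with
        | zero => rfl
        | succ n ihn => rw [Function.iterate_succ_apply', ihn, hfix]
      obtain ⟨m, hm⟩ : ∃ m, p * (k + 1) = m + k := ⟨p * (k + 1) - k, by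
        have : k + 1 ≤ p * (k + 1) := Nat.le_mul_of_pos_left _ hp.pos
        omega⟩
      rw [hm, Function.iterate_add_apply, h2] at h1
      rwa [h1] at hfix
    have hOcard : O.card = p := by rw [hO, Finset.card_image_of_injOn hinj, Finset.card_range]
    have hOsum : Cong p (∑ j ∈ O, f j) 0 := by
      rw [hO, Finset.sum_image hinj, Finset.sum_congr rfl (fun k _ => hfit k), Finset.sum_const,
        Finset.card_range, nsmul_eq_mul]
      obtain ⟨n, hn, hni⟩ := hint i hi
      have h := Cong.div hp hn (mul_cong_zero hp hni)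
      have hn0 : (n : ℂ) ≠ 0 := by exact_mod_cast fun e : n = 0 => hn (e ▸ dvd_zero p)
      rwa [mul_zero, show (n : ℂ)⁻¹ * ((p : ℂ) * ((n : ℂ) * f i)) = (p : ℂ) * f i by field_simp] at h
    have hlt : s \ O ⊂ s := by
      refine Finset.sdiff_ssubset hOs ?_
      exact Finset.card_pos.1 (hOcard ▸ hp.pos)
    have hsd : ∀ j ∈ s \ O, σ j ∈ s \ O := fun j hj => by
      rw [Finset.mem_sdiff] at hj ⊢
      refine ⟨hσ j hj.1, fun h => hj.2 ?_⟩
      obtain ⟨k, hkr, hk⟩ := Finset.mem_image.1 h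
      have : σ^[p] j ∈ O := by
        rw [show p = (p - 1) + 1 from (Nat.sub_add_cancel hp.one_le).symm, Function.iterate_succ_apply, ← hk]
        have hOit : ∀ n, ∀ y ∈ O, σ^[n] y ∈ O := fun n => by
          induction n with
          | zero => exact fun y hy => hy
          | succ n ihn => exact fun y hy => by rw [Function.iterate_succ_apply']; exact hOσ _ (ihn y hy)
        exact hOit _ _ (Finset.mem_image.2 ⟨k, hkr, rfl⟩)
      rwa [hord j hj.1] at this
    have h := ih (s \ O) hlt hsd (fun j hj => hord j (Finset.mem_sdiff.1 hj).1)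
      (fun j hj => hf j (Finset.mem_sdiff.1 hj).1) (fun j hj => hint j (Finset.mem_sdiff.1 hj).1)
    have hfil : (s \ O).filter (fun j => σ j = j) = s.filter (fun j => σ j = j) := by
      ext j
      simp only [Finset.mem_filter, Finset.mem_sdiff]
      exact ⟨fun h => ⟨h.1.1, h.2⟩, fun h => ⟨⟨h.1, fun hj => hOne j hj h.2⟩, h.2⟩⟩
    rw [hfil] at h
    rw [← Finset.sum_sdiff hOs]
    simpa using Cong.add hp h hOsum

end CfsgLib.OddEnd
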