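import Cfsg.Agent.OddEnd.FrobeniusSideCoherence
import Cfsg.Agent.OddEnd.Cong
import Cfsg.Agent.Char.TIKernelFunctions

/-!
The Frobenius side of Peterfalvi 12.11: a signed irreducible character of `G` attached to a linear
character of `M_σ`, its averages on `M_σ`, and their norm.
-/

set_option autoImplicit false
set_option linter.style.haveILetI false

namespace CfsgLib.OddEnd

open Subgroup Cfsg CfsgLib.Char CfsgLib.OddLocal
open scoped ComplexConjugate

universe u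

section Kernel

variable {G : Type u} [Group G] [Fintype G] {L : Subgroup G} [Fintype L] {K : Subgroup L} [K.Normal]

theorem indFun_const_one {x : L} (hx : x ∈ K) :
    Cfsg.indFun K (fun _ => (1 : ℂ)) x = (K.index : ℂ) := by
  have h := indFun_apply_normal (fun _ : K => (1 : ℂ)) ⟨x, hx⟩
  rw [h, Finset.sum_const, Finset.card_univ, nsmul_eq_mul, mul_one, ← Nat.card_eq_fintype_card,
    ← K.card_mul_index, Nat.cast_mul,
    inv_mul_cancel_left₀ (Nat.cast_ne_zero.2 (Nat.card_pos (α := K)).ne')]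

/-- A function on the non-identity elements of the kernel with the multiplicities of `ζ` up to
shifts differs from `ζ` by a constant. -/
theorem eq_shift (hC : ∀ a ∈ K, a ≠ 1 → centralizer ({a} : Set L) ≤ K) (hK : K ≠ ⊥) {ζ : L → ℂ}
    (hζ : ζ ∈ relevantChars K) (hζ1 : ζ 1 = (K.index : ℂ)) (n : (L → ℂ) → ℕ)
    (hn : ∀ χ ∈ relevantChars K, χ 1 = (n χ : ℂ) * K.index) {g : L → ℂ}
    (hg : Cfsg.IsClassFunction L g) (hg1 : g 1 = 0) (hg0 : ∀ x, x ∉ K → g x = 0)
    (h : ∀ χ ∈ relevantChars K, Cfsg.classInner (χ - (n χ : ℂ) • ζ) g =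
      (if χ = ζ then 1 else 0) - (n χ : ℂ)) :
    ∃ a : ℂ, (∀ x ∈ K, x ≠ 1 → g x = ζ x + a) ∧
      Cfsg.classInner (nuFun K ζ) g = conj a - 1 := by
  classical
  set e : ℂ := (K.index : ℂ) with he
  have he0 : e ≠ 0 := Nat.cast_ne_zero.2 K.index_ne_zero_of_finite
  set F := g - ζ with hF
  have hFcl : Cfsg.IsClassFunction L F := fun x y => by
    simp only [hF, Pi.sub_apply, hg x y, IsIrrCharacter.isClassFunction hζ.1 x y]
  set k := conj (Cfsg.classInner ζ g - 1) / e with hk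
  have hmul : ∀ χ ∈ relevantChars K, Cfsg.classInner F χ = k * χ 1 := by
    intro χ hχ
    have h1 := h χ hχ
    rw [classInner_sub_left, classInner_smul_left, sub_eq_iff_eq_add] at h1
    have h2 : Cfsg.classInner χ ζ = if χ = ζ then 1 else 0 := IsIrrCharacter.classInner_eq hχ.1 hζ.1
    have h3 : Cfsg.classInner χ F = (n χ : ℂ) * (Cfsg.classInner ζ g - 1) := by
      rw [hF, classInner_sub_right, h1, h2]; ring
    rw [← classInner_conj, h3, map_mul, map_natCast, hn χ hχ, hk]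
    field_simp
  have hconst : ∀ x ∈ K, x ≠ 1 → ∀ y ∈ K, y ≠ 1 → F x = F y := by
    intro x hx hx1 y hy hy1
    have hreg : ∀ z : L, z ≠ 1 → ∑ θ ∈ irrFinset L, θ 1 * θ z = 0 := fun z hz => by
      have := congrFun (leftRegular_eq_sum (G := L)) z
      rw [leftRegular_character, if_neg hz, Finset.sum_apply] at this
      simpa using this.symm
    have hterm : ∀ θ ∈ irrFinset L,
        Cfsg.classInner F θ * θ x - Cfsg.classInner F θ * θ y =
          k * (θ 1 * θ x) - k * (θ 1 * θ y) := by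
      intro θ hθ
      by_cases hr : θ ∈ relevantChars K
      · rw [hmul θ hr]; ring
      · rw [apply_eq_one_of_not_relevant (mem_irrFinset.1 hθ) hr hx,
          apply_eq_one_of_not_relevant (mem_irrFinset.1 hθ) hr hy]
        ring
    rw [← sub_eq_zero]
    calc F x - F y = ∑ θ ∈ irrFinset L, (Cfsg.classInner F θ * θ x - Cfsg.classInner F θ * θ y) := by
          conv_lhs => rw [eq_sum_irr hFcl]
          simp [Finset.sum_sub_distrib]
      _ = 0 := by
          rw [Finset.sum_congr rfl hterm, Finset.sum_sub_distrib, ← Finset.mul_sum, ← Finset.mul_sum,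
            hreg x hx1, hreg y hy1, mul_zero, sub_zero]
  obtain ⟨x₀, hx₀⟩ := Subgroup.ne_bot_iff_exists_ne_one.1 hK
  set a := F x₀ with ha
  have hga : ∀ x ∈ K, x ≠ 1 → g x = ζ x + a := fun x hx hx1 => by
    have := hconst x hx hx1 x₀ x₀.2 (fun e' => hx₀ (Subtype.ext e'))
    rw [← ha, hF, Pi.sub_apply, sub_eq_iff_eq_add'] at this
    exact this
  refine ⟨a, hga, ?_⟩
  have hex : g = ζ + (a / e) • Cfsg.indFun K (fun _ => (1 : ℂ)) -
      (a + e) • fun x => if x = 1 then (1 : ℂ) else 0 := by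
    funext x
    simp only [Pi.add_apply, Pi.sub_apply, Pi.smul_apply, smul_eq_mul]
    by_cases hx : x ∈ K
    · rw [indFun_const_one hx, div_mul_cancel₀ _ he0]
      by_cases hx1 : x = 1
      · rw [if_pos hx1, hx1, hg1, hζ1]; ring
      · rw [if_neg hx1, hga x hx hx1]; ring
    · rw [indFun_eq_zero_of_normal _ hx, relevant_apply_eq_zero hC hζ hx, hg0 x hx,
        if_neg fun e' : x = 1 => hx (e' ▸ K.one_mem)]
      ring
  obtain ⟨-, hβ1, -, -, hββ, hrel⟩ := nuFun_facts hC hζ hζ1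
  have hβζ : Cfsg.classInner (nuFun K ζ) ζ = -1 := by
    rw [hrel ζ hζ, IsIrrCharacter.classInner_self hζ.1]
  have hβI : Cfsg.classInner (nuFun K ζ) (Cfsg.indFun K fun _ => (1 : ℂ)) = e := by
    have h1 : Cfsg.classInner (nuFun K ζ) (nuFun K ζ) =
        Cfsg.classInner (nuFun K ζ) (Cfsg.indFun K fun _ => (1 : ℂ)) -
          Cfsg.classInner (nuFun K ζ) ζ := by
      conv_lhs => arg 2; rw [nuFun]
      rw [classInner_sub_right]
    rw [hββ, hβζ] at h1
    linear_combination -h1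
  have hβδ : Cfsg.classInner (nuFun K ζ) (fun x => if x = 1 then (1 : ℂ) else 0) = 0 := by
    rw [classInner_def, Finset.sum_eq_single (1 : L) (fun x _ hx => by simp [hx]) (by simp),
      hβ1, zero_mul, mul_zero]
  rw [hex, classInner_sub_right, classInner_add_right, classInner_smul_right, classInner_smul_right,
    hβζ, hβI, hβδ, map_div₀, show conj e = e by rw [he, map_natCast]]
  field_simp
  ring

/-- The squares of the absolute values of a relevant character on the kernel. -/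
theorem sum_sq_kernel (hC : ∀ a ∈ K, a ≠ 1 → centralizer ({a} : Set L) ≤ K) {ζ : L → ℂ}
    (hζ : ζ ∈ relevantChars K) (hζ1 : ζ 1 = (K.index : ℂ)) (T : Finset L)
    (hT : ∀ x, x ∈ T ↔ x ∈ K ∧ x ≠ 1) :
    (Nat.card L : ℝ)⁻¹ * ∑ x ∈ T, ‖ζ x‖ ^ 2 = 1 - (K.index : ℝ) / Nat.card K := by
  classical
  have h := IsIrrCharacter.classInner_self hζ.1
  rw [classInner_self, ← Complex.ofReal_one, Complex.ofReal_inj] at h
  have hsplit : ∑ x : L, ‖ζ x‖ ^ 2 = (∑ x ∈ T, ‖ζ x‖ ^ 2) + (K.index : ℝ) ^ 2 := by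
    rw [← Finset.sum_subset (Finset.subset_univ (insert 1 T)) fun x _ hx => by
      have hxK : x ∉ K := fun hxK => hx (by
        by_cases h1 : x = 1
        · exact Finset.mem_insert.2 (Or.inl h1)
        · exact Finset.mem_insert.2 (Or.inr ((hT x).2 ⟨hxK, h1⟩)))
      rw [relevant_apply_eq_zero hC hζ hxK, norm_zero, zero_pow two_ne_zero],
      Finset.sum_insert fun h1 => ((hT 1).1 h1).2 rfl, hζ1, Complex.norm_natCast, add_comm]
  rw [hsplit] at h
  have hL : (Nat.card L : ℝ) = (Nat.card K : ℝ) * K.index := by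
    rw [← Nat.cast_mul, K.card_mul_index]
  have hK0 : (Nat.card K : ℝ) ≠ 0 := Nat.cast_ne_zero.2 (Nat.card_pos (α := K)).ne'
  have he0 : (K.index : ℝ) ≠ 0 := Nat.cast_ne_zero.2 K.index_ne_zero_of_finite
  rw [hL] at h ⊢
  field_simp at h ⊢
  linear_combination h

end Kernel

variable {G : Type u} [Group G]

theorem rho_conj [Finite G] {A : Set G} {L : Subgroup G} {R : G → Subgroup G}
    (hD : Cfsg.DadeHypothesis A L R) {χ : G → ℂ} (hχ : Cfsg.IsClassFunction G χ) {a : L}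
    (ha : (a : G) ∈ A) (m : L) : rho L R χ (m * a * m⁻¹) = rho L R χ a := by
  simp only [rho, Subgroup.coe_mul, InvMemClass.coe_inv]
  rw [dade_card_H_conj hD ha m.2, finsum_mem_eq_finite_toFinset_sum _ (Set.toFinite _),
    finsum_mem_eq_finite_toFinset_sum _ (Set.toFinite _)]
  congr 1
  refine Finset.sum_nbij' (fun v => (m : G)⁻¹ * v * m) (fun v => (m : G) * v * (m : G)⁻¹)
    (fun v hv => ?_) (fun v hv => ?_) (fun v _ => by group) (fun v _ => by group) fun v _ => ?_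
  · rw [Set.Finite.mem_toFinset, SetLike.mem_coe] at hv ⊢
    refine (dade_H_mem_conj hD ha m.2 (u := (m : G)⁻¹ * v * m)).1 ?_
    rwa [show (m : G) * ((m : G)⁻¹ * v * m) * (m : G)⁻¹ = v by group]
  · rw [Set.Finite.mem_toFinset, SetLike.mem_coe] at hv ⊢
    exact (dade_H_mem_conj hD ha m.2).2 hv
  · rw [← hχ ((a : G) * ((m : G)⁻¹ * v * m)) (m : G)]
    congr 1
    group

variable [Fintype G] (hG : Cfsg.IsMinSimpleOddOrder G)
include hG

/-- The Frobenius side for a kernel element of order `p` with centralizer outside `M`. -/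
theorem frobenius_side_of {M : Subgroup G} [Fintype M] {p : ℕ} (hp : p.Prime) {x : G} (hM : IsCoatom M)
    (hκ : Cfsg.kappa M = ∅) (hF : KernelFrobenius M) (hx : x ∈ Cfsg.sigmaCore M) (hxo : orderOf x = p)
    (hxC : ¬ centralizer ({x} : Set G) ≤ M) (hsmall : 2 * (Cfsg.sigmaCore M).relIndex M ≤ p + 1)
    (hsq : p ^ 2 ≤ Nat.card ↥(Cfsg.sigmaCore M)) :
    ∃ ψ ν : G → ℂ, Cfsg.IsIrrCharacter G ν ∧ (ψ = ν ∨ ψ = -ν) ∧
      (∃ α : M → ℂ, Cfsg.IsClassFunction M α ∧ (∀ a : M, (a : G) ∉ core1 M → α a = 0) ∧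
        Cfsg.dadeIsometry (core1 M) M (Cfsg.supportR M) α = ν - Cfsg.conjFun ν) ∧
      (∀ a : M, (a : G) ∈ Cfsg.sigmaCore M → orderOf (a : G) = p →
        Cong p (rho M (Cfsg.supportR M) ψ a) ((Cfsg.sigmaCore M).relIndex M : ℂ)) ∧
      1 - ((Cfsg.sigmaCore M).relIndex M : ℝ) / Nat.card ↥(Cfsg.sigmaCore M) ≤
        (Nat.card M : ℝ)⁻¹ * ∑ᶠ a ∈ {a : M | (a : G) ∈ core1 M},
          ‖rho M (Cfsg.supportR M) ψ a‖ ^ 2 := by
  classical
  haveI hsolvM : Group.IsSolvable M := hG.2.2.2 M hM.1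
  set K := (Cfsg.sigmaCore M).subgroupOf M with hKdef
  haveI hKn : K.Normal := by rw [hKdef, comap_core]; infer_instance
  have hC := kernel_centralizer_le hF
  have hD := dade_core hG hM hκ
  obtain ⟨-, τ₁, hτ₁, hag⟩ := kernel_coherent hG hM hκ hF hp hx hxo
    hxC
  rw [← hKdef] at hτ₁ hag hC
  set S := Cfsg.inducedIrrAbove K ⊥ with hSdef
  set τ := Cfsg.dadeIsometry (core1 M) M (Cfsg.supportR M) with hτdef
  set e := K.index with hedef
  set h := Nat.card K with hhdef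
  have hrel : (Cfsg.sigmaCore M).relIndex M = e := rfl
  have hcard : Nat.card ↥(Cfsg.sigmaCore M) = h :=
    (Nat.card_congr (subgroupOfEquivOfLe (map_subtype_le _)).toEquiv).symm
  have hSeq : S = relevantChars K := inducedIrrAbove_bot_eq (A := K) hC
  have hK1 : K ≠ ⊥ := fun h' => hp.ne_one (by
    have h2 : (⟨x, map_subtype_le _ hx⟩ : M) ∈ K := hx
    rw [h', mem_bot] at h2
    rw [← hxo, show x = 1 from congrArg Subtype.val h2, orderOf_one])
  haveI : Nontrivial K := (Subgroup.nontrivial_iff_ne_bot K).2 hK1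
  -- the index is at least three
  have hoddM : Odd (Nat.card M) := hG.1.of_dvd_nat M.card_subgroup_dvd_card
  have he1 : e ≠ 1 := by
    intro h'
    have hle : M ≤ ⁅M, M⁆ := (subgroupOf_eq_top.1 (index_eq_one.1 h')).trans
      (Sig.sigma_core hG hM).2.2
    haveI : Nontrivial M := K.subtype_injective.nontrivial
    refine (Group.IsSolvable.commutator_lt_top_of_nontrivial M).ne
      (map_injective M.subtype_injective ?_)
    rw [commutator_def, map_commutator, ← MonoidHom.range_eq_map, range_subtype]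
    exact le_antisymm (Subgroup.commutator_le_self M) hle
  have he3 : 3 ≤ e := by
    obtain ⟨r, hr⟩ := hoddM.of_dvd_nat K.index_dvd_card
    omega
  have hpe : 2 * e ≤ p + 1 := hrel ▸ hsmall
  have hph : p ^ 2 ≤ h := hcard ▸ hsq
  -- the linear member
  have hsolvK : Group.IsSolvable K := inferInstance
  have hDK : ⁅K, K⁆ < K := by
    have hmapD : (commutator K).map K.subtype = ⁅K, K⁆ := by
      rw [commutator_def, map_commutator, ← MonoidHom.range_eq_map, range_subtype]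
    rw [← hmapD]
    refine lt_of_le_of_ne (map_subtype_le _) fun h' => ?_
    refine (Group.IsSolvable.commutator_lt_top_of_nontrivial K).ne ?_
    refine map_injective K.subtype_injective ?_
    rw [h', ← MonoidHom.range_eq_map, range_subtype]
  obtain ⟨ζ, hζmem, hζd⟩ := exists_linear_aboveInd (L := M) (K := K) (A := ⁅K, K⁆) hsolvK hDK
  have hζS : ζ ∈ S := inducedIrrAbove_subset_bot K _ (mem_aboveInd.1 hζmem)
  have hζ : ζ ∈ relevantChars K := hSeq ▸ hζS
  have hζ1 : ζ 1 = (e : ℂ) := by rw [irr_apply_one_eq_cdeg hζ.1, hζd]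
  have hζc : Cfsg.conjFun ζ ∈ S := conjFun_mem_inducedIrrAbove hζS
  have hζne : Cfsg.conjFun ζ ≠ ζ := fun h' => by
    obtain ⟨θ, h1, h2, -, h3⟩ := id hζS
    have h0 : Cfsg.classInner (Cfsg.conjFun ζ) ζ = 0 :=
      h3 ▸ classInner_conj_indFun_eq_zero hoddM h1 h2
    rw [h', IsIrrCharacter.classInner_self hζ.1] at h0
    exact one_ne_zero h0
  -- relative degrees
  have hn' : ∀ χ ∈ relevantChars K, ∃ n : ℕ, χ 1 = (n : ℂ) * e := fun χ hχ => by
    obtain ⟨θ, h1, -, -, h3⟩ := (hSeq ▸ hχ : χ ∈ S)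
    exact ⟨cdeg θ, by rw [h3, indFun_one, irr_apply_one_eq_cdeg h1, mul_comm]⟩
  choose! n hn using hn'
  have heC : (e : ℂ) ≠ 0 := Nat.cast_ne_zero.2 (by omega)
  have hnζ : n ζ = 1 := by
    have h1 := hn ζ hζ
    rw [hζ1] at h1
    nth_rewrite 1 [← one_mul (e : ℂ)] at h1
    exact_mod_cast (mul_right_cancel₀ heC h1).symm
  -- differences
  have hz : ∀ χ ∈ S, χ - (n χ : ℤ) • ζ ∈ Cfsg.zspanOn S ({1}ᶜ : Set M) := fun χ hχ =>
    mem_zspanOn_one.2 ⟨Submodule.sub_mem _ (subset_zspan hχ)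
      (zsmul_mem_zspan (subset_zspan hζS) _), by
      rw [Pi.sub_apply, Pi.smul_apply, zsmul_eq_mul, hζ1, hn χ (hSeq ▸ hχ)]
      push_cast; ring⟩
  have hsupp : ∀ χ ∈ relevantChars K, ∀ a : M, (a : G) ∉ core1 M → a ≠ 1 → χ a = 0 :=
    fun χ hχ a ha ha1 => relevant_apply_eq_zero hC hχ fun haK => ha
      ⟨haK, fun e' => ha1 (Subtype.ext e')⟩
  have hzsupp : ∀ χ ∈ S, ∀ a : M, (a : G) ∉ core1 M → (χ - (n χ : ℤ) • ζ) a = 0 := by
    intro χ hχ a ha
    by_cases ha1 : a = 1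
    · subst ha1; exact (mem_zspanOn_one.1 (hz χ hχ)).2
    · rw [Pi.sub_apply, Pi.smul_apply, hsupp χ (hSeq ▸ hχ) a ha ha1, hsupp ζ hζ a ha ha1,
        smul_zero, sub_zero]
  have hzcl : ∀ χ ∈ S, Cfsg.IsClassFunction M (χ - (n χ : ℤ) • ζ) := fun χ hχ =>
    IsGeneralized.isClassFunction (IsGeneralized.sub
      (IsIrrCharacter.isGeneralized (hSeq ▸ hχ : χ ∈ relevantChars K).1)
      (IsGeneralized.zsmul (IsIrrCharacter.isGeneralized hζ.1) _))
  have hτz : ∀ χ ∈ S, τ (χ - (n χ : ℤ) • ζ) = τ₁ χ - (n χ : ℂ) • τ₁ ζ := fun χ hχ => by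
    rw [← hag _ (hz χ hχ), isometry_map_sub (M := Submodule.span ℤ S) hτ₁ (subset_zspan hχ)
      (zsmul_mem_zspan (subset_zspan hζS) _), hτ₁.2.1 ζ (subset_zspan hζS),
      ← Int.cast_smul_eq_zsmul ℂ, Int.cast_natCast]
  have hiso : ∀ χ ∈ S, ∀ φ ∈ S, Cfsg.classInner (τ₁ χ) (τ₁ φ) = if χ = φ then 1 else 0 :=
    fun χ hχ φ hφ => by
      rw [hτ₁.2.2.1 χ (subset_zspan hχ) φ (subset_zspan hφ)]
      exact IsIrrCharacter.classInner_eq (hSeq ▸ hχ : χ ∈ relevantChars K).1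
        (hSeq ▸ hφ : φ ∈ relevantChars K).1
  set ψ := τ₁ ζ with hψdef
  have hψgen : Cfsg.IsGeneralizedCharacter G ψ := hτ₁.2.2.2 ζ (subset_zspan hζS)
  have hψcl := IsGeneralized.isClassFunction hψgen
  obtain ⟨ε, ν, hε, hν, hψν⟩ := IsSignedIrr.exists_smul
    (IsGeneralized.isIrr_or_neg hψgen (by rw [hiso ζ hζS ζ hζS, if_pos rfl]))
  -- the exceptional difference
  obtain ⟨μ, hμ, hτμ⟩ := dade_exists_conj_pair hD hζ.1 (fun a ha1 ha => hsupp ζ hζ a ha ha1)
  set α := ζ - Cfsg.conjFun ζ with hαdef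
  have hαz : α ∈ Cfsg.zspanOn S ({1}ᶜ : Set M) :=
    mem_zspanOn_one.2 ⟨Submodule.sub_mem _ (subset_zspan hζS) (subset_zspan hζc), by
      simp [hαdef, Cfsg.conjFun, hζ1]⟩
  have hτα : τ α = ψ - τ₁ (Cfsg.conjFun ζ) := by
    rw [← hag α hαz]
    exact isometry_map_sub (M := Submodule.span ℤ S) hτ₁ (subset_zspan hζS) (subset_zspan hζc)
  have hαcl : Cfsg.IsClassFunction M α := IsGeneralized.isClassFunction (IsGeneralized.sub
    (IsIrrCharacter.isGeneralized hζ.1) (IsIrrCharacter.isGeneralized (IsIrrCharacter.conj hζ.1)))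
  have hαsupp : ∀ a : M, (a : G) ∉ core1 M → α a = 0 := fun a ha => by
    by_cases ha1 : a = 1
    · subst ha1; exact (mem_zspanOn_one.1 hαz).2
    · simp [hαdef, Cfsg.conjFun, hsupp ζ hζ a ha ha1]
  have hone : Cfsg.classInner (τ α) ψ = 1 := by
    rw [hτα, classInner_sub_left, hiso ζ hζS ζ hζS, hiso _ hζc ζ hζS, if_pos rfl, if_neg hζne,
      sub_zero]
  have hconjν : ∃ ν' : G → ℂ, Cfsg.IsIrrCharacter G ν' ∧ (ψ = ν' ∨ ψ = -ν') ∧
      ∃ α' : M → ℂ, Cfsg.IsClassFunction M α' ∧ (∀ a : M, (a : G) ∉ core1 M → α' a = 0) ∧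
        τ α' = ν' - Cfsg.conjFun ν' := by
    have hψ' : ψ = ν ∨ ψ = -ν := by
      rcases hε with rfl | rfl
      · left; simpa using hψν
      · right; simpa using hψν
    by_cases hμν : μ = ν
    · subst hμν
      exact ⟨μ, hμ, hψ', α, hαcl, hαsupp, hτμ⟩
    have hμ' : Cfsg.conjFun μ = ν := by
      by_contra hne
      rw [show τ α = μ - Cfsg.conjFun μ from hτμ, hψν, classInner_smul_right, classInner_sub_left,
        IsIrrCharacter.classInner_of_ne hμ hν hμν,
        IsIrrCharacter.classInner_of_ne (χ := Cfsg.conjFun μ) (IsIrrCharacter.conj hμ) hν hne,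
        sub_zero, mul_zero] at hone
      exact one_ne_zero hone.symm
    refine ⟨ν, hν, hψ', -α, fun y z => by simp [hαcl y z], fun a ha => by simp [hαsupp a ha], ?_⟩
    have hneg : τ (-α) = -τ α := by
      funext g
      simp only [hτdef, Cfsg.dadeIsometry, Pi.neg_apply]
      split_ifs <;> simp
    rw [hneg, show τ α = μ - Cfsg.conjFun μ from hτμ, ← hμ', conjFun_conjFun, neg_sub]
  obtain ⟨ν', hν', hψν', hα'⟩ := hconjν
  -- the averages
  set f := rho M (Cfsg.supportR M) ψ with hfdef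
  set g : M → ℂ := fun a => if (a : G) ∈ core1 M then f a else 0 with hgdef
  have hgcl : Cfsg.IsClassFunction M g := fun a m => by
    by_cases ha : (a : G) ∈ core1 M
    · simp only [hgdef]
      rw [if_pos ha, if_pos (show ((m * a * m⁻¹ : M) : G) ∈ core1 M from hD.conj_mem m m.2 _ ha)]
      exact rho_conj hD hψcl ha m
    · simp only [hgdef]
      rw [if_neg ha, if_neg fun ha' : ((m * a * m⁻¹ : M) : G) ∈ core1 M => ha (by
        have := hD.conj_mem _ (M.inv_mem m.2) _ ha'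
        simpa [mul_assoc] using this)]
  have hαg : ∀ β : M → ℂ, Cfsg.IsClassFunction M β → (∀ a : M, (a : G) ∉ core1 M → β a = 0) →
      Cfsg.classInner β g = Cfsg.classInner (τ β) ψ := by
    intro β hβ hβ0
    rw [hτdef, classInner_dade_rho hD hβ hβ0 hψcl, classInner_def, classInner_def]
    congr 1
    refine Finset.sum_congr rfl fun a _ => ?_
    by_cases ha : (a : G) ∈ core1 M
    · simp only [hgdef, if_pos ha]; rfl
    · rw [hβ0 a ha, zero_mul, zero_mul]
  have hshift : ∀ χ ∈ relevantChars K, Cfsg.classInner (χ - (n χ : ℂ) • ζ) g =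
      (if χ = ζ then 1 else 0) - (n χ : ℂ) := fun χ hχ => by
    have hχ' : χ ∈ S := hSeq ▸ hχ
    have e1 : χ - (n χ : ℂ) • ζ = χ - (n χ : ℤ) • ζ := by
      rw [← Int.cast_smul_eq_zsmul ℂ, Int.cast_natCast]
    rw [e1, hαg _ (hzcl χ hχ') (hzsupp χ hχ'), hτz χ hχ', classInner_sub_left, classInner_smul_left,
      hiso χ hχ' ζ hζS, hiso ζ hζS ζ hζS, if_pos rfl, mul_one]
  obtain ⟨a, hga, hβg⟩ := eq_shift hC hK1 hζ hζ1 n hn hgcl
    (if_neg fun h' => hD.one_not_mem (by simpa using h'))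
    (fun y hy => if_neg fun h' : (y : G) ∈ core1 M => hy h'.1) hshift
  -- the shift vanishes
  obtain ⟨hβcl, hβ1, hβ0, -, hββ, hβrel⟩ := nuFun_facts hC hζ hζ1
  set β := nuFun K ζ with hβdef
  have hβsupp : ∀ y : M, (y : G) ∉ core1 M → β y = 0 := fun y hy => by
    by_cases hy1 : y = 1
    · rw [hy1]; exact hβ1
    · exact hβ0 y fun hyK => hy ⟨hyK, fun e' => hy1 (Subtype.ext e')⟩
  have hβgen : Cfsg.IsGeneralizedCharacter M β :=
    IsGeneralized.sub (IsGeneralized.indFun isGeneralized_one)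
      (IsIrrCharacter.isGeneralized hζ.1)
  have hTgen : Cfsg.IsGeneralizedCharacter G (τ β) := isGeneralized_dadeIsometry hD hβgen hβsupp
  obtain ⟨b, hb⟩ := IsGeneralized.exists_classInner_eq_int hTgen hψgen
  have hab : a = (b : ℂ) + 1 := by
    have h1 := hαg β hβcl hβsupp
    rw [hβg, hb, sub_eq_iff_eq_add] at h1
    have h2 := congrArg conj h1
    rwa [Complex.conj_conj, map_add, map_intCast, map_one] at h2
  set A : ℤ := b + 1 with hA
  have hcoef : ∀ χ ∈ S, Cfsg.classInner (τ β) (τ₁ χ) =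
      (((n χ : ℤ) * A - (if χ = ζ then 1 else 0) : ℤ) : ℂ) := by
    intro χ hχ
    have hχ' : χ ∈ relevantChars K := hSeq ▸ hχ
    have h1 : Cfsg.classInner (τ β) (τ (χ - (n χ : ℤ) • ζ)) =
        Cfsg.classInner β (χ - (n χ : ℤ) • ζ) := by
      rw [hτdef]
      exact classInner_dadeIsometry_dadeIsometry hD hβcl hβsupp (hzcl χ hχ)
    rw [hτz χ hχ, classInner_sub_right, classInner_smul_right, hb, classInner_sub_right,
      ← Int.cast_smul_eq_zsmul ℂ, classInner_smul_right, hβrel χ hχ', hβrel ζ hζ,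
      IsIrrCharacter.classInner_self hζ.1, Int.cast_natCast, map_natCast,
      show Cfsg.classInner ζ χ = if χ = ζ then 1 else 0 by
        rw [IsIrrCharacter.classInner_eq hζ.1 hχ'.1]; simp [eq_comm]] at h1
    rw [hA]
    push_cast
    linear_combination h1
  set s := aboveInd K ⊥ with hsdef
  have hs : ∀ χ, χ ∈ s ↔ χ ∈ S := fun χ => mem_aboveInd
  have hinj : ∀ χ ∈ S, ∀ φ ∈ S, τ₁ χ = τ₁ φ → χ = φ := fun χ hχ φ hφ h' => by
    by_contra hne
    have h1 := hiso χ hχ φ hφ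
    rw [h', hiso φ hφ φ hφ, if_pos rfl, if_neg hne] at h1
    exact one_ne_zero h1
  have hbess := bessel (s.image τ₁) (fun u hu v hv => by
    obtain ⟨χ, hχ, rfl⟩ := Finset.mem_image.1 hu
    obtain ⟨φ, hφ, rfl⟩ := Finset.mem_image.1 hv
    rw [hiso χ ((hs χ).1 hχ) φ ((hs φ).1 hφ)]
    exact if_congr ⟨fun h' => h' ▸ rfl, hinj χ ((hs χ).1 hχ) φ ((hs φ).1 hφ)⟩ rfl rfl) (τ β)
  rw [Finset.sum_image fun χ hχ φ hφ => hinj χ ((hs χ).1 hχ) φ ((hs φ).1 hφ),
    Finset.sum_congr rfl fun χ hχ => by rw [hcoef χ ((hs χ).1 hχ), Complex.norm_intCast, sq_abs]]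
    at hbess
  rw [hτdef, classInner_dadeIsometry_dadeIsometry hD hβcl hβsupp hβcl, hββ, ← hedef] at hbess
  set S2 : ℤ := ∑ χ ∈ s, (n χ : ℤ) ^ 2 with hS2
  have hbZ : A ^ 2 * S2 - 2 * A + 1 ≤ (e : ℤ) + 1 := by
    have h1 : ((∑ χ ∈ s, ((n χ : ℤ) * A - (if χ = ζ then 1 else 0)) ^ 2 : ℤ) : ℝ) ≤
        (((e : ℤ) + 1 : ℤ) : ℝ) := by
      push_cast
      simpa using hbess
    have h2 : ∑ χ ∈ s, ((n χ : ℤ) * A - (if χ = ζ then 1 else 0)) ^ 2 =
        A ^ 2 * S2 - 2 * A + 1 := by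
      rw [hS2, Finset.mul_sum]
      have e1 : ∀ χ ∈ s, ((n χ : ℤ) * A - (if χ = ζ then 1 else 0)) ^ 2 =
          A ^ 2 * (n χ : ℤ) ^ 2 + (if χ = ζ then -2 * A + 1 else 0) := fun χ _ => by
        split_ifs with h'
        · rw [h', hnζ]; push_cast; ring
        · ring
      rw [Finset.sum_congr rfl e1, Finset.sum_add_distrib, Finset.sum_ite_eq',
        if_pos ((hs ζ).2 hζS)]
      ring
    rw [← h2]
    exact_mod_cast h1
  have hS2eq : (e : ℤ) * S2 = (h : ℤ) - 1 := by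
    have hw := sum_weight_aboveInd (K := K) (⊥ : Subgroup M)
    rw [relIndex_bot_left, ← hedef, ← hhdef] at hw
    have hval : ∀ χ ∈ s, ((cdeg χ : ℝ) ^ 2 / (cnorm χ : ℝ)) = (e : ℝ) ^ 2 * ((n χ : ℤ) : ℝ) ^ 2 := by
      intro χ hχ
      have hχ' : χ ∈ relevantChars K := hSeq ▸ (hs χ).1 hχ
      have h1 : cnorm χ = 1 := by
        rw [cnorm, IsIrrCharacter.classInner_self hχ'.1, Complex.one_re, Nat.floor_one]
      have h2 : cdeg χ = n χ * e := by
        have := (irr_apply_one_eq_cdeg hχ'.1).symm.trans (hn χ hχ')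
        exact_mod_cast this
      rw [h1, h2]
      push_cast
      ring
    rw [← hsdef, Finset.sum_congr rfl hval, ← Finset.mul_sum] at hw
    have heR : (e : ℝ) ≠ 0 := Nat.cast_ne_zero.2 (by omega)
    have h3 : ((e : ℤ) * S2 : ℤ) = (((h : ℤ) - 1 : ℤ) : ℝ) := by
      rw [hS2]
      push_cast
      apply mul_left_cancel₀ heR
      push_cast at hw
      linear_combination hw
    exact_mod_cast h3
  have hA0 : A = 0 := by
    by_contra hA0
    have hS1 : 1 ≤ S2 := by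
      rw [hS2]
      calc (1 : ℤ) = (n ζ : ℤ) ^ 2 := by rw [hnζ]; norm_num
        _ ≤ _ := Finset.single_le_sum (f := fun χ => (n χ : ℤ) ^ 2) (fun χ _ => sq_nonneg _)
            ((hs ζ).2 hζS)
    have h1 : 1 ≤ A ^ 2 := by nlinarith [mul_self_pos.2 hA0]
    have h2 : S2 - 1 ≤ (e : ℤ) + 1 := by nlinarith [sq_nonneg (A - 1)]
    have h3 : ((p : ℤ)) ^ 2 ≤ (h : ℤ) := by exact_mod_cast hph
    have h4 : 2 * (e : ℤ) ≤ (p : ℤ) + 1 := by exact_mod_cast hpe
    have h5 : (3 : ℤ) ≤ e := by exact_mod_cast he3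
    nlinarith
  have hf : ∀ y : M, y ∈ K → y ≠ 1 → f y = ζ y := fun y hy hy1 => by
    have h1 := hga y hy hy1
    rw [hgdef] at h1
    simp only at h1
    have hyc : (y : G) ∈ core1 M := ⟨hy, fun e' => hy1 (Subtype.ext e')⟩
    rw [if_pos hyc, hab,
      show (b : ℂ) + 1 = ((A : ℤ) : ℂ) by simp [hA], hA0, Int.cast_zero, add_zero] at h1
    exact h1
  refine ⟨ψ, ν', hν', hψν', hα', fun y hy ho => ?_, ?_⟩
  · have hy1 : y ≠ 1 := fun h' => hp.ne_one (by rw [← ho, h', OneMemClass.coe_one, orderOf_one])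
    show Cong p (f y) _
    rw [hf y hy hy1, hrel, ← hζ1]
    exact cong_apply_one (IsIrrCharacter.isGeneralized hζ.1) hp (by rw [← Subgroup.orderOf_coe, ho])
  · rw [hrel, hcard, finsum_mem_eq_finite_toFinset_sum _ (Set.toFinite _)]
    have hT : ∀ y : M, y ∈ (Set.toFinite {a : M | (a : G) ∈ core1 M}).toFinset ↔ y ∈ K ∧ y ≠ 1 :=
      fun y => by
        rw [Set.Finite.mem_toFinset]
        exact ⟨fun h' => ⟨h'.1, fun e' => h'.2 (by rw [e']; rfl)⟩,
          fun h' => ⟨h'.1, fun e' => h'.2 (Subtype.ext e')⟩⟩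
    rw [Finset.sum_congr rfl fun y hy => by
        rw [show rho M (Cfsg.supportR M) ψ y = ζ y from hf y ((hT y).1 hy).1 ((hT y).1 hy).2],
      sum_sq_kernel hC hζ hζ1 _ hT]

theorem frobenius_side {M L : Subgroup G} [Fintype M] {p : ℕ} (hp : p.Prime) {x : G}
    (W : Witness M L p x) :
    ∃ ψ ν : G → ℂ, Cfsg.IsIrrCharacter G ν ∧ (ψ = ν ∨ ψ = -ν) ∧
      (∃ α : M → ℂ, Cfsg.IsClassFunction M α ∧ (∀ a : M, (a : G) ∉ core1 M → α a = 0) ∧
        Cfsg.dadeIsometry (core1 M) M (Cfsg.supportR M) α = ν - Cfsg.conjFun ν) ∧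
      (∀ a : M, (a : G) ∈ Cfsg.sigmaCore M → orderOf (a : G) = p →
        Cong p (rho M (Cfsg.supportR M) ψ a) ((Cfsg.sigmaCore M).relIndex M : ℂ)) ∧
      1 - ((Cfsg.sigmaCore M).relIndex M : ℝ) / Nat.card ↥(Cfsg.sigmaCore M) ≤
        (Nat.card M : ℝ)⁻¹ * ∑ᶠ a ∈ {a : M | (a : G) ∈ core1 M},
          ‖rho M (Cfsg.supportR M) ψ a‖ ^ 2 :=
  frobenius_side_of hG hp W.coatom_M W.kappa_M W.frobenius W.mem W.order W.not_le W.compl_small W.sq_le

end CfsgLib.OddEnd
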