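import Cfsg.Agent.OddEnd.WitnessExistsBasic
import Cfsg.Agent.OddLocal.KappaSupportPair
import Cfsg.Agent.OddLocal.KappaNonTI
import Cfsg.Agent.OddLocal.KappaSylow
import Cfsg.Agent.OddLocal.KappaTilde
import Cfsg.Agent.S1360
import Cfsg.Agent.S1378

/-!
Existence of the configuration of Peterfalvi 12.8–12.10, given a maximal subgroup with empty `κ`
which is not a Frobenius group with kernel its `σ`-core.
-/

set_option autoImplicit false
set_option linter.style.haveILetI false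
set_option linter.unusedSectionVars false

namespace CfsgLib.OddEnd

open Subgroup CfsgLib.OddLocal
open scoped commutatorElement

universe u

variable {G : Type u} [Group G] [Finite G] (hG : Cfsg.IsMinSimpleOddOrder G)
include hG

/-- A failure of `KernelFrobenius` gives a commuting pair of an element of prime order outside `σ(M)` and a
point of `M_σ`. -/
theorem failure_of_not_frobenius {M : Subgroup G} (hM : IsCoatom M) (h : ¬ KernelFrobenius M) :
    ∃ t : ℕ, t.Prime ∧ ∃ u y : G, u ∈ M ∧ orderOf u = t ∧ t ∉ Cfsg.sigma M ∧ y ∈ Cfsg.sigmaCore M ∧ y ≠ 1 ∧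
      Commute u y := by
  unfold KernelFrobenius at h
  push Not at h
  obtain ⟨y, hy, hy1, hle⟩ := h
  obtain ⟨c, ⟨hcM, hcy⟩, hcσ⟩ := SetLike.not_le_iff_exists.1 hle
  obtain ⟨t, ht, htd, htσ⟩ : ∃ t : ℕ, t.Prime ∧ t ∣ orderOf c ∧ t ∉ Cfsg.sigma M := by
    by_contra hno
    push Not at hno
    exact hcσ (Excep.le_sigmaCore hG hM (zpowers_le.2 hcM) (fun r hr hd => hno r hr (by rwa [Nat.card_zpowers] at hd))
      (mem_zpowers c))
  exact ⟨t, ht, c ^ (orderOf c / t), y, pow_mem hcM _, orderOf_pow_orderOf_div (orderOf_pos c).ne' htd, htσ, hy,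
    hy1, (show Commute c y from mem_centralizer_singleton_iff.1 hcy).pow_left _⟩

omit hG [Finite G] in
theorem frobenius_mem {M : Subgroup G} (hF : KernelFrobenius M) {e y : G} (he : e ∈ M)
    (hy : y ∈ Cfsg.sigmaCore M) (hy1 : y ≠ 1) (hey : Commute e y) : e ∈ Cfsg.sigmaCore M :=
  hF y hy hy1 ⟨he, mem_centralizer_singleton_iff.2 hey.eq⟩

/-- Some prime of `M` lies outside `σ(M)`. -/
theorem exists_outer_prime {M : Subgroup G} (hM : IsCoatom M) :
    ∃ t : ℕ, t.Prime ∧ t ∣ Nat.card M ∧ t ∉ Cfsg.sigma M := by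
  by_contra hno
  push Not at hno
  haveI : Group.IsSolvable M := hG.2.2.2 M hM.1
  haveI : Nontrivial M := Finite.one_lt_card_iff_nontrivial.1 (Kap.one_lt_card_coatom hG hM)
  have h1 : M ≤ ⁅M, M⁆ := (Excep.le_sigmaCore hG hM le_rfl hno).trans (Sig.sigma_core hG hM).2.2
  refine (Group.IsSolvable.commutator_lt_top_of_nontrivial M).ne (eq_top_iff.2 fun x _ => ?_)
  have h3 := h1 x.2
  rw [← map_subtype_commutator] at h3
  obtain ⟨y, hy, e⟩ := h3
  exact M.subtype_injective e ▸ hy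

/-- A plane of a prime in `τ₂(L)` has an element whose fixed points in `L_σ` are not all in the derived group. -/
theorem exists_fixed_not_derived {L B : Subgroup G} (hL : IsCoatom L) {p : ℕ} [hp : Fact p.Prime]
    (hτ : p ∈ Cfsg.tau2 L) (hBL : B ≤ L) (hB : Cfsg.IsElementaryAbelian p B) (hB2 : Nat.card B = p ^ 2) :
    ∃ a ∈ B, a ≠ 1 ∧
      ¬ Cfsg.sigmaCore L ⊓ centralizer ({a} : Set G) ≤ ⁅Cfsg.sigmaCore L, Cfsg.sigmaCore L⁆ := by
  by_contra hno
  push Not at hno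
  set K := Cfsg.sigmaCore L with hK
  haveI := hB.1
  have hBc : ¬ IsCyclic B := fun hc => by
    have h1 : Monoid.exponent B ∣ p := Monoid.exponent_dvd_of_forall_pow_eq_one fun b => Subtype.ext (by
      rw [SubmonoidClass.coe_pow]; exact hB.2 b b.2)
    rw [IsCyclic.exponent_eq_card, hB2] at h1
    have := Nat.le_of_dvd hp.out.pos h1
    nlinarith [hp.out.two_le]
  have hcop : (Nat.card B).Coprime (Nat.card K) := by
    rw [hB2]; exact (hp.out.coprime_iff_not_dvd.2 (Kap.not_dvd_core hG hL hp.out hτ.2.1)).pow_left 2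
  have hle : K ≤ ⁅K, K⁆ := by
    have hBK : B ≤ normalizer (K : Set G) := hBL.trans (TH.le_normalizer_core L)
    refine le_of_eq_of_le (CfsgLib.CoprimeAct.generated_by_centralizers hBc hBK hcop).symm ?_
    exact iSup₂_le fun a ha => hno a ha.1 ha.2
  haveI : Group.IsSolvable K := Kap.solvable_le hG hL (map_subtype_le _)
  haveI : Nontrivial K := (nontrivial_iff_ne_bot K).2 (Tau.sigmaCore_ne_bot hG hL (Kap.one_lt_card_coatom hG hL))
  refine (Group.IsSolvable.commutator_lt_top_of_nontrivial K).ne (eq_top_iff.2 fun x _ => ?_)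
  have h3 := hle x.2
  rw [← map_subtype_commutator] at h3
  obtain ⟨y, hy, e⟩ := h3
  exact K.subtype_injective e ▸ hy

/-- The complement `M ⊓ L` lies in `M_σ`. -/
theorem meet_le_core {M L : Subgroup G} (hM : IsCoatom M) (hL : IsCoatom L) (hκL : Cfsg.kappa L = ∅)
    (hF : KernelFrobenius M) (hcompl : Cfsg.IsComplIn (M ⊓ L) (Cfsg.sigmaCore L) L) {p : ℕ}
    [hp : Fact p.Prime] (hpM : p ∈ Cfsg.sigma M) (hpτ : p ∈ Cfsg.tau2 L) {u : G} (hu : u ∈ M ⊓ L)
    (huo : orderOf u = p) : M ⊓ L ≤ Cfsg.sigmaCore M := by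
  refine Excep.le_sigmaCore hG hM inf_le_left fun r hr hrd => by_contra fun hrσ => ?_
  haveI := Fact.mk hr
  set D := M ⊓ L with hD
  set K := Cfsg.sigmaCore L with hK
  have hKU : Cfsg.IsSigmaDecomposition L ⊥ D := by
    refine ⟨inferInstance, ⟨bot_le, fun q hq hd => ?_, fun q _ hqκ => ?_⟩, ⟨hcompl.1, ?_, ?_, fun m hm => ?_⟩,
      bot_le⟩
    · rw [card_bot, Nat.dvd_one] at hd; exact absurd hd hq.ne_one
    · rw [hκL] at hqκ; exact hqκ.elim
    · rw [bot_sup_eq]; exact hcompl.2.1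
    · rw [bot_sup_eq]; exact hcompl.2.2.1
    · rw [bot_sup_eq]; exact hcompl.2.2.2 m hm
  obtain ⟨U, hUD, hexp, hfpf⟩ := Cfsg.Agent.S1360.result hG L hL ⊥ D hKU
  have hfpf' : ∀ {a : G}, a ∈ U → ∀ y ∈ K, y ≠ 1 → Commute a y → a = 1 := fun {a} ha y hy hy1 h =>
    hfpf a ha ⟨(hUD ha).2, y, hy, hy1, h.eq⟩
  have hget : ∀ {q : ℕ}, q.Prime → q ∣ Nat.card D → ∃ b ∈ U, orderOf b = q := by
    intro q hq hd
    haveI := Fact.mk hq
    obtain ⟨d, hd'⟩ := exists_prime_orderOf_dvd_card' (G := D) q hd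
    obtain ⟨b, hb⟩ := exists_prime_orderOf_dvd_card' (G := U) q
      ((hd' ▸ (hexp ▸ Monoid.order_dvd_exponent d : orderOf d ∣ Monoid.exponent U)).trans
        Group.exponent_dvd_nat_card)
    exact ⟨b, b.2, by rw [Subgroup.orderOf_coe, hb]⟩
  obtain ⟨b, hbU, hbo⟩ := hget hp.out (Kap.dvd_of_mem hu huo)
  obtain ⟨v, hvU, hvo⟩ := hget hr hrd
  have hb1 : b ≠ 1 := fun e => hp.out.ne_one (by rw [← hbo, e, orderOf_one])
  have hv1 : v ≠ 1 := fun e => hr.ne_one (by rw [← hvo, e, orderOf_one])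
  have hrp : r ≠ p := fun e => hrσ (e ▸ hpM)
  have hrL : r ∉ Cfsg.sigma L := (Compl.card_eq hG hL hcompl).2.2 r hr hrd
  obtain ⟨P, hbP, hPD, hPp, hPn⟩ := Kap.normal_over hG hL hcompl (Or.inl hpτ) (hUD hbU) hbo
  set Q := P ⊓ U with hQ
  have hQp : IsPGroup p Q := hPp.to_le inf_le_left
  have hp2 : p ≠ 2 := CfsgLib.CN.MinSimple.p_ne_two hG (hbo ▸ orderOf_dvd_natCard b)
  have hQc : IsCyclic Q := Compl.cyclic_of_rank_one hp2 hQp (by_contra fun hne => by
    obtain ⟨B, hBQ, hB, hB2⟩ := Uniq.exists_elementary hne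
    obtain ⟨a, ha, ha1, hafix⟩ := exists_fixed_not_derived hG hL hpτ
      (((hBQ.trans inf_le_right).trans hUD).trans inf_le_right) hB hB2
    obtain ⟨y, ⟨hy, hya⟩, hyd⟩ := SetLike.not_le_iff_exists.1 hafix
    exact ha1 (hfpf' (hBQ ha).2 y hy (fun e => hyd (e ▸ one_mem _))
      (mem_centralizer_singleton_iff.1 hya).symm))
  have hvQ : v ∈ normalizer (Q : Set G) :=
    inf_normalizer_le_normalizer_inf ⟨hPn (hUD hvU), le_normalizer hvU⟩
  have hvb : v ∈ normalizer (zpowers b : Set G) :=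
    UTool.normalizer_le_normalizer_zpowers hQc (show b ∈ Q from ⟨hbP, hbU⟩) hvQ
  have hbσ : b ∈ Cfsg.sigmaCore M :=
    Kap.mem_core_of_order hG hM (j := 1) (hUD hbU).1 (by rw [hbo, pow_one]) hpM
  by_cases hcomm : Commute v b
  · exact Kap.not_dvd_core hG hM hr hrσ (Kap.dvd_of_mem (frobenius_mem hF (hUD hvU).1 hbσ hb1 hcomm) hvo)
  have hnc : zpowers b ⊓ centralizer ({v} : Set G) = ⊥ := (eq_bot_iff_forall _).2 fun w hw => by
    by_contra hw1
    have hwo : orderOf w = p := by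
      refine ((Nat.dvd_prime hp.out).1 ?_).resolve_left fun e => hw1 (orderOf_eq_one_iff.1 e)
      rw [← hbo, ← Nat.card_zpowers b]
      exact Subgroup.orderOf_dvd_natCard _ hw.1
    have he : zpowers w = zpowers b := eq_of_le_of_card_ge (zpowers_le.2 hw.1)
      (by rw [Nat.card_zpowers, Nat.card_zpowers, hwo, hbo])
    obtain ⟨i, hi⟩ := mem_zpowers_iff.1 (he.ge (mem_zpowers b))
    exact hcomm (hi ▸ (show Commute v w from (mem_centralizer_singleton_iff.1 hw.2).symm).zpow_right i)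
  have hfix : K ⊓ centralizer ({v} : Set G) ≤ centralizer (zpowers b : Set G) := fun w hw => by
    by_cases hw1 : w = 1
    · rw [hw1]; exact one_mem _
    · exact absurd (hfpf' hvU w hw.1 hw1 (mem_centralizer_singleton_iff.1 hw.2).symm) hv1
  have hkill := Kap.frobenius_kills (Kap.solvable_le hG hL (map_subtype_le _))
    (Kap.solvable_le hG hL (sup_le (zpowers_le.2 (hUD hbU).2) (zpowers_le.2 (hUD hvU).2))) hvo
    (Kap.not_dvd_core hG hL hr hrL)
    (by rw [Nat.card_zpowers, hbo]; exact hp.out.coprime_iff_not_dvd.2 (Kap.not_dvd_core hG hL hp.out hpτ.2.1))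
    ((zpowers_le.2 (hUD hbU).2).trans (TH.le_normalizer_core L)) (TH.le_normalizer_core L (hUD hvU).2) hvb hnc
    hfix
  obtain ⟨y, hy, hy1⟩ := (bot_or_exists_ne_one K).resolve_left
    (Tau.sigmaCore_ne_bot hG hL (Kap.one_lt_card_coatom hG hL))
  exact hb1 (hfpf' hbU y hy hy1 (mem_centralizer_iff.1 (hkill hy) b (mem_zpowers b)))

/-- Peterfalvi 12.10: the bound on the complement of `M_σ`. -/
theorem complement_small {M L A : Subgroup G} (hM : IsCoatom M) (hL : IsCoatom L) (hF : KernelFrobenius M)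
    (hnil : Group.IsNilpotent (Cfsg.sigmaCore M)) (hcompl : Cfsg.IsComplIn (M ⊓ L) (Cfsg.sigmaCore L) L)
    (hDσ : M ⊓ L ≤ Cfsg.sigmaCore M) {p : ℕ} [hp : Fact p.Prime] (hpM : p ∈ Cfsg.sigma M)
    (hpτ : p ∈ Cfsg.tau2 L) (hAD : A ≤ M ⊓ L) (hA : Cfsg.IsElementaryAbelian p A) (hA2 : Nat.card A = p ^ 2)
    {x : G} (hxA : x ∈ A) (hx1 : x ≠ 1) (hxC : ¬ centralizer ({x} : Set G) ≤ M)
    (hCL : centralizer ({x} : Set G) ≤ L)
    (hu : ∀ L' : Subgroup G, IsCoatom L' → centralizer ({x} : Set G) ≤ L' → L' = L) :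
    2 * (Cfsg.sigmaCore M).relIndex M ≤ p + 1 := by
  have hxo : orderOf x = p := orderOf_eq_prime (hA.2 x hxA) hx1
  have hxσ : x ∈ Cfsg.sigmaCore M := hDσ (hAD hxA)
  have hxM : x ∈ M := (hAD hxA).1
  have hp2 : p ≠ 2 := CfsgLib.CN.MinSimple.p_ne_two hG (hxo ▸ orderOf_dvd_natCard x)
  obtain ⟨E, hE, -⟩ := Tau.exists_complement_of hG hM (X := ⊥) bot_le fun q hq h => by
    rw [card_bot, Nat.dvd_one] at h; exact absurd h hq.ne_one
  obtain ⟨hEc, -, hEσ⟩ := Compl.card_eq hG hM hE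
  rw [← hEc]
  have hodd : Odd (Nat.card E) := hG.1.of_dvd_nat (card_subgroup_dvd_card _)
  have hEfix : ∀ e ∈ E, ∀ s ∈ Cfsg.sigmaCore M, s ≠ 1 → Commute e s → e = 1 := fun e he s hs hs1 h =>
    Subgroup.mem_bot.1 (hE.2.2.1.le ⟨he, frobenius_mem hF (hE.1 he) hs hs1 h⟩)
  have hfin : Nat.card E ∣ p - 1 ∨ Nat.card E ∣ p + 1 → 2 * Nat.card E ≤ p + 1 := by
    obtain ⟨k, hk⟩ := hp.out.odd_of_ne_two hp2
    have h2p := hp.out.two_le
    have hc : Nat.Coprime 2 (Nat.card E) := hodd.coprime_two_left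
    rintro (h | h)
    · have := Nat.le_of_dvd (by omega) (hc.mul_dvd_of_dvd_of_dvd (show 2 ∣ p - 1 by omega) h)
      omega
    · exact Nat.le_of_dvd (by omega) (hc.mul_dvd_of_dvd_of_dvd (show 2 ∣ p + 1 by omega) h)
  refine hfin ?_
  set S := Bender.qc p (Cfsg.sigmaCore M) with hS
  have hxS : x ∈ S := Kap.mem_qc_core hG hM hnil (j := 1) hpM hxM (by rw [hxo, pow_one])
  have hSM : S ≤ M := (Bender.qc_le p _).trans (map_subtype_le _)
  have hES : E ≤ normalizer (S : Set G) := hE.1.trans (Kap.qc_core_normal hG M p)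
  have hSσ : S ≤ Cfsg.sigmaCore M := Bender.qc_le p _
  by_cases hSc : IsMulCommutative S
  · -- the abelian case: `E` acts on the plane `A`
    have hAM : A ≤ M := hAD.trans inf_le_left
    have hEA : E ≤ normalizer (A : Set G) := by
      refine fun e he => Uniq.mem_normalizer_of_map_le ?_
      rintro _ ⟨a, ha, rfl⟩
      show e * a * e⁻¹ ∈ A
      by_cases ha1 : a = 1
      · rw [ha1, mul_one, mul_inv_cancel]; exact one_mem _
      have hao : orderOf a = p := orderOf_eq_prime (hA.2 a ha) ha1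
      have haS : a ∈ S := Kap.mem_qc_core hG hM hnil (j := 1) hpM (hAM ha) (by rw [hao, pow_one])
      have hbS : e * a * e⁻¹ ∈ S := (mem_normalizer_iff.1 (hES he) a).1 haS
      have hbD : e * a * e⁻¹ ∈ M ⊓ L := ⟨hSM hbS, hCL (mem_centralizer_singleton_iff.2
        (congrArg Subtype.val (hSc.is_comm.comm (⟨_, hbS⟩ : S) ⟨x, hxS⟩)))⟩
      refine (Cfsg.Agent.S1418.result hG L hL (M ⊓ L) hcompl p hpτ A ⟨hAD, hA, hA2⟩).1.2 (zpowers _)
        (zpowers_le.2 hbD) ?_ (mem_zpowers _)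
      rw [Nat.card_zpowers, Kap.conj_orderOf, hao]
    have hrank : Cfsg.PRankLE p 2 A := fun B _ _ => Nat.le_of_dvd (pow_pos hp.out.pos 2)
      ((card_subgroup_dvd_card B).trans (dvd_of_eq hA2))
    have hd := Kap.derived_centralizes hp2 (IsPGroup.of_card hA2) (Or.inl hrank) hEA hodd
      (fun h => hEσ p hp.out h hpM)
    have hEab : ∀ a ∈ E, ∀ b ∈ E, Commute a b := fun a ha b hb => by
      have h1 : ⁅a, b⁆ ∈ ⁅E, E⁆ := commutator_mem_commutator ha hb
      have h2 : ⁅a, b⁆ = 1 := hEfix _ (commutator_le_self E h1) x hxσ hx1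
        ((mem_centralizer_iff.1 (hd h1) x hxA).symm)
      exact commutatorElement_eq_one_iff_mul_comm.1 h2
    refine card_dvd_of_plane hA hA2 hEA hEab
      (fun e he a ha ha1 h => hEfix e he a (hDσ (hAD ha)) ha1 h) hxA fun e he hex => ?_
    have hen : e ∈ normalizer (zpowers x : Set G) := Uniq.mem_normalizer_of_map_le (by
      rw [MonoidHom.map_zpowers, zpowers_le]; exact hex)
    have heD : e ∈ M ⊓ L := ⟨hE.1 he, Kap.line_normalizer_le hG hxo hu hen⟩
    exact Subgroup.mem_bot.1 (hE.2.2.1.le ⟨he, hDσ heD⟩)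
  · -- the nonabelian case: the centre of `O_p(M_σ)` is cyclic
    obtain ⟨g, hgC, hgM⟩ := SetLike.not_le_iff_exists.1 hxC
    have hzg : g⁻¹ * x * g ∈ Cfsg.sigmaCore M := by
      rw [mul_assoc, ← mem_centralizer_singleton_iff.1 hgC, inv_mul_cancel_left]
      exact hxσ
    have hZc := Kap.part_center_cyclic hG hM hnil hgM hxσ hxo hzg hSc
    set Z := S ⊓ centralizer (S : Set G) with hZ
    have hSp : IsPGroup p S := Bender.isPGroup_qc _
    have hS1 : S ≠ ⊥ := fun e => hx1 (Subgroup.mem_bot.1 (e ▸ hxS))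
    obtain ⟨c₀, hc₀, hc₀1, hc₀c⟩ := CfsgLib.CN.exists_central hSp.isNilpotent hS1
    have hZ1 : Z ≠ ⊥ := fun e => hc₀1 (Subgroup.mem_bot.1 (e ▸
      (⟨hc₀, mem_centralizer_iff.2 fun w hw => (hc₀c w hw).eq⟩ : c₀ ∈ Z)))
    obtain ⟨s, hs, c, hc, hco⟩ := Kap.exists_order_prime hZ1
    have hsp : s = p := by
      obtain ⟨k, hk⟩ := IsPGroup.iff_card.1 hSp
      exact (Nat.prime_dvd_prime_iff_eq hs hp.out).1 (hs.dvd_of_dvd_pow (hk ▸ Kap.dvd_of_mem hc.1 hco))
    have hEZ : E ≤ normalizer (Z : Set G) := fun e he =>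
      inf_normalizer_le_normalizer_inf ⟨hES he, Uniq.mem_normalizer_of_map_le (by
        rintro _ ⟨w, hw, rfl⟩
        refine mem_centralizer_iff.2 fun z hz => ?_
        have h1 : e⁻¹ * z * e ∈ S := (mem_normalizer_iff''.1 (hES he) z).1 hz
        have h2 := mem_centralizer_iff.1 hw _ h1
        show z * (e * w * e⁻¹) = e * w * e⁻¹ * z
        calc z * (e * w * e⁻¹) = e * ((e⁻¹ * z * e) * w) * e⁻¹ := by group
          _ = e * (w * (e⁻¹ * z * e)) * e⁻¹ := by rw [h2]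
          _ = e * w * e⁻¹ * z := by group)⟩
    have hEc' : E ≤ normalizer (zpowers c : Set G) :=
      hEZ.trans (UTool.normalizer_le_normalizer_zpowers hZc hc)
    exact Or.inl (card_dvd_pred_of_line (hco.trans hsp) hEc' fun e he h =>
      hEfix e he c (hSσ hc.1) (fun e1 => hs.ne_one (by rw [← hco, e1, orderOf_one])) h)

/-- Peterfalvi 12.8–12.10: a counterexample to 12.7 gives the configuration `Witness`. -/
theorem exists_witness (hNP : NoSupportedP G) (h : ¬ EmptyKappaFrobenius G) :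
    ∃ (M L : Subgroup G) (p : ℕ) (x : G), p.Prime ∧ Witness M L p x := by
  classical
  let Fail : ℕ → Prop := fun t => t.Prime ∧ ∃ (L : Subgroup G) (u y : G), IsCoatom L ∧ Cfsg.kappa L = ∅ ∧
    u ∈ L ∧ orderOf u = t ∧ t ∉ Cfsg.sigma L ∧ y ∈ Cfsg.sigmaCore L ∧ y ≠ 1 ∧ Commute u y
  have hex : ∃ t, Fail t := by
    unfold EmptyKappaFrobenius at h
    push Not at h
    obtain ⟨M, hM, hκ, hF⟩ := h
    obtain ⟨t, ht, u, y, hu, huo, htσ, hy, hy1, huy⟩ := failure_of_not_frobenius hG hM hF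
    exact ⟨t, ht, M, u, y, hM, hκ, hu, huo, htσ, hy, hy1, huy⟩
  set p := Nat.find hex with hpdef
  obtain ⟨hp, L, u, y, hL, hκL, huL, huo, hpL, hy, hy1, huy⟩ := Nat.find_spec hex
  rw [← hpdef] at hp huo hpL
  haveI := Fact.mk hp
  have hu1 : u ≠ 1 := fun e => hp.ne_one (by rw [← huo, e, orderOf_one])
  have hpτ : p ∈ Cfsg.tau2 L :=
    (Kap.mem_kappa_or_tau_two hG hL huL huo hpL hy hy1 huy).resolve_left (by rw [hκL]; exact id)
  obtain ⟨hCuL, huni⟩ := Tau.tau_element_centralizer hG hL huL hu1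
    (fun q hq hd => (Nat.prime_dvd_prime_iff_eq hq hp).1 (huo ▸ hd) ▸ hpτ) hy hy1 huy.eq
  obtain ⟨M₀, hM₀, hpM₀⟩ := (Cfsg.Agent.S1378.result hG).1 p hp (huo ▸ orderOf_dvd_natCard u)
  obtain ⟨g, hg⟩ := Cfsg.Agent.S1425.result hG M₀ hM₀ (zpowers u) (fun e => hu1 (zpowers_eq_bot.1 e))
    fun q hq hd => by
      rw [Nat.card_zpowers, huo] at hd
      exact (Nat.prime_dvd_prime_iff_eq hq hp).1 hd ▸ hpM₀
  set M := M₀.map (MulAut.conj g⁻¹).toMonoidHom with hMdef
  have hM : IsCoatom M := Uniq.coatom_conj hM₀ g⁻¹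
  have huσ : u ∈ Cfsg.sigmaCore M := by
    have := Kap.mem_sigmaCore_conj hG hM₀ (hg (mem_map_of_mem _ (mem_zpowers u))) g⁻¹
    rw [MulEquiv.coe_toMonoidHom, MulAut.conj_apply, show g⁻¹ * (g * u * g⁻¹) * g⁻¹⁻¹ = u by group] at this
    exact this
  have hpM : p ∈ Cfsg.sigma M := Kap.mem_sigma_of_mem_core hG hM hp huσ huo
  have huC : ¬ centralizer ({u} : Set G) ≤ M := fun h' => hpL (huni M hM h' ▸ hpM)
  obtain ⟨N, hN, hCN, hN', hnc, hcompl, hnilL, -, -⟩ := Kap.exists_over hG hM huσ hu1 huC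
  obtain rfl : L = N := hN' L hL hCuL
  have hκM : Cfsg.kappa M = ∅ := hNP M L hM hL hκL u huσ hu1 huC hCuL
  obtain ⟨t, ht, htd, htσ⟩ := exists_outer_prime hG hM
  have hnilM : Group.IsNilpotent (Cfsg.sigmaCore M) :=
    Kap.nilpotent_of_outer hG hM ⟨t, ht, htd, htσ, by rw [hκM]; exact id⟩
  -- `M` is a Frobenius group
  have hF : KernelFrobenius M := by
    by_contra hF
    obtain ⟨t, ht, w, z, hwM, hwo, htσ, hz, hz1, hwz⟩ := failure_of_not_frobenius hG hM hF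
    haveI := Fact.mk ht
    have hle : p ≤ t := Nat.find_min' hex ⟨ht, M, w, z, hM, hκM, hwM, hwo, htσ, hz, hz1, hwz⟩
    have htτ : t ∈ Cfsg.tau2 M :=
      (Kap.mem_kappa_or_tau_two hG hM hwM hwo htσ hz hz1 hwz).resolve_left (by rw [hκM]; exact id)
    obtain ⟨B, hBM, hB, hB2⟩ := Uniq.exists_elementary htτ.2.2.2
    exact absurd (Kap.pair_move hG hM hL huσ huo hCuL hpτ hcompl hnilM htτ hBM hB hB2) (not_lt.2 hle)
  -- the meet
  have huD : u ∈ M ⊓ L := ⟨map_subtype_le _ huσ, huL⟩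
  have hDσ := meet_le_core hG hM hL hκL hF hcompl hpM hpτ huD huo
  have hDc : IsMulCommutative ↥(M ⊓ L) := by
    haveI := hnilM
    exact Tau.commutative_of_nilpotent hG hL inf_le_right
      (Group.isNilpotent_congr (subgroupOfEquivOfLe hDσ) |>.1 inferInstance)
      (Compl.card_eq hG hL hcompl).2.2
  obtain ⟨A, T, hA, hA2, -, hAT, -, hTD, -⟩ :=
    Tau.exists_sylow_data hG hL hcompl hpτ (IsPGroup.of_bot (p := p) : IsPGroup p (⊥ : Subgroup G)) bot_le
  have hAD : A ≤ M ⊓ L := hAT.trans hTD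
  obtain ⟨a, ha, ha1, hafix⟩ := exists_fixed_not_derived hG hL hpτ (hAD.trans inf_le_right) hA hA2
  have hao : orderOf a = p := orderOf_eq_prime (hA.2 a ha) ha1
  obtain ⟨w, ⟨hw, hwa⟩, hwd⟩ := SetLike.not_le_iff_exists.1 hafix
  obtain ⟨hCaL, hauni⟩ := Tau.tau_element_centralizer hG hL (hAD ha).2 ha1
    (fun q hq hd => (Nat.prime_dvd_prime_iff_eq hq hp).1 (hao ▸ hd) ▸ hpτ) hw (fun e => hwd (e ▸ one_mem _))
    (mem_centralizer_singleton_iff.1 hwa).symm
  have haC : ¬ centralizer ({a} : Set G) ≤ M := fun h' => hpL (hauni M hM h' ▸ hpM)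
  refine ⟨M, L, p, a, hp, hM, hL, hκM, hκL, hF, hnc, hDσ (hAD ha), hao, haC, hCaL, hcompl, hDσ, hDc, hafix,
    complement_small hG hM hL hF hnilM hcompl hDσ hpM hpτ hAD hA hA2 ha ha1 haC hCaL hauni,
    hA2 ▸ card_le_of_le (hAD.trans hDσ), ?_⟩
  -- `A` moves `L_σ` modulo its derived group
  set K := Cfsg.sigmaCore L with hK
  have hAK : A ≤ normalizer (K : Set G) := (hAD.trans inf_le_right).trans (TH.le_normalizer_core L)
  have hpK : ¬ p ∣ Nat.card K := Kap.not_dvd_core hG hL hp hpL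
  have hnle : ¬ ⁅K, A⁆ ≤ ⁅K, K⁆ := fun hle => hwd (by
    have hsup := CfsgLib.CoprimeAct.commutator_sup_centralizer hAK
      (by rw [hA2]; exact (hp.coprime_iff_not_dvd.2 hpK).pow_left 2)
      (Or.inl (Kap.solvable_le hG hL (hAD.trans inf_le_right)))
    rw [(Cfsg.Agent.S1417.result hG L hL p hpτ A ⟨hAD.trans inf_le_right, hA, hA2⟩).2.2.2.1, sup_bot_eq] at hsup
    exact hle (hsup.ge hw))
  obtain ⟨k, hk, b, hb, hkb⟩ : ∃ k ∈ K, ∃ b ∈ A, ⁅k, b⁆ ∉ ⁅K, K⁆ := by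
    by_contra hno
    push Not at hno
    exact hnle (commutator_le.2 hno)
  refine succ_le_derived_relIndex (hAK hb) (hA.2 b hb) hpK (K.inv_mem hk) ?_
  rw [show (k⁻¹)⁻¹ * (b * k⁻¹ * b⁻¹) = ⁅k, b⁆ by rw [commutatorElement_def]; group]
  exact hkb

end CfsgLib.OddEnd
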