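import Cfsg.Agent.OddEnd.Counting
import Cfsg.Agent.OddEnd.FrobeniusSide
import Cfsg.Agent.OddEnd.WitnessExists

/-!
Peterfalvi 12.7 and 12.16: maximal subgroups with empty `κ` are Frobenius groups, given that none with
non-empty `κ` is supported by one of them.
-/

set_option autoImplicit false

namespace CfsgLib.OddEnd

universe u

variable {G : Type u} [Group G] [Finite G]

theorem witness_absurd (hG : Cfsg.IsMinSimpleOddOrder G) {M L : Subgroup G} {p : ℕ} {x : G} (hp : p.Prime)
    (W : Witness M L p x) : False := by
  classical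
  letI := Fintype.ofFinite G
  exact witness_absurd_of_side hG hp W (frobenius_side hG hp W)

theorem typeI_frobenius (hG : Cfsg.IsMinSimpleOddOrder G) (hNP : NoSupportedP G) : EmptyKappaFrobenius G := by
  by_contra h
  obtain ⟨M, L, p, x, hp, W⟩ := exists_witness hG hNP h
  exact witness_absurd hG hp W

/-- If every `κ` is empty, every maximal subgroup is a Frobenius group with kernel `M_σ`. -/
theorem frobenius_of_all_kappa_empty (hG : Cfsg.IsMinSimpleOddOrder G)
    (h : ∀ M : Subgroup G, IsCoatom M → Cfsg.kappa M = ∅) : EmptyKappaFrobenius G :=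
  typeI_frobenius hG fun M _ hM _ _ _ _ _ _ _ => h M hM

end CfsgLib.OddEnd
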