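import Cfsg.Agent.OddEnd.TenFiveApply
import Cfsg.Agent.OddEnd.NoSupportedP
import Cfsg.Agent.OddEnd.TypeOneFrobenius
import Cfsg.Agent.OddEnd.ThirteenBasic

/-!
Sections 10-12 of Peterfalvi assembled: `Upto12` from non-coherence (10.8) and the structure of types III, IV.
-/

set_option autoImplicit false

namespace CfsgLib.OddEnd

open CfsgLib.OddLocal

universe u

variable {G : Type u} [Group G] [Fintype G]

/-- The facts of sections 10-12, given 10.8 and section 11. -/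
theorem upto12_of (hG : Cfsg.IsMinSimpleOddOrder G)
    (hnc : ∀ {M N K Ks V : Subgroup G}, TenPair M N K Ks V → ∀ [Fintype M],
      ¬ Cfsg.IsCoherent (tenS M) ({1}ᶜ : Set M) (tenTau M))
    (hthree : ∀ M W₁ U W₂ : Subgroup G, IsCoatom M → Cfsg.IsOfTypeIII M ∨ Cfsg.IsOfTypeIV M →
      Cfsg.IsTypePWith M W₁ U W₂ → ThreeData M W₁ U W₂) : Upto12 G := by
  have hV := no_typeV_of hG hnc
  refine ⟨typeI_frobenius hG (noSupportedP_of hG hV fun M hM h => ?_), hV, hthree⟩
  rcases h with h | h <;> obtain ⟨W₁, U, W₂, hP, -⟩ := id h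
  · exact ⟨U, hP.U_compl, (hthree M W₁ U W₂ hM (Or.inl h) hP).cyclic⟩
  · exact ⟨U, hP.U_compl, (hthree M W₁ U W₂ hM (Or.inr h) hP).cyclic⟩

end CfsgLib.OddEnd
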