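import Cfsg.Agent.OddEnd.TenDone
import Cfsg.Agent.OddEnd.Upto
import Cfsg.Agent.OddEnd.ElevenStructure

/-!
# Peterfalvi sections 10-12, unconditionally
-/

set_option autoImplicit false

namespace CfsgLib.OddEnd

universe u

/-- The facts of Peterfalvi sections 10-12. -/
theorem upto12 {G : Type u} [Group G] [Finite G] (hG : Cfsg.IsMinSimpleOddOrder G) : Upto12 G := by
  haveI := Fintype.ofFinite G
  exact upto12_of hG (fun P => P.not_coherent) (three_structure hG fun P => P.not_coherent)

/-- Peterfalvi 12: every maximal subgroup of type I is a Frobenius group. -/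
theorem emptyKappaFrobenius {G : Type u} [Group G] [Finite G] (hG : Cfsg.IsMinSimpleOddOrder G) :
    EmptyKappaFrobenius G :=
  (upto12 hG).frob

end CfsgLib.OddEnd
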