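import Cfsg.Agent.OddEnd.ThirteenFinal
import Cfsg.Agent.OddEnd.UptoDone
import Cfsg.Agent.OddEnd.FourteenSide

/-!
# Peterfalvi sections 10-13, unconditionally
-/

set_option autoImplicit false

namespace CfsgLib.OddEnd

universe u

/-- The facts of Peterfalvi sections 10-13. -/
theorem upto13 {G : Type u} [Group G] [Finite G] (hG : Cfsg.IsMinSimpleOddOrder G) : UptoThirteen G where
  upto12 := upto12 hG
  faithful _ _ _ _ _ _ h := h.faithful hG (CfsgLib.OddEnd.upto12 hG)
  normalizer_U _ _ _ _ _ _ h h2 _ hL hNU := h.over_structure' hG (CfsgLib.OddEnd.upto12 hG) h2 hL hNU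

end CfsgLib.OddEnd
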