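import Cfsg.Agent.OddEnd.FourteenCaseA
import Cfsg.Agent.OddEnd.FourteenCaseB
import Cfsg.Agent.OddEnd.FourteenCaseC
import Cfsg.Agent.OddEnd.FourteenLambda
import Cfsg.Agent.OddEnd.FourteenField
import Cfsg.Agent.OddEnd.Reduction
import Cfsg.Agent.OddEnd.UptoThirteenDone

/-!
Peterfalvi section 14: the final configuration.
-/

set_option autoImplicit false
set_option linter.style.haveILetI false

namespace CfsgLib.OddEnd

open Subgroup CfsgLib.Char CfsgLib.OddLocal

universe u

namespace PairData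

variable {G : Type u} [Group G] [Fintype G]
variable {S T W₁ W₂ U V : Subgroup G} (h : PairData S T W₁ W₂ U V)
variable (hG : Cfsg.IsMinSimpleOddOrder G) (h13 : UptoThirteen G) (hlt : Nat.card W₁ < Nat.card W₂)
include h hG h13 hlt

/-- A pair with `|W₁| < |W₂|` is in the final configuration. -/
theorem final_config : FinalConfig S T W₁ W₂ U := by
  classical
  haveI := Fintype.ofFinite (Row W₁ W₂)
  haveI := Fintype.ofFinite (Col W₁ W₂)
  haveI := Fintype.ofFinite (Row W₂ W₁)
  haveI := Fintype.ofFinite (Col W₂ W₁)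
  have hII := h.type_II_of_lt hG h13.upto12 hlt
  obtain ⟨χ, hχ⟩ := exists_cyclicTIFamily h.typeP_S.selfNormalizing
    (hG.1.of_dvd_nat (W₁ ⊔ W₂).card_subgroup_dvd_card)
  obtain ⟨κ, _, ⟨I⟩⟩ := (h.sideData hG h13).exists_sideImages hχ
  obtain ⟨κ', _, ⟨J⟩⟩ := (h.symm.sideData hG h13).exists_sideImages (family_swap hχ)
  obtain ⟨L, ι, _, F, hO⟩ := h.exists_overFamily hG h13 hII
  obtain ⟨he, y, hy, hyL⟩ := h.index_eq hG h13 hlt hχ I J hO
  have hu := h.geo_U hG h13 hlt hχ I J hO he
  have pq := h.oddPq hG h13 hlt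
  obtain ⟨hne, hcyc, hfree⟩ := h.of_eq_geo hG h13 hlt hu
  have hmul : Nat.card U * (Nat.card W₂ - 1) = Nat.card W₂ ^ Nat.card W₁ - 1 := by
    rw [hu]; exact pq.geo_mul
  refine ⟨pq.prime_q, pq.prime_p, h.elem hG h13.upto12, h.card_H hG h13.upto12, hcyc, hmul, hfree,
    (pq.facts.2.2 hne).1, h.U_le_normalizer_H, ?_, h.symm.elem hG h13.upto12,
    h.symm.left_le_normalizer_H, y, hy,
    hyL.trans (h.kernel_normalizes hG h13 hlt hχ I J hO he hu),
    field_model (h.moduleHyp hG h13) W₂ h.right_le_H rfl hfree hmul⟩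
  rw [h.symm.card_H hG h13.upto12]
  exact ((Nat.coprime_primes pq.prime_q pq.prime_p).2 pq.lt.ne).pow_left _

end PairData

/-- The odd order theorem. -/
theorem odd_solvable (G : Type u) [Group G] [Finite G] (hodd : Odd (Nat.card G)) : Group.IsSolvable G :=
  odd_solvable_of_final_config (fun H _ _ hH S T W₁ W₂ U V h hlt => by
    haveI := Fintype.ofFinite H
    exact h.final_config hH (upto13 hH) hlt) G hodd

end CfsgLib.OddEnd
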