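import Cfsg.Agent.OddEnd.TypeOneFrobenius
import Cfsg.Agent.OddLocal.KappaTypeF
import Cfsg.Agent.S1526
import Cfsg.Agent.S1378

/-!
Not all maximal subgroups of a minimal simple group of odd order are of type I (Peterfalvi 12.17 / BG 16).
-/

set_option autoImplicit false

namespace CfsgLib.OddEnd

open Subgroup CfsgLib.OddLocal CfsgLib.OddLocal.Kap

universe u

variable {G : Type u} [Group G] [Finite G] (hG : Cfsg.IsMinSimpleOddOrder G)
include hG

theorem one_lt_card_sigmaCore {M : Subgroup G} (hM : IsCoatom M) : Cfsg.sigmaCore M ≠ ⊥ :=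
  Tau.sigmaCore_ne_bot hG hM (Kap.one_lt_card_coatom hG hM)

theorem kappa_eq_empty_of_typeF {M : Subgroup G} (hM : IsCoatom M) (hF : Cfsg.IsOfTypeF ↥M) :
    Cfsg.kappa M = ∅ := by
  obtain ⟨K, U, hKU⟩ := Kap.exists_decomp_any hG hM
  by_contra h
  exact (Kap.kappa_nonempty_iff hG hM hKU).1 (Set.nonempty_iff_ne_empty.2 h) (Kap.bot_of_typeF hG hM hKU hF)

/-- A Frobenius maximal subgroup is not left by the centralizer of an element of its kernel. -/
theorem centralizer_le_of_frobenius (hF : EmptyKappaFrobenius G)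
    (h : ∀ M : Subgroup G, IsCoatom M → Cfsg.kappa M = ∅) {M : Subgroup G} (hM : IsCoatom M) {x : G}
    (hx : x ∈ Cfsg.sigmaCore M) (hx1 : x ≠ 1) : centralizer ({x} : Set G) ≤ M := by
  by_contra hxC
  obtain ⟨N, hN, hCN, -, -, hcompl, -, -, y, hy, hy1, hxy⟩ := Kap.exists_over hG hM hx hx1 hxC
  have hxN : x ∈ N := hCN (mem_centralizer_singleton_iff.2 rfl)
  have hxK := hF N hN (h N hN) y hy hy1 ⟨hxN, mem_centralizer_singleton_iff.2 hxy⟩
  exact hx1 (Subgroup.mem_bot.1 (hcompl.2.2.1.le ⟨⟨map_subtype_le _ hx, hxN⟩, hxK⟩))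

theorem not_all_kappa_empty (h : ∀ M : Subgroup G, IsCoatom M → Cfsg.kappa M = ∅) : False := by
  classical
  have hF : EmptyKappaFrobenius G := frobenius_of_all_kappa_empty hG h
  have hC : ∀ M : Subgroup G, IsCoatom M → ∀ x ∈ Cfsg.sigmaCore M, x ≠ 1 → centralizer ({x} : Set G) ≤ M :=
    fun M hM x hx hx1 => centralizer_le_of_frobenius hG hF h hM hx hx1
  have hNM : ∀ M : Subgroup G, IsCoatom M → normalizer (Cfsg.sigmaCore M : Set G) = M := fun M hM =>
    Uniq.coatom_normalizer_eq hG hM (map_subtype_le _) (TH.le_normalizer_core M) (one_lt_card_sigmaCore hG hM)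
  set cls : {M : Subgroup G // IsCoatom M} → Set (Subgroup G) := fun M =>
    {N | ∃ g : G, N = M.1.map (MulAut.conj g).toMonoidHom} with hcls
  have hrefl : ∀ M : Subgroup G, M = M.map (MulAut.conj (1 : G)).toMonoidHom := fun M => by
    rw [map_one]; exact (map_id M).symm
  have hclsmap : ∀ (M N : {M : Subgroup G // IsCoatom M}) (g : G),
      N.1 = M.1.map (MulAut.conj g).toMonoidHom → cls M = cls N := by
    intro M N g hg
    ext X
    constructor
    · rintro ⟨a, rfl⟩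
      refine ⟨a * g⁻¹, ?_⟩
      rw [hg, Tau.map_conj_comp, inv_mul_cancel_right]
    · rintro ⟨a, rfl⟩
      exact ⟨a * g, by rw [hg, Tau.map_conj_comp]⟩
  let ι := ↥(Set.range cls)
  have : Fintype ι := Fintype.ofFinite _
  let rep : ι → {M : Subgroup G // IsCoatom M} := fun i => i.2.choose
  have hrep : ∀ i : ι, cls (rep i) = i.1 := fun i => i.2.choose_spec
  set L : ι → Subgroup G := fun i => (rep i).1
  set H : ι → Subgroup G := fun i => Cfsg.sigmaCore (L i)
  have hL : ∀ i, IsCoatom (L i) := fun i => (rep i).2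
  have hnc : ∀ i j : ι, i ≠ j → ∀ g : G, L j ≠ (L i).map (MulAut.conj g).toMonoidHom := fun i j hij g e =>
    hij (Subtype.ext (by rw [← hrep i, ← hrep j]; exact hclsmap _ _ g e))
  have hcover : ∀ g : G, g ≠ 1 → ∃ i, ∃ x : G, x * g * x⁻¹ ∈ H i := by
    intro g hg
    obtain ⟨M, hM, a, ha, r, hr, y, hy⟩ := (Cfsg.Agent.S1379.result hG).2.1 h g hg
    rw [Kap.supportR_eq_bot hG (hC M hM a ha.1 ha.2), Subgroup.mem_bot] at hr
    subst hr
    set i : ι := ⟨cls ⟨M, hM⟩, ⟨M, hM⟩, rfl⟩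
    have hmem : M ∈ cls (rep i) := by
      rw [hrep i]
      exact ⟨1, hrefl M⟩
    obtain ⟨z, hz⟩ := hmem
    refine ⟨i, (y * z)⁻¹, ?_⟩
    have ha' : a ∈ Cfsg.sigmaCore M := ha.1
    have hb : z⁻¹ * a * z⁻¹⁻¹ ∈ H i := by
      have h' := Kap.mem_sigmaCore_conj hG hM ha' z⁻¹
      have hz' : M.map (MulAut.conj z⁻¹).toMonoidHom = L i := by
        rw [hz, Uniq.map_conj_inv]
      rwa [hz'] at h'
    rw [hy]
    convert hb using 1
    group
  have hcard : 2 ≤ Fintype.card ι := by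
    by_contra hlt
    obtain ⟨M₀, hM₀⟩ : ∃ M₀ : Subgroup G, IsCoatom M₀ := by
      obtain ⟨p, hp, hd⟩ := Nat.exists_prime_and_dvd (n := Nat.card G) fun h1 => by
        have := hG.2.1
        exact absurd h1 Finite.one_lt_card.ne'
      exact ⟨_, ((Cfsg.Agent.S1378.result hG).1 p hp hd).choose_spec.1⟩
    have hsub : Subsingleton ι := Fintype.card_le_one_iff_subsingleton.1 (by omega)
    refine hM₀.1 (top_le_iff.1 (le_trans (Subgroup.eq_top_of_card_eq (Cfsg.sigmaCore M₀) ?_).ge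
      (map_subtype_le _)))
    have hidx : (Cfsg.sigmaCore M₀).index = 1 := by
      by_contra hne
      obtain ⟨p, hp, hd⟩ := Nat.exists_prime_and_dvd hne
      obtain ⟨M, hM, hpM⟩ := (Cfsg.Agent.S1378.result hG).1 p hp (hd.trans (index_dvd_card _))
      have e : cls ⟨M₀, hM₀⟩ = cls ⟨M, hM⟩ := congrArg Subtype.val
        (hsub.allEq (⟨_, ⟨M₀, hM₀⟩, rfl⟩ : ι) ⟨_, ⟨M, hM⟩, rfl⟩)
      have hmem : M ∈ cls ⟨M₀, hM₀⟩ := e ▸ ⟨1, hrefl M⟩
      obtain ⟨g, hg⟩ := hmem
      have hp0 : p ∈ Cfsg.sigma M₀ := by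
        rw [hg, Kap.sigma_map_iff] at hpM
        exact hpM
      exact (Cfsg.Agent.S1350.result hG M₀ hM₀).2.1.2 p hp hp0 hd
    rw [← (Cfsg.sigmaCore M₀).card_mul_index, hidx, mul_one]
  refine Cfsg.Agent.S1526.result hG.1 hcard L H (fun i => ?_) (fun i => one_lt_card_sigmaCore hG (hL i))
    (fun i x hx a ha => conj_mem_of_le_normalizer (TH.le_normalizer_core (L i)) hx ha)
    (fun i => hF (L i) (hL i) (h _ (hL i))) (fun i j hij => ?_) (fun i => ⟨fun g hg x hx hgx => ?_, hNM _ (hL i)⟩)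
    hcover
  · exact lt_of_le_of_ne (map_subtype_le _) (Kap.sigmaCore_ne_self hG (hL i))
  · refine Nat.coprime_of_dvd fun p hp h1 h2 => ?_
    obtain ⟨g, hg⟩ := (Cfsg.Agent.S1378.result hG).2 (L i) (L j) (hL i) (hL j)
      ⟨p, (Cfsg.Agent.S1350.result hG _ (hL i)).2.1.1 p hp h1, (Cfsg.Agent.S1350.result hG _ (hL j)).2.1.1 p hp h2⟩
    exact hnc i j hij g hg
  · by_contra hx1
    obtain ⟨n, hn, hne⟩ := Kap.core_fusion hG (hL i) (g := g) hx (map_subtype_le _ hgx)
    have hc : n⁻¹ * g ∈ centralizer ({x} : Set G) := mem_centralizer_singleton_iff.2 (by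
      calc n⁻¹ * g * x = n⁻¹ * (g * x * g⁻¹) * g := by group
        _ = n⁻¹ * (n * x * n⁻¹) * g := by rw [hne]
        _ = x * (n⁻¹ * g) := by group)
    have : g ∈ L i := by
      have h' := (L i).mul_mem hn (hC _ (hL i) x hx hx1 hc)
      rwa [mul_inv_cancel_left] at h'
    exact hg ((hNM _ (hL i)).ge this)

theorem not_all_typeI : ∃ M : Subgroup G, IsCoatom M ∧ ¬ Cfsg.IsOfTypeI M := by
  by_contra h
  push Not at h
  exact not_all_kappa_empty hG fun M hM => kappa_eq_empty_of_typeF hG hM (h M hM).1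

end CfsgLib.OddEnd
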