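import Cfsg.Agent.OddEnd.TypeOne

/-!
A character orthogonal to all the conjugate pairs is constant on the cosets of `L_σ` outside `L_σ`
(Peterfalvi 12.5).
-/

set_option autoImplicit false
set_option linter.unusedSectionVars false

namespace CfsgLib.OddEnd

open Subgroup
open CfsgLib.Char
open scoped ComplexConjugate

universe u

variable {G : Type u} [Group G] [Fintype G]

/-- An irreducible character of `G` avoiding all conjugate pairs coming from `L`. -/
def AvoidsPairs (L : Subgroup G) [Fintype L] (ν : G → ℂ) : Prop :=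
  ∀ θ : Kin L → ℂ, Cfsg.IsIrrCharacter (Kin L) θ → θ ≠ (fun _ => 1) → ∀ ξ : L → ℂ,
    Cfsg.IsIrrCharacter L ξ → Cfsg.classInner (Cfsg.indFun (Kin L) θ) ξ ≠ 0 → ∀ μ : G → ℂ,
    Cfsg.IsIrrCharacter G μ →
    Cfsg.dadeIsometry (hat L) L (Cfsg.supportR L) (ξ - Cfsg.conjFun ξ) = μ - Cfsg.conjFun μ →
    ν ≠ μ ∧ ν ≠ Cfsg.conjFun μ

variable (hG : Cfsg.IsMinSimpleOddOrder G) {L : Subgroup G} [Fintype L] (S : Side L)
include hG S

/-- The multiplicities in the restriction are common to the constituents of one induced character. -/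
theorem coef_eq {θ : Kin L → ℂ} (hθ : Cfsg.IsIrrCharacter (Kin L) θ) (hne : θ ≠ fun _ => 1)
    {ν : G → ℂ} (hν : Cfsg.IsIrrCharacter G ν) (hav : AvoidsPairs L ν) {ξ η : L → ℂ}
    (hξ : Cfsg.IsIrrCharacter L ξ) (hη : Cfsg.IsIrrCharacter L η)
    (hξθ : Cfsg.classInner (Cfsg.indFun (Kin L) θ) ξ ≠ 0)
    (hηθ : Cfsg.classInner (Cfsg.indFun (Kin L) θ) η ≠ 0) :
    Cfsg.classInner (fun a : L => ν a) ξ = Cfsg.classInner (fun a : L => ν a) η ∧ ξ 1 = η 1 := by
  classical
  obtain ⟨C, hind, hC, hKC⟩ := constituents hG S hθ hne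
  have hmem : ∀ χ, Cfsg.IsIrrCharacter L χ → Cfsg.classInner (Cfsg.indFun (Kin L) θ) χ ≠ 0 → χ ∈ C := by
    intro χ hχ h
    by_contra hn
    refine h ?_
    rw [hind, classInner_sum_left, Finset.sum_eq_zero fun a ha =>
      IsIrrCharacter.classInner_of_ne (hC a ha).1 hχ fun e : a = χ => hn (e ▸ ha)]
  have hξC := hmem ξ hξ hξθ
  have hηC := hmem η hη hηθ
  refine ⟨?_, hKC ξ hξC η hηC 1 (Subgroup.one_mem _)⟩
  by_cases hξη : ξ = η
  · rw [hξη]
  have hD := dade_full hG S.coatom S.kappa_eq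
  -- the difference `d` lives off the kernel, where the support subgroups are trivial
  set d := ξ - η with hd
  have hdgen : Cfsg.IsGeneralizedCharacter L d :=
    IsGeneralized.sub (IsIrrCharacter.isGeneralized hξ) (IsIrrCharacter.isGeneralized hη)
  have hdcl := IsGeneralized.isClassFunction hdgen
  have hdK : ∀ a : L, a ∈ Kin L → d a = 0 := fun a ha => by
    rw [hd, Pi.sub_apply, hKC ξ hξC η hηC a ha, sub_self]
  have hds : ∀ a : L, (a : G) ∉ hat L → d a = 0 := fun a ha => by
    rcases eq_or_ne a 1 with rfl | h1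
    · exact hdK 1 (Subgroup.one_mem _)
    · rw [hd, Pi.sub_apply, (hC ξ hξC).2.2.2.1 a h1 ha, (hC η hηC).2.2.2.1 a h1 ha, sub_self]
  obtain ⟨μ₁, hμ₁, hr₁, e₁⟩ := exists_conj_pair hG S hξ (hC ξ hξC).2.2.1 (hC ξ hξC).2.2.2.1
  obtain ⟨μ₂, hμ₂, hr₂, e₂⟩ := exists_conj_pair hG S hη (hC η hηC).2.2.1 (hC η hηC).2.2.2.1
  have hηξ' : η ≠ Cfsg.conjFun ξ := ne_conj_of_mem hG hθ hne hind (fun a ha => (hC a ha).1) hηC hξC
  have hξη' : ξ ≠ Cfsg.conjFun η := ne_conj_of_mem hG hθ hne hind (fun a ha => (hC a ha).1) hξC hηC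
  have hξ' : Cfsg.IsIrrCharacter L (Cfsg.conjFun ξ) := IsIrrCharacter.conj hξ
  have hη' : Cfsg.IsIrrCharacter L (Cfsg.conjFun η) := IsIrrCharacter.conj hη
  set f := Cfsg.dadeIsometry (hat L) L (Cfsg.supportR L) d with hf
  obtain ⟨d1, d2⟩ := pair_distinct hG S hξ hη (hC ξ hξC).2.2.2.1 hξη hξη' hμ₁ hr₁ e₁ e₂
  have hcoef₁ : Cfsg.classInner f (μ₁ - Cfsg.conjFun μ₁) = 1 := by
    rw [hf, ← e₁, classInner_dadeIsometry_dadeIsometry hD hdcl hds
      (IsGeneralized.isClassFunction (IsGeneralized.sub (IsIrrCharacter.isGeneralized hξ)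
        (IsIrrCharacter.isGeneralized hξ'))), hd, classInner_sub_left, classInner_sub_right,
      classInner_sub_right, IsIrrCharacter.classInner_self hξ,
      IsIrrCharacter.classInner_of_ne hξ hξ' (Ne.symm (hC ξ hξC).2.2.1),
      IsIrrCharacter.classInner_of_ne hη hξ (Ne.symm hξη), IsIrrCharacter.classInner_of_ne hη hξ' hηξ']
    ring
  have hcoef₂ : Cfsg.classInner f (μ₂ - Cfsg.conjFun μ₂) = -1 := by
    rw [hf, ← e₂, classInner_dadeIsometry_dadeIsometry hD hdcl hds
      (IsGeneralized.isClassFunction (IsGeneralized.sub (IsIrrCharacter.isGeneralized hη)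
        (IsIrrCharacter.isGeneralized hη'))), hd, classInner_sub_left, classInner_sub_right,
      classInner_sub_right, IsIrrCharacter.classInner_self hη,
      IsIrrCharacter.classInner_of_ne hη hη' (Ne.symm (hC η hηC).2.2.1),
      IsIrrCharacter.classInner_of_ne hξ hη hξη, IsIrrCharacter.classInner_of_ne hξ hη' hξη']
    ring
  have hnorm : Cfsg.classInner f f = 2 := by
    rw [hf, classInner_dadeIsometry_dadeIsometry hD hdcl hds hdcl, hd, classInner_sub_left, classInner_sub_right,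
      classInner_sub_right, IsIrrCharacter.classInner_self hξ, IsIrrCharacter.classInner_self hη,
      IsIrrCharacter.classInner_of_ne hξ hη hξη, IsIrrCharacter.classInner_of_ne hη hξ (Ne.symm hξη)]
    norm_num
  have h0 : Cfsg.classInner f ν = 0 := by
    refine orth_of_pairs (Finset.univ : Finset Bool) (fun b => cond b μ₁ μ₂) ?_ ?_ ?_
      (isGeneralized_dadeIsometry hD hdgen hds) ?_ (by simpa using hnorm) hν ?_
    · rintro (_ | _) - <;> assumption
    · rintro (_ | _) - (_ | _) - hbb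
      · exact absurd rfl hbb
      · exact ⟨Ne.symm d1, fun e : μ₂ = Cfsg.conjFun μ₁ => d2 (by rw [e, conjFun_conjFun])⟩
      · exact ⟨d1, d2⟩
      · exact absurd rfl hbb
    · rintro (_ | _) - <;> assumption
    · rintro (_ | _) -
      · exact Or.inr hcoef₂
      · exact Or.inl hcoef₁
    · rintro (_ | _) -
      · exact hav θ hθ hne η hη hηθ μ₂ hμ₂ e₂
      · exact hav θ hθ hne ξ hξ hξθ μ₁ hμ₁ e₁
  -- on the support of `d` the average is the restriction
  have h1 : Cfsg.classInner f ν = Cfsg.classInner d (fun a : L => ν a) := by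
    rw [hf, classInner_dade_rho hD hdcl hds (IsIrrCharacter.isClassFunction hν), classInner_def, classInner_def]
    congr 1
    refine Finset.sum_congr rfl fun a _ => ?_
    by_cases ha : d a = 0
    · rw [ha, zero_mul, zero_mul]
    congr 2
    have haH : (a : G) ∈ hat L := by_contra fun h => ha (hds a h)
    have hR := supportR_off hG S.coatom S.kappa_eq haH fun h => ha (hdK a h)
    simp [rho, hR]
  rw [h1, hd, classInner_sub_left, sub_eq_zero, ← classInner_conj, ← classInner_conj (fun a : L => ν a)] at h0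
  exact (starRingEnd ℂ).injective h0

theorem exists_nontrivial_constituent [Fintype (Kin L)] {χ : L → ℂ} (hχ : Cfsg.IsIrrCharacter L χ) :
    (∀ z ∈ Kin L, χ z = χ 1) ∨
      (Cfsg.classInner (fun z : Kin L => χ z) (fun _ : Kin L => (1 : ℂ)) = 0) := by
  classical
  by_cases h : Cfsg.classInner (fun z : Kin L => χ z) (fun _ : Kin L => (1 : ℂ)) = 0
  · exact Or.inr h
  refine Or.inl fun z hz => ?_
  have hr := restrict_eq_smul_sum hχ isIrrCharacter_one h
  have hc : ∀ w : Kin L, (∑ φ ∈ conjOrbit (fun _ : Kin L => (1 : ℂ)), φ) w =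
      (∑ φ ∈ conjOrbit (fun _ : Kin L => (1 : ℂ)), φ) 1 := fun w => by
    simp only [Finset.sum_apply]
    refine Finset.sum_congr rfl fun φ hφ => ?_
    obtain ⟨g, rfl⟩ := mem_conjOrbit.1 hφ
    rfl
  have h1 := congrFun hr ⟨z, hz⟩
  have h2 := congrFun hr 1
  simp only [Pi.smul_apply, hc ⟨z, hz⟩] at h1
  simp only [Pi.smul_apply, OneMemClass.coe_one] at h2
  exact h1.trans h2.symm

/-- Peterfalvi 12.5: the restriction is constant on the cosets of the kernel outside it. -/
theorem const_on_coset {ν : G → ℂ} (hν : Cfsg.IsIrrCharacter G ν) (hav : AvoidsPairs L ν) {g : L}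
    (hg : g ∉ Kin L) {k : L} (hk : k ∈ Kin L) : ν ((g * k : L) : G) = ν (g : G) := by
  classical
  set f : L → ℂ := fun a => ν a with hf
  have hfcl : Cfsg.IsClassFunction L f :=
    IsCharacter.isClassFunction (IsCharacter.restrict (IsIrrCharacter.isCharacter hν) L)
  set T := (irrFinset (Kin L)).filter (fun θ => θ ≠ fun _ => 1)
  -- the part of `f` not containing `L_σ` in its kernel is a combination of induced characters
  set w : (L → ℂ) → ℂ := fun χ => ∑ θ ∈ T, θ 1 * Cfsg.classInner (Cfsg.indFun (Kin L) θ) χ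
  have hw : ∀ χ, Cfsg.IsIrrCharacter L χ →
      w χ = 0 ∧ (∀ z ∈ Kin L, χ z = χ 1) ∨ w χ = χ 1 := by
    intro χ hχ
    have hterm : ∀ θ : Kin L → ℂ, Cfsg.classInner (Cfsg.indFun (Kin L) θ) χ =
        conj (Cfsg.classInner (fun z : Kin L => χ z) θ) := fun θ => by
      rw [classInner_indFun θ (IsIrrCharacter.isClassFunction hχ), classInner_conj]
    rcases exists_nontrivial_constituent hG S hχ with h | h
    · refine Or.inl ⟨Finset.sum_eq_zero fun θ hθ => ?_, h⟩
      obtain ⟨hθi, hθ1⟩ := Finset.mem_filter.1 hθ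
      rw [hterm, show (fun z : Kin L => χ z) = χ 1 • (fun _ : Kin L => (1 : ℂ)) from funext fun z => by
        rw [Pi.smul_apply, smul_eq_mul, mul_one, h z z.2], classInner_smul_left,
        IsIrrCharacter.classInner_of_ne isIrrCharacter_one (mem_irrFinset.1 hθi) (Ne.symm hθ1), mul_zero,
        map_zero, mul_zero]
    · refine Or.inr ?_
      have hall : ∀ θ ∈ irrFinset (Kin L), θ 1 * Cfsg.classInner (Cfsg.indFun (Kin L) θ) χ =
          Cfsg.classInner (fun z : Kin L => χ z) θ * θ 1 := fun θ hθ => by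
        obtain ⟨n, hn⟩ := IsCharacter.exists_classInner_eq_natCast
          (IsCharacter.restrict (IsIrrCharacter.isCharacter hχ) (Kin L)) (mem_irrFinset.1 hθ)
        rw [hterm, hn, map_natCast, mul_comm]
      have hsum := congrFun (eq_sum_irr (IsCharacter.isClassFunction
        (IsCharacter.restrict (IsIrrCharacter.isCharacter hχ) (Kin L)))) 1
      simp only [Finset.sum_apply, Pi.smul_apply, smul_eq_mul, OneMemClass.coe_one] at hsum
      rw [show w χ = ∑ θ ∈ T, θ 1 * Cfsg.classInner (Cfsg.indFun (Kin L) θ) χ from rfl,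
        Finset.sum_congr rfl fun θ hθ => hall θ (Finset.mem_filter.1 hθ).1, Finset.sum_filter, hsum]
      refine Finset.sum_congr rfl fun θ _ => ?_
      split_ifs with hθ
      · rfl
      · rw [not_not.1 hθ, h, zero_mul]
  set c : (L → ℂ) → ℂ := fun χ => Cfsg.classInner f χ with hc
  -- the non-kernel part vanishes off the kernel
  have hvan : ∀ a : L, a ∉ Kin L →
      ∑ χ ∈ irrFinset L, w χ * (c χ / χ 1 * χ a) = 0 := by
    intro a ha
    simp only [w, Finset.sum_mul]
    rw [Finset.sum_comm]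
    refine Finset.sum_eq_zero fun θ hθ => ?_
    obtain ⟨hθi, hθ1⟩ := Finset.mem_filter.1 hθ
    have hθ' := mem_irrFinset.1 hθi
    by_cases hex : ∃ ξ, Cfsg.IsIrrCharacter L ξ ∧ Cfsg.classInner (Cfsg.indFun (Kin L) θ) ξ ≠ 0
    · obtain ⟨ξ, hξ, hξθ⟩ := hex
      have hcommon : ∀ χ ∈ irrFinset L, θ 1 * Cfsg.classInner (Cfsg.indFun (Kin L) θ) χ * (c χ / χ 1 * χ a) =
          θ 1 * (c ξ / ξ 1) * (Cfsg.classInner (Cfsg.indFun (Kin L) θ) χ • χ) a := fun χ hχ => by
        rw [Pi.smul_apply, smul_eq_mul]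
        by_cases h0 : Cfsg.classInner (Cfsg.indFun (Kin L) θ) χ = 0
        · rw [h0]; ring
        obtain ⟨e1, e2⟩ := coef_eq hG S hθ' hθ1 hν hav (mem_irrFinset.1 hχ) hξ h0 hξθ
        rw [show c χ = c ξ from e1, e2]
        ring
      rw [Finset.sum_congr rfl hcommon, ← Finset.mul_sum, ← Finset.sum_apply,
        ← eq_sum_irr (isClassFunction_indFun _ θ), indFun_eq_zero_of_normal θ ha, mul_zero]
    · exact Finset.sum_eq_zero fun χ hχ => by
        rw [show Cfsg.classInner (Cfsg.indFun (Kin L) θ) χ = 0 from by_contra fun h =>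
          hex ⟨χ, mem_irrFinset.1 hχ, h⟩, mul_zero, zero_mul]
  have hgk : g * k ∉ Kin L := fun h => hg (by
    have := (Kin L).mul_mem h ((Kin L).inv_mem hk)
    rwa [mul_inv_cancel_right] at this)
  have hexp : ∀ a : L, a ∉ Kin L → f a = ∑ χ ∈ irrFinset L, (c χ - w χ * (c χ / χ 1)) * χ a := by
    intro a ha
    have h1 := congrFun (eq_sum_irr hfcl) a
    simp only [Finset.sum_apply, Pi.smul_apply, smul_eq_mul] at h1
    rw [h1, Finset.sum_congr rfl fun χ _ => (by ring :
      (c χ - w χ * (c χ / χ 1)) * χ a = c χ * χ a - w χ * (c χ / χ 1 * χ a)),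
      Finset.sum_sub_distrib, hvan a ha, sub_zero]
  change f (g * k) = f g
  rw [hexp _ hgk, hexp _ hg]
  refine Finset.sum_congr rfl fun χ hχ => ?_
  have hχ' := mem_irrFinset.1 hχ
  rcases hw χ hχ' with ⟨h0, hker⟩ | h1
  · rw [IsCharacter.apply_mul_comm (IsIrrCharacter.isCharacter hχ') g k,
      IsCharacter.apply_mul_of_apply_eq (IsIrrCharacter.isCharacter hχ') (hker k hk)]
  · rw [h1, mul_div_cancel₀ _ (IsIrrCharacter.apply_one_ne_zero hχ'), sub_self, zero_mul, zero_mul]

end CfsgLib.OddEnd
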