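import Cfsg.Agent.OddEnd.ConstCoset
import Cfsg.Agent.OddEnd.Cong

/-!
The common value on linear characters modulo `p` (Peterfalvi 12.15).
-/

set_option autoImplicit false
set_option linter.unusedSectionVars false

namespace CfsgLib.OddEnd

open Subgroup
open CfsgLib.Char

universe u

variable {G : Type u} [Group G] [Fintype G]
variable (hG : Cfsg.IsMinSimpleOddOrder G) {L : Subgroup G} [Fintype L] (S : Side L)
include hG S

/-- If `x` has order `p` outside `L_σ` and centralizes an element of `L_σ` outside `L_σ'`, then the common value is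
congruent to the value at `x`. -/
theorem value_cong [Fintype (Kin L)] {p : ℕ} (hp : p.Prime) {ν : G → ℂ} (hν : Cfsg.IsIrrCharacter G ν)
    (hav : AvoidsPairs L ν) {x : L} (hxK : x ∉ Kin L) (hxo : orderOf (x : G) = p)
    (hxC : Subgroup.centralizer ({(x : G)} : Set G) ≤ L) {y : Kin L} (hy : y ∉ commutator (Kin L))
    (hxy : x * (y : L) = (y : L) * x) {N : ℤ}
    (hN : ∀ w : Kin L, w ∉ commutator (Kin L) → ∀ [DecidablePred fun z => w⁻¹ * z ∈ commutator (Kin L)],
      ∑ z ∈ Finset.univ.filter (fun z => w⁻¹ * z ∈ commutator (Kin L)),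
        rhoOn (hat L) L (Cfsg.supportR L) ν (z : L) = (N : ℂ) * (Nat.card (commutator (Kin L)) : ℂ)) :
    Cong p (N : ℂ) (ν (x : G)) := by
  classical
  have hD := dade_full hG S.coatom S.kappa_eq
  have hνg := IsIrrCharacter.isGeneralized hν
  set g := rhoOn (hat L) L (Cfsg.supportR L) ν with hg
  have hgcl : Cfsg.IsClassFunction L g := rhoOn_isClassFunction hD (IsIrrCharacter.isClassFunction hν)
  have hx1 : (x : G) ≠ 1 := fun h => hp.ne_one (by rw [← hxo, h, orderOf_one])
  have hy1 : (y : L) ≠ 1 := fun h => hy (by rw [show y = 1 from Subtype.ext h]; exact Subgroup.one_mem _)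
  have hxhat : (x : G) ∈ hat L := ⟨⟨x.2, ((y : L) : G), y.2, fun h => hy1 (Subtype.ext h),
    congrArg Subtype.val hxy⟩, hx1⟩
  have hpK : ¬ p ∣ Nat.card (Kin L) := fun hd => by
    have hxo' : orderOf (QuotientGroup.mk x : L ⧸ Kin L) = p := by
      refine (hp.eq_one_or_self_of_dvd _ ?_).resolve_left fun h => hxK ?_
      · rw [← hxo, orderOf_coe]
        exact orderOf_map_dvd (QuotientGroup.mk' (Kin L)) x
      · exact (QuotientGroup.eq_one_iff x).1 (orderOf_eq_one_iff.1 h)
    have hi : p ∣ (Kin L).index := hxo' ▸ orderOf_dvd_natCard _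
    have := Nat.dvd_gcd hd hi
    rw [(Kin_hall hG S).gcd_eq_one] at this
    exact hp.not_dvd_one this
  have hpk' : ¬ p ∣ Nat.card (commutator (Kin L)) := fun hd =>
    hpK (hd.trans (commutator (Kin L)).card_subgroup_dvd_card)
  have hpR : ∀ a ∈ hat L, ¬ p ∣ Nat.card (Cfsg.supportR L a) := fun a ha hd => by
    have hdvd : p ∣ Nat.card ↥(L ⊓ Subgroup.centralizer ({(x : G)} : Set G)) := by
      have h := (L ⊓ Subgroup.centralizer ({(x : G)} : Set G)).orderOf_dvd_natCard
        (x := (x : G)) ⟨x.2, Subgroup.mem_centralizer_singleton_iff.2 rfl⟩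
      rwa [hxo] at h
    have := Nat.dvd_gcd hd hdvd
    rw [(hD.coprime a ha _ hxhat).gcd_eq_one] at this
    exact hp.not_dvd_one this
  -- conjugation by `x` permutes the coset of `y`
  set σ : Kin L → Kin L := fun z => ⟨x * (z : L) * x⁻¹, (Kin_normal L).conj_mem _ z.2 x⟩
  have hσmul : ∀ a b, σ (a * b) = σ a * σ b := fun a b => Subtype.ext (show x * ((a : L) * b) * x⁻¹ =
    x * (a : L) * x⁻¹ * (x * (b : L) * x⁻¹) by group)
  let σh : Kin L →* Kin L := MonoidHom.mk' σ hσmul
  have hσy : σ y = y := Subtype.ext (show x * (y : L) * x⁻¹ = y by rw [hxy, mul_inv_cancel_right])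
  have hσK : ∀ a ∈ commutator (Kin L), σ a ∈ commutator (Kin L) := fun a ha => by
    have h := Subgroup.mem_map_of_mem σh ha
    rw [commutator_def, Subgroup.map_commutator] at h
    exact Subgroup.commutator_mono le_top le_top h
  set s := Finset.univ.filter (fun z : Kin L => y⁻¹ * z ∈ commutator (Kin L)) with hs
  have hσs : ∀ z ∈ s, σ z ∈ s := fun z hz => by
    refine Finset.mem_filter.2 ⟨Finset.mem_univ _, ?_⟩
    have h := hσK _ (Finset.mem_filter.1 hz).2
    rw [hσmul] at h
    have hy' : σ y⁻¹ = y⁻¹ := (map_inv σh y).trans (congrArg (·⁻¹) hσy)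
    rwa [hy'] at h
  have hσiter : ∀ (n : ℕ) (z : Kin L), ((σ^[n] z : Kin L) : L) = x ^ n * z * (x ^ n)⁻¹ := fun n z => by
    induction n with
    | zero => simp
    | succ n ih =>
      rw [Function.iterate_succ_apply']
      show x * _ * x⁻¹ = _
      rw [ih, pow_succ']
      group
  have hord : ∀ z ∈ s, σ^[p] z = z := fun z _ => Subtype.ext (by
    rw [hσiter, ← hxo, orderOf_coe, pow_orderOf_eq_one]; simp)
  have hne1 : ∀ z ∈ s, ((z : L) : G) ∈ hat L := fun z hz => core1_subset_hat L ⟨z.2, fun h => hy (by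
    have hz1 : z = 1 := Subtype.ext (Subtype.ext h)
    have := (Finset.mem_filter.1 hz).2
    rw [hz1, mul_one] at this
    simpa using this)⟩
  have hint : ∀ z ∈ s, ∃ n : ℕ, ¬ p ∣ n ∧ IsIntegral ℤ ((n : ℂ) * g (z : L)) := fun z hz => by
    refine ⟨Nat.card (Cfsg.supportR L ((z : L) : G)), hpR _ (hne1 z hz), ?_⟩
    rw [hg, rhoOn_of_mem (hne1 z hz), rho, ← mul_assoc, mul_inv_cancel₀ (Nat.cast_ne_zero.2 Nat.card_pos.ne'),
      one_mul, finsum_mem_eq_finite_toFinset_sum _ (Set.toFinite _)]
    exact IsIntegral.sum _ fun u _ => IsGeneralized.isIntegral hνg _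
  have hsum := sum_cong_fixed hp s σ hσs hord (f := fun z => g (z : L))
    (fun z _ => hgcl (z : L) x) hint
  have hcard := sum_cong_fixed hp s σ hσs hord (f := fun _ => (1 : ℂ)) (fun _ _ => rfl)
    (fun _ _ => ⟨1, hp.not_dvd_one, by simpa using isIntegral_one⟩)
  rw [Finset.sum_const, Finset.sum_const, nsmul_eq_mul, nsmul_eq_mul, mul_one, mul_one] at hcard
  have hscard : s.card = Nat.card (commutator (Kin L)) := by
    rw [Nat.card_eq_fintype_card]
    refine (Finset.card_bij (fun (a : commutator (Kin L)) _ => y * (a : Kin L)) (fun a _ => ?_) (fun a _ b _ h => ?_)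
      fun z hz => ⟨⟨y⁻¹ * z, (Finset.mem_filter.1 hz).2⟩, Finset.mem_univ _, by simp⟩).symm
    · refine Finset.mem_filter.2 ⟨Finset.mem_univ _, ?_⟩
      rw [inv_mul_cancel_left]
      exact a.2
    · exact Subtype.ext (mul_left_cancel h)
  -- at a fixed point the average is congruent to the value at `x`
  have hfix : ∀ z ∈ s.filter (fun z => σ z = z), Cong p (g (z : L)) (ν (x : G)) := by
    intro z hz
    obtain ⟨hzs, hzf⟩ := Finset.mem_filter.1 hz
    have hzx : x * (z : L) = (z : L) * x := mul_inv_eq_iff_eq_mul.1 (congrArg Subtype.val hzf)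
    have hzxG : Commute (x : G) ((z : L) : G) := congrArg Subtype.val hzx
    have hzhat := hne1 z hzs
    set R := Cfsg.supportR L ((z : L) : G)
    set T := (Set.toFinite (R : Set G)).toFinset
    have hxR : ∀ u ∈ R, (x : G) * u * (x : G)⁻¹ ∈ R := fun u hu =>
      hD.conj_mem_H _ hzhat _ (Subgroup.mem_centralizer_singleton_iff.2 hzxG.eq) u hu
    have hTσ : ∀ u ∈ T, (x : G) * u * (x : G)⁻¹ ∈ T := fun u hu =>
      (Set.Finite.mem_toFinset _).2 (hxR u ((Set.Finite.mem_toFinset _).1 hu))
    have hTit : ∀ (n : ℕ) (u : G),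
        (fun u => (x : G) * u * (x : G)⁻¹)^[n] u = (x : G) ^ n * u * ((x : G) ^ n)⁻¹ := fun n u => by
      induction n with
      | zero => simp
      | succ n ih => rw [Function.iterate_succ_apply', ih, pow_succ']; group
    have hTord : ∀ u ∈ T, (fun u => (x : G) * u * (x : G)⁻¹)^[p] u = u := fun u _ => by
      rw [hTit, ← hxo, pow_orderOf_eq_one]; simp
    have hTfix : T.filter (fun u => (x : G) * u * (x : G)⁻¹ = u) = {1} := by
      ext u
      simp only [Finset.mem_filter, Finset.mem_singleton, T, Set.Finite.mem_toFinset, SetLike.mem_coe]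
      refine ⟨fun ⟨hu, hf⟩ => ?_, fun h => by subst h; simp⟩
      have huC : u ∈ Subgroup.centralizer ({(x : G)} : Set G) :=
        Subgroup.mem_centralizer_singleton_iff.2 (mul_inv_eq_iff_eq_mul.1 hf).symm
      have := hD.inf_eq_bot _ hzhat
      exact Subgroup.mem_bot.1 (this.le ⟨hu, hxC huC, hD.le_centralizer _ hzhat hu⟩)
    have h1 := sum_cong_fixed hp T _ hTσ hTord (f := fun _ => (1 : ℂ)) (fun _ _ => rfl)
      (fun _ _ => ⟨1, hp.not_dvd_one, by simpa using isIntegral_one⟩)
    have h2 := sum_cong_fixed hp T _ hTσ hTord (f := fun u => ν (((z : L) : G) * u)) (fun u _ => by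
        show ν (((z : L) : G) * ((x : G) * u * (x : G)⁻¹)) = _
        rw [← IsIrrCharacter.isClassFunction hν (((z : L) : G) * u) (x : G)]
        congr 1
        rw [← mul_assoc, ← mul_assoc, ← mul_assoc, hzxG.eq])
      (fun u _ => ⟨1, hp.not_dvd_one, by simpa using IsGeneralized.isIntegral hνg _⟩)
    rw [hTfix, Finset.sum_singleton, mul_one] at h2
    rw [hTfix, Finset.sum_singleton, Finset.sum_const, nsmul_eq_mul, mul_one] at h1
    have hTcard : T.card = Nat.card R := by
      rw [show T = (Set.toFinite (R : Set G)).toFinset from rfl, ← Set.ncard_eq_toFinset_card, ← Nat.card_coe_set_eq]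
      rfl
    rw [hTcard] at h1
    have h3 : Cong p (g (z : L)) (ν ((z : L) : G)) := by
      rw [hg, rhoOn_of_mem hzhat, rho, finsum_mem_eq_finite_toFinset_sum _ (Set.toFinite _)]
      have h1' := Cong.mul_left (IsGeneralized.isIntegral hνg ((z : L) : G)) h1
      rw [mul_one] at h1'
      have h4 := Cong.div hp (hpR _ hzhat) (Cong.trans hp h2 (Cong.symm h1'))
      refine Cong.trans hp h4 (Cong.of_eq hp ?_)
      rw [mul_comm (ν _), ← mul_assoc, inv_mul_cancel₀ (Nat.cast_ne_zero.2 Nat.card_pos.ne'), one_mul]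
    refine Cong.trans hp h3 (Cong.trans hp (Cong.symm (cong_apply_mul hνg hp hxo hzxG)) (Cong.of_eq hp ?_))
    have := const_on_coset hG S hν hav hxK z.2
    simpa using this
  have htot := Cong.trans hp hsum (Cong.sum hp _ hfix)
  rw [Finset.sum_const, nsmul_eq_mul, hN y hy] at htot
  have hfinal := Cong.trans hp htot (Cong.symm (by
    have h := Cong.mul_left (IsGeneralized.isIntegral hνg (x : G)) hcard
    rwa [mul_comm, mul_comm (ν (x : G))] at h))
  have h := Cong.div hp hpk' hfinal
  have hk : (Nat.card (commutator (Kin L)) : ℂ) ≠ 0 := Nat.cast_ne_zero.2 Nat.card_pos.ne'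
  rw [hscard, mul_comm (N : ℂ), inv_mul_cancel_left₀ hk, inv_mul_cancel_left₀ hk] at h
  exact h

end CfsgLib.OddEnd
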