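import Cfsg.Agent.OddEnd.LinearCommon
import Cfsg.Agent.OddEnd.CosetCong
import Cfsg.Agent.Char.CosetSquare

/-!
The counting of Peterfalvi 12.16, given the character of the Frobenius side.
-/

set_option autoImplicit false
set_option linter.unusedSectionVars false

namespace CfsgLib.OddEnd

open Subgroup
open CfsgLib.Char

universe u

variable {G : Type u} [Group G] [Fintype G]

/-- A common average over cosets gives a lower bound for the sum of squares. -/
theorem sq_le_sum_norm {K : Type u} [Group K] [Fintype K] (H : Subgroup K) (g : K → ℂ) (N : ℤ)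
    (hN : ∀ w : K, w ∉ H → ∀ [DecidablePred fun z => w⁻¹ * z ∈ H],
      ∑ z ∈ Finset.univ.filter (fun z => w⁻¹ * z ∈ H), g z = (N : ℂ) * (Nat.card H : ℂ))
    [DecidablePred fun z => z ∉ H] :
    (N : ℝ) ^ 2 * ((Nat.card K : ℝ) - Nat.card H) ≤ ∑ z ∈ Finset.univ.filter (fun z => z ∉ H), ‖g z‖ ^ 2 := by
  classical
  set S := Finset.univ.filter (fun z : K => z ∉ H)
  have hcard : (Finset.univ.filter (fun z : K => z ∈ H)).card = Nat.card H := by
    rw [Nat.card_eq_fintype_card, ← Fintype.card_subtype]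
  have hScard : (S.card : ℝ) = (Nat.card K : ℝ) - Nat.card H := by
    rw [← hcard, Nat.card_eq_fintype_card, eq_sub_iff_add_eq, ← Nat.cast_add, add_comm,
      Finset.card_filter_add_card_filter_not (fun z : K => z ∈ H), Finset.card_univ]
  have hcoset : ∀ w : K, (Finset.univ.filter (fun z => w⁻¹ * z ∈ H)).card = Nat.card H := fun w => by
    rw [← hcard]
    exact Finset.card_bij (fun z _ => w⁻¹ * z) (fun z hz => by simpa using hz)
      (fun a _ b _ h => mul_left_cancel h) fun z hz => ⟨w * z, by simpa using hz, by simp⟩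
  have hH : (0 : ℝ) < Nat.card H := Nat.cast_pos.2 Nat.card_pos
  have hw : ∀ w ∈ S, (N : ℝ) ^ 2 * Nat.card H ≤
      ∑ z ∈ Finset.univ.filter (fun z => w⁻¹ * z ∈ H), ‖g z‖ ^ 2 := fun w hw => by
    have hwH := (Finset.mem_filter.1 hw).2
    have h1 := congrArg (‖·‖) (hN w hwH)
    rw [norm_mul, Complex.norm_intCast, Complex.norm_natCast] at h1
    have h2 : (|(N : ℝ)| * Nat.card H) ^ 2 ≤
        (Nat.card H : ℝ) * ∑ z ∈ Finset.univ.filter (fun z => w⁻¹ * z ∈ H), ‖g z‖ ^ 2 := by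
      rw [← h1]
      refine (pow_le_pow_left₀ (norm_nonneg _) (norm_sum_le _ _) 2).trans (le_trans sq_sum_le_card_mul_sum_sq ?_)
      rw [hcoset w]
    rw [mul_pow, sq_abs] at h2
    nlinarith
  have hmem : ∀ w ∈ S, ∀ z, w⁻¹ * z ∈ H → z ∈ S := fun w hw z hz => by
    refine Finset.mem_filter.2 ⟨Finset.mem_univ _, fun hzH => (Finset.mem_filter.1 hw).2 ?_⟩
    have := H.mul_mem hzH (H.inv_mem hz)
    simpa using this
  have hsum : ∑ w ∈ S, ∑ z ∈ Finset.univ.filter (fun z => w⁻¹ * z ∈ H), ‖g z‖ ^ 2 =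
      (Nat.card H : ℝ) * ∑ z ∈ S, ‖g z‖ ^ 2 := by
    rw [Finset.sum_comm' (s' := fun z => S.filter (fun w => w⁻¹ * z ∈ H)) (t' := S) fun w z => by
      simp only [Finset.mem_filter, Finset.mem_univ, true_and]
      exact ⟨fun h => ⟨h, hmem w h.1 z h.2⟩, fun h => h.1⟩, Finset.mul_sum]
    refine Finset.sum_congr rfl fun z hz => ?_
    rw [Finset.sum_const, nsmul_eq_mul]
    congr 2
    rw [← hcoset z]
    refine congrArg Finset.card (Finset.ext fun w => ?_)
    simp only [Finset.mem_filter, Finset.mem_univ, true_and]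
    refine ⟨fun h => by simpa using H.inv_mem h.2, fun h => ?_⟩
    have h' : w⁻¹ * z ∈ H := by simpa using H.inv_mem h
    refine ⟨Finset.mem_filter.2 ⟨Finset.mem_univ _, fun hwH => (Finset.mem_filter.1 hz).2 ?_⟩, h'⟩
    have := H.mul_mem hwH h'
    simpa using this
  have := Finset.sum_le_sum hw
  rw [Finset.sum_const, nsmul_eq_mul, hsum, hScard] at this
  nlinarith

variable (hG : Cfsg.IsMinSimpleOddOrder G) {M L : Subgroup G} {p : ℕ} {x : G}
include hG

theorem side_of_witness [Fintype L] (W : Witness M L p x) : Side L where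
  coatom := W.coatom_L
  kappa_eq := W.kappa_L
  comm_mem a ha b hb := by
    obtain ⟨hDL, hKL, -, hdec⟩ := W.compl
    obtain ⟨d₁, hd₁, k₁, hk₁, rfl⟩ := hdec a ha
    obtain ⟨d₂, hd₂, k₂, hk₂, rfl⟩ := hdec b hb
    have := Kin_normal L
    set π := QuotientGroup.mk' (Kin L)
    have hcomm : d₁ * d₂ = d₂ * d₁ := by
      have := W.meet_comm.is_comm.comm ⟨d₁, hd₁⟩ ⟨d₂, hd₂⟩
      exact congrArg Subtype.val this
    have key : π ⟨d₁ * k₁, ha⟩ * π ⟨d₂ * k₂, hb⟩ = π ⟨d₂ * k₂, hb⟩ * π ⟨d₁ * k₁, ha⟩ := by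
      have hred : ∀ d k : G, ∀ hd : d ∈ L, k ∈ Cfsg.sigmaCore L → ∀ h : d * k ∈ L,
          π ⟨d * k, h⟩ = π ⟨d, hd⟩ := fun d k hd hk h => by
        refine (QuotientGroup.eq.2 ?_).symm
        rw [mem_Kin]
        simpa using hk
      rw [hred d₁ k₁ (hDL hd₁) hk₁ ha, hred d₂ k₂ (hDL hd₂) hk₂ hb, ← map_mul, ← map_mul]
      exact congrArg π (Subtype.ext hcomm)
    have h := commutatorElement_eq_one_iff_mul_comm.2 key
    rw [← map_commutatorElement] at h
    exact mem_Kin.1 ((QuotientGroup.eq_one_iff _).1 h)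

/-- The support of `x` lies in `L_σ`. -/
theorem supportR_le_of_witness (hp : p.Prime) (W : Witness M L p x) :
    Cfsg.supportR M x ≤ Cfsg.sigmaCore L := by
  have hx1 : x ≠ 1 := fun h => hp.ne_one (by rw [← W.order, h, orderOf_one])
  obtain ⟨N, hN, hCN, hu, -, -, hnil, -⟩ :=
    CfsgLib.OddLocal.Kap.exists_over hG W.coatom_M W.mem hx1 W.not_le
  rw [CfsgLib.OddLocal.Kap.supportR_eq hG W.not_le hN hCN hu hnil, hu L W.coatom_L W.le_over]
  exact inf_le_left

theorem witness_absurd_of_side [Fintype M] [Fintype L] (hp : p.Prime) (W : Witness M L p x)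
    (hside : ∃ ψ ν : G → ℂ, Cfsg.IsIrrCharacter G ν ∧ (ψ = ν ∨ ψ = -ν) ∧
      (∃ α : M → ℂ, Cfsg.IsClassFunction M α ∧ (∀ a : M, (a : G) ∉ core1 M → α a = 0) ∧
        Cfsg.dadeIsometry (core1 M) M (Cfsg.supportR M) α = ν - Cfsg.conjFun ν) ∧
      (∀ a : M, (a : G) ∈ Cfsg.sigmaCore M → orderOf (a : G) = p →
        Cong p (rho M (Cfsg.supportR M) ψ a) ((Cfsg.sigmaCore M).relIndex M : ℂ)) ∧
      1 - ((Cfsg.sigmaCore M).relIndex M : ℝ) / Nat.card ↥(Cfsg.sigmaCore M) ≤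
        (Nat.card M : ℝ)⁻¹ * ∑ᶠ a ∈ {a : M | (a : G) ∈ core1 M}, ‖rho M (Cfsg.supportR M) ψ a‖ ^ 2) :
    False := by
  classical
  obtain ⟨ψ, ν, hν, hψ, ⟨α, -, -, hαν⟩, hcong, hM⟩ := hside
  have : Fintype (Kin L) := Fintype.ofFinite _
  have S := side_of_witness hG W
  have hav : AvoidsPairs L ν := fun θ hθ hne ξ hξ hmult μ hμ eμ =>
    orth_pairs hG S W.coatom_M W.kappa_M W.not_conj hν hαν hθ hne hξ hmult hμ eμ
  have hxM : x ∈ M := map_subtype_le _ W.mem
  have hxL : x ∈ L := W.le_over (mem_centralizer_singleton_iff.2 rfl)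
  have hx1 : x ≠ 1 := fun h => hp.ne_one (by rw [← W.order, h, orderOf_one])
  set xL : L := ⟨x, hxL⟩
  have hxK : xL ∉ Kin L := fun h => hx1 (Subgroup.mem_bot.1 (W.compl.2.2.1.le ⟨⟨hxM, hxL⟩, h⟩))
  obtain ⟨y, hyK, hy⟩ := SetLike.not_le_iff_exists.1 W.fixed_not_le
  set yK : Kin L := ⟨⟨y, map_subtype_le _ hyK.1⟩, hyK.1⟩
  set φ : Kin L →* G := L.subtype.comp (Kin L).subtype
  have hφinj : Function.Injective φ := fun a b h => Subtype.ext (Subtype.ext h)
  have hφr : (⊤ : Subgroup (Kin L)).map φ = Cfsg.sigmaCore L := by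
    rw [← MonoidHom.range_eq_map]
    ext g
    exact ⟨fun ⟨a, e⟩ => e ▸ a.2, fun hg => ⟨⟨⟨g, map_subtype_le _ hg⟩, hg⟩, rfl⟩⟩
  have hφc : (commutator (Kin L)).map φ = ⁅Cfsg.sigmaCore L, Cfsg.sigmaCore L⁆ := by
    rw [commutator_def, map_commutator, hφr]
  have hy' : yK ∉ commutator (Kin L) := fun h => hy (hφc.le ⟨yK, h, rfl⟩)
  have hxy : xL * (yK : L) = (yK : L) * xL := Subtype.ext (mem_centralizer_singleton_iff.1 hyK.2).symm
  obtain ⟨N, hN⟩ := linear_common hG S hν hav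
  set g := rhoOn (hat L) L (Cfsg.supportR L) ν
  have hcoset : ∀ w : Kin L, w ∉ commutator (Kin L) → ∀ [DecidablePred fun z => w⁻¹ * z ∈ commutator (Kin L)],
      ∑ z ∈ Finset.univ.filter (fun z => w⁻¹ * z ∈ commutator (Kin L)), g (z : L) =
        (N : ℂ) * (Nat.card (commutator (Kin L)) : ℂ) :=
    fun w hw => coset_sum_of_common (g := fun z : Kin L => g (z : L)) hN hw
  have hval : Cong p (N : ℂ) (ν x) :=
    value_cong hG S hp hν hav (x := xL) hxK W.order W.le_over hy' hxy hcoset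
  set e := (Cfsg.sigmaCore M).relIndex M with he
  -- the sign
  obtain ⟨ε, hε, hψε⟩ : ∃ ε : ℤ, (ε = 1 ∨ ε = -1) ∧ ∀ z, ψ z = (ε : ℂ) * ν z := by
    rcases hψ with rfl | rfl
    · exact ⟨1, Or.inl rfl, fun z => by simp⟩
    · exact ⟨-1, Or.inr rfl, fun z => by simp⟩
  have hrho : rho M (Cfsg.supportR M) ψ ⟨x, hxM⟩ = (ε : ℂ) * ν x := by
    set R := Cfsg.supportR M x
    have hR0 : (Nat.card R : ℂ) ≠ 0 := Nat.cast_ne_zero.2 Nat.card_pos.ne'
    simp only [rho]
    rw [finsum_mem_eq_finite_toFinset_sum _ (Set.toFinite _),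
      Finset.sum_congr rfl (g := fun _ => (ε : ℂ) * ν x) fun u hu => ?_, Finset.sum_const, nsmul_eq_mul,
      ← Set.ncard_eq_toFinset_card, ← Nat.card_coe_set_eq]
    · exact inv_mul_cancel_left₀ hR0 _
    · have huK : u ∈ Cfsg.sigmaCore L := supportR_le_of_witness hG hp W ((Set.Finite.mem_toFinset _).1 hu)
      have := const_on_coset hG S hν hav hxK (k := ⟨u, map_subtype_le _ huK⟩) huK
      rw [hψε]
      exact congrArg ((ε : ℂ) * ·) this
  have hdiv : (p : ℤ) ∣ ε * N - (e : ℤ) := by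
    refine int_cong_iff hp ?_
    push_cast
    have h := Cong.trans hp (Cong.mul_left (c := (ε : ℂ)) (map_intCast (algebraMap ℤ ℂ) ε ▸ isIntegral_algebraMap)
      hval) (Cong.of_eq hp hrho.symm)
    exact Cong.trans hp h (hcong ⟨x, hxM⟩ W.mem W.order)
  -- the bound coming from the two disjoint supports
  have hbound : (N : ℝ) ^ 2 * ((Nat.card (Kin L) : ℝ) - Nat.card (commutator (Kin L))) ≤
      (e : ℝ) * Nat.card (Kin L) := by
    have hK := sq_le_sum_norm (commutator (Kin L)) (fun z : Kin L => g (z : L)) N hcoset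
    have hDL := dade_core hG W.coatom_L W.kappa_L
    have hDM := dade_core hG W.coatom_M W.kappa_M
    have hνc := IsIrrCharacter.isClassFunction hν
    have hψc : Cfsg.IsClassFunction G ψ := fun a b => by rw [hψε, hψε, hνc a b]
    have hL1 := dade_norm_ge hDL hνc (ψ := rho L (Cfsg.supportR L) ν) fun _ _ => rfl
    have hM1 := dade_norm_ge hDM hψc (ψ := rho M (Cfsg.supportR M) ψ) fun _ _ => rfl
    set TL := {g : G | ∃ a ∈ core1 L, ∃ u ∈ Cfsg.supportR L a, ∃ x : G, x * g * x⁻¹ = a * u}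
    set TM := {g : G | ∃ a ∈ core1 M, ∃ u ∈ Cfsg.supportR M a, ∃ x : G, x * g * x⁻¹ = a * u}
    have hψn : ∀ z, ‖ψ z‖ = ‖ν z‖ := fun z => by
      rcases hε with rfl | rfl <;> simp [hψε]
    have hdisj : Disjoint TM TL := Set.disjoint_left.2 fun z h h' =>
      kernel_supports_disjoint hG W.coatom_M W.coatom_L W.not_conj z ⟨h, h'⟩
    have htot : ∑ᶠ z ∈ TM, ‖ψ z‖ ^ 2 + ∑ᶠ z ∈ TL, ‖ν z‖ ^ 2 ≤ (Nat.card G : ℝ) := by
      rw [finsum_mem_congr rfl fun z _ => by rw [hψn z], ← finsum_mem_union hdisj (Set.toFinite _) (Set.toFinite _),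
        finsum_mem_eq_finite_toFinset_sum _ (Set.toFinite _), ← sum_norm_sq_eq hν]
      exact Finset.sum_le_sum_of_subset_of_nonneg (Finset.subset_univ _) fun _ _ _ => sq_nonneg _
    have hLK : ∑ z ∈ Finset.univ.filter (fun z : Kin L => z ∉ commutator (Kin L)), ‖g (z : L)‖ ^ 2 ≤
        ∑ᶠ a ∈ {a : L | (a : G) ∈ core1 L}, ‖rho L (Cfsg.supportR L) ν a‖ ^ 2 := by
      rw [finsum_mem_eq_finite_toFinset_sum _ (Set.toFinite _)]
      have hmem : ∀ z ∈ Finset.univ.filter (fun z : Kin L => z ∉ commutator (Kin L)),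
          ((z : L) : G) ∈ core1 L := fun z hz => ⟨z.2, fun h => (Finset.mem_filter.1 hz).2 (by
            rw [show z = 1 from Subtype.ext (Subtype.ext h)]
            exact Subgroup.one_mem _)⟩
      rw [Finset.sum_congr rfl fun z hz => by
          rw [show g (z : L) = rho L (Cfsg.supportR L) ν (z : L) from
            rhoOn_of_mem (core1_subset_hat L (hmem z hz))],
        ← Finset.sum_image (g := fun z : Kin L => (z : L))
          (f := fun a => ‖rho L (Cfsg.supportR L) ν a‖ ^ 2) fun a _ b _ h => Subtype.ext h]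
      refine Finset.sum_le_sum_of_subset_of_nonneg (fun a ha => ?_) fun _ _ _ => sq_nonneg _
      obtain ⟨z, hz, rfl⟩ := Finset.mem_image.1 ha
      exact (Set.Finite.mem_toFinset _).2 (hmem z hz)
    have hcardL : Nat.card L = Nat.card (Kin L) * (Kin L).index := (Kin L).card_mul_index.symm
    have hidx : (Kin L).index ≤ Nat.card ↥(Cfsg.sigmaCore M) := by
      have hsur : Function.Surjective
          ((QuotientGroup.mk' (Kin L)).comp (Subgroup.inclusion (W.compl.1 : M ⊓ L ≤ L))) := by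
        intro q
        obtain ⟨a, rfl⟩ := QuotientGroup.mk'_surjective _ q
        obtain ⟨d, hd, k, hk, hdk⟩ := W.compl.2.2.2 (a : G) a.2
        refine ⟨⟨d, hd⟩, (QuotientGroup.eq.2 ?_)⟩
        rw [mem_Kin]
        simpa [hdk] using hk
      rw [index_eq_card]
      exact (Nat.card_le_card_of_surjective _ hsur).trans (Nat.card_le_card_of_injective _
        (Subgroup.inclusion_injective W.meet_le))
    have hG0 : (0 : ℝ) < Nat.card G := Nat.cast_pos.2 Nat.card_pos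
    have hL0 : (0 : ℝ) < Nat.card L := Nat.cast_pos.2 Nat.card_pos
    set A := (N : ℝ) ^ 2 * ((Nat.card (Kin L) : ℝ) - Nat.card (commutator (Kin L)))
    have h1 : (Nat.card L : ℝ)⁻¹ * A + (1 - (e : ℝ) / Nat.card ↥(Cfsg.sigmaCore M)) ≤ 1 := by
      have hA := (mul_le_mul_of_nonneg_left (hK.trans hLK) (inv_nonneg.2 hL0.le)).trans hL1
      have hB := hM.trans hM1
      have := mul_le_mul_of_nonneg_left htot (inv_nonneg.2 hG0.le)
      rw [inv_mul_cancel₀ hG0.ne', mul_add] at this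
      linarith
    have hh : (0 : ℝ) < Nat.card ↥(Cfsg.sigmaCore M) := Nat.cast_pos.2 Nat.card_pos
    have h2 : A * Nat.card ↥(Cfsg.sigmaCore M) ≤ (e : ℝ) * Nat.card L := by
      have h3 : A / Nat.card L ≤ (e : ℝ) / Nat.card ↥(Cfsg.sigmaCore M) := by
        rw [div_eq_inv_mul]; linarith
      rwa [div_le_div_iff₀ hL0 hh] at h3
    rw [hcardL, Nat.cast_mul] at h2
    have hi : ((Kin L).index : ℝ) ≤ Nat.card ↥(Cfsg.sigmaCore M) := Nat.cast_le.2 hidx
    have he0 : (0 : ℝ) ≤ (e : ℝ) * Nat.card (Kin L) := by positivity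
    nlinarith
  -- the arithmetic
  have hk : (Nat.card (Kin L) : ℝ) =
      (Nat.card (commutator (Kin L)) : ℝ) * ((commutator (Kin L)).index : ℕ) := by
    exact_mod_cast (commutator (Kin L)).card_mul_index.symm
  have hn : p + 1 ≤ (commutator (Kin L)).index := by
    refine W.abel_big.trans (le_of_eq ?_)
    rw [← relIndex_top_right, ← Subgroup.relIndex_map_map_of_injective _ _ hφinj, hφc, hφr]
  set n := (commutator (Kin L)).index
  have hk0 : (0 : ℝ) < Nat.card (commutator (Kin L)) := Nat.cast_pos.2 Nat.card_pos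
  rw [hk] at hbound
  have hb : (N : ℝ) ^ 2 * ((n : ℝ) - 1) ≤ (e : ℝ) * n := by
    refine le_of_mul_le_mul_left ?_ hk0
    linarith
  have hb' : N ^ 2 * ((n : ℤ) - 1) ≤ (e : ℤ) * n := by exact_mod_cast hb
  have he2 : 2 * e ≤ p + 1 := W.compl_small
  have heodd : Odd e := hG.1.of_dvd_nat (((Cfsg.sigmaCore M).relIndex_dvd_card M).trans M.card_subgroup_dvd_card)
  have he1 : e ≠ 1 := fun h => CfsgLib.OddLocal.Kap.sigmaCore_ne_self hG W.coatom_M
    (le_antisymm (map_subtype_le _) (relIndex_eq_one.1 h))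
  obtain ⟨m, hm⟩ := heodd
  have he3 : (3 : ℤ) ≤ e := by omega
  obtain ⟨c, hc⟩ := hdiv
  have hsq : ((e : ℤ) - 1) ^ 2 ≤ N ^ 2 := by
    have hN2 : N ^ 2 = ((e : ℤ) + p * c) ^ 2 := by
      rw [← hc]; rcases hε with rfl | rfl <;> ring
    rw [hN2]
    rcases le_or_gt 0 c with h | h
    · nlinarith [mul_nonneg (Int.natCast_nonneg p) h]
    · have hc1 : c ≤ -1 := by omega
      have : (p : ℤ) * c ≤ -(p : ℤ) := by nlinarith
      nlinarith
  have h3 : ((e : ℤ) - 1) ^ 2 * p ≤ (e : ℤ) * (p + 1) := by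
    have hn' : (p : ℤ) + 1 ≤ n := by exact_mod_cast hn
    have hge : (e : ℤ) ≤ ((e : ℤ) - 1) ^ 2 := by nlinarith
    nlinarith [mul_le_mul_of_nonneg_right hsq (show (0 : ℤ) ≤ (n : ℤ) - 1 by omega),
      mul_nonneg (sub_nonneg.2 hge) (show (0 : ℤ) ≤ (n : ℤ) - 1 - p by omega)]
  have he2' : 2 * (e : ℤ) ≤ p + 1 := by exact_mod_cast he2
  nlinarith [mul_nonneg (Int.natCast_nonneg p) (mul_nonneg (Int.natCast_nonneg e) (sub_nonneg.2 he3))]

end CfsgLib.OddEnd
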