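import Cfsg.Agent.OddEnd.Rho
import Cfsg.Agent.Char.DadeIntegral
import Cfsg.Agent.Char.Induction

/-!
Small facts about the Dade map and its adjoint.
-/

set_option autoImplicit false

namespace CfsgLib.OddEnd

universe u

variable {G : Type u} [Group G] {A : Set G} {L : Subgroup G} {R : G → Subgroup G}

theorem dade_sub (α β : L → ℂ) :
    Cfsg.dadeIsometry A L R (α - β) = Cfsg.dadeIsometry A L R α - Cfsg.dadeIsometry A L R β := by
  funext g
  simp only [Cfsg.dadeIsometry, Pi.sub_apply]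
  split_ifs <;> simp

theorem dade_sum_fun {ι : Type*} (s : Finset ι) (α : ι → L → ℂ) :
    Cfsg.dadeIsometry A L R (∑ i ∈ s, α i) = ∑ i ∈ s, Cfsg.dadeIsometry A L R (α i) := by
  funext g
  simp only [Cfsg.dadeIsometry, Finset.sum_apply]
  split_ifs <;> simp

open scoped Classical in
/-- `rho` cut down to `A`. -/
noncomputable def rhoOn (A : Set G) (L : Subgroup G) (R : G → Subgroup G) (χ : G → ℂ) : L → ℂ :=
  fun a => if (a : G) ∈ A then rho L R χ a else 0

theorem rhoOn_of_mem {χ : G → ℂ} {a : L} (ha : (a : G) ∈ A) : rhoOn A L R χ a = rho L R χ a := if_pos ha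

theorem rhoOn_of_not_mem {χ : G → ℂ} {a : L} (ha : (a : G) ∉ A) : rhoOn A L R χ a = 0 := if_neg ha

theorem classInner_dade_rhoOn [Fintype G] [Fintype L] (hD : Cfsg.DadeHypothesis A L R) {α : L → ℂ}
    (hα : Cfsg.IsClassFunction L α) (hαA : ∀ x : L, (x : G) ∉ A → α x = 0) {χ : G → ℂ}
    (hχ : Cfsg.IsClassFunction G χ) :
    Cfsg.classInner (Cfsg.dadeIsometry A L R α) χ = Cfsg.classInner α (rhoOn A L R χ) :=
  CfsgLib.Char.classInner_dadeIsometry hD hα hαA hχ fun _ ha => rhoOn_of_mem ha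

theorem rho_conj_self [Finite G] (hD : Cfsg.DadeHypothesis A L R) {χ : G → ℂ}
    (hχ : Cfsg.IsClassFunction G χ) {a : L} (ha : (a : G) ∈ A) (x : L) :
    rho L R χ (x * a * x⁻¹) = rho L R χ a := by
  simp only [rho, Subgroup.coe_mul, Subgroup.coe_inv]
  rw [CfsgLib.Char.dade_H_conj hD ha x.2, Subgroup.card_map_of_injective (MulAut.conj (x : G)).injective,
    Subgroup.coe_map, finsum_mem_image (g := (MulAut.conj (x : G)).toMonoidHom) fun u _ v _ h => (MulAut.conj (x : G)).injective h]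
  congr 1
  refine finsum_mem_congr rfl fun u _ => ?_
  rw [show (x : G) * (a : G) * (x : G)⁻¹ * (MulAut.conj (x : G)).toMonoidHom u = (x : G) * ((a : G) * u) * (x : G)⁻¹ by
    show (x : G) * (a : G) * (x : G)⁻¹ * ((x : G) * u * (x : G)⁻¹) = _
    group]
  exact hχ _ _

theorem rhoOn_isClassFunction [Finite G] (hD : Cfsg.DadeHypothesis A L R) {χ : G → ℂ}
    (hχ : Cfsg.IsClassFunction G χ) : Cfsg.IsClassFunction L (rhoOn A L R χ) := by
  intro a x
  by_cases ha : (a : G) ∈ A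
  · rw [rhoOn_of_mem ha, rhoOn_of_mem, rho_conj_self hD hχ ha x]
    exact hD.conj_mem x x.2 a ha
  · rw [rhoOn_of_not_mem ha, rhoOn_of_not_mem]
    intro h
    refine ha ?_
    have := hD.conj_mem ((x : G)⁻¹) (L.inv_mem x.2) _ h
    simpa [mul_assoc] using this

/-- A Dade image of a function supported in `B ⊆ A` vanishes off the support of `B`. -/
theorem dade_apply_eq_zero [Finite G] (hD : Cfsg.DadeHypothesis A L R) {α : L → ℂ}
    (hα : Cfsg.IsClassFunction L α) {B : Set G}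
    (hαB : ∀ x : L, (x : G) ∉ B → α x = 0) {g : G}
    (hg : ¬ ∃ a ∈ B, ∃ u ∈ R a, ∃ x : G, x * g * x⁻¹ = a * u) : Cfsg.dadeIsometry A L R α g = 0 := by
  by_cases h : ∃ a ∈ A, ∃ u ∈ R a, ∃ x : G, x * g * x⁻¹ = a * u
  · obtain ⟨a, ha, u, hu, x, hx⟩ := h
    rw [CfsgLib.Char.dadeIsometry_apply hD hα (a := ⟨a, hD.subset ha⟩) ha hu hx]
    exact hαB _ fun hB => hg ⟨a, hB, u, hu, x, hx⟩
  · exact CfsgLib.Char.dadeIsometry_eq_zero hD h

end CfsgLib.OddEnd
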