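import Cfsg.Prelude.Def_OddOrderLocal

/-!
Interfaces of the character-theoretic endgame of the odd order theorem.

Type I is used here in the form `κ(M) = ∅`; the clause of `Cfsg.IsOfTypeI` about `O_{p'}` is not used.
-/

set_option autoImplicit false

namespace CfsgLib.OddEnd

universe u

variable (G : Type u) [Group G]

/-- `M` is a Frobenius group with kernel `M_σ`. -/
def KernelFrobenius {G : Type u} [Group G] (M : Subgroup G) : Prop :=
  ∀ x ∈ Cfsg.sigmaCore M, x ≠ 1 → M ⊓ Subgroup.centralizer ({x} : Set G) ≤ Cfsg.sigmaCore M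

/-- A maximal subgroup supported by one with empty `κ` has empty `κ` itself. -/
def NoSupportedP : Prop :=
  ∀ M L : Subgroup G, IsCoatom M → IsCoatom L → Cfsg.kappa L = ∅ → ∀ x ∈ Cfsg.sigmaCore M, x ≠ 1 →
    ¬ Subgroup.centralizer ({x} : Set G) ≤ M → Subgroup.centralizer ({x} : Set G) ≤ L → Cfsg.kappa M = ∅

/-- Maximal subgroups with empty `κ` are Frobenius groups (Peterfalvi 12.7). -/
def EmptyKappaFrobenius : Prop :=
  ∀ M : Subgroup G, IsCoatom M → Cfsg.kappa M = ∅ → KernelFrobenius M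

/-- The configuration refuted in Peterfalvi 12.8–12.16: `M` is a Frobenius group, `x ∈ M_σ` has order `p`,
and `L` lies over `C(x)` with `M ⊓ L` an abelian complement inside `M_σ`. -/
structure Witness {G : Type u} [Group G] (M L : Subgroup G) (p : ℕ) (x : G) : Prop where
  coatom_M : IsCoatom M
  coatom_L : IsCoatom L
  kappa_M : Cfsg.kappa M = ∅
  kappa_L : Cfsg.kappa L = ∅
  frobenius : KernelFrobenius M
  not_conj : ∀ g : G, L ≠ M.map (MulAut.conj g).toMonoidHom
  mem : x ∈ Cfsg.sigmaCore M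
  order : orderOf x = p
  not_le : ¬ Subgroup.centralizer ({x} : Set G) ≤ M
  le_over : Subgroup.centralizer ({x} : Set G) ≤ L
  compl : Cfsg.IsComplIn (M ⊓ L) (Cfsg.sigmaCore L) L
  meet_le : M ⊓ L ≤ Cfsg.sigmaCore M
  meet_comm : IsMulCommutative ↥(M ⊓ L)
  fixed_not_le : ¬ Cfsg.sigmaCore L ⊓ Subgroup.centralizer ({x} : Set G) ≤ ⁅Cfsg.sigmaCore L, Cfsg.sigmaCore L⁆
  compl_small : 2 * (Cfsg.sigmaCore M).relIndex M ≤ p + 1
  sq_le : p ^ 2 ≤ Nat.card ↥(Cfsg.sigmaCore M)
  abel_big : p + 1 ≤ ⁅Cfsg.sigmaCore L, Cfsg.sigmaCore L⁆.relIndex (Cfsg.sigmaCore L)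

end CfsgLib.OddEnd
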