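import Cfsg.Agent.OddEnd.ElevenForm

/-!
Peterfalvi 11.7: `H` is elementary abelian of order `p ^ q`, and irreducible or a sum of lines under `U`.
-/

set_option autoImplicit false
set_option linter.unusedSectionVars false
set_option linter.style.haveILetI false

namespace CfsgLib.OddEnd

open Subgroup CfsgLib.OddLocal
open scoped commutatorElement

universe u

variable {G : Type u} [Group G] [Finite G]

/-- A commutator with central values is multiplicative on the right. -/
theorem central_commutator_mul {x y z : G} (hy : ∀ c, c = ⁅x, z⁆ → y * c = c * y) :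
    ⁅x, y * z⁆ = ⁅x, y⁆ * ⁅x, z⁆ := by
  have h := hy _ rfl
  calc ⁅x, y * z⁆ = ⁅x, y⁆ * (y * ⁅x, z⁆ * y⁻¹) := by simp [commutatorElement_def, mul_assoc]
    _ = ⁅x, y⁆ * ⁅x, z⁆ := by rw [h, mul_inv_cancel_right]

namespace Three

variable {M W₁ U W₂ : Subgroup G} (hT : Three M W₁ U W₂) (hG : Cfsg.IsMinSimpleOddOrder G)
include hT hG

theorem normalizer_of_between {N : Subgroup G}
    (h0 : ⁅Cfsg.fittingHallOf M, Cfsg.fittingHallOf M⁆ ≤ N) (hN : N ≤ Cfsg.fittingHallOf M) :
    Cfsg.fittingHallOf M ≤ normalizer (N : Set G) :=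
  CfsgLib.Signalizer.le_normalizer_of_conj_mem fun a ha b hb => by
    rw [show a * b * a⁻¹ = ⁅a, b⁆ * b by simp [commutatorElement_def, mul_assoc]]
    exact N.mul_mem (h0 (commutator_mem_commutator ha (hN hb))) hb

/-- `U` is irreducible on `H/H'`, or `H/H'` is generated by the `W₁`-conjugates of a `U`-invariant line. -/
theorem galois_or_line (hd : ⁅⁅M, M⁆, ⁅M, M⁆⁆ = Cfsg.fittingOf M) :
    (∀ N : Subgroup G, ⁅Cfsg.fittingHallOf M, Cfsg.fittingHallOf M⁆ ≤ N → N ≤ Cfsg.fittingHallOf M →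
        U ≤ normalizer (N : Set G) →
        N = ⁅Cfsg.fittingHallOf M, Cfsg.fittingHallOf M⁆ ∨ N = Cfsg.fittingHallOf M) ∨
      ∃ L : Subgroup G, ⁅Cfsg.fittingHallOf M, Cfsg.fittingHallOf M⁆ ≤ L ∧ L ≤ Cfsg.fittingHallOf M ∧
        U ≤ normalizer (L : Set G) ∧
        (⁅Cfsg.fittingHallOf M, Cfsg.fittingHallOf M⁆ : Subgroup G).relIndex L = Nat.card W₂ ∧
        (⨆ a ∈ W₁, L.map (MulAut.conj a).toMonoidHom) = Cfsg.fittingHallOf M := by
  classical
  haveI := Fintype.ofFinite G
  set H := Cfsg.fittingHallOf M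
  set D := ⁅H, H⁆
  have hp := hT.prime_right hG
  have hUn : U ≤ normalizer (H : Set G) := hT.UH hG
  have hidx := hT.index_derived hG hd
  have hDH : D ≤ H := hT.H_der_le hG
  let P : Subgroup G → Prop := fun N => D ≤ N ∧ N ≤ H ∧ U ≤ normalizer (N : Set G) ∧ N ≠ D
  have hHP : P H := ⟨hDH, le_rfl, hUn, fun e => by
    have h1 : D.relIndex H = 1 := relIndex_eq_one.2 e.le
    rw [hidx] at h1
    exact absurd h1 (Nat.one_lt_pow (hT.prime_left hG).pos.ne' hp.one_lt).ne'⟩
  obtain ⟨L, hL, hmin⟩ := Finset.exists_min_image (Finset.univ.filter P) (fun N => Nat.card N)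
    ⟨H, Finset.mem_filter.2 ⟨Finset.mem_univ _, hHP⟩⟩
  obtain ⟨hDL, hLH, hUL, hne⟩ := (Finset.mem_filter.1 hL).2
  by_cases hLeq : L = H
  · refine Or.inl fun N h0 hN hU => or_iff_not_imp_left.2 fun hND => ?_
    refine eq_of_le_of_card_ge hN ?_
    exact hLeq ▸ hmin N (Finset.mem_filter.2 ⟨Finset.mem_univ _, h0, hN, hU, hND⟩)
  refine Or.inr ⟨L, hDL, hLH, hUL, ?_⟩
  let c : G → Subgroup G := fun a => L.map (MulAut.conj a).toMonoidHom
  have hHM := FittingHall.of_le M
  have hWM := hT.left_le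
  have hWH : ∀ a ∈ W₁, H.map (MulAut.conj a).toMonoidHom = H := fun a ha =>
    mem_normalizer_iff_map_conj_eq.1 (FittingHall.le_normalizer_of M (hWM ha))
  have hWD : ∀ a ∈ W₁, D.map (MulAut.conj a).toMonoidHom = D := fun a ha =>
    mem_normalizer_iff_map_conj_eq.1 (hT.H_der_normal hG (hWM ha))
  have hc : ∀ a ∈ W₁, P (c a) ∧ Nat.card (c a) = Nat.card L := fun a ha => by
    refine ⟨⟨(hWD a ha) ▸ map_mono hDL, (hWH a ha) ▸ map_mono hLH, ?_, fun e => hne ?_⟩,
      card_map_of_injective (MulAut.conj a).injective⟩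
    · intro u hu
      have hu' : a⁻¹ * u * a ∈ U := by
        have := (mem_normalizer_iff.1 (inv_mem (hT.typeP.U_normal ha)) u).1 hu
        rwa [inv_inv] at this
      refine mem_normalizer_iff_map_conj_eq.2 ?_
      show (L.map (MulAut.conj a).toMonoidHom).map (MulAut.conj u).toMonoidHom = L.map (MulAut.conj a).toMonoidHom
      rw [TH.map_conj_map_conj, show u * a = a * (a⁻¹ * u * a) by group, ← TH.map_conj_map_conj,
        show L.map (MulAut.conj (a⁻¹ * u * a)).toMonoidHom = L from mem_normalizer_iff_map_conj_eq.1 (hUL hu')]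
    · exact map_injective (MulAut.conj a).injective (e.trans (hWD a ha).symm)
  set S : Subgroup G := ⨆ a ∈ W₁, c a
  have hcS : ∀ a ∈ W₁, c a ≤ S := fun a ha => le_iSup₂_of_le a ha le_rfl
  have hSH : S ≤ H := iSup₂_le fun a ha => (hc a ha).1.2.1
  have hone : c 1 = L := by
    show L.map (MulAut.conj 1).toMonoidHom = L
    ext x; simp
  have hLS : L ≤ S := hone.symm.le.trans (hcS 1 W₁.one_mem)
  have hDS : D ≤ S := hDL.trans hLS
  have hSM : M ≤ normalizer (S : Set G) := by
    intro m hm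
    obtain ⟨d, hd', w, hw, rfl⟩ := hT.typeP.W₁_compl.2.2.2 m hm
    obtain ⟨x, hx, v, hv, rfl⟩ := hT.typeP.U_compl.2.2.2 d hd'
    refine mul_mem (mul_mem (hT.normalizer_of_between hG hDS hSH hx) ?_) ?_
    · refine mem_normalizer_iff_map_conj_eq.2 ?_
      show S.map (MulAut.conj v).toMonoidHom = S
      simp only [S, Subgroup.map_iSup]
      refine iSup_congr fun a => iSup_congr fun ha => ?_
      exact mem_normalizer_iff_map_conj_eq.1 ((hc a ha).1.2.2.1 hv)
    · refine mem_normalizer_iff_map_conj_eq.2 ?_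
      show S.map (MulAut.conj w).toMonoidHom = S
      simp only [S, Subgroup.map_iSup]
      refine le_antisymm (iSup₂_le fun a ha => ?_) (iSup₂_le fun a ha => ?_)
      · show (L.map (MulAut.conj a).toMonoidHom).map (MulAut.conj w).toMonoidHom ≤ _
        rw [TH.map_conj_map_conj]
        exact le_iSup₂_of_le (w * a) (W₁.mul_mem hw ha) le_rfl
      · refine le_iSup₂_of_le (w⁻¹ * a) (W₁.mul_mem (W₁.inv_mem hw) ha) ?_
        show c a ≤ (L.map (MulAut.conj (w⁻¹ * a)).toMonoidHom).map (MulAut.conj w).toMonoidHom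
        rw [TH.map_conj_map_conj, mul_inv_cancel_left]
  have hS : S = H := (hT.section_minimal hG hd hDS hSH hSM).resolve_left fun e =>
    hne (le_antisymm (le_of_le_of_eq hLS e) hDL)
  refine ⟨?_, hS⟩
  -- a largest independent family of conjugates
  set l := D.relIndex L
  let sp : Finset G → Subgroup G := fun s => D ⊔ ⨆ a ∈ s, c a
  let T : Finset (Finset G) := Finset.univ.filter fun s =>
    (∀ a ∈ s, a ∈ W₁) ∧ D.relIndex (sp s) = l ^ s.card
  obtain ⟨s, hs, hsmax⟩ := T.exists_max_image Finset.card ⟨∅, Finset.mem_filter.2 ⟨Finset.mem_univ _, by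
    simp [sp, relIndex_self]⟩⟩
  obtain ⟨hsW, hsc⟩ := (Finset.mem_filter.1 hs).2
  have hspH : sp s ≤ H := sup_le hDH (iSup₂_le fun a ha => (hc a (hsW a ha)).1.2.1)
  have hspU : U ≤ normalizer (sp s : Set G) := fun u hu => by
    refine mem_normalizer_iff_map_conj_eq.2 ?_
    show (D ⊔ ⨆ a ∈ s, c a).map (MulAut.conj u).toMonoidHom = D ⊔ ⨆ a ∈ s, c a
    simp only [Subgroup.map_sup, Subgroup.map_iSup]
    rw [show D.map (MulAut.conj u).toMonoidHom = D from
      mem_normalizer_iff_map_conj_eq.1 (hT.H_der_normal hG (hT.U_le_M hG hu))]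
    congr 1
    exact iSup_congr fun a => iSup_congr fun ha => mem_normalizer_iff_map_conj_eq.1 ((hc a (hsW a ha)).1.2.2.1 hu)
  have hfull : sp s = H := by
    by_contra hne'
    obtain ⟨a, ha, hna⟩ : ∃ a ∈ W₁, ¬ c a ≤ sp s := by
      by_contra h
      push Not at h
      exact hne' (le_antisymm hspH (hS.ge.trans (iSup₂_le h)))
    obtain ⟨⟨hDa, haH, hUa, -⟩, hcarda⟩ := hc a ha
    have hinf : c a ⊓ sp s = D := by
      by_contra h
      have hP : P (c a ⊓ sp s) := ⟨le_inf hDa le_sup_left, inf_le_left.trans haH,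
        (le_inf hUa hspU).trans inf_normalizer_le_normalizer_inf, h⟩
      have hle := hmin _ (Finset.mem_filter.2 ⟨Finset.mem_univ _, hP⟩)
      rw [← hcarda] at hle
      exact hna ((eq_of_le_of_card_ge inf_le_left hle).ge.trans inf_le_right)
    have has : a ∉ s := fun h => hna (le_sup_of_le_right (le_iSup₂_of_le a h le_rfl))
    have hsp : sp (insert a s) = c a ⊔ sp s := by
      simp only [sp, Finset.iSup_insert]
      rw [← sup_assoc, sup_comm D, sup_assoc]
    have hnorm : c a ≤ normalizer (sp s : Set G) :=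
      haH.trans (hT.normalizer_of_between hG le_sup_left hspH)
    have hnew : D.relIndex (sp (insert a s)) = l ^ (insert a s).card := by
      have hla : D.relIndex (c a) = l := by
        rw [show l = (D.map (MulAut.conj a).toMonoidHom).relIndex (c a) from
          (relIndex_map_map_of_injective D L (MulAut.conj a).injective).symm, hWD a ha]
      have hrel : (sp s).relIndex (c a ⊔ sp s) = D.relIndex (c a) := by
        set X := c a ⊔ sp s
        haveI : ((sp s).subgroupOf X).Normal :=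
          (normal_subgroupOf_iff_le_normalizer le_sup_right).2 (sup_le hnorm le_normalizer)
        have h := relIndex_sup_right (H := (c a).subgroupOf X) (K := (sp s).subgroupOf X)
        rw [← subgroupOf_sup le_sup_left le_sup_right, relIndex_subgroupOf le_rfl,
          relIndex_subgroupOf le_sup_left] at h
        rw [h, ← inf_relIndex_right, inf_comm, hinf]
      rw [hsp, ← relIndex_mul_relIndex D (sp s) _ le_sup_left le_sup_right, hsc, hrel, hla,
        Finset.card_insert_of_notMem has, pow_succ]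
    have := hsmax _ (Finset.mem_filter.2 ⟨Finset.mem_univ _, fun b hb => by
      rcases Finset.mem_insert.1 hb with rfl | hb
      · exact ha
      · exact hsW b hb, hnew⟩)
    rw [Finset.card_insert_of_notMem has] at this
    omega
  rw [hfull, hidx] at hsc
  have hl : l ∣ Nat.card W₂ ^ Nat.card W₁ := hidx ▸
    ⟨L.relIndex H, (relIndex_mul_relIndex D L H hDL hLH).symm⟩
  obtain ⟨i, -, hi⟩ := (Nat.dvd_prime_pow hp).1 hl
  rw [hi, ← pow_mul] at hsc
  have hiq : Nat.card W₁ = i * s.card := Nat.pow_right_injective hp.two_le hsc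
  rcases (Nat.dvd_prime (hT.prime_left hG)).1 ⟨s.card, hiq⟩ with h1 | h1
  · rw [hi, h1, pow_one]
  · refine absurd (le_antisymm hLH (relIndex_eq_one.1 ?_)) hLeq
    refine Nat.eq_of_mul_eq_mul_left (Nat.pos_of_dvd_of_pos (relIndex_dvd_card D L) Nat.card_pos) ?_
    rw [relIndex_mul_relIndex D L H hDL hLH, hidx, mul_one, ← h1, ← hi]

theorem derived_eq_bot (hd : ⁅⁅M, M⁆, ⁅M, M⁆⁆ = Cfsg.fittingOf M) :
    ⁅Cfsg.fittingHallOf M, Cfsg.fittingHallOf M⁆ = ⊥ := by
  classical
  by_contra hne
  set H := Cfsg.fittingHallOf M with hH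
  set D := ⁅H, H⁆ with hDdef
  set p := Nat.card W₂
  have hp := hT.prime_right hG
  haveI := Fact.mk hp
  have hDH : D ≤ H := hT.H_der_le hG
  have hcent := hT.derived_central hG hd
  have hfixU := hT.derived_le_centralizer hG
  have hidx := hT.index_derived hG hd
  have hcomm : ∀ {z}, z ∈ D → ∀ {x}, x ∈ H → x * z = z * x := fun {z} hz {x} hx =>
    mem_centralizer_iff.1 (hcent hz) x hx
  have hbi : ∀ {x y z}, x ∈ H → y ∈ H → z ∈ H → ⁅x, y * z⁆ = ⁅x, y⁆ * ⁅x, z⁆ := fun hx hy hz =>
    central_commutator_mul fun c hc => hc ▸ hcomm (commutator_mem_commutator hx hz) hy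
  have hbi' : ∀ {x y z}, x ∈ H → y ∈ H → z ∈ H → ⁅x * y, z⁆ = ⁅x, z⁆ * ⁅y, z⁆ := fun {x y z} hx hy hz => by
    rw [← commutatorElement_inv z (x * y), hbi hz hx hy, mul_inv_rev, commutatorElement_inv,
      commutatorElement_inv]
    exact hcomm (commutator_mem_commutator hx hz) (hDH (commutator_mem_commutator hy hz))
  have hUfix : ∀ {u}, u ∈ U → ∀ {z}, z ∈ D → u * z * u⁻¹ = z := fun {u} hu {z} hz => by
    rw [mem_centralizer_iff.1 (hfixU hz) u hu, mul_inv_cancel_right]
  rcases hT.galois_or_line hG hd with hgal | ⟨L, hDL, hLH, hUL, hLp, hsup⟩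
  · -- irreducible case: an invariant alternating pairing on an odd-dimensional space
    have hpD : IsPGroup p D := (hT.isPGroup_H hG hd).to_le hDH
    obtain ⟨n, hn⟩ := hpD.exists_card_eq
    have hn0 : n ≠ 0 := fun e => hne (eq_bot_of_card_eq _ (by rw [hn, e, pow_zero]))
    haveI : IsMulCommutative D := ⟨⟨fun a b => Subtype.ext (hcomm b.2 (hDH a.2))⟩⟩
    letI : CommGroup D := { (inferInstance : Group D) with
      mul_comm := fun a b => Subtype.ext (hcomm b.2 (hDH a.2)) }
    obtain ⟨K, hK⟩ := Sylow.exists_subgroup_card_pow_prime (G := D) p (n := n - 1)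
      (by rw [hn]; exact pow_dvd_pow _ (Nat.sub_le _ _))
    have hZ : Nat.card (D ⧸ K) = p := by
      have h := K.card_mul_index
      rw [hK, hn, index_eq_card] at h
      refine Nat.eq_of_mul_eq_mul_left (pow_pos hp.pos (n - 1)) (h.trans ?_)
      rw [← pow_succ]; congr 1; omega
    set π := QuotientGroup.mk' K
    let B : H →* H →* D ⧸ K :=
      { toFun := fun x =>
          { toFun := fun y => π ⟨⁅(x : G), (y : G)⁆, commutator_mem_commutator x.2 y.2⟩
            map_one' := by
              rw [show (⟨⁅(x : G), ((1 : H) : G)⁆, _⟩ : D) = 1 from Subtype.ext (commutatorElement_one_right _)]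
              exact _root_.map_one π
            map_mul' := fun y z => by
              rw [← _root_.map_mul]
              exact congrArg π (Subtype.ext (hbi x.2 y.2 z.2)) }
        map_one' := MonoidHom.ext fun y => by
          show π _ = 1
          rw [show (⟨⁅((1 : H) : G), (y : G)⁆, _⟩ : D) = 1 from Subtype.ext (commutatorElement_one_left _)]
          exact _root_.map_one π
        map_mul' := fun x y => MonoidHom.ext fun z => by
          show π _ = π _ * π _
          rw [← _root_.map_mul]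
          exact congrArg π (Subtype.ext (hbi' x.2 y.2 z.2)) }
    have halt : ∀ x, B x x = 1 := fun x => by
      show π _ = 1
      rw [show (⟨⁅(x : G), (x : G)⁆, _⟩ : D) = 1 from Subtype.ext (commutatorElement_self _)]
      exact _root_.map_one π
    set R := (pairRad B ⊤).map H.subtype
    have hRH : R ≤ H := map_subtype_le _
    have hDR : D ≤ R := fun z hz => ⟨⟨z, hDH hz⟩, ⟨mem_top _, fun y _ => by
      show π _ = 1
      rw [show (⟨⁅z, (y : G)⁆, _⟩ : D) = 1 from Subtype.ext
        (commutatorElement_eq_one_iff_mul_comm.2 (hcomm hz y.2).symm)]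
      exact _root_.map_one π⟩, rfl⟩
    have hUR : U ≤ normalizer (R : Set G) := CfsgLib.Signalizer.le_normalizer_of_conj_mem fun u hu r hr => by
      obtain ⟨x, ⟨-, hx⟩, rfl⟩ := hr
      have hxu : u * (x : G) * u⁻¹ ∈ H := (mem_normalizer_iff.1 (hT.UH hG hu) _).1 x.2
      refine ⟨⟨_, hxu⟩, ⟨mem_top _, fun y _ => ?_⟩, rfl⟩
      have hy' : u⁻¹ * (y : G) * u ∈ H := by
        have := (mem_normalizer_iff.1 (inv_mem (hT.UH hG hu)) _).1 y.2
        rwa [inv_inv] at this
      refine (show π _ = π _ from congrArg π (Subtype.ext ?_)).trans (hx ⟨_, hy'⟩ (mem_top _))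
      show ⁅u * (x : G) * u⁻¹, (y : G)⁆ = ⁅(x : G), u⁻¹ * (y : G) * u⁆
      rw [show ⁅u * (x : G) * u⁻¹, (y : G)⁆ = u * ⁅(x : G), u⁻¹ * (y : G) * u⁆ * u⁻¹ by
        simp only [commutatorElement_def]; group]
      exact hUfix hu (commutator_mem_commutator x.2 hy')
    rcases hgal R hDR hRH hUR with hR | hR
    · obtain ⟨k, hk⟩ := isSquare_pairRad_relIndex hp hZ B halt ⊤
      have h1 : R.relIndex H = (pairRad B ⊤).relIndex ⊤ := by
        rw [relIndex, show R.subgroupOf H = pairRad B ⊤ from comap_map_eq_self_of_injective H.subtype_injective _,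
          relIndex_top_right]
      rw [hR, hidx, hk] at h1
      obtain ⟨i, -, hi⟩ := (Nat.dvd_prime_pow hp).1 (⟨k, h1⟩ : k ∣ p ^ Nat.card W₁)
      rw [hi, ← pow_add] at h1
      have he := Nat.pow_right_injective hp.two_le h1
      obtain ⟨j, hj⟩ := hG.1.of_dvd_nat W₁.card_subgroup_dvd_card
      omega
    · have hall : ∀ d : D, π d = 1 := fun d => by
        have hle : D ≤ K.map D.subtype := commutator_le.2 fun x hx y hy => by
          obtain ⟨x', ⟨-, hx'⟩, e⟩ := hR.ge hx
          have e' : (x' : G) = x := e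
          refine ⟨⟨⁅x, y⁆, commutator_mem_commutator hx hy⟩, ?_, rfl⟩
          have := hx' ⟨y, hy⟩ (mem_top _)
          rw [show x' = ⟨x, hx⟩ from Subtype.ext e'] at this
          exact (QuotientGroup.eq_one_iff _).1 this
        obtain ⟨d', hd', e⟩ := hle d.2
        exact (QuotientGroup.eq_one_iff _).2 ((show d' = d from Subtype.ext e) ▸ hd')
      haveI : Subsingleton (D ⧸ K) := ⟨fun a b => by
        obtain ⟨a, rfl⟩ := QuotientGroup.mk_surjective a
        obtain ⟨b, rfl⟩ := QuotientGroup.mk_surjective b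
        exact (hall a).trans (hall b).symm⟩
      exact hp.ne_one (hZ.symm.trans (Nat.card_of_subsingleton (1 : D ⧸ K)))
  · -- lines: two of them can only pair through inverse characters
    haveI : (D.subgroupOf L).Normal :=
      (normal_subgroupOf_iff_le_normalizer hDL).2 (hLH.trans (hT.normalizer_of_between hG le_rfl hDH))
    obtain ⟨x, hx, hxD⟩ : ∃ x ∈ L, x ∉ D := Set.not_subset.1 fun h =>
      hp.ne_one (hLp.symm.trans (relIndex_eq_one.2 h))
    have hxH := hLH hx
    have hexp : ∀ y ∈ L, ∃ n : ℤ, ∃ z ∈ D, y = x ^ n * z := fun y hy => by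
      have hne1 : (QuotientGroup.mk' (D.subgroupOf L)) ⟨x, hx⟩ ≠ 1 := fun h =>
        hxD ((QuotientGroup.eq_one_iff (⟨x, hx⟩ : L)).1 h)
      obtain ⟨n, hn⟩ := mem_zpowers_iff.1 ((zpowers_eq_top_of_prime_card hLp hne1).ge
        (mem_top (QuotientGroup.mk' (D.subgroupOf L) ⟨y, hy⟩)))
      rw [← map_zpow] at hn
      exact ⟨n, x ^ (-n) * y, by simpa [Subgroup.mem_subgroupOf] using (QuotientGroup.eq.1 hn), by group⟩
    have hU' : ∀ u : U, ∃ n : ℤ, ∃ z ∈ D, (u : G) * x * (u : G)⁻¹ = x ^ n * z := fun u =>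
      hexp _ ((mem_normalizer_iff.1 (hUL u.2) x).1 hx)
    choose n zz hzz hn using hU'
    have hzc : ∀ {y z}, y ∈ H → z ∈ D → ⁅y, z⁆ = 1 := fun hy hz =>
      commutatorElement_eq_one_iff_mul_comm.2 (hcomm hz hy)
    have hpow1 : ∀ {y z}, y ∈ H → z ∈ H → ∀ k : ℤ, ⁅y, z ^ k⁆ = ⁅y, z⁆ ^ k := fun {y z} hy hz k => by
      have hk : ∀ m : ℕ, ⁅y, z ^ m⁆ = ⁅y, z⁆ ^ m := fun m => by
        induction m with
        | zero => simp
        | succ m ih => rw [pow_succ, hbi hy (H.pow_mem hz m) hz, ih, pow_succ]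
      cases k with
      | ofNat m => simpa using hk m
      | negSucc m =>
        rw [zpow_negSucc, zpow_negSucc]
        have h := hbi hy (H.inv_mem (H.pow_mem hz (m + 1))) (H.pow_mem hz (m + 1))
        rw [inv_mul_cancel, commutatorElement_one_right, hk] at h
        exact eq_inv_of_mul_eq_one_left h.symm
    have hpow2 : ∀ {y z}, y ∈ H → z ∈ H → ∀ k : ℤ, ⁅y ^ k, z⁆ = ⁅y, z⁆ ^ k := fun {y z} hy hz k => by
      rw [← commutatorElement_inv z, hpow1 hz hy, ← inv_zpow, commutatorElement_inv]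
    -- `n` is multiplicative modulo `p`
    have hxp : x ^ p ∈ D := hT.pow_mem_derived hG hd hxH
    have hordx : ∀ k : ℤ, x ^ k ∈ D → (p : ℤ) ∣ k := fun k hk => by
      by_contra hk'
      have hpr := (Nat.prime_iff_prime_int.1 hp)
      obtain ⟨a, b, hab⟩ : IsCoprime k (p : ℤ) := ((hpr.coprime_iff_not_dvd).2 hk').symm
      refine hxD ?_
      have : x = (x ^ k) ^ a * (x ^ p) ^ b := by
        rw [← zpow_natCast x p, ← zpow_mul, ← zpow_mul, ← zpow_add,
          show k * a + (p : ℤ) * b = 1 by linarith, zpow_one]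
      rw [this]
      exact D.mul_mem (D.zpow_mem hk a) (D.zpow_mem hxp b)
    have hpair : ∀ w ∈ W₁, ⁅x, w * x * w⁻¹⁆ = 1 := by
      intro w hw
      by_contra hc1
      have hwn := hT.typeP.U_normal hw
      set y := w * x * w⁻¹ with hy
      have hyH : y ∈ H := (mem_normalizer_iff.1 (FittingHall.le_normalizer_of M (hT.left_le hw)) x).1 hxH
      set c := ⁅x, y⁆ with hcdef
      have hcD : c ∈ D := commutator_mem_commutator hxH hyH
      have hcp : c ^ (p : ℤ) = 1 := by
        rw [hcdef, ← hpow2 hxH hyH, zpow_natCast]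
        exact commutatorElement_eq_one_iff_mul_comm.2 (hcomm hxp hyH).symm
      have hord : orderOf c = p := orderOf_eq_prime (by exact_mod_cast hcp) hc1
      let tw : U → U := fun u => ⟨w⁻¹ * u * w, by
        have := (mem_normalizer_iff.1 (inv_mem hwn) (u : G)).1 u.2
        rwa [inv_inv] at this⟩
      have hprod : ∀ u : U, (p : ℤ) ∣ n u * n (tw u) - 1 := fun u => by
        have h1 := hUfix u.2 hcD
        rw [show (u : G) * c * (u : G)⁻¹ = ⁅(u : G) * x * (u : G)⁻¹, (u : G) * y * (u : G)⁻¹⁆ by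
            simp [hcdef, commutatorElement_def, mul_assoc],
          show (u : G) * y * (u : G)⁻¹ = w * ((tw u : G) * x * (tw u : G)⁻¹) * w⁻¹ by
            simp [hy, tw]; group,
          hn u, hn (tw u)] at h1
        have hzw : w * zz (tw u) * w⁻¹ ∈ D :=
          (mem_normalizer_iff.1 (hT.H_der_normal hG (hT.left_le hw)) _).1 (hzz _)
        rw [show w * (x ^ n (tw u) * zz (tw u)) * w⁻¹ = y ^ n (tw u) * (w * zz (tw u) * w⁻¹) by
            rw [hy, conj_zpow]; group,
          hbi (H.mul_mem (H.zpow_mem hxH _) (hDH (hzz u))) (H.zpow_mem hyH _) (hDH hzw),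
          hzc (H.mul_mem (H.zpow_mem hxH _) (hDH (hzz u))) hzw, mul_one,
          hbi' (H.zpow_mem hxH _) (hDH (hzz u)) (H.zpow_mem hyH _),
          show ⁅zz u, y ^ n (tw u)⁆ = 1 from commutatorElement_eq_one_iff_mul_comm.2
            (hcomm (hzz u) (H.zpow_mem hyH _)).symm,
          mul_one, hpow1 (H.zpow_mem hxH _) hyH, hpow2 hxH hyH, ← zpow_mul] at h1
        rw [← hord]
        exact orderOf_dvd_sub_iff_zpow_eq_zpow.2 (h1.trans (zpow_one c).symm)
      have hcast : ∀ u, ((n u : ZMod p)) * (n (tw u) : ZMod p) = 1 := fun u => by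
        have := (ZMod.intCast_zmod_eq_zero_iff_dvd _ p).2 (hprod u)
        push_cast at this
        exact sub_eq_zero.1 this
      have htw2 : ∀ (k : ℕ) u, (n ((tw^[2 * k]) u) : ZMod p) = n u := fun k => by
        induction k with
        | zero => simp
        | succ k ih =>
          intro u
          rw [show 2 * (k + 1) = 2 * k + 2 by ring, Function.iterate_add_apply, ih (tw^[2] u)]
          have h1 := hcast u
          have h2 := hcast (tw u)
          show (n (tw (tw u)) : ZMod p) = n u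
          calc (n (tw (tw u)) : ZMod p) = ((n u : ZMod p) * n (tw u)) * n (tw (tw u)) := by rw [h1, one_mul]
            _ = (n u : ZMod p) * ((n (tw u) : ZMod p) * n (tw (tw u))) := by ring
            _ = n u := by rw [h2, mul_one]
      have htwit : ∀ (k : ℕ) u, ((tw^[k] u : U) : G) = (w ^ k)⁻¹ * u * w ^ k := fun k => by
        induction k with
        | zero => simp
        | succ k ih =>
          intro u
          rw [Function.iterate_succ_apply, ih (tw u)]
          show (w ^ k)⁻¹ * (w⁻¹ * u * w) * w ^ k = _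
          rw [pow_succ']; group
      obtain ⟨j, hj⟩ := hG.1.of_dvd_nat W₁.card_subgroup_dvd_card
      have hwq : w ^ Nat.card W₁ = 1 :=
        orderOf_dvd_iff_pow_eq_one.1 (Subgroup.orderOf_dvd_natCard W₁ hw)
      have hsame : ∀ u, (n (tw u) : ZMod p) = n u := fun u => by
        rw [← htw2 (j + 1) u]
        congr 2
        refine Subtype.ext ?_
        rw [htwit, show 2 * (j + 1) = Nat.card W₁ + 1 by omega, pow_succ, hwq, one_mul]
      have hsq : ∀ u, (n u : ZMod p) * n u = 1 := fun u => by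
        have h := hcast u; rwa [hsame] at h
      have hmul : ∀ u v : U, (n (u * v) : ZMod p) = n u * n v := fun u v => by
        refine (ZMod.intCast_eq_intCast_iff_dvd_sub _ _ p).2 ?_ |>.trans (Int.cast_mul _ _)
        refine hordx _ ?_
        have e1 := hn (u * v)
        have e2 : ((u * v : U) : G) * x * ((u * v : U) : G)⁻¹ = (u : G) * ((v : G) * x * (v : G)⁻¹) * (u : G)⁻¹ := by
          simp [mul_assoc]
        rw [e2, hn v, show (u : G) * (x ^ n v * zz v) * (u : G)⁻¹
            = ((u : G) * x * (u : G)⁻¹) ^ n v * ((u : G) * zz v * (u : G)⁻¹) by rw [conj_zpow]; group,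
          hUfix u.2 (hzz v), hn u,
          (show Commute (x ^ n u) (zz u) from (hcomm (hzz u) (H.zpow_mem hxH _))).mul_zpow, ← zpow_mul] at e1
        rw [show x ^ (n u * n v - n (u * v)) = x ^ (n u * n v) * (x ^ n (u * v))⁻¹ by
          rw [zpow_sub]]
        have e3 : x ^ n (u * v) = x ^ (n u * n v) * (zz u ^ n v * zz v * (zz (u * v))⁻¹) := by
          rw [← mul_assoc, ← mul_assoc, e1, mul_inv_cancel_right]
        rw [e3, mul_inv_rev]
        have hzD : zz u ^ n v * zz v * (zz (u * v))⁻¹ ∈ D :=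
          D.mul_mem (D.mul_mem (D.zpow_mem (hzz u) _) (hzz v)) (D.inv_mem (hzz _))
        rw [← mul_assoc]
        have hc2 := hcomm (D.inv_mem hzD) (H.zpow_mem hxH (n u * n v))
        rw [hc2, mul_assoc, mul_inv_cancel, mul_one]
        exact D.inv_mem hzD
      have hone : ∀ u : U, (n u : ZMod p) = 1 := fun u => by
        obtain ⟨i, hi⟩ := hG.1.of_dvd_nat (Subgroup.card_subgroup_dvd_card U)
        have hu1 : u ^ (2 * i + 1) = 1 := hi ▸ pow_card_eq_one'
        have hueq : u = (u ^ (i + 1)) * (u ^ (i + 1)) := by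
          rw [← pow_add, show i + 1 + (i + 1) = 2 * i + 1 + 1 by ring, pow_succ, hu1, one_mul]
        rw [hueq, hmul]
        exact hsq _
      -- then `U` centralizes `H / H'`
      refine hT.not_commutator_le_derived hG (commutator_le.2 fun h hh u hu => ?_)
      rw [← commutatorElement_inv u h]
      refine D.inv_mem ?_
      haveI : (D.subgroupOf M).Normal :=
        (normal_subgroupOf_iff_le_normalizer (hDH.trans (FittingHall.of_le M))).2 (hT.H_der_normal hG)
      set f := QuotientGroup.mk' (D.subgroupOf M)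
      have hfx : ∀ v : U, f ⟨v, hT.U_le_M hG v.2⟩ * f ⟨x, FittingHall.of_le M hxH⟩ =
          f ⟨x, FittingHall.of_le M hxH⟩ * f ⟨v, hT.U_le_M hG v.2⟩ := fun v => by
        rw [← _root_.map_mul, ← _root_.map_mul]
        refine (QuotientGroup.eq).2 (Subgroup.mem_subgroupOf.2 ?_)
        show ((v : G) * x)⁻¹ * (x * v) ∈ D
        obtain ⟨m, hm⟩ := (ZMod.intCast_zmod_eq_zero_iff_dvd (n v - 1) p).1 (by push_cast; rw [hone v, sub_self])
        have hvx : (v : G) * x * (v : G)⁻¹ * x⁻¹ ∈ D := by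
          rw [hn v, show n v = (p : ℤ) * m + 1 by omega, zpow_add, zpow_one, zpow_mul, zpow_natCast]
          have := D.mul_mem (D.zpow_mem hxp m) (hzz v)
          rw [show (x ^ p) ^ m * x * zz v * x⁻¹ = (x ^ p) ^ m * zz v by
            rw [mul_assoc _ x, hcomm (hzz v) hxH, ← mul_assoc, mul_inv_cancel_right]]
          exact this
        rw [show ((v : G) * x)⁻¹ * (x * v) = x⁻¹ * ((v : G)⁻¹ * ((v : G) * x * (v : G)⁻¹ * x⁻¹)⁻¹ * v) * x by group]
        have h6 : (v : G)⁻¹ * ((v : G) * x * (v : G)⁻¹ * x⁻¹)⁻¹ * v ∈ D :=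
          (mem_normalizer_iff''.1 ((hT.U_le_M hG).trans (hT.H_der_normal hG) v.2) _).1 (D.inv_mem hvx)
        exact (mem_normalizer_iff''.1 (((FittingHall.of_le M).trans (hT.H_der_normal hG)) hxH) _).1 h6
      have hle : H ≤ ((centralizer ((U.subgroupOf M).map f : Set _)).comap f).map M.subtype := by
        refine hsup.ge.trans (iSup₂_le fun a ha => ?_)
        rintro _ ⟨l, hl, rfl⟩
        obtain ⟨k, z, hz, rfl⟩ := hexp l hl
        have hmM : a * (x ^ k * z) * a⁻¹ ∈ M := M.mul_mem (M.mul_mem (hT.left_le ha)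
          (FittingHall.of_le M (H.mul_mem (H.zpow_mem hxH k) (hDH hz)))) (M.inv_mem (hT.left_le ha))
        refine ⟨⟨_, hmM⟩, mem_centralizer_iff.2 ?_, rfl⟩
        rintro _ ⟨v, hv, rfl⟩
        have hv' : a⁻¹ * (v : G) * a ∈ U := by
          have := (mem_normalizer_iff.1 (inv_mem (hT.typeP.U_normal ha)) _).1 hv
          rwa [inv_inv] at this
        set X : M := ⟨x, FittingHall.of_le M hxH⟩
        set A : M := ⟨a, hT.left_le ha⟩
        set Zm : M := ⟨z, FittingHall.of_le M (hDH hz)⟩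
        have hfz : f Zm = 1 := (QuotientGroup.eq_one_iff _).2 hz
        have hfl : f ⟨a * (x ^ k * z) * a⁻¹, hmM⟩ = f A * f X ^ k * (f A)⁻¹ := by
          rw [show (⟨a * (x ^ k * z) * a⁻¹, hmM⟩ : M) = A * (X ^ k * Zm) * A⁻¹ from Subtype.ext (by simp [A, X, Zm]),
            _root_.map_mul, _root_.map_mul, _root_.map_mul, map_zpow, hfz, mul_one, _root_.map_inv]
        have hfv := (show Commute (f (A⁻¹ * v * A)) (f X) from hfx ⟨_, hv'⟩).zpow_right k
        rw [hfl]
        have e : f (A⁻¹ * v * A) = (f A)⁻¹ * f v * f A := by rw [_root_.map_mul, _root_.map_mul, _root_.map_inv]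
        rw [e] at hfv
        calc f v * (f A * f X ^ k * (f A)⁻¹) = f A * (((f A)⁻¹ * f v * f A) * f X ^ k) * (f A)⁻¹ := by group
          _ = f A * (f X ^ k * ((f A)⁻¹ * f v * f A)) * (f A)⁻¹ := by rw [hfv.eq]
          _ = f A * f X ^ k * (f A)⁻¹ * f v := by group
      obtain ⟨m, hm, rfl⟩ := hle hh
      have he := mem_centralizer_iff.1 hm (f ⟨u, hT.U_le_M hG hu⟩) (mem_map_of_mem f hu)
      have : f ⁅(⟨u, hT.U_le_M hG hu⟩ : M), m⁆ = 1 := by
        rw [map_commutatorElement, commutatorElement_eq_one_iff_mul_comm]; exact he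
      exact Subgroup.mem_subgroupOf.1 ((QuotientGroup.eq_one_iff ⁅(⟨u, hT.U_le_M hG hu⟩ : M), m⁆).1 this)
    -- all conjugate lines commute
    refine hne (eq_bot_iff.2 (commutator_le.2 fun g₁ hg₁ g₂ hg₂ => mem_bot.2 ?_))
    have hgen : ∀ a ∈ W₁, ∀ b ∈ W₁, ∀ k ∈ L.map (MulAut.conj a).toMonoidHom,
        ∀ l ∈ L.map (MulAut.conj b).toMonoidHom, k * l = l * k := by
      rintro a ha b hb _ ⟨k, hk, rfl⟩ _ ⟨l, hl, rfl⟩
      obtain ⟨i, z, hz, rfl⟩ := hexp k hk
      obtain ⟨j, z', hz', rfl⟩ := hexp l hl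
      have hwxH : (a⁻¹ * b) * x * (a⁻¹ * b)⁻¹ ∈ H :=
        (mem_normalizer_iff.1 (FittingHall.le_normalizer_of M
          (hT.left_le (W₁.mul_mem (W₁.inv_mem ha) hb))) x).1 hxH
      have hc0 : Commute x ((a⁻¹ * b) * x * (a⁻¹ * b)⁻¹) :=
        commutatorElement_eq_one_iff_mul_comm.1 (hpair _ (W₁.mul_mem (W₁.inv_mem ha) hb))
      have hc : Commute (a * x * a⁻¹) (b * x * b⁻¹) := by
        have := hc0.map (MulAut.conj a).toMonoidHom
        simpa [MulAut.conj_apply, mul_assoc] using this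
      have hci : Commute (MulAut.conj a (x ^ i)) (MulAut.conj b (x ^ j)) := by
        rw [map_zpow, map_zpow]; exact (hc.zpow_left i).zpow_right j
      have hzconj : ∀ (g z : G), g ∈ W₁ → z ∈ D → MulAut.conj g z ∈ D := fun g z hg hz =>
        (mem_normalizer_iff.1 (hT.H_der_normal hG (hT.left_le hg)) z).1 hz
      have hconjH : ∀ (g : G) (i : ℤ), g ∈ W₁ → MulAut.conj g (x ^ i) ∈ H := fun g i hg =>
        (mem_normalizer_iff.1 (FittingHall.le_normalizer_of M (hT.left_le hg)) _).1 (H.zpow_mem hxH i)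
      show MulAut.conj a (x ^ i * z) * MulAut.conj b (x ^ j * z') = MulAut.conj b (x ^ j * z') * MulAut.conj a (x ^ i * z)
      rw [_root_.map_mul, _root_.map_mul]
      refine Commute.eq ?_
      refine (hci.mul_right ?_).mul_left (Commute.mul_right ?_ ?_)
      · exact hcomm (hzconj b z' hb hz') (hconjH a i ha)
      · exact (hcomm (hzconj a z ha hz) (hconjH b j hb)).symm
      · exact (hcomm (hzconj b z' hb hz') (hDH (hzconj a z ha hz)))
    have hle : ∀ a ∈ W₁, L.map (MulAut.conj a).toMonoidHom ≤ centralizer (H : Set G) := fun a ha k hk => by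
      refine mem_centralizer_iff.2 fun g hg => ?_
      have : H ≤ centralizer ({k} : Set G) := hsup.ge.trans (iSup₂_le fun b hb l hl =>
        mem_centralizer_singleton_iff.2 (hgen b hb a ha l hl k hk))
      exact mem_centralizer_singleton_iff.1 (this hg)
    exact commutatorElement_eq_one_iff_mul_comm.2
      (mem_centralizer_iff.1 ((hsup.ge.trans (iSup₂_le hle)) hg₁) g₂ hg₂).symm

theorem H_elem (hd : ⁅⁅M, M⁆, ⁅M, M⁆⁆ = Cfsg.fittingOf M) :
    Cfsg.IsElementaryAbelian (Nat.card W₂) (Cfsg.fittingHallOf M) ∧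
      Nat.card (Cfsg.fittingHallOf M) = Nat.card W₂ ^ Nat.card W₁ := by
  have hb := hT.derived_eq_bot hG hd
  refine ⟨⟨⟨⟨fun a b => Subtype.ext (commutatorElement_eq_one_iff_mul_comm.1
    (mem_bot.1 (hb.le (commutator_mem_commutator a.2 b.2))))⟩⟩, fun a ha =>
      mem_bot.1 (hb.le (hT.pow_mem_derived hG hd ha))⟩, ?_⟩
  have := hT.index_derived hG hd
  rwa [hb, relIndex_bot_left] at this

theorem H_cent_U (hd : ⁅⁅M, M⁆, ⁅M, M⁆⁆ = Cfsg.fittingOf M) :
    Cfsg.fittingHallOf M ⊓ centralizer (U : Set G) = ⊥ :=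
  le_bot_iff.1 ((hT.cent_le_derived hG hd).trans (hT.derived_eq_bot hG hd).le)

end Three

end CfsgLib.OddEnd
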