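import Cfsg.Agent.OddEnd.Ptype
import Cfsg.Agent.OddLocal.KappaTypeCore
import Cfsg.Agent.OddLocal.KappaTypes
import Cfsg.Agent.OddLocal.KappaTypeFive
import Cfsg.Agent.S1357
import Cfsg.Agent.S1368
import Cfsg.Agent.S1372
import Cfsg.Agent.S1382
import Cfsg.Agent.S1387
import Cfsg.Agent.S1388

/-!
Peterfalvi section 11, local facts: maximal subgroups of type III or IV before any character theory.
-/

set_option autoImplicit false
set_option linter.unusedSectionVars false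
set_option linter.style.haveILetI false

namespace CfsgLib.OddEnd

open Subgroup CfsgLib.OddLocal
open scoped commutatorElement

universe u

variable {G : Type u} [Group G] [Finite G]

/-- A group on which a subgroup of prime order `q` acts with trivial fixed points has order `1 (mod q)`. -/
theorem card_modEq_one_of_fpf {q : ℕ} (hq : q.Prime) {A X : Subgroup G} (hA : Nat.card A = q)
    (hAX : A ≤ normalizer (X : Set G))
    (hfix : ∀ x ∈ X, (∀ a ∈ A, a * x = x * a) → x = 1) : Nat.card X ≡ 1 [MOD q] := by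
  haveI := Fact.mk hq
  letI : MulAction A X :=
    { smul := fun a x => ⟨(a : G) * x * (a : G)⁻¹, (mem_normalizer_iff.1 (hAX a.2) x).1 x.2⟩
      one_smul := fun x => Subtype.ext (by show (1 : G) * x * (1 : G)⁻¹ = x; group)
      mul_smul := fun a b x => Subtype.ext (by
        show ((a : G) * b) * x * ((a : G) * b)⁻¹ = a * (b * x * (b : G)⁻¹) * (a : G)⁻¹; group) }
  have hsm : ∀ (a : A) (x : X), ((a • x : X) : G) = (a : G) * x * (a : G)⁻¹ := fun _ _ => rfl
  have hp : IsPGroup q A := IsPGroup.of_card (n := 1) (by rw [hA, pow_one])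
  have h := hp.card_modEq_card_fixedPoints X
  have huniq : MulAction.fixedPoints A X = {(1 : X)} := by
    ext x
    refine ⟨fun hx => Subtype.ext (hfix x x.2 fun a ha => ?_), fun hx a => ?_⟩
    · have := congrArg Subtype.val (hx ⟨a, ha⟩)
      rw [hsm] at this
      exact mul_inv_eq_iff_eq_mul.1 this
    · rw [Set.mem_singleton_iff.1 hx]
      exact Subtype.ext (by rw [hsm]; simp)
  rwa [huniq, Nat.card_coe_set_eq, Set.ncard_singleton] at h

/-- Maximal subgroups of type III or IV with chosen type P data. -/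
structure Three (M W₁ U W₂ : Subgroup G) : Prop where
  coatom : IsCoatom M
  typeP : Cfsg.IsTypePWith M W₁ U W₂
  types : Cfsg.IsOfTypeIII M ∨ Cfsg.IsOfTypeIV M

namespace Three

variable {M W₁ U W₂ : Subgroup G} (hT : Three M W₁ U W₂)
include hT

theorem derived_le : ⁅M, M⁆ ≤ M := commutator_le_self M

theorem left_le : W₁ ≤ M := hT.typeP.W₁_compl.2.1

theorem inf_left : ⁅M, M⁆ ⊓ W₁ = ⊥ := hT.typeP.W₁_compl.2.2.1

theorem U_le : U ≤ ⁅M, M⁆ := hT.typeP.U_compl.2.1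

theorem H_le : Cfsg.fittingHallOf M ≤ ⁅M, M⁆ := hT.typeP.U_compl.1

theorem H_inf_U : Cfsg.fittingHallOf M ⊓ U = ⊥ := hT.typeP.U_compl.2.2.1

theorem coprime_H_U : (Nat.card (Cfsg.fittingHallOf M)).Coprime (Nat.card U) :=
  FittingHall.coprime_complIn (commutator_le_self M) hT.typeP.U_compl

theorem card_derived : Nat.card ↥⁅M, M⁆ = Nat.card (Cfsg.fittingHallOf M) * Nat.card U :=
  FittingHall.card_complIn hT.typeP.U_compl

theorem card_M : Nat.card M = Nat.card ↥⁅M, M⁆ * Nat.card W₁ :=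
  FittingHall.card_complIn hT.typeP.W₁_compl

theorem coprime_left : (Nat.card W₁).Coprime (Nat.card ↥⁅M, M⁆) := by
  have h := CfsgLib.InvariantHall.relIndex_mul_card hT.left_le
  rw [hT.card_M, mul_comm (Nat.card ↥⁅M, M⁆)] at h
  exact Nat.eq_of_mul_eq_mul_left Nat.card_pos h ▸ hT.typeP.W₁_hall

theorem right_le_H : W₂ ≤ Cfsg.fittingHallOf M := hT.typeP.W₂_le.trans inf_le_left

theorem right_le_der2 : W₂ ≤ ⁅⁅M, M⁆, ⁅M, M⁆⁆ := hT.typeP.W₂_le.trans inf_le_right

theorem right_le_derived : W₂ ≤ ⁅M, M⁆ := hT.right_le_H.trans hT.H_le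

variable (hG : Cfsg.IsMinSimpleOddOrder G)
include hG

/-- A standard decomposition with `W₁` as the Hall `κ`-subgroup. -/
theorem decomp :
    Cfsg.IsSigmaDecomposition M W₁ ⊥ ∧ ⁅M, M⁆ = Cfsg.sigmaCore M ∧
      Cfsg.fittingHallOf M ≠ Cfsg.sigmaCore M ∧ W₂ = Kap.star M W₁ := by
  have hM := hT.coatom
  obtain ⟨K, U₀, hKU⟩ := Kap.exists_decomp_any hG hM
  obtain ⟨hK1, hU0, hne⟩ := (Cfsg.Agent.S1382.result hG M hM K U₀ hKU).1 hT.types
  subst hU0
  have hd := Kap.derived_eq_of_bot hG hM hKU hK1 rfl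
  have hcard : Nat.card W₁ = Nat.card K := by
    refine Nat.eq_of_mul_eq_mul_left (Nat.card_pos (α := ↥⁅M, M⁆)) ?_
    rw [← hT.card_M, ← FittingHall.card_complIn (Kap.derived_compl hG hM hKU hK1)]
  have hW : Cfsg.IsPiHallOf (Cfsg.kappa M) W₁ M := by
    have h1 := CfsgLib.InvariantHall.relIndex_mul_card hT.left_le
    have h2 := CfsgLib.InvariantHall.relIndex_mul_card hKU.hall.1
    rw [hcard, ← h2] at h1
    refine ⟨hT.left_le, fun r hr hd => hKU.hall.2.1 r hr (hcard ▸ hd), fun r hr hκ hd => ?_⟩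
    exact hKU.hall.2.2 r hr hκ (Nat.eq_of_mul_eq_mul_left Nat.card_pos h1 ▸ hd)
  obtain ⟨U₁, hWU⟩ := Kap.exists_decomp hG hM hT.typeP.W₁_cyclic hW
  obtain ⟨hW1, hU1, -⟩ := (Cfsg.Agent.S1382.result hG M hM W₁ U₁ hWU).1 hT.types
  subst hU1
  obtain ⟨V, hVn, hKV, hV⟩ := Kap.exists_kernel_complement hG hM hWU hW1
  have hP' := Kap.typeP_data hG hM hWU hW1 hVn hKV hV
  obtain ⟨a, ha, ha1⟩ := (Subgroup.bot_or_exists_ne_one W₁).resolve_left hW1
  exact ⟨hWU, hd, hne, (hT.typeP.W₂_centralizer a ha ha1).symm.trans (hP'.W₂_centralizer a ha ha1)⟩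

theorem fitting_ti : Cfsg.IsTISubset (Cfsg.fittingOf M : Set G) :=
  (Cfsg.Agent.S1357.result hG M hT.coatom W₁ ⊥ (hT.decomp hG).1 (hT.decomp hG).2.2.1).2.1

theorem prime_left : (Nat.card W₁).Prime :=
  (Cfsg.Agent.S1357.result hG M hT.coatom W₁ ⊥ (hT.decomp hG).1 (hT.decomp hG).2.2.1).2.2

theorem prime_right : (Nat.card W₂).Prime := by
  obtain ⟨hWU, -, -, hW₂⟩ := hT.decomp hG
  have hW1 := hT.typeP.W₁_ne
  obtain ⟨N, hN, hNH, -, -, hout⟩ := Kap.exists_partner hG hT.coatom hWU.hall hW1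
  have hL1 : Kap.star M W₁ ≠ ⊥ := Kap.fixed_ne_bot hG hT.coatom hWU.hall hW1
  have hN' := hout.resolve_left (Kap.not_hasOuter_of_decomp_bot hG hT.coatom hWU)
  obtain ⟨U', hKU'⟩ := Kap.exists_decomp hG hN (Kap.kappa_cyclic hG hN hNH) hNH
  rw [hW₂]
  refine (Cfsg.Agent.S1372.result hG N hN _ U' hKU' hL1 fun hU => ?_).1
  exact Kap.not_hasOuter_of_decomp_bot hG hN (hU ▸ hKU') hN'

theorem q_three : 3 ≤ Nat.card W₁ := by
  refine lt_of_le_of_ne (hT.prime_left hG).two_le fun h => ?_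
  have := hG.1.of_dvd_nat W₁.card_subgroup_dvd_card
  rw [← h] at this
  exact absurd this (by decide)

theorem p_three : 3 ≤ Nat.card W₂ := by
  refine lt_of_le_of_ne (hT.prime_right hG).two_le fun h => ?_
  have := hG.1.of_dvd_nat W₂.card_subgroup_dvd_card
  rw [← h] at this
  exact absurd this (by decide)

theorem p_ne_q : Nat.card W₂ ≠ Nat.card W₁ := fun h => (hT.prime_left hG).not_dvd_one
  (hT.coprime_left ▸ Nat.dvd_gcd dvd_rfl (h ▸ card_dvd_of_le hT.right_le_derived))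

/-- An element of `M'` fixed by a nonidentity element of `W₁` lies in `W₂`. -/
theorem mem_right_of_fixed {x : G} (hx : x ∈ ⁅M, M⁆) {a : G} (ha : a ∈ W₁) (ha1 : a ≠ 1)
    (hc : a * x = x * a) : x ∈ W₂ :=
  (hT.typeP.W₂_centralizer a ha ha1).le ⟨hx, mem_centralizer_singleton_iff.2 hc.symm⟩

/-- `W₁` fixes only the identity of `U`. -/
theorem U_fixed {x : G} (hx : x ∈ U) {a : G} (ha : a ∈ W₁) (ha1 : a ≠ 1) (hc : a * x = x * a) : x = 1 :=
  mem_bot.1 (hT.H_inf_U ▸ ⟨hT.right_le_H (hT.mem_right_of_fixed hG (hT.U_le hx) ha ha1 hc), hx⟩)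

theorem centralizer_le {x : G} (hx : x ∈ Cfsg.fittingOf M) (hx1 : x ≠ 1) :
    centralizer ({x} : Set G) ≤ M := by
  intro c hc
  have hN := Uniq.coatom_normalizer_eq hG hT.coatom (Bender.fitting_le M) (Bender.le_normalizer_fitting M)
    (fun e => hx1 (Subgroup.mem_bot.1 (e ▸ hx)))
  by_contra hcM
  refine hx1 (hT.fitting_ti hG c (fun h => hcM (hN.le h)) x hx ?_)
  rwa [mem_centralizer_singleton_iff.1 hc, mul_inv_cancel_right]

theorem U_ne : U ≠ ⊥ := fun h => (hT.decomp hG).2.2.1 (le_antisymm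
  (Kap.fittingHallOf_le_sigmaCore hG hT.coatom) fun x hx => by
    obtain ⟨a, ha, b, hb, rfl⟩ := hT.typeP.U_compl.2.2.2 x ((hT.decomp hG).2.1.ge hx)
    rw [h, mem_bot] at hb
    rwa [hb, mul_one])

theorem not_centralizes : ¬ U ≤ centralizer (Cfsg.fittingHallOf M : Set G) :=
  (Cfsg.Agent.S1388.result M W₁ U W₂ hT.typeP).2 (hT.U_ne hG)

theorem ptype : PtypeData M W₁ U W₂ :=
  ⟨hT.coatom, hT.typeP, hT.U_ne hG, hT.prime_left hG, hT.fitting_ti hG⟩

end Three

end CfsgLib.OddEnd
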