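import Cfsg.Agent.OddEnd.TenColumns
import Cfsg.Agent.Char.InducedAbove
import Cfsg.Agent.Char.FrobeniusChars

/-!
# The coherence system of the characters induced from `M'` (Peterfalvi 5.2, 10.1)
-/

set_option autoImplicit false

namespace CfsgLib.OddEnd

open CfsgLib.Char
open scoped ComplexConjugate

universe u

variable {G : Type u} [Group G]

/-- The characters induced from `M_σ`, off the principal one. -/
noncomputable def tenS (M : Subgroup G) [Fintype M] : Set (M → ℂ) :=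
  Cfsg.inducedIrrAbove ((Cfsg.sigmaCore M).subgroupOf M) ⊥

/-- The Dade map on `A(M)`. -/
noncomputable def tenTau (M : Subgroup G) : (M → ℂ) → G → ℂ :=
  Cfsg.dadeIsometry (Cfsg.typeA M) M (Cfsg.supportR M)

/-- An additive array of norm at most two vanishes. -/
theorem additive_two {R C : Type*} [Fintype R] [Fintype C] (r₀ : R) (c₀ : C) (t : R → ℤ) (u : C → ℤ)
    (ht : t r₀ = 0) (hu : u c₀ = 0) (hR : 3 ≤ Fintype.card R) (hC : 3 ≤ Fintype.card C)
    (h : ∑ l, ∑ r, (t r + u l) * (t r + u l) ≤ 2) : (∀ r, t r = 0) ∧ ∀ l, u l = 0 := by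
  classical
  rcases additive_col_or_row r₀ c₀ t u ht hu hC (h.trans (by exact_mod_cast (by omega : 2 ≤ Fintype.card R))) with
    hz | hz
  · refine ⟨hz, fun l => by_contra fun hl => ?_⟩
    have h1 := card_le_sum_mul_self (Finset.univ : Finset R) (fun r => t r + u l) fun r _ => by simp [hz r, hl]
    have h2 : ∑ r, (t r + u l) * (t r + u l) ≤ 2 := (Finset.single_le_sum
      (f := fun l => ∑ r, (t r + u l) * (t r + u l)) (fun l _ => Finset.sum_nonneg fun r _ => mul_self_nonneg _)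
      (Finset.mem_univ l)).trans h
    rw [Finset.card_univ] at h1
    omega
  · refine ⟨fun r => by_contra fun hr => ?_, hz⟩
    rw [Finset.sum_comm] at h
    have h1 := card_le_sum_mul_self (Finset.univ : Finset C) (fun l => t r + u l) fun l _ => by simp [hz l, hr]
    have h2 : ∑ l, (t r + u l) * (t r + u l) ≤ 2 := (Finset.single_le_sum
      (f := fun r => ∑ l, (t r + u l) * (t r + u l)) (fun r _ => Finset.sum_nonneg fun l _ => mul_self_nonneg _)
      (Finset.mem_univ r)).trans h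
    rw [Finset.card_univ] at h1
    omega

variable [Fintype G] {W₁ W₂ : Subgroup G} {χ : (↥(W₁ ⊔ W₂) →* ℂˣ) → G → ℂ}

/-- Two orthogonal conjugate irreducibles whose difference vanishes on `V` miss the whole family. -/
theorem orth_family_of_pair (hW : Cfsg.IsSelfNormalizingCyclic W₁ W₂) (hodd : Odd (Nat.card ↥(W₁ ⊔ W₂)))
    (hχ : Cfsg.IsCyclicTIFamily W₁ W₂ χ) {ν : G → ℂ} (hν : Cfsg.IsIrrCharacter G ν)
    (hne : Cfsg.conjFun ν ≠ ν)
    (hV : ∀ w : ↥(W₁ ⊔ W₂), (w : G) ∉ W₁ → (w : G) ∉ W₂ → (ν - Cfsg.conjFun ν) w = 0) :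
    ∀ ω, Cfsg.classInner ν (χ ω) = 0 ∧ Cfsg.classInner (Cfsg.conjFun ν) (χ ω) = 0 := by
  classical
  have := Fintype.ofFinite (Row W₁ W₂)
  have := Fintype.ofFinite (Col W₁ W₂)
  have hν' : Cfsg.IsIrrCharacter G (Cfsg.conjFun ν) := IsIrrCharacter.conj hν
  set θ := ν - Cfsg.conjFun ν with hθ
  have hgen : Cfsg.IsGeneralizedCharacter G θ :=
    IsGeneralized.sub (IsIrrCharacter.isGeneralized hν) (IsIrrCharacter.isGeneralized hν')
  obtain ⟨n, t, u, hn, ht, hu, hadd⟩ := grid_additive hχ hgen hV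
  have hconj : ∀ ω, Cfsg.classInner (Cfsg.conjFun ν) (χ ω) = conj (Cfsg.classInner ν (χ ω⁻¹)) := fun ω => by
    have e : χ ω = Cfsg.conjFun (χ ω⁻¹) := funext fun g => by
      have h := cyclicTI_map hW hodd hχ conjAut ω⁻¹ g
      rw [mapHom_conjAut, show ω⁻¹⁻¹ = ω from MonoidHom.ext fun w => inv_inv (ω w)] at h
      exact h.symm
    conv_lhs => rw [e]
    rw [classInner_conjFun_conjFun, classInner_conj]
  have hn0 : n = 0 := by
    have h1 : Cfsg.classInner θ (χ 1) = 0 := by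
      rw [hθ, classInner_sub_left, hconj,
        show (1 : ↥(W₁ ⊔ W₂) →* ℂˣ)⁻¹ = 1 from MonoidHom.ext fun w => inv_one, hχ.map_one]
      obtain ⟨m, hm⟩ := IsGeneralized.exists_classInner_eq_int (IsIrrCharacter.isGeneralized hν)
        (isGeneralized_one (G := G))
      rw [hm, map_intCast, sub_self]
    rw [h1] at hn
    exact_mod_cast hn.symm
  subst hn0
  have hnorm : Cfsg.classInner θ θ = ((2 : ℤ) : ℂ) := by
    rw [hθ, classInner_sub_left, classInner_sub_right, classInner_sub_right,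
      IsIrrCharacter.classInner_self hν, IsIrrCharacter.classInner_self hν',
      IsIrrCharacter.classInner_of_ne hν hν' (Ne.symm hne), IsIrrCharacter.classInner_of_ne hν' hν hne]
    norm_num
  rw [card_sup_eq hW.2.2.1 hW.2.2.2.1, Nat.odd_mul] at hodd
  obtain ⟨ht0, hu0⟩ := additive_two row₀ col₀ t u ht hu
    (by rw [← Nat.card_eq_fintype_card, (card_trivL hW).2]; exact three_le_card_of_odd hW.1 hodd.1)
    (by rw [← Nat.card_eq_fintype_card, (card_trivL hW).1]; exact three_le_card_of_odd hW.2.1 hodd.2)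
    (grid_bessel' hχ _ hadd hnorm)
  have hθ0 : ∀ ω, Cfsg.classInner ν (χ ω) = Cfsg.classInner (Cfsg.conjFun ν) (χ ω) := fun ω => by
    obtain ⟨r, l, rfl⟩ := exists_cell hW ω
    have := hadd r l
    rw [ht0, hu0, add_zero, Int.cast_zero, hθ, classInner_sub_left, sub_eq_zero] at this
    exact this
  intro ω
  suffices h : Cfsg.classInner ν (χ ω) = 0 from ⟨h, (hθ0 ω).symm.trans h⟩
  by_contra h
  obtain ⟨s, -, hs, -⟩ := IsSignedIrr.eq_smul_of_classInner_ne (Or.inl hν) (hχ.irr_or_neg ω) h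
  have h2 := hθ0 ω
  rw [hs, classInner_smul_right, classInner_smul_right, IsIrrCharacter.classInner_self hν,
    IsIrrCharacter.classInner_of_ne hν' hν hne, mul_one, mul_zero] at h2
  rw [hs, classInner_smul_right, h2, zero_mul] at h
  exact h rfl

namespace TenPair

open Cfsg CfsgLib.OddLocal CfsgLib.OddLocal.Kap

variable {M N K Ks V : Subgroup G} (P : TenPair M N K Ks V)
include P

theorem normal_core : ((Cfsg.sigmaCore M).subgroupOf M).Normal := P.primeDade_M.normal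

variable [Fintype M]

omit P [Fintype G] in
theorem tenS_conj {φ : M → ℂ} (hφ : φ ∈ tenS M) : Cfsg.conjFun φ ∈ tenS M := conjFun_mem_inducedIrrAbove hφ

omit P [Fintype G] in
theorem tenS_char {φ : M → ℂ} (hφ : φ ∈ tenS M) : Cfsg.IsCharacter M φ := by
  obtain ⟨θ, h1, -, -, rfl⟩ := hφ
  exact IsCharacter.indFun (IsIrrCharacter.isCharacter h1)

theorem tenS_off {φ : M → ℂ} (hφ : φ ∈ tenS M) {x : M} (hx : (x : G) ∉ Cfsg.sigmaCore M) : φ x = 0 := by
  obtain ⟨θ, h1, -, -, rfl⟩ := hφ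
  have := P.normal_core
  exact indFun_eq_zero_of_normal θ hx

/-- Members of the span are generalized characters supported on `M_σ`. -/
theorem zspan_props {α : M → ℂ} (hα : α ∈ Cfsg.zspan (tenS M)) :
    Cfsg.IsGeneralizedCharacter M α ∧ ∀ x : M, (x : G) ∉ Cfsg.sigmaCore M → α x = 0 := by
  induction hα using Submodule.span_induction with
  | mem y hy => exact ⟨IsCharacter.isGeneralized (tenS_char hy), fun x hx => P.tenS_off hy hx⟩
  | zero => exact ⟨isGeneralized_zero, fun _ _ => rfl⟩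
  | add a b _ _ ha hb =>
    exact ⟨IsGeneralized.add ha.1 hb.1, fun x hx => by rw [Pi.add_apply, ha.2 x hx, hb.2 x hx, add_zero]⟩
  | smul n a _ ha => exact ⟨IsGeneralized.zsmul ha.1 n, fun x hx => by rw [Pi.smul_apply, ha.2 x hx, smul_zero]⟩

theorem zspanOn_props {α : M → ℂ} (hα : α ∈ Cfsg.zspanOn (tenS M) ({1}ᶜ : Set M)) :
    Cfsg.IsGeneralizedCharacter M α ∧ ∀ x : M, (x : G) ∉ Cfsg.typeA M → α x = 0 := by
  obtain ⟨h1, h2⟩ := mem_zspanOn_one.1 hα
  refine ⟨(P.zspan_props h1).1, fun x hx => ?_⟩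
  by_cases hxK : (x : G) ∈ Cfsg.sigmaCore M
  · rw [show x = 1 from Subtype.ext (by_contra fun e => hx (P.mem_A hxK e))]
    exact h2
  · exact (P.zspan_props h1).2 x hxK

omit [Fintype M] in
theorem tau_zsmul {α : M → ℂ} (hα : Cfsg.IsClassFunction M α) (n : ℤ) : tenTau M (n • α) = n • tenTau M α := by
  funext g
  have hd := P.dade_A
  rw [Pi.smul_apply]
  by_cases hg : ∃ a ∈ Cfsg.typeA M, ∃ u ∈ Cfsg.supportR M a, ∃ x : G, x * g * x⁻¹ = a * u
  · obtain ⟨a, ha, u, hu, x, hx⟩ := hg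
    rw [tenTau, dadeIsometry_apply hd hα (a := ⟨a, hd.subset ha⟩) ha hu hx,
      dadeIsometry_apply hd (fun y z => by rw [Pi.smul_apply, Pi.smul_apply, hα y z])
        (a := ⟨a, hd.subset ha⟩) ha hu hx, Pi.smul_apply]
  · rw [tenTau, dadeIsometry_eq_zero hd hg, dadeIsometry_eq_zero hd hg, smul_zero]

omit [Fintype M] in
theorem tau_add {α β : M → ℂ} (hα : Cfsg.IsClassFunction M α) (hβ : Cfsg.IsClassFunction M β) :
    tenTau M (α + β) = tenTau M α + tenTau M β := by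
  funext g
  have hd := P.dade_A
  rw [Pi.add_apply]
  by_cases hg : ∃ a ∈ Cfsg.typeA M, ∃ u ∈ Cfsg.supportR M a, ∃ x : G, x * g * x⁻¹ = a * u
  · obtain ⟨a, ha, u, hu, x, hx⟩ := hg
    rw [tenTau, dadeIsometry_apply hd hα (a := ⟨a, hd.subset ha⟩) ha hu hx,
      dadeIsometry_apply hd hβ (a := ⟨a, hd.subset ha⟩) ha hu hx,
      dadeIsometry_apply hd (fun y z => by rw [Pi.add_apply, Pi.add_apply, hα y z, hβ y z])
        (a := ⟨a, hd.subset ha⟩) ha hu hx, Pi.add_apply]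
  · rw [tenTau, dadeIsometry_eq_zero hd hg, dadeIsometry_eq_zero hd hg, dadeIsometry_eq_zero hd hg, add_zero]

/-- The Dade map is a linear isometry on the combinations of degree zero. -/
theorem tau_isometry : Cfsg.IsLinearIsometryOn (Cfsg.zspanOn (tenS M) ({1}ᶜ : Set M)) (tenTau M) ∧
    ∀ α ∈ Cfsg.zspanOn (tenS M) ({1}ᶜ : Set M), tenTau M α 1 = 0 := by
  refine ⟨⟨fun α hα β hβ => P.tau_add (IsGeneralized.isClassFunction (P.zspanOn_props hα).1)
      (IsGeneralized.isClassFunction (P.zspanOn_props hβ).1),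
    fun α hα n => P.tau_zsmul (IsGeneralized.isClassFunction (P.zspanOn_props hα).1) n,
    fun α hα β hβ => ?_, fun α hα => ?_⟩, fun α _ => dadeIsometry_apply_one P.dade_A⟩
  · obtain ⟨ha, ha'⟩ := P.zspanOn_props hα
    exact classInner_dadeIsometry_dadeIsometry P.dade_A (IsGeneralized.isClassFunction ha) ha'
      (IsGeneralized.isClassFunction (P.zspanOn_props hβ).1)
  · obtain ⟨ha, ha'⟩ := P.zspanOn_props hα
    exact isGeneralized_dadeIsometry P.dade_A ha ha'

theorem tenS_orth {φ ψ : M → ℂ} (hφ : φ ∈ tenS M) (hψ : ψ ∈ tenS M) (h : φ ≠ ψ) : Cfsg.classInner φ ψ = 0 := by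
  classical
  obtain ⟨θ, h1, -, -, rfl⟩ := hφ
  obtain ⟨η, h2, -, -, rfl⟩ := hψ
  have := P.normal_core
  rw [classInner_indFun_indFun h1 h2, if_neg fun hm => h ?_]
  obtain ⟨g, rfl⟩ := mem_conjOrbit.1 hm
  exact indFun_conjOn g η

theorem tenS_conj_ne {φ : M → ℂ} (hφ : φ ∈ tenS M) : Cfsg.conjFun φ ≠ φ := by
  obtain ⟨θ, h1, h2, -, rfl⟩ := hφ
  have := P.normal_core
  have h0 : Cfsg.classInner (Cfsg.conjFun (Cfsg.indFun _ θ)) (Cfsg.indFun _ θ) = 0 :=
    classInner_conj_indFun_eq_zero (P.oddG M) h1 h2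
  intro e
  rw [e] at h0
  have := classInner_self_eq_zero h0
  have h3 := congrFun this 1
  rw [indFun_one, Pi.zero_apply, mul_eq_zero] at h3
  exact h3.elim (by exact_mod_cast Subgroup.index_ne_zero_of_finite) (IsIrrCharacter.apply_one_ne_zero h1)

variable {χ : (↥(K ⊔ Ks) →* ℂˣ) → G → ℂ} {μ : (↥(K ⊔ Ks) →* ℂˣ) → M → ℂ}
  {δ : (↥(K ⊔ Ks) →* ℂˣ) → ℂ}

/-- A member is irreducible or a nontrivial column. -/
theorem tenS_cases [Fintype (Row K Ks)] (hμ : IsMuG M (Cfsg.sigmaCore M) K Ks μ δ) {φ : M → ℂ}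
    (hφ : φ ∈ tenS M) :
    Cfsg.IsIrrCharacter M φ ∨ ∃ l : Col K Ks, l ≠ col₀ ∧ φ = ∑ r : Row K Ks, μ (cell r l) := by
  obtain ⟨θ, h1, h2, -, rfl⟩ := hφ
  rcases P.primeDade_M.ind_cases hμ h1 with h | ⟨l, hl, hres⟩
  · exact Or.inl h
  refine Or.inr ⟨l, fun e => h2 ?_, hl⟩
  funext k
  rw [← hres row₀ k, e, cell_col₀]
  exact congrFun hμ.one.1 _

/-- An irreducible member has an irreducible image, up to sign, orthogonal to the family. -/
theorem tau_irr (hχ : Cfsg.IsCyclicTIFamily K Ks χ) {φ : M → ℂ} (hφ : φ ∈ tenS M)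
    (hirr : Cfsg.IsIrrCharacter M φ) :
    ∃ ν : G → ℂ, Cfsg.IsIrrCharacter G ν ∧ Cfsg.conjFun ν ≠ ν ∧
      tenTau M (φ - Cfsg.conjFun φ) = ν - Cfsg.conjFun ν ∧
      ∀ ω, Cfsg.classInner ν (χ ω) = 0 ∧ Cfsg.classInner (Cfsg.conjFun ν) (χ ω) = 0 := by
  obtain ⟨ν, hν, he⟩ := dade_exists_conj_pair P.dade_A hirr fun x hx1 hxA => by
    by_cases hxK : (x : G) ∈ Cfsg.sigmaCore M
    · exact absurd (P.mem_A hxK fun e => hx1 (Subtype.ext e)) hxA
    · exact P.tenS_off hφ hxK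
  have hz : φ - Cfsg.conjFun φ ∈ Cfsg.zspanOn (tenS M) ({1}ᶜ : Set M) := by
    refine mem_zspanOn_one.2 ⟨Submodule.sub_mem _ (subset_zspan hφ) (subset_zspan (tenS_conj hφ)), ?_⟩
    obtain ⟨d, -, hd⟩ := IsIrrCharacter.exists_degree hirr
    simp [Cfsg.conjFun, hd]
  have hne : Cfsg.conjFun ν ≠ ν := fun e => by
    have h := P.tau_isometry.1.2.2.1 _ hz _ hz
    have h01 : Cfsg.classInner φ (Cfsg.conjFun φ) = 0 :=
      P.tenS_orth hφ (tenS_conj hφ) (Ne.symm (P.tenS_conj_ne hφ))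
    have h10 : Cfsg.classInner (Cfsg.conjFun φ) φ = 0 := P.tenS_orth (tenS_conj hφ) hφ (P.tenS_conj_ne hφ)
    rw [show tenTau M (φ - Cfsg.conjFun φ) = ν - Cfsg.conjFun ν from he, e, sub_self, classInner_zero_left,
      classInner_sub_left, classInner_sub_right, classInner_sub_right, IsIrrCharacter.classInner_self hirr,
      classInner_conjFun_conjFun, IsIrrCharacter.classInner_self hirr, h01, h10] at h
    norm_num at h
  refine ⟨ν, hν, hne, he, orth_family_of_pair P.W_M P.primeDade_M.odd hχ hν hne fun w h1 h2 => ?_⟩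
  rw [← he]
  by_contra hw
  obtain ⟨a, ha, u, hu, x, hx⟩ := not_not.1 fun hg => hw (dadeIsometry_eq_zero P.dade_A hg)
  -- the mixed elements are not in the support
  have hw' : ((1 : G) * (w : G) * 1⁻¹) = (w : G) * 1 := by group
  obtain ⟨l, hl, e⟩ := dade_conj_in_L P.dade_M (typeA_sub ha) (P.mixed_M w.2 h1 h2).1 hu
    (Subgroup.one_mem (Cfsg.supportR M (w : G))) (g := x⁻¹) (by rw [← hx]; group)
  have hwK : (w : G) ∈ Cfsg.sigmaCore M := by
    rw [← e]
    exact (Subgroup.mem_normalizer_iff.1 (TH.le_normalizer_core M hl) a).1 (P.typeA_M.le ha).1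
  exact h2 (by
    have := P.primeDade_M.action
    have h' := mem_right_of_mem_kernel this (w := (⟨(w : G), P.le_M w.2⟩ : M))
      ((P.primeDade_M.mem_sup_iff _).2 w.2) hwK
    exact h')

/-- A column's Dade image. -/
theorem tau_col [Fintype (Row K Ks)] (hχ : Cfsg.IsCyclicTIFamily K Ks χ)
    (hμ : IsMuG M (Cfsg.sigmaCore M) K Ks μ δ) {j k : Col K Ks} (hjk : j ≠ k) (hj : j ≠ col₀) (hk : k ≠ col₀)
    (hjS : (∑ r : Row K Ks, μ (cell r j)) ∈ tenS M) (hkS : (∑ r : Row K Ks, μ (cell r k)) ∈ tenS M) :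
    tenTau M ((∑ r : Row K Ks, μ (cell r j)) - ∑ r : Row K Ks, μ (cell r k)) =
      δ j.1 • ∑ r : Row K Ks, (χ (cell r j) - χ (cell r k)) := by
  have hz : (∑ r : Row K Ks, μ (cell r j)) - ∑ r : Row K Ks, μ (cell r k) ∈
      Cfsg.zspanOn (tenS M) ({1}ᶜ : Set M) := by
    refine mem_zspanOn_one.2 ⟨Submodule.sub_mem _ (subset_zspan hjS) (subset_zspan hkS), ?_⟩
    rw [Pi.sub_apply, Finset.sum_apply, Finset.sum_apply, ← Finset.sum_sub_distrib]
    exact Finset.sum_eq_zero fun r _ => sub_eq_zero.2 (P.col_const hμ hj hk r).1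
  obtain ⟨hgen, hA⟩ := P.zspanOn_props hz
  rw [tenTau, dade_restrict typeA_sub P.dade_A P.dade_M (IsGeneralized.isClassFunction hgen) hA]
  exact (P.col_diff hχ hμ hjk hj hk).2

end TenPair

end CfsgLib.OddEnd
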