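import Cfsg.Agent.OddEnd.ElevenLocal
import Cfsg.Agent.OddEnd.TenSystem
import Cfsg.Agent.S1519
import Cfsg.Agent.S1520

/-!
Peterfalvi 11.4: a coherent `S(A)` bounds the index of `A` in `M'`, as long as `S(1)` is not coherent.
-/

set_option autoImplicit false
set_option linter.unusedSectionVars false
set_option linter.style.haveILetI false

namespace CfsgLib.OddEnd

open Subgroup CfsgLib.OddLocal
open scoped commutatorElement

universe u

variable {G : Type u} [Group G] [Fintype G]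

namespace Three

variable {M W₁ U W₂ : Subgroup G} (hT : Three M W₁ U W₂) (hG : Cfsg.IsMinSimpleOddOrder G)
include hT hG

theorem fitting_der_index : Nat.card W₂ ^ Nat.card W₁ ≤
    (⁅Cfsg.fittingOf M, Cfsg.fittingOf M⁆ : Subgroup G).relIndex (Cfsg.fittingOf M) := by
  set H := Cfsg.fittingHallOf M
  set C := U ⊓ centralizer (H : Set G)
  set F := Cfsg.fittingOf M
  have hF : F = H ⊔ C := hT.fitting_eq hG
  have hCH : C ≤ normalizer (H : Set G) := inf_le_left.trans (hT.UH hG)
  have hcomm : ∀ {h c}, h ∈ H → c ∈ C → Commute c h := fun hh hc =>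
    (mem_centralizer_iff.1 (mem_inf.1 hc).2 _ hh).symm
  set X := ⁅H, H⁆ ⊔ C
  have hXF : X ≤ F := hF ▸ sup_le_sup_right (hT.H_der_le hG) _
  have hle : ⁅F, F⁆ ≤ X := by
    refine commutator_le.2 fun a ha b hb => ?_
    rw [hF, ← SetLike.mem_coe, sup_comm, coe_mul_of_left_le_normalizer_right C H hCH] at ha hb
    obtain ⟨c, hc, x, hx, rfl⟩ := ha
    obtain ⟨d, hd, y, hy, rfl⟩ := hb
    have h1 : ⁅c * x, d * y⁆ = ⁅c, d⁆ * ⁅x, y⁆ := by
      have e1 : ⁅x, d⁆ = 1 := commutatorElement_eq_one_iff_commute.2 (hcomm hx hd).symm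
      have e2 : ⁅c, y⁆ = 1 := commutatorElement_eq_one_iff_commute.2 (hcomm hy hc)
      have e3 : Commute d ⁅x, y⁆ := hcomm (hT.H_der_le hG (commutator_mem_commutator hx hy)) hd
      have e4 : Commute c ⁅x, y⁆ := hcomm (hT.H_der_le hG (commutator_mem_commutator hx hy)) hc
      have e5 : Commute ⁅c, d⁆ ⁅x, y⁆ := by
        simp only [commutatorElement_def] at e3 e4 ⊢
        exact ((e4.mul_left e3).mul_left e4.inv_left).mul_left e3.inv_left
      rw [commutatorElement_mul_left_eq_conj_mul, commutatorElement_mul_right_eq_mul_conj,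
        commutatorElement_mul_right_eq_mul_conj, e1, e2, one_mul, mul_one,
        e3.eq, mul_inv_cancel_right, e4.eq, mul_inv_cancel_right]
      simpa using e5.symm.eq
    rw [h1]
    refine mul_mem (mem_sup_right ?_) (mem_sup_left (commutator_mem_commutator hx hy))
    exact C.mul_mem (C.mul_mem (C.mul_mem hc hd) (C.inv_mem hc)) (C.inv_mem hd)
  have hdisj : C ⊓ H = ⊥ := by
    rw [inf_comm, ← le_bot_iff, ← hT.H_inf_U]
    exact inf_le_inf_left _ inf_le_left
  have hXcard : Nat.card X = Nat.card C * Nat.card ↥(⁅H, H⁆) := by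
    simp only [X]
    rw [sup_comm]
    refine CfsgLib.Solvable.card_sup_of_disjoint
      (inf_le_left.trans ((hT.U_le_M hG).trans (hT.H_der_normal hG))) ?_
    rw [← le_bot_iff, ← hdisj]
    exact inf_le_inf_left _ (hT.H_der_le hG)
  have hidx : X.relIndex F = (⁅H, H⁆ : Subgroup G).relIndex H := by
    refine Nat.eq_of_mul_eq_mul_left (Nat.card_pos (α := X)) ?_
    rw [CfsgLib.InvariantHall.relIndex_mul_card hXF, hT.card_fitting hG, hXcard, mul_assoc,
      CfsgLib.InvariantHall.relIndex_mul_card (hT.H_der_le hG), mul_comm]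
  refine (hT.index_derived_ge hG).trans (hidx ▸ ?_)
  refine Nat.le_of_dvd (Nat.pos_of_dvd_of_pos (relIndex_dvd_card _ _) Nat.card_pos) ?_
  exact ⟨_, (relIndex_mul_relIndex _ _ _ hle hXF).symm.trans (mul_comm _ _)⟩

variable [Fintype M]

/-- Peterfalvi 11.4. -/
theorem bound_of_coherent {R : (M → ℂ) → Finset (G → ℂ)}
    (hS : Cfsg.IsCoherenceSystem (tenS M) (tenTau M) R)
    (hnc : ¬ Cfsg.IsCoherent (tenS M) ({1}ᶜ : Set M) (tenTau M))
    (A : Subgroup M) [hA : A.Normal] (hAK : A < (Cfsg.sigmaCore M).subgroupOf M)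
    (hcoh : Cfsg.IsCoherent (Cfsg.inducedIrrAbove ((Cfsg.sigmaCore M).subgroupOf M) A) ({1}ᶜ : Set M)
      (tenTau M)) :
    A.relIndex ((Cfsg.sigmaCore M).subgroupOf M) ≤
      2 * Nat.card W₁ * (Cfsg.fittingOf M).relIndex ⁅M, M⁆ + 1 := by
  by_contra hlt
  obtain ⟨-, hd, -, -⟩ := hT.decomp hG
  set K := (Cfsg.sigmaCore M).subgroupOf M
  set F := Cfsg.fittingOf M
  set u := F.relIndex ⁅M, M⁆
  set q := Nat.card W₁
  have hFM : F ≤ M := Bender.fitting_le M
  have hFD : F ≤ ⁅M, M⁆ := hT.typeP.fitting_le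
  have hMF := Bender.le_normalizer_fitting M
  haveI hKn : K.Normal := (normal_subgroupOf_iff_le_normalizer (hd ▸ hT.derived_le)).2 (TH.le_normalizer_core M)
  have hsolv : Group.IsSolvable K := by
    haveI : Group.IsSolvable M := hG.2.2.2 M hT.coatom.1
    infer_instance
  set C := F.subgroupOf M
  set B := (⁅F, F⁆).subgroupOf M
  haveI : C.Normal := (normal_subgroupOf_iff_le_normalizer hFM).2 hMF
  haveI : B.Normal := (normal_subgroupOf_iff_le_normalizer ((commutator_le_self F).trans hFM)).2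
    (le_normalizer_commutator_self hMF)
  have hCK : C ≤ K := fun x hx => hd.le (hFD hx)
  have hBC : B ≤ C := fun x hx => commutator_le_self F hx
  have hKidx : K.index = q := by
    refine Nat.eq_of_mul_eq_mul_left (Nat.card_pos (α := K)) ?_
    rw [K.card_mul_index, show Nat.card K = Nat.card ↥⁅M, M⁆ by
      rw [hd]; exact Nat.card_congr (subgroupOfEquivOfLe (hd ▸ hT.derived_le)).toEquiv, hT.card_M]
  have hCidx : C.index = q * u := by
    rw [← relIndex_mul_index hCK, hKidx, relIndex_subgroupOf (hd ▸ hT.derived_le), ← hd, mul_comm]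
  obtain ⟨-, hu2, -⟩ := hT.u_facts hG
  change 2 * q + 1 ≤ u at hu2
  have hCK' : C < K := lt_of_le_of_ne hCK fun e => by
    have h1 : u = 1 := by
      show F.relIndex ⁅M, M⁆ = 1
      rw [hd, ← relIndex_subgroupOf (hd ▸ hT.derived_le : Cfsg.sigmaCore M ≤ M)]
      exact relIndex_eq_one.2 e.ge
    have := hT.q_three hG
    omega
  have hcent : ∀ x ∈ C, ∀ y ∈ C, x * y * x⁻¹ * y⁻¹ ∈ B := fun x hx y hy =>
    show ((x * y * x⁻¹ * y⁻¹ : M) : G) ∈ ⁅F, F⁆ from commutator_mem_commutator hx hy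
  have h1 : Cfsg.IsCoherent (Cfsg.inducedIrrAbove K B) ({1}ᶜ : Set M) (tenTau M) := by
    refine Cfsg.Agent.S1519.result K hsolv (tenTau M) R hS A B C C hAK (hBC.trans_lt hCK') hBC le_rfl hCK
      hcent hcoh ?_
    rw [relIndex_self, mul_one, hCidx, show 4 * (q * u) ^ 2 = (2 * q * u) ^ 2 by ring]
    refine Nat.pow_lt_pow_left ?_ two_ne_zero
    have e : 2 * q * u = 2 * (q * u) := mul_assoc _ _ _
    omega
  haveI : ((⊥ : Subgroup M).subgroupOf C).Normal := inferInstance
  have hnil : Group.IsNilpotent (↥C ⧸ (⊥ : Subgroup M).subgroupOf C) := by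
    haveI : Group.IsNilpotent F := Bender.nilpotent_fitting M
    haveI : Group.IsNilpotent C :=
      Group.nilpotent_of_mulEquiv (G := F) (G' := C) (subgroupOfEquivOfLe hFM).symm
    infer_instance
  refine hnc (Cfsg.Agent.S1520.result K hsolv (tenTau M) R hS ⊥ B C bot_le hBC hCK hnil h1 ?_)
  rw [hKidx, relIndex_subgroupOf hFM]
  refine lt_of_lt_of_le (four_sq_lt_pow (hT.p_three hG) (hT.q_three hG) (hT.p_ne_q hG) ?_)
    (hT.fitting_der_index hG)
  intro h4
  have := hT.prime_right hG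
  rw [h4] at this
  exact absurd this (by norm_num)

end Three

end CfsgLib.OddEnd
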