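import Cfsg.Agent.OddEnd.ElevenImages
import Cfsg.Agent.OddEnd.Cong

/-!
Peterfalvi 11.8: the coefficients of `(μ_j - u 1_{M'}^M)^τ` along the first column of the grid,
modulo `|W₁|`.
-/

set_option autoImplicit false
set_option linter.unusedSectionVars false

namespace CfsgLib.OddEnd

open CfsgLib.Char
open scoped ComplexConjugate

universe u

variable {p : ℕ}

theorem Cong.mul {a b c d : ℂ} (hp : p.Prime) (hb : IsIntegral ℤ b) (hc : IsIntegral ℤ c) (h : Cong p a b)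
    (h' : Cong p c d) : Cong p (a * c) (b * d) := by
  refine Cong.trans hp ?_ (Cong.mul_left hb h')
  rw [mul_comm a c, mul_comm b c]
  exact Cong.mul_left hc h

variable {G : Type u} [Group G]

namespace TenPair

open Cfsg CfsgLib.OddLocal CfsgLib.OddLocal.Kap

variable [Fintype G] {M N K Ks V : Subgroup G} (P : TenPair M N K Ks V) [Fintype M]
include P

omit [Fintype M] in
theorem core_index : ((Cfsg.sigmaCore M).subgroupOf M).index = Nat.card K := by
  refine Nat.eq_of_mul_eq_mul_left (Nat.card_pos (α := ↥((Cfsg.sigmaCore M).subgroupOf M))) ?_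
  rw [Subgroup.card_mul_index, FittingHall.card_complIn P.compl_M,
    Nat.card_congr (Subgroup.subgroupOfEquivOfLe P.compl_M.1).toEquiv]

omit [Fintype M] in
theorem prime_ne (hq : (Nat.card K).Prime) : ¬ Nat.card K ∣ Nat.card Ks := fun h => by
  have hcop := coprime_of_cyclic_sup P.W_M.2.2.1 P.W_M.2.2.2.1 P.W_M.2.2.2.2.1
  exact hq.not_dvd_one (hcop ▸ Nat.dvd_gcd dvd_rfl h)

/-- The principal character of `M'`, induced. -/
theorem indOne_apply {x : M} (hx : (x : G) ∈ Cfsg.sigmaCore M) :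
    Cfsg.indFun ((Cfsg.sigmaCore M).subgroupOf M) (fun _ => (1 : ℂ)) x = (Nat.card K : ℂ) := by
  have := P.normal_core
  rw [show x = ((⟨x, hx⟩ : (Cfsg.sigmaCore M).subgroupOf M) : M) from rfl, indFun_apply_normal,
    Finset.sum_const, Finset.card_univ, nsmul_eq_mul, mul_one, ← Nat.card_eq_fintype_card,
    ← Subgroup.card_mul_index ((Cfsg.sigmaCore M).subgroupOf M), P.core_index, Nat.cast_mul,
    inv_mul_cancel_left₀ (by exact_mod_cast (Nat.card_pos).ne')]

theorem indOne_off {x : M} (hx : (x : G) ∉ Cfsg.sigmaCore M) :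
    Cfsg.indFun ((Cfsg.sigmaCore M).subgroupOf M) (fun _ => (1 : ℂ)) x = 0 := by
  have := P.normal_core
  exact indFun_eq_zero_of_normal _ hx

variable {χ : (↥(K ⊔ Ks) →* ℂˣ) → G → ℂ} {μ : (↥(K ⊔ Ks) →* ℂˣ) → M → ℂ}
  {δ : (↥(K ⊔ Ks) →* ℂˣ) → ℂ}

theorem col_apply [Fintype (Row K Ks)] (hμ : IsMuG M (Cfsg.sigmaCore M) K Ks μ δ) (l : Col K Ks) {x : M}
    (hx : (x : G) ∈ Cfsg.sigmaCore M) :
    (∑ r : Row K Ks, μ (cell r l)) x = (Nat.card K : ℂ) * μ l.1 x := by
  rw [Finset.sum_apply, Finset.sum_congr rfl fun r _ => hμ.restrict_eq (cell r l) l.1 (fun w hw => by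
    rw [cell, MonoidHom.mul_apply, r.2 w hw, one_mul]) x hx, Finset.sum_const, Finset.card_univ,
    nsmul_eq_mul, ← Nat.card_eq_fintype_card, (card_trivL P.W_M).2]

/-- A generator of `K` and the value of `μ_ω` at its product with an element of `Ks`. -/
theorem mu_mixed (hμ : IsMuG M (Cfsg.sigmaCore M) K Ks μ δ) (hq : (Nat.card K).Prime) (l : Col K Ks)
    {a w : M} (ha : (a : G) ∈ K) (ha1 : a ≠ 1) (hw : (w : G) ∈ Ks) :
    orderOf a = Nat.card K ∧ Commute a w ∧ ((a * w : M) : G) ∉ Ks ∧ Cong (Nat.card K) (μ l.1 w)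
      (δ l.1 * (l.1 ⟨(w : G), Subgroup.mem_sup_right hw⟩ : ℂ)) := by
  have hord : orderOf a = Nat.card K := by
    have := K.orderOf_dvd_natCard ha
    rw [Subgroup.orderOf_coe] at this
    exact ((Nat.dvd_prime hq).1 this).resolve_left fun e => ha1 (orderOf_eq_one_iff.1 e)
  have hcomm : Commute a w := Subtype.ext (P.W_M.2.2.2.1 _ ha _ hw)
  have hout : ((a * w : M) : G) ∉ Ks := fun h => ha1 (Subtype.ext (by
    have h' : (a : G) ∈ K ⊓ Ks := ⟨ha, by simpa using Ks.mul_mem h (Ks.inv_mem hw)⟩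
    rwa [P.W_M.2.2.1, Subgroup.mem_bot] at h'))
  refine ⟨hord, hcomm, hout, ?_⟩
  have hv := hμ.value l.1 (a * w) (Subgroup.mul_mem _ (Subgroup.mem_sup_left ha) (Subgroup.mem_sup_right hw)) hout
  have hl : l.1 ⟨((a * w : M) : G), Subgroup.mul_mem _ (Subgroup.mem_sup_left ha) (Subgroup.mem_sup_right hw)⟩ =
      l.1 ⟨(w : G), Subgroup.mem_sup_right hw⟩ := by
    rw [show (⟨((a * w : M) : G), Subgroup.mul_mem _ (Subgroup.mem_sup_left ha) (Subgroup.mem_sup_right hw)⟩ :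
        ↥(K ⊔ Ks)) = ⟨(a : G), Subgroup.mem_sup_left ha⟩ * ⟨(w : G), Subgroup.mem_sup_right hw⟩ from rfl,
      map_mul, l.2 ⟨(a : G), _⟩ ha, one_mul]
  rw [hl] at hv
  exact hv ▸ (cong_apply_mul (IsIrrCharacter.isGeneralized (hμ.irr l.1)) hq hord hcomm).symm

/-- The sign of a column whose degree is `1 (mod q)`. -/
theorem sign_one (hμ : IsMuG M (Cfsg.sigmaCore M) K Ks μ δ) (hq : (Nat.card K).Prime) (l : Col K Ks)
    {u : ℕ} (hu : μ l.1 1 = (u : ℂ)) (hu1 : u ≡ 1 [MOD Nat.card K]) (h3 : 3 ≤ Nat.card K) : δ l.1 = 1 := by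
  obtain ⟨a, ha, ha1⟩ := (Subgroup.bot_or_exists_ne_one K).resolve_left P.hK1
  have h := (P.mu_mixed hμ hq l (a := ⟨a, P.le_M (Subgroup.mem_sup_left ha)⟩) (w := 1) ha
    (fun e => ha1 (congrArg Subtype.val e)) (Subgroup.one_mem Ks)).2.2.2
  rw [show (⟨((1 : M) : G), Subgroup.mem_sup_right (Subgroup.one_mem Ks)⟩ : ↥(K ⊔ Ks)) = 1 from rfl,
    map_one, Units.val_one, mul_one, hu] at h
  rcases hμ.sign l.1 with e | e
  · exact e
  exfalso
  rw [e] at h
  have h' : Cong (Nat.card K) (((1 : ℕ) : ℤ) : ℂ) (((-1 : ℤ)) : ℂ) := by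
    refine Cong.trans hq (Cong.symm ?_) (by simpa using h)
    simpa using natCast_cong_of_modEq hq hu1
  have h'' := int_cong_iff hq h'
  have := Int.le_of_dvd (by norm_num) h''
  push_cast at this
  omega

/-- The principal row of the grid is `≡ 1` on `Ks`. -/
theorem eta_cong (hχ : Cfsg.IsCyclicTIFamily K Ks χ) (hq : (Nat.card K).Prime) (r : Row K Ks)
    {w : G} (hw : w ∈ Ks) (hw1 : w ≠ 1) : Cong (Nat.card K) (χ (cell r col₀) w) 1 := by
  obtain ⟨a, ha, ha1⟩ := (Subgroup.bot_or_exists_ne_one K).resolve_left P.hK1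
  have hord : orderOf a = Nat.card K := ((Nat.dvd_prime hq).1 (K.orderOf_dvd_natCard ha)).resolve_left
    fun e => ha1 (orderOf_eq_one_iff.1 e)
  have hwK : w ∉ K := fun h => hw1 (by
    have h' : w ∈ K ⊓ Ks := ⟨h, hw⟩
    rwa [P.W_M.2.2.1, Subgroup.mem_bot] at h')
  have h1 : a * w ∉ K := fun h => hwK (by simpa using K.mul_mem (K.inv_mem ha) h)
  have h2 : a * w ∉ Ks := fun h => ha1 (by
    have h' : a ∈ K ⊓ Ks := ⟨ha, by simpa using Ks.mul_mem h (Ks.inv_mem hw)⟩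
    rwa [P.W_M.2.2.1, Subgroup.mem_bot] at h')
  set A : ↥(K ⊔ Ks) := ⟨a, Subgroup.mem_sup_left ha⟩
  set B : ↥(K ⊔ Ks) := ⟨w, Subgroup.mem_sup_right hw⟩
  refine Cong.trans hq (cong_apply_mul (isGeneralized_family hχ _) hq hord (P.W_M.2.2.2.1 a ha w hw)).symm ?_
  rw [show a * w = ((A * B : ↥(K ⊔ Ks)) : G) from rfl, hχ.eq_on _ _ h1 h2, cell_col₀, map_mul,
    r.2 B hw, mul_one]
  have hA : orderOf A = Nat.card K := (Subgroup.orderOf_coe A).symm.trans hord
  simpa using cong_apply_one (IsCharacter.isGeneralized (isCharacter_ofHom r.1)) hq hA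

/-- Peterfalvi 11.8.3: `⟨(μ_l - u 1_{M'}^M)^τ, η_{r0}⟩ ≡ -1 (mod q)`. -/
theorem cong_row [Fintype (Row K Ks)] (hχ : Cfsg.IsCyclicTIFamily K Ks χ)
    (hμ : IsMuG M (Cfsg.sigmaCore M) K Ks μ δ) (hq : (Nat.card K).Prime) (h3 : 3 ≤ Nat.card K) {l : Col K Ks}
    (hl : l ≠ col₀) (hS : (∑ r : Row K Ks, μ (cell r l)) ∈ tenS M) {u : ℕ} (hu : μ l.1 1 = (u : ℂ))
    (hu1 : u ≡ 1 [MOD Nat.card K]) :
    SuppA M ((∑ r : Row K Ks, μ (cell r l)) -
        ((u : ℤ) : ℂ) • Cfsg.indFun ((Cfsg.sigmaCore M).subgroupOf M) (fun _ => (1 : ℂ))) ∧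
      ∀ (r : Row K Ks) (z : ℤ), Cfsg.classInner (tenTau M ((∑ r : Row K Ks, μ (cell r l)) -
        ((u : ℤ) : ℂ) • Cfsg.indFun ((Cfsg.sigmaCore M).subgroupOf M) (fun _ => (1 : ℂ))))
          (χ (cell r col₀)) = (z : ℂ) → (Nat.card K : ℤ) ∣ z + 1 := by
  classical
  set q := Nat.card K with hqdef
  set p := Nat.card Ks with hpdef
  set Kd := (Cfsg.sigmaCore M).subgroupOf M with hKd
  set β := (∑ r : Row K Ks, μ (cell r l)) - ((u : ℤ) : ℂ) • Cfsg.indFun Kd (fun _ => (1 : ℂ)) with hβ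
  have hon : ∀ x : M, (x : G) ∈ Cfsg.sigmaCore M → β x = (q : ℂ) * (μ l.1 x - (u : ℂ)) := fun x hx => by
    rw [hβ, Pi.sub_apply, Pi.smul_apply, P.col_apply hμ l hx, P.indOne_apply hx, smul_eq_mul, Int.cast_natCast]
    ring
  have hoff : ∀ x : M, (x : G) ∉ Cfsg.sigmaCore M → β x = 0 := fun x hx => by
    rw [hβ, Pi.sub_apply, Pi.smul_apply, P.tenS_off hS hx, P.indOne_off hx, smul_zero, sub_zero]
  have hsupp : SuppA M β := by
    refine ⟨IsGeneralized.sub (IsCharacter.isGeneralized (tenS_char hS)) (IsGeneralized.intCast_smul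
      (IsCharacter.isGeneralized (IsCharacter.indFun (IsIrrCharacter.isCharacter isIrrCharacter_one))) _),
      fun x hx => ?_⟩
    by_cases hxK : (x : G) ∈ Cfsg.sigmaCore M
    · rw [show x = 1 from Subtype.ext (by_contra fun e => hx (P.mem_A hxK e)), hon 1 (Subgroup.one_mem _), hu,
        sub_self, mul_zero]
    · exact hoff x hxK
  refine ⟨hsupp, fun r z hz => ?_⟩
  set η := χ (cell r col₀) with hη
  have hηg : Cfsg.IsGeneralizedCharacter G η := isGeneralized_family hχ _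
  set f := rhoOn (Cfsg.typeA M) M (Cfsg.supportR M) η with hf
  have hηc := IsGeneralized.isClassFunction hηg
  have hfc : Cfsg.IsClassFunction M f := rhoOn_isClassFunction P.dade_A hηc
  rw [tenTau, classInner_dade_rhoOn P.dade_A (IsGeneralized.isClassFunction hsupp.1) hsupp.2 hηc,
    classInner_def] at hz
  set s := Finset.univ.filter (fun x : M => (x : G) ∈ Cfsg.sigmaCore M ∧ x ≠ 1) with hs
  set g : M → ℂ := fun x => (μ l.1 x - (u : ℂ)) * conj (f x) with hg
  have hcard : Nat.card M = q * Nat.card Kd := by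
    rw [hqdef, ← P.core_index, mul_comm, Subgroup.card_mul_index]
  have hsum : ∑ x : M, β x * conj (f x) = (q : ℂ) * ∑ x ∈ s, g x := by
    rw [Finset.mul_sum, hs, Finset.sum_filter]
    refine Finset.sum_congr rfl fun x _ => ?_
    by_cases hx : (x : G) ∈ Cfsg.sigmaCore M ∧ x ≠ 1
    · rw [if_pos hx, hon x hx.1, hg, mul_assoc]
    · rw [if_neg hx]
      by_cases hxK : (x : G) ∈ Cfsg.sigmaCore M
      · rw [hon x hxK, show x = 1 from by_contra fun e => hx ⟨hxK, e⟩, hu, sub_self, mul_zero, zero_mul]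
      · rw [hoff x hxK, zero_mul]
  have hzs : ((z * (Nat.card Kd : ℤ) : ℤ) : ℂ) = ∑ x ∈ s, g x := by
    rw [hsum, hcard, Nat.cast_mul] at hz
    rw [Int.cast_mul, Int.cast_natCast, ← hz]
    have h1 : (q : ℂ) ≠ 0 := by exact_mod_cast hq.ne_zero
    have h2 : (Nat.card Kd : ℂ) ≠ 0 := by exact_mod_cast (Nat.card_pos).ne'
    field_simp
  obtain ⟨a, ha, ha1⟩ := (Subgroup.bot_or_exists_ne_one K).resolve_left P.hK1
  set a' : M := ⟨a, P.le_M (Subgroup.mem_sup_left ha)⟩ with ha'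
  have ha'1 : a' ≠ 1 := fun e => ha1 (congrArg Subtype.val e)
  set σ : M → M := fun x => a' * x * a'⁻¹ with hσ
  have hiter : ∀ (n : ℕ) (x : M), σ^[n] x = a' ^ n * x * (a' ^ n)⁻¹ := fun n x => by
    induction n with
    | zero => simp
    | succ n ih => rw [Function.iterate_succ_apply', ih, hσ, pow_succ']; group
  have hord : a' ^ q = 1 := Subtype.ext (by
    rw [Subgroup.coe_pow, hqdef]
    exact congrArg Subtype.val (pow_card_eq_one' (x := (⟨a, ha⟩ : K))))
  have hσs : ∀ x ∈ s, σ x ∈ s := fun x hx => by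
    obtain ⟨hxK, hx1⟩ := (Finset.mem_filter.1 hx).2
    refine Finset.mem_filter.2 ⟨Finset.mem_univ _,
      (Subgroup.mem_normalizer_iff.1 (TH.le_normalizer_core M a'.2) x).1 hxK, fun e => hx1 ?_⟩
    rwa [hσ, conj_eq_one_iff] at e
  have hσo : ∀ x ∈ s, σ^[q] x = x := fun x _ => by rw [hiter, hord, one_mul, inv_one, mul_one]
  have hfix : s.filter (fun x => σ x = x) = (Finset.univ.filter fun x : M => (x : G) ∈ Ks).erase 1 := by
    ext x
    rw [Finset.mem_filter, Finset.mem_erase, hs, Finset.mem_filter, Finset.mem_filter]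
    constructor
    · rintro ⟨⟨-, hxK, hx1⟩, hx⟩
      refine ⟨hx1, Finset.mem_univ _, ?_⟩
      have hc : (x : G) * a = a * x := by
        have h' : a' * x = x * a' := mul_inv_eq_iff_eq_mul.1 hx
        exact (congrArg Subtype.val h').symm
      have hW : (x : G) ∈ K ⊔ Ks := (P.meet_M ha ha1).le ⟨x.2, Subgroup.mem_centralizer_singleton_iff.2 hc⟩
      exact mem_right_of_mem_kernel P.primeDade_M.action (w := x) ((P.primeDade_M.mem_sup_iff x).2 hW) hxK
    · rintro ⟨hx1, -, hxK⟩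
      refine ⟨⟨Finset.mem_univ _, P.Ks_le hxK, hx1⟩, mul_inv_eq_iff_eq_mul.2 (Subtype.ext ?_)⟩
      exact P.W_M.2.2.2.1 a ha x hxK
  set F := (Finset.univ.filter fun x : M => (x : G) ∈ Ks).erase 1 with hF
  obtain ⟨w₀, hw₀, hw₀1⟩ := (Subgroup.bot_or_exists_ne_one Ks).resolve_left P.Ks_ne
  have hR : ∀ x ∈ s, ∃ n : ℕ, ¬ q ∣ n ∧ IsIntegral ℤ ((n : ℂ) * g x) := fun x hx => by
    obtain ⟨hxK, hx1⟩ := (Finset.mem_filter.1 hx).2
    have hxA : (x : G) ∈ Cfsg.typeA M := P.mem_A hxK fun e => hx1 (Subtype.ext e)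
    refine ⟨Nat.card (Cfsg.supportR M (x : G)), fun hd => ?_, ?_⟩
    · have hqd : q ∣ Nat.card ↥(M ⊓ Subgroup.centralizer ({w₀} : Set G)) := by
        refine Subgroup.card_dvd_of_le fun y hy => ⟨P.le_M (Subgroup.mem_sup_left hy), ?_⟩
        exact Subgroup.mem_centralizer_singleton_iff.2 (P.W_M.2.2.2.1 y hy w₀ hw₀)
      exact hq.not_dvd_one ((P.dade_A.coprime _ hxA w₀ (P.mem_A (P.Ks_le hw₀) hw₀1)) ▸ Nat.dvd_gcd hd hqd)
    · rw [hg]
      simp only
      rw [hf, rhoOn_of_mem hxA, rho, map_mul, map_inv₀, Complex.conj_natCast, ← mul_assoc, mul_comm (_ : ℂ) (μ l.1 x - u),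
        mul_assoc, mul_inv_cancel_left₀ (by exact_mod_cast (Nat.card_pos).ne')]
      refine IsIntegral.mul ((IsGeneralized.isIntegral (IsIrrCharacter.isGeneralized (hμ.irr _)) x).sub
        (by simpa using (isIntegral_algebraMap (R := ℤ) (A := ℂ) (x := (u : ℤ))))) ?_
      refine IsIntegral.map (starRingEnd ℂ).toIntAlgHom ?_
      rw [finsum_mem_eq_finite_toFinset_sum _ (Set.toFinite _)]
      exact IsIntegral.sum _ fun v _ => IsGeneralized.isIntegral hηg _
  have hgσ : ∀ x ∈ s, g (σ x) = g x := fun x _ => by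
    simp only [hg, hσ]
    rw [IsIrrCharacter.isClassFunction (hμ.irr l.1) x a', hfc x a']
  have h1 : Cong q (∑ x ∈ s, g x) (∑ x ∈ F, g x) := by
    rw [← hfix]; exact sum_cong_fixed hq s σ hσs hσo hgσ hR
  let L : M → ℂ := fun x => if h : (x : G) ∈ Ks then (l.1 ⟨(x : G), Subgroup.mem_sup_right h⟩ : ℂ) else 0
  have h2 : Cong q (∑ x ∈ F, g x) (∑ x ∈ F, (L x - 1)) := by
    refine Cong.sum hq _ fun x hx => ?_
    obtain ⟨hx1, hx2⟩ := Finset.mem_erase.1 hx
    have hxKs : (x : G) ∈ Ks := (Finset.mem_filter.1 hx2).2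
    have hxG : (x : G) ≠ 1 := fun e => hx1 (Subtype.ext e)
    have hfx : conj (f x) = η (x : G)⁻¹ := by
      rw [hf, rhoOn_of_mem (P.mem_A (P.Ks_le hxKs) hxG), rho,
        supportR_eq_bot P.hG (P.centralizer_le hxKs hxG), Subgroup.card_bot, Subgroup.coe_bot,
        finsum_mem_singleton, Nat.cast_one, inv_one, one_mul, mul_one, IsGeneralized.apply_inv hηg]
    simp only [hg, L, dif_pos hxKs]
    rw [hfx]
    conv_rhs => rw [← mul_one (_ - _)]
    refine Cong.mul hq ?_ (IsGeneralized.isIntegral hηg _) ?_ (P.eta_cong hχ hq r (Ks.inv_mem hxKs) (inv_ne_one.2 hxG))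
    · refine IsIntegral.sub ?_ isIntegral_one
      exact IsGeneralized.isIntegral (IsCharacter.isGeneralized (isCharacter_ofHom l.1)) _
    · rw [sub_eq_add_neg, sub_eq_add_neg]
      refine Cong.add hq ?_ (Cong.neg (by simpa using natCast_cong_of_modEq hq hu1))
      have := (P.mu_mixed hμ hq l (a := a') (w := x) ha ha'1 hxKs).2.2.2
      rwa [P.sign_one hμ hq l hu hu1 h3, one_mul] at this
  have h1' : (1 : M) ∈ Finset.univ.filter fun x : M => (x : G) ∈ Ks :=
    Finset.mem_filter.2 ⟨Finset.mem_univ _, Subgroup.one_mem Ks⟩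
  have hcardKs : (Finset.univ.filter fun x : M => (x : G) ∈ Ks).card = p := by
    rw [hpdef, ← Nat.card_congr (Subgroup.subgroupOfEquivOfLe ((sup_le_iff.1 P.le_M).2)).toEquiv,
      Nat.card_eq_fintype_card, Fintype.card_subtype]
    rfl
  have hFsum : ∑ x ∈ F, (L x - 1) = ((-(p : ℤ) : ℤ) : ℂ) := by
    have hL1 : L 1 - 1 = 0 := by
      simp only [L]
      rw [dif_pos (show ((1 : M) : G) ∈ Ks from Subgroup.one_mem Ks),
        show (⟨((1 : M) : G), Subgroup.mem_sup_right (Subgroup.one_mem Ks)⟩ : ↥(K ⊔ Ks)) = 1 from rfl,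
        map_one, Units.val_one, sub_self]
    rw [hF, Finset.sum_erase (f := fun x => L x - 1) _ hL1,
      Finset.sum_sub_distrib, Finset.sum_const, hcardKs, nsmul_eq_mul, mul_one]
    suffices h0 : ∑ x ∈ Finset.univ.filter (fun x : M => (x : G) ∈ Ks), L x = 0 by
      rw [h0, zero_sub]; push_cast; ring
    obtain ⟨w, hw⟩ : ∃ w : ↥(K ⊔ Ks), l.1 w ≠ 1 := by
      by_contra h
      push Not at h
      exact hl (Subtype.ext (MonoidHom.ext fun w => by rw [h w]; rfl))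
    obtain ⟨k, hk, v, hv, e⟩ : ∃ k ∈ K, ∃ v ∈ Ks, k * v = (w : G) := by
      obtain ⟨e, he⟩ := CfsgLib.Char.exists_prod_equiv P.W_M.2.2.1 P.W_M.2.2.2.1
      obtain ⟨⟨k, v⟩, hkv⟩ := e.surjective w
      exact ⟨k, k.2, v, v.2, by rw [← he (k, v), hkv]⟩
    set v' : M := ⟨v, (sup_le_iff.1 P.le_M).2 hv⟩
    have hLv : L v' ≠ 1 := by
      simp only [L]
      rw [dif_pos hv]
      intro e1
      refine hw ?_
      rw [show w = ⟨k, Subgroup.mem_sup_left hk⟩ * ⟨v, Subgroup.mem_sup_right hv⟩ from Subtype.ext e.symm,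
        map_mul, l.2 ⟨k, _⟩ hk, one_mul]
      exact Units.ext e1
    set T := Finset.univ.filter (fun x : M => (x : G) ∈ Ks)
    have hshift : ∑ x ∈ T, L x = L v' * ∑ x ∈ T, L x := by
      rw [Finset.mul_sum]
      refine (Finset.sum_bij (fun x _ => v' * x) (fun x hx => ?_) (fun x _ y _ h => mul_left_cancel h)
        (fun y hy => ?_) (fun x hx => ?_)).symm
      · exact Finset.mem_filter.2 ⟨Finset.mem_univ _, Ks.mul_mem hv (Finset.mem_filter.1 hx).2⟩
      · exact ⟨v'⁻¹ * y, Finset.mem_filter.2 ⟨Finset.mem_univ _,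
          Ks.mul_mem (Ks.inv_mem hv) (Finset.mem_filter.1 hy).2⟩, mul_inv_cancel_left _ _⟩
      · have hxK := (Finset.mem_filter.1 hx).2
        simp only [L]
        rw [dif_pos hv, dif_pos hxK, dif_pos (show ((v' * x : M) : G) ∈ Ks from Ks.mul_mem hv hxK),
          ← Units.val_mul, ← map_mul]
        rfl
    have h0 : (L v' - 1) * ∑ x ∈ T, L x = 0 := by linear_combination -hshift
    exact (mul_eq_zero.1 h0).resolve_left (sub_ne_zero.2 hLv)
  -- the order of `M'` modulo `q`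
  have hK : Cong q ((((Nat.card Kd : ℤ) - 1 : ℤ)) : ℂ) ((((p : ℤ) - 1 : ℤ)) : ℂ) := by
    have h := sum_cong_fixed hq s σ hσs hσo (f := fun _ => (1 : ℂ)) (fun _ _ => rfl)
      fun _ _ => ⟨1, hq.not_dvd_one, by rw [Nat.cast_one, one_mul]; exact isIntegral_one⟩
    rw [hfix] at h
    simp only [Finset.sum_const, nsmul_eq_mul, mul_one] at h
    have hs1 : s.card + 1 = Nat.card Kd := by
      have h1K : (1 : M) ∈ Finset.univ.filter fun x : M => (x : G) ∈ Cfsg.sigmaCore M :=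
        Finset.mem_filter.2 ⟨Finset.mem_univ _, Subgroup.one_mem _⟩
      rw [show s = (Finset.univ.filter fun x : M => (x : G) ∈ Cfsg.sigmaCore M).erase 1 by
          ext x; simp [hs, and_comm], Finset.card_erase_add_one h1K, hKd, Nat.card_eq_fintype_card,
        Fintype.card_subtype]
      rfl
    have hF1 : F.card + 1 = p := by rw [hF, Finset.card_erase_add_one h1', hcardKs]
    rw [show (((Nat.card Kd : ℤ) - 1 : ℤ)) = (s.card : ℤ) by omega,
      show (((p : ℤ) - 1 : ℤ)) = (F.card : ℤ) by omega, Int.cast_natCast, Int.cast_natCast]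
    exact h
  have hdvdK : (q : ℤ) ∣ (Nat.card Kd : ℤ) - p := by
    have := int_cong_iff hq hK
    rwa [sub_sub_sub_cancel_right] at this
  have hdvdz : (q : ℤ) ∣ z * (Nat.card Kd : ℤ) - -(p : ℤ) := by
    refine int_cong_iff hq ?_
    rw [hzs, ← hFsum]
    exact Cong.trans hq h1 h2
  have : (q : ℤ) ∣ (p : ℤ) * (z + 1) := by
    have := dvd_sub hdvdz (dvd_mul_of_dvd_right hdvdK z)
    rwa [show z * (Nat.card Kd : ℤ) - -(p : ℤ) - z * ((Nat.card Kd : ℤ) - p) = (p : ℤ) * (z + 1) by ring] at this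
  rcases (Nat.prime_iff_prime_int.1 hq).dvd_mul.1 this with h | h
  · exact absurd (Int.natCast_dvd_natCast.1 h) (P.prime_ne hq)
  · exact h

end TenPair

end CfsgLib.OddEnd
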