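import Cfsg.Agent.OddEnd.ElevenAbelian
import Cfsg.Agent.OddEnd.ElevenBound
import Cfsg.Agent.OddEnd.ElevenCong
import Cfsg.Agent.Char.CoherenceOddKernel

/-!
Peterfalvi 11.6-11.8: the set `S(C)` of a subgroup of type III or IV with `M'' = F(M)`: it is not
coherent, and it holds a family `X` of irreducible members of degree `q` and all nontrivial columns.
-/

set_option autoImplicit false
set_option linter.unusedSectionVars false
set_option linter.style.haveILetI false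

namespace CfsgLib.OddEnd

open Subgroup CfsgLib.OddLocal CfsgLib.Char
open scoped ComplexConjugate commutatorElement

universe u

variable {G : Type u} [Group G]

/-- `M'` inside `M`. -/
abbrev coreIn (M : Subgroup G) : Subgroup M := (Cfsg.sigmaCore M).subgroupOf M

/-- `F(M)` inside `M`. -/
abbrev fitIn (M : Subgroup G) : Subgroup M := (Cfsg.fittingOf M).subgroupOf M

/-- `C_U(H)` inside `M`. -/
abbrev centIn (M U : Subgroup G) : Subgroup M :=
  (U ⊓ centralizer (Cfsg.fittingHallOf M : Set G)).subgroupOf M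

namespace Three

variable {M W₁ U W₂ : Subgroup G}

theorem exists_pair_ten [Finite G] (hT : Three M W₁ U W₂) (hG : Cfsg.IsMinSimpleOddOrder G) :
    ∃ N V : Subgroup G, TenPair M N W₁ W₂ V := by
  obtain ⟨hWU, -, -, hW₂⟩ := hT.decomp hG
  obtain ⟨N, V, P⟩ := exists_tenPair hG hT.coatom hWU hT.typeP.W₁_ne
  exact ⟨N, V, hW₂.symm ▸ P⟩

variable [Fintype G] (hT : Three M W₁ U W₂) (hG : Cfsg.IsMinSimpleOddOrder G)
include hT hG

theorem U_normalizes_C : U ≤ normalizer ((U ⊓ centralizer (Cfsg.fittingHallOf M : Set G) : Subgroup G) : Set G) := by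
  refine CfsgLib.Signalizer.le_normalizer_of_conj_mem fun g hg c hc => ?_
  refine mem_inf.2 ⟨U.mul_mem (U.mul_mem hg (mem_inf.1 hc).1) (U.inv_mem hg), mem_centralizer_iff.2 fun h hh => ?_⟩
  have h' : g⁻¹ * h * g ∈ Cfsg.fittingHallOf M := by
    simpa using (mem_normalizer_iff.1 (inv_mem (hT.UH hG hg)) h).1 hh
  have e := mem_centralizer_iff.1 (mem_inf.1 hc).2 _ h'
  calc h * (g * c * g⁻¹) = g * (g⁻¹ * h * g * c) * g⁻¹ := by group
    _ = g * (c * (g⁻¹ * h * g)) * g⁻¹ := by rw [e]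
    _ = g * c * g⁻¹ * h := by group

theorem C_normal : M ≤ normalizer ((U ⊓ centralizer (Cfsg.fittingHallOf M : Set G) : Subgroup G) : Set G) := by
  intro m hm
  obtain ⟨d, hd', w, hw, rfl⟩ := hT.typeP.W₁_compl.2.2.2 m hm
  obtain ⟨x, hx, v, hv, rfl⟩ := hT.typeP.U_compl.2.2.2 d hd'
  refine mul_mem (mul_mem ?_ (hT.U_normalizes_C hG hv)) ?_
  · refine mem_normalizer_iff.2 fun c => ?_
    have hcomm : ∀ {c : G}, c ∈ U ⊓ centralizer (Cfsg.fittingHallOf M : Set G) → x * c * x⁻¹ = c :=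
      fun {c} hc => by rw [mem_centralizer_iff.1 (mem_inf.1 hc).2 x hx, mul_inv_cancel_right]
    refine ⟨fun hc => (hcomm hc).symm ▸ hc, fun hc => ?_⟩
    have h2 := hcomm hc
    have : x * c * x⁻¹ = c := by
      have h3 := congrArg (fun t => x⁻¹ * t * x) h2
      simpa [mul_assoc] using h3
    rwa [this] at hc
  · refine mem_normalizer_iff.2 fun c => ?_
    have hW := hT.typeP.U_normal hw
    have hH := FittingHall.le_normalizer_of M (hT.left_le hw)
    constructor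
    · intro hc
      refine mem_inf.2 ⟨(mem_normalizer_iff.1 hW c).1 (mem_inf.1 hc).1, mem_centralizer_iff.2 fun h hh => ?_⟩
      have h' : w⁻¹ * h * w ∈ Cfsg.fittingHallOf M := by
        simpa using (mem_normalizer_iff.1 (inv_mem hH) h).1 hh
      have e := mem_centralizer_iff.1 (mem_inf.1 hc).2 _ h'
      calc h * (w * c * w⁻¹) = w * (w⁻¹ * h * w * c) * w⁻¹ := by group
        _ = w * (c * (w⁻¹ * h * w)) * w⁻¹ := by rw [e]
        _ = w * c * w⁻¹ * h := by group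
    · intro hc
      refine mem_inf.2 ⟨(mem_normalizer_iff.1 hW c).2 (mem_inf.1 hc).1, mem_centralizer_iff.2 fun h hh => ?_⟩
      have h' : w * h * w⁻¹ ∈ Cfsg.fittingHallOf M := (mem_normalizer_iff.1 hH h).1 hh
      have e := mem_centralizer_iff.1 (mem_inf.1 hc).2 _ h'
      calc h * c = w⁻¹ * (w * h * w⁻¹ * (w * c * w⁻¹)) * w := by group
        _ = w⁻¹ * (w * c * w⁻¹ * (w * h * w⁻¹)) * w := by rw [e]
        _ = c * h := by group

theorem C_le_M : U ⊓ centralizer (Cfsg.fittingHallOf M : Set G) ≤ M := inf_le_left.trans (hT.U_le_M hG)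

theorem fitting_factor {x : G} (hx : x ∈ Cfsg.fittingOf M) :
    ∃ h ∈ Cfsg.fittingHallOf M, ∃ c ∈ U ⊓ centralizer (Cfsg.fittingHallOf M : Set G), h * c = x ∧
      Commute h c := by
  rw [hT.fitting_eq hG, ← SetLike.mem_coe, sup_comm, coe_mul_of_left_le_normalizer_right _ _
    (inf_le_left.trans (hT.UH hG))] at hx
  obtain ⟨c, hc, h, hh, rfl⟩ := hx
  have e := mem_centralizer_iff.1 (mem_inf.1 hc).2 h hh
  exact ⟨h, hh, c, hc, e, e⟩

variable (hd : ⁅⁅M, M⁆, ⁅M, M⁆⁆ = Cfsg.fittingOf M)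
include hd

theorem H_comm {a b : G} (ha : a ∈ Cfsg.fittingHallOf M) (hb : b ∈ Cfsg.fittingHallOf M) : Commute a b :=
  commutatorElement_eq_one_iff_mul_comm.1 (mem_bot.1 ((hT.derived_eq_bot hG hd).le
    (commutator_mem_commutator ha hb)))

/-- Peterfalvi 11.5: `C_U(H) = U'`. -/
theorem C_eq_derived : U ⊓ centralizer (Cfsg.fittingHallOf M : Set G) = ⁅U, U⁆ := by
  set H := Cfsg.fittingHallOf M
  refine le_antisymm ?_ ?_
  · intro c hc
    have hUH := hT.UH hG
    have hle : ⁅⁅M, M⁆, ⁅M, M⁆⁆ ≤ H ⊔ ⁅U, U⁆ := by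
      refine commutator_le.2 fun a ha b hb => ?_
      obtain ⟨h, hh, v, hv, rfl⟩ := hT.typeP.U_compl.2.2.2 a ha
      obtain ⟨h', hh', v', hv', rfl⟩ := hT.typeP.U_compl.2.2.2 b hb
      rw [show ⁅h * v, h' * v'⁆ = h * (v * h' * v⁻¹) * ⁅v, v'⁆ * (v' * h⁻¹ * v'⁻¹) * h'⁻¹ by
        simp [commutatorElement_def, mul_assoc]]
      refine mul_mem (mul_mem (mul_mem ?_ (mem_sup_right (commutator_mem_commutator hv hv')))
        (mem_sup_left ((mem_normalizer_iff.1 (hUH hv') _).1 (H.inv_mem hh)))) (mem_sup_left (H.inv_mem hh'))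
      exact mem_sup_left (H.mul_mem hh ((mem_normalizer_iff.1 (hUH hv) _).1 hh'))
    have hcF : c ∈ H ⊔ ⁅U, U⁆ := hle (hd.ge (by rw [hT.fitting_eq hG]; exact mem_sup_right hc))
    rw [← SetLike.mem_coe, sup_comm, coe_mul_of_left_le_normalizer_right _ _
      ((commutator_le_self U).trans hUH)] at hcF
    obtain ⟨y, hy, x, hx, rfl⟩ := hcF
    have hxU : x ∈ U := by simpa using U.mul_mem (U.inv_mem (commutator_le_self U hy)) (mem_inf.1 hc).1
    have hx1 : x = 1 := mem_bot.1 (hT.H_inf_U ▸ mem_inf.2 ⟨hx, hxU⟩)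
    rw [hx1]
    simpa using hy
  · intro x hx
    have hxF : x ∈ Cfsg.fittingOf M := hd.le (commutator_mono hT.U_le hT.U_le hx)
    obtain ⟨h, hh, c, hc, rfl, -⟩ := hT.fitting_factor hG hxF
    have hhU : h ∈ U := by simpa using U.mul_mem (commutator_le_self U hx) (U.inv_mem (mem_inf.1 hc).1)
    have h1 : h = 1 := mem_bot.1 (hT.H_inf_U ▸ mem_inf.2 ⟨hh, hhU⟩)
    rw [h1, one_mul]
    exact hc

variable {N V : Subgroup G} (P : TenPair M N W₁ W₂ V)
include P

theorem core_eq : Cfsg.sigmaCore M = ⁅M, M⁆ := P.derived_M.symm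

theorem fit_le : fitIn M ≤ coreIn M := fun _ hx => (hT.core_eq hG hd P).ge (hT.typeP.fitting_le hx)

theorem cent_le : centIn M U ≤ fitIn M := fun _ hx => (hT.fitting_eq hG).ge (mem_sup_right hx)

theorem fit_normal : (fitIn M).Normal :=
  (normal_subgroupOf_iff_le_normalizer (Bender.fitting_le M)).2 (Bender.le_normalizer_fitting M)

theorem cent_normal : (centIn M U).Normal :=
  (normal_subgroupOf_iff_le_normalizer (hT.C_le_M hG)).2 (hT.C_normal hG)

theorem core_fit_index : (fitIn M).relIndex (coreIn M) = (Cfsg.fittingOf M).relIndex ⁅M, M⁆ := by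
  rw [relIndex_subgroupOf (P.derived_M ▸ hT.derived_le), hT.core_eq hG hd P]

theorem fit_cent_index : (centIn M U).relIndex (fitIn M) = Nat.card W₂ ^ Nat.card W₁ := by
  rw [relIndex_subgroupOf (Bender.fitting_le M)]
  refine Nat.eq_of_mul_eq_mul_left (Nat.card_pos (α := ↥(U ⊓ centralizer (Cfsg.fittingHallOf M : Set G)))) ?_
  rw [CfsgLib.InvariantHall.relIndex_mul_card ((hT.fitting_eq hG).ge.trans' le_sup_right), hT.card_fitting hG,
    (hT.H_elem hG hd).2, mul_comm]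

theorem solvable_core : Group.IsSolvable (coreIn M) := by
  haveI : Group.IsSolvable M := hG.2.2.2 M hT.coatom.1
  infer_instance

theorem fit_lt : fitIn M < coreIn M := lt_of_le_of_ne (hT.fit_le hG hd P) fun e => by
  obtain ⟨-, h2, -⟩ := hT.u_facts hG
  have h1 : (fitIn M).relIndex (coreIn M) = 1 := relIndex_eq_one.2 e.ge
  rw [hT.core_fit_index hG hd P] at h1
  have := hT.q_three hG
  omega

/-- A commutator of `M'` lies in `F(M)`. -/
theorem commutator_core_le : ⁅coreIn M, coreIn M⁆ ≤ fitIn M := commutator_le.2 fun a ha b hb =>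
  show ((⁅a, b⁆ : M) : G) ∈ Cfsg.fittingOf M from
    hd.le (commutator_mem_commutator ((hT.core_eq hG hd P).le ha) ((hT.core_eq hG hd P).le hb))

variable [Fintype M]

/-- The degree bound for the constituents of `S(C)`. -/
theorem cdeg_le {θ : coreIn M → ℂ} (hθ : Cfsg.IsIrrCharacter (coreIn M) θ)
    (hker : ∀ a : coreIn M, (a : M) ∈ centIn M U → θ a = θ 1) :
    cdeg θ ≤ (Cfsg.fittingOf M).relIndex ⁅M, M⁆ := by
  have h := cdeg_sq_le_of_section (le_refl (fitIn M)) (hT.fit_le hG hd P) (B := centIn M U)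
    (fun x hx y hy => ?_) hθ hker
  · rw [relIndex_self, mul_one, hT.core_fit_index hG hd P] at h
    exact (Nat.pow_le_pow_iff_left two_ne_zero).1 h
  show ((x * y * x⁻¹ * y⁻¹ : M) : G) ∈ U ⊓ centralizer (Cfsg.fittingHallOf M : Set G)
  obtain ⟨a, ha, c, hc, ex, hac⟩ := hT.fitting_factor hG (show (x : G) ∈ Cfsg.fittingOf M from hx)
  obtain ⟨b, hb, e, he, ey, hbe⟩ := hT.fitting_factor hG (show (y : G) ∈ Cfsg.fittingOf M from hy)
  have hab := hT.H_comm hG hd ha hb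
  have hae : Commute a e := mem_centralizer_iff.1 (mem_inf.1 he).2 a ha
  have hbc : Commute b c := mem_centralizer_iff.1 (mem_inf.1 hc).2 b hb
  rw [Subgroup.coe_mul, Subgroup.coe_mul, Subgroup.coe_mul, Subgroup.coe_inv, Subgroup.coe_inv, ← ex, ← ey]
  have h1 : a * c * (b * e) = a * b * (c * e) := by
    rw [mul_assoc, ← mul_assoc c, ← hbc.eq]; simp [mul_assoc]
  have h2 : (a * c)⁻¹ * (b * e)⁻¹ = (a * b)⁻¹ * (e * c)⁻¹ := by
    rw [← mul_inv_rev, ← mul_inv_rev]
    congr 1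
    calc b * e * (a * c) = b * (e * a) * c := by simp [mul_assoc]
      _ = b * (a * e) * c := by rw [hae.eq]
      _ = e * c * (a * b) := by
        rw [← mul_assoc, ← hab.eq]
        have k : Commute (a * b) (e * c) :=
          ((hae.mul_right (hac)).mul_left ((hbe).mul_right hbc))
        rw [mul_assoc (a * b)]
        exact k.eq
  rw [mul_assoc (a * c * (b * e)), h1, h2]
  have k : Commute (c * e) (a * b)⁻¹ :=
    (((hac.symm.mul_left hae.symm).mul_right (hbc.symm.mul_left hbe.symm))).inv_right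
  rw [show a * b * (c * e) * ((a * b)⁻¹ * (e * c)⁻¹) = a * b * ((c * e) * (a * b)⁻¹) * (e * c)⁻¹ by
    simp [mul_assoc], k.eq, ← mul_assoc, mul_inv_cancel, one_mul]
  exact Subgroup.mul_mem _ (Subgroup.mul_mem _ hc he) (Subgroup.inv_mem _ (Subgroup.mul_mem _ he hc))

variable {μ : (↥(W₁ ⊔ W₂) →* ℂˣ) → M → ℂ} {δ : (↥(W₁ ⊔ W₂) →* ℂˣ) → ℂ}

omit hd in
/-- A nonprincipal linear character of `M'` induces an irreducible character. -/
theorem ind_linear_irr [Fintype (Row W₁ W₂)] (hμ : IsMuG M (Cfsg.sigmaCore M) W₁ W₂ μ δ) {θ : coreIn M → ℂ}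
    (hθ : Cfsg.IsIrrCharacter (coreIn M) θ) (h1 : θ 1 = 1) (hne : θ ≠ fun _ => 1) :
    Cfsg.IsIrrCharacter M (Cfsg.indFun (coreIn M) θ) := by
  refine (P.primeDade_M.ind_cases hμ hθ).resolve_right ?_
  rintro ⟨l, -, hres⟩
  refine hne (funext fun k => ?_)
  obtain ⟨lam, hlam⟩ := IsCharacter.exists_hom (IsIrrCharacter.isCharacter (hμ.irr (cell row₀ l)))
    (by rw [show ((1 : M)) = ((1 : coreIn M) : M) from rfl, hres, h1])
  rw [← hres row₀ k]
  have hk : (k : M) ∈ lam.ker := by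
    refine (Abelianization.commutator_subset_ker lam) ?_
    have hk' : ((k : M) : G) ∈ ⁅M, M⁆ := P.derived_M.ge k.2
    rw [show ⁅M, M⁆ = (commutator M).map M.subtype by
      rw [_root_.commutator_def, map_commutator, ← MonoidHom.range_eq_map, range_subtype]] at hk'
    obtain ⟨y, hy, e⟩ := hk'
    rwa [← Subtype.ext e] 
  rw [hlam]
  simp only [MonoidHom.mem_ker.1 hk, Units.val_one]

/-- `X = S(F(M))`: at least two irreducible characters of degree `q`, `q |X| = u - 1`. -/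
theorem exists_X [Fintype (Row W₁ W₂)] (hμ : IsMuG M (Cfsg.sigmaCore M) W₁ W₂ μ δ) :
    ∃ X : Finset (M → ℂ), (↑X ⊆ Cfsg.inducedIrrAbove (coreIn M) (fitIn M)) ∧ ↑X ⊆ tenS M ∧
      (∀ φ ∈ X, φ ∈ Cfsg.inducedIrrAbove (coreIn M) (centIn M U)) ∧
      (∀ φ ∈ X, Cfsg.IsIrrCharacter M φ) ∧ (∀ φ ∈ X, Cfsg.conjFun φ ∈ X) ∧
      (∀ φ ∈ X, φ 1 = (Nat.card W₁ : ℂ)) ∧ 1 < X.card ∧
      Nat.card W₁ * X.card + 1 = (Cfsg.fittingOf M).relIndex ⁅M, M⁆ := by
  classical
  haveI := hT.fit_normal hG hd P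
  haveI : (coreIn M).Normal := P.normal_core
  set X := aboveInd (coreIn M) (fitIn M) with hXdef
  have hmem : ∀ φ ∈ X, Cfsg.IsIrrCharacter M φ ∧ φ 1 = (Nat.card W₁ : ℂ) := fun φ hφ => by
    obtain ⟨θ, h1, h2, h3, rfl⟩ := mem_aboveInd.1 hφ
    have hlin : θ 1 = 1 := IsIrrCharacter.apply_one_eq_one_of_commutators h1 fun a b => h3 _
      (hT.commutator_core_le hG hd P (commutator_mem_commutator a.2 b.2))
    exact ⟨hT.ind_linear_irr hG P hμ h1 hlin h2, by rw [indFun_one, hlin, mul_one, P.core_index]⟩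
  have hsub : (↑X : Set (M → ℂ)) ⊆ Cfsg.inducedIrrAbove (coreIn M) (fitIn M) := (coe_aboveInd _ _).le
  have hC : ∀ φ ∈ X, φ ∈ Cfsg.inducedIrrAbove (coreIn M) (centIn M U) := fun φ hφ =>
    inducedIrrAbove_anti (inf_le_left.trans (hT.cent_le hG hd P)) (hsub hφ)
  have hw := sum_weight_aboveInd (K := coreIn M) (fitIn M)
  rw [P.core_index, hT.core_fit_index hG hd P] at hw
  have hterm : ∀ φ ∈ X, ((cdeg φ : ℝ) ^ 2 / (cnorm φ : ℝ)) = (Nat.card W₁ : ℝ) ^ 2 := fun φ hφ => by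
    obtain ⟨hirr, hdeg⟩ := hmem φ hφ
    have e1 : cdeg φ = Nat.card W₁ := by rw [cdeg, hdeg, Complex.natCast_re, Nat.floor_natCast]
    have e2 : cnorm φ = 1 := by rw [cnorm, IsIrrCharacter.classInner_self hirr, Complex.one_re, Nat.floor_one]
    rw [e1, e2, Nat.cast_one, div_one]
  rw [Finset.sum_congr rfl hterm, Finset.sum_const, nsmul_eq_mul] at hw
  obtain ⟨-, hu2, -⟩ := hT.u_facts hG
  set u := (Cfsg.fittingOf M).relIndex ⁅M, M⁆
  have hq0 : (Nat.card W₁ : ℝ) ≠ 0 := by exact_mod_cast (hT.prime_left hG).ne_zero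
  have hw' : (Nat.card W₁ : ℝ) * (X.card : ℝ) = (u : ℝ) - 1 :=
    mul_left_cancel₀ hq0 (by rw [← hw]; ring)
  have hcard : Nat.card W₁ * X.card + 1 = u := by
    have : ((Nat.card W₁ * X.card + 1 : ℕ) : ℝ) = (u : ℝ) := by push_cast; linarith
    exact_mod_cast this
  refine ⟨X, hsub, fun φ hφ => inducedIrrAbove_subset_bot _ _ (hsub hφ), hC, fun φ hφ => (hmem φ hφ).1,
    fun φ hφ => mem_aboveInd.2 (conjFun_mem_inducedIrrAbove (hsub hφ)), fun φ hφ => (hmem φ hφ).2, ?_, hcard⟩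
  by_contra h
  have : Nat.card W₁ * X.card ≤ Nat.card W₁ * 1 := Nat.mul_le_mul_left _ (not_lt.1 h)
  have := hT.q_three hG
  omega

omit P in
/-- Peterfalvi 11.6: `S(C)` is not coherent. -/
theorem not_coherent_C {N' V' : Subgroup G} (P : TenPair M N' W₁ W₂ V') {R : (M → ℂ) → Finset (G → ℂ)}
    (hS : Cfsg.IsCoherenceSystem (tenS M) (tenTau M) R)
    (hnc : ¬ Cfsg.IsCoherent (tenS M) ({1}ᶜ : Set M) (tenTau M)) :
    ¬ Cfsg.IsCoherent (Cfsg.inducedIrrAbove (coreIn M) (centIn M U)) ({1}ᶜ : Set M) (tenTau M) := fun h => by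
  haveI := hT.cent_normal hG hd P
  have hlt : centIn M U < coreIn M := (hT.cent_le hG hd P).trans_lt (hT.fit_lt hG hd P)
  have hb := hT.bound_of_coherent hG hS hnc (centIn M U) hlt h
  rw [← relIndex_mul_relIndex _ _ _ (hT.cent_le hG hd P) (hT.fit_le hG hd P), hT.fit_cent_index hG hd P,
    hT.core_fit_index hG hd P] at hb
  obtain ⟨-, hu2, -⟩ := hT.u_facts hG
  set u := (Cfsg.fittingOf M).relIndex ⁅M, M⁆
  have h1 : 2 * Nat.card W₁ + 1 < Nat.card W₂ ^ Nat.card W₁ := by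
    have := hT.p_three hG
    have := hT.q_three hG
    have hgen : ∀ n, 3 ≤ n → 2 * n + 1 < 3 ^ n :=
      Nat.le_induction (by norm_num) fun n hn ih => by rw [pow_succ]; omega
    calc 2 * Nat.card W₁ + 1 < 3 ^ Nat.card W₁ := hgen _ (hT.q_three hG)
      _ ≤ _ := Nat.pow_le_pow_left (hT.p_three hG) _
  have : (2 * Nat.card W₁ + 2) * u ≤ Nat.card W₂ ^ Nat.card W₁ * u := Nat.mul_le_mul_right _ h1
  nlinarith

end Three

end CfsgLib.OddEnd
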