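import Cfsg.Agent.OddEnd.ElevenChars

/-!
Peterfalvi 11.8: every nontrivial column lies in `S(C)` and has constituents of degree `u`.
-/

set_option autoImplicit false
set_option linter.unusedSectionVars false
set_option linter.style.haveILetI false

namespace CfsgLib.OddEnd

open Subgroup CfsgLib.OddLocal CfsgLib.Char
open scoped ComplexConjugate commutatorElement

universe u

variable {G : Type u} [Group G]

namespace Three

variable {M W₁ U W₂ : Subgroup G} [Fintype G] (hT : Three M W₁ U W₂) (hG : Cfsg.IsMinSimpleOddOrder G)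
  (hd : ⁅⁅M, M⁆, ⁅M, M⁆⁆ = Cfsg.fittingOf M)
include hT hG hd

/-- A `W₁`-invariant nontrivial linear function on `H` whose stabilizer in `U` is `C_U(H)`. -/
theorem exists_lambda :
    ∃ Λ : G → ℂ, Λ 1 = 1 ∧
      (∀ x ∈ Cfsg.fittingHallOf M, ∀ y ∈ Cfsg.fittingHallOf M, Λ (x * y) = Λ x * Λ y) ∧
      (∀ x ∈ Cfsg.fittingHallOf M, Λ x ≠ 0) ∧
      (∀ g ∈ W₁, ∀ x ∈ Cfsg.fittingHallOf M, Λ (g * x * g⁻¹) = Λ x) ∧
      (∀ v ∈ U, (∀ h ∈ Cfsg.fittingHallOf M, Λ (v * h * v⁻¹) = Λ h) →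
        v ∈ U ⊓ centralizer (Cfsg.fittingHallOf M : Set G)) := by
  classical
  set H := Cfsg.fittingHallOf M with hH
  letI : CommGroup H :=
    { (inferInstance : Group H) with mul_comm := fun a b => Subtype.ext (hT.H_comm hG hd a.2 b.2) }
  obtain ⟨a, ha, ha1⟩ := (Subgroup.bot_or_exists_ne_one W₁).resolve_left hT.typeP.W₁_ne
  have haH := FittingHall.le_normalizer_of M (hT.left_le ha)
  let φ : H →* H := MonoidHom.mk'
    (fun h => ⟨a * h * a⁻¹, (mem_normalizer_iff.1 haH _).1 h.2⟩ * h⁻¹)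
    fun x y => by
      have e : (⟨a * ((x * y : H) : G) * a⁻¹, (mem_normalizer_iff.1 haH _).1 (x * y).2⟩ : H) =
          ⟨a * x * a⁻¹, (mem_normalizer_iff.1 haH _).1 x.2⟩ * ⟨a * y * a⁻¹, (mem_normalizer_iff.1 haH _).1 y.2⟩ :=
        Subtype.ext (by show a * ((x : G) * y) * a⁻¹ = _ * _; group)
      show (⟨a * ((x * y : H) : G) * a⁻¹, _⟩ : H) * (x * y)⁻¹ = _
      rw [e, mul_inv, mul_mul_mul_comm]
  obtain ⟨g, hg⟩ : ∃ g : H, g ∉ φ.range := by
    by_contra h
    push Not at h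
    have hsurj : Function.Surjective φ := fun x => h x
    have hinj := Finite.injective_iff_surjective.2 hsurj
    obtain ⟨w, hw, hw1⟩ := (Subgroup.bot_or_exists_ne_one W₂).resolve_left hT.typeP.selfNormalizing.2.1
    refine hw1 (congrArg Subtype.val (hinj (a₁ := ⟨w, hT.right_le_H hw⟩) (a₂ := 1) ?_))
    rw [map_one]
    refine Subtype.ext ?_
    show a * w * a⁻¹ * w⁻¹ = 1
    rw [hT.typeP.selfNormalizing.2.2.2.1 a ha w hw, mul_inv_cancel_right, mul_inv_cancel]
  obtain ⟨lam₀, hlam₀⟩ := exists_hom_ne_one (G := H ⧸ φ.range) (g := QuotientGroup.mk g) (by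
    rw [commutator_def, (commutator_eq_bot_iff_le_centralizer).2 (fun x _ => mem_centralizer_iff.2
      fun y _ => mul_comm y x), mem_bot, QuotientGroup.eq_one_iff]
    exact hg)
  set lam : H →* ℂˣ := lam₀.comp (QuotientGroup.mk' φ.range) with hlam
  let Λ : G → ℂ := fun x => if hx : x ∈ H then (lam ⟨x, hx⟩ : ℂ) else 0
  have hΛ : ∀ (x : G) (hx : x ∈ H), Λ x = (lam ⟨x, hx⟩ : ℂ) := fun x hx => dif_pos hx
  have hstep : ∀ x ∈ H, Λ (a * x * a⁻¹) = Λ x := fun x hx => by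
    have hx' : a * x * a⁻¹ ∈ H := (mem_normalizer_iff.1 haH x).1 hx
    rw [hΛ _ hx', hΛ _ hx]
    congr 1
    have h0 : lam (φ ⟨x, hx⟩) = 1 := by
      rw [hlam, MonoidHom.comp_apply, QuotientGroup.mk'_apply, (QuotientGroup.eq_one_iff _).2 (show φ ⟨x, hx⟩ ∈ φ.range from ⟨_, rfl⟩), map_one]
    rw [show φ ⟨x, hx⟩ = (⟨a * x * a⁻¹, hx'⟩ : H) * (⟨x, hx⟩ : H)⁻¹ from rfl, map_mul, map_inv,
      mul_inv_eq_one] at h0
    exact h0
  have hWinv : ∀ g ∈ W₁, ∀ x ∈ H, Λ (g * x * g⁻¹) = Λ x := by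
    have hn : ∀ n : ℕ, ∀ x ∈ H, Λ (a ^ n * x * (a ^ n)⁻¹) = Λ x := by
      intro n
      induction n with
      | zero => simp
      | succ n ih =>
        intro x hx
        have hmem : a ^ n * x * (a ^ n)⁻¹ ∈ H :=
          (mem_normalizer_iff.1 ((normalizer (H : Set G)).pow_mem haH n) x).1 hx
        rw [pow_succ', show a * a ^ n * x * (a * a ^ n)⁻¹ = a * (a ^ n * x * (a ^ n)⁻¹) * a⁻¹ by group,
          hstep _ hmem, ih x hx]
    intro g hgW
    haveI := Fact.mk (hT.prime_left hG)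
    have htop : Subgroup.zpowers (⟨a, ha⟩ : W₁) = ⊤ :=
      zpowers_eq_top_of_prime_card rfl fun e => ha1 (congrArg Subtype.val e)
    obtain ⟨n, hn'⟩ := ((isOfFinOrder_of_finite (⟨a, ha⟩ : W₁)).mem_powers_iff_mem_zpowers).2
      (htop.symm ▸ Subgroup.mem_top (⟨g, hgW⟩ : W₁) : (⟨g, hgW⟩ : W₁) ∈ _)
    rw [show g = a ^ n from (congrArg Subtype.val hn').symm]
    exact hn n
  have hmul : ∀ x ∈ H, ∀ y ∈ H, Λ (x * y) = Λ x * Λ y := fun x hx y hy => by
    rw [hΛ _ hx, hΛ _ hy, hΛ _ (H.mul_mem hx hy), ← Units.val_mul, ← map_mul]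
    rfl
  have hone : Λ 1 = 1 := by
    rw [hΛ _ H.one_mem, show (⟨1, H.one_mem⟩ : H) = 1 from rfl, map_one, Units.val_one]
  refine ⟨Λ, hone, hmul, fun x hx => by rw [hΛ _ hx]; exact Units.ne_zero _, hWinv, fun v hv hfix => ?_⟩
  -- the commutators with the stabilizer generate an `M`-invariant subgroup inside the kernel
  let gens : Set G := {n | ∃ t ∈ U, (∀ h ∈ H, Λ (t * h * t⁻¹) = Λ h) ∧ ∃ h ∈ H, n = t * h * t⁻¹ * h⁻¹}
  have hgH : gens ⊆ H := by
    rintro _ ⟨t, ht, -, h, hh, rfl⟩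
    exact H.mul_mem ((mem_normalizer_iff.1 (hT.UH hG ht) h).1 hh) (H.inv_mem hh)
  have hgker : gens ⊆ ((lam.ker).map H.subtype : Subgroup G) := by
    rintro _ ⟨t, ht, hfix', h, hh, rfl⟩
    have ht' : t * h * t⁻¹ ∈ H := (mem_normalizer_iff.1 (hT.UH hG ht) h).1 hh
    refine ⟨⟨t * h * t⁻¹, ht'⟩ * ⟨h, hh⟩⁻¹, ?_, rfl⟩
    show _ ∈ lam.ker
    rw [MonoidHom.mem_ker, map_mul, map_inv, mul_inv_eq_one]
    exact Units.ext (by rw [← hΛ, ← hΛ, hfix' h hh])
  have hconj : ∀ m ∈ M, ∀ n ∈ gens, m * n * m⁻¹ ∈ gens := by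
    intro m hm n hn
    obtain ⟨d, hd', w, hw, rfl⟩ := hT.typeP.W₁_compl.2.2.2 m hm
    obtain ⟨x, hx, g, hg', rfl⟩ := hT.typeP.U_compl.2.2.2 d hd'
    have hW : ∀ n ∈ gens, w * n * w⁻¹ ∈ gens := by
      rintro _ ⟨t, ht, hfix', h, hh, rfl⟩
      have hwH := FittingHall.le_normalizer_of M (hT.left_le hw)
      refine ⟨w * t * w⁻¹, (mem_normalizer_iff.1 (hT.typeP.U_normal hw) t).1 ht, fun y hy => ?_,
        w * h * w⁻¹, (mem_normalizer_iff.1 hwH h).1 hh, by group⟩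
      have hy' : w⁻¹ * y * w ∈ H := by simpa using (mem_normalizer_iff.1 (inv_mem hwH) y).1 hy
      rw [show w * t * w⁻¹ * y * (w * t * w⁻¹)⁻¹ = w * (t * (w⁻¹ * y * w) * t⁻¹) * w⁻¹ by group,
        hWinv w hw _ ((mem_normalizer_iff.1 (hT.UH hG ht) _).1 hy'), hfix' _ hy', ← hWinv w hw _ hy']
      group
    have hU : ∀ n ∈ gens, g * n * g⁻¹ ∈ gens := by
      rintro _ ⟨t, ht, hfix', h, hh, rfl⟩
      have hgH' := hT.UH hG hg'
      have hh' : g * h * g⁻¹ ∈ H := (mem_normalizer_iff.1 hgH' h).1 hh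
      refine ⟨t, ht, hfix', g * h * g⁻¹, hh', ?_⟩
      have hc : ⁅g, t⁆ ∈ U ⊓ centralizer (H : Set G) :=
        (hT.C_eq_derived hG hd).ge (commutator_mem_commutator hg' ht)
      have e := mem_centralizer_iff.1 (mem_inf.1 hc).2 _ ((mem_normalizer_iff.1 (hT.UH hG ht) _).1 hh')
      calc g * (t * h * t⁻¹ * h⁻¹) * g⁻¹
          = ⁅g, t⁆ * (t * (g * h * g⁻¹) * t⁻¹) * ⁅g, t⁆⁻¹ * (g * h * g⁻¹)⁻¹ := by
            simp [commutatorElement_def, mul_assoc]
        _ = t * (g * h * g⁻¹) * t⁻¹ * (g * h * g⁻¹)⁻¹ := by rw [← e]; group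
    have hHfix : ∀ n ∈ gens, x * n * x⁻¹ = n := fun n hn => by
      rw [(hT.H_comm hG hd hx (hgH hn)).eq, mul_inv_cancel_right]
    have h1 := hU _ (hW _ hn)
    rw [show x * g * w * n * (x * g * w)⁻¹ = x * (g * (w * n * w⁻¹) * g⁻¹) * x⁻¹ by group, hHfix _ h1]
    exact h1
  have hNM : M ≤ normalizer (closure gens : Set G) := by
    refine CfsgLib.Signalizer.le_normalizer_of_conj_mem fun m hm n hn => ?_
    induction hn using closure_induction with
    | mem y hy => exact subset_closure (hconj m hm y hy)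
    | one => simp
    | mul y z _ _ iy iz => rw [show m * (y * z) * m⁻¹ = (m * y * m⁻¹) * (m * z * m⁻¹) by group]; exact mul_mem iy iz
    | inv y _ iy => rw [show m * y⁻¹ * m⁻¹ = (m * y * m⁻¹)⁻¹ by group]; exact inv_mem iy
  have hbot := hT.derived_eq_bot hG hd
  have hN : closure gens = ⊥ := by
    refine ((hT.section_minimal hG hd (hbot.le.trans bot_le) ((closure_le _).2 hgH) hNM).resolve_right ?_).trans hbot
    intro e
    refine hlam₀ ?_
    have hgk : (g : G) ∈ (lam.ker).map H.subtype := (closure_le _).2 hgker (e.ge g.2)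
    obtain ⟨y, hy, ey⟩ := hgk
    obtain rfl : y = g := Subtype.ext ey
    exact MonoidHom.mem_ker.1 hy
  refine mem_inf.2 ⟨hv, mem_centralizer_iff.2 fun h hh => ?_⟩
  have h1 : v * h * v⁻¹ * h⁻¹ = 1 := mem_bot.1 (hN.le (subset_closure ⟨v, hv, hfix, h, hh, rfl⟩))
  exact (mul_inv_eq_iff_eq_mul.1 (mul_inv_eq_one.1 h1)).symm

variable {N V : Subgroup G} (P : TenPair M N W₁ W₂ V) [Fintype M]
  {μ : (↥(W₁ ⊔ W₂) →* ℂˣ) → M → ℂ} {δ : (↥(W₁ ⊔ W₂) →* ℂˣ) → ℂ}
include P

/-- An invariant irreducible character of `M'` above `C`, of degree `u`. -/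
theorem exists_invariant : ∃ θ : coreIn M → ℂ, Cfsg.IsIrrCharacter (coreIn M) θ ∧
    θ 1 = ((Cfsg.fittingOf M).relIndex ⁅M, M⁆ : ℂ) ∧
    (∀ c : coreIn M, (c : M) ∈ centIn M U → θ c = θ 1) ∧
    (haveI := P.normal_core; ∀ x : M, (x : G) ∈ W₁ → conjOn x θ = θ) := by
  classical
  set H := Cfsg.fittingHallOf M
  obtain ⟨Λ, hone, hmul, hne0, hW, hstab⟩ := hT.exists_lambda hG hd
  haveI := hT.fit_normal hG hd P
  haveI := P.normal_core
  obtain ⟨hel, hcard⟩ := hT.H_elem hG hd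
  have hcop : (Nat.card W₂).Coprime (Nat.card ↥(U ⊓ centralizer (H : Set G))) := by
    have h := hT.coprime_H_U
    rw [hcard] at h
    exact (Nat.Coprime.coprime_dvd_left (dvd_pow_self _ (hT.prime_left hG).ne_zero) h).coprime_dvd_right
      (card_dvd_of_le inf_le_left)
  obtain ⟨k, hk1, hk2⟩ := Nat.chineseRemainder hcop 1 0
  have hpow : ∀ h ∈ H, ∀ c ∈ U ⊓ centralizer (H : Set G), (h * c) ^ k = h := fun h hh c hc => by
    have e := mem_centralizer_iff.1 (mem_inf.1 hc).2 h hh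
    rw [(show Commute h c from e).mul_pow]
    have h1 : h ^ k = h := by
      have hp1 : h ^ Nat.card W₂ = 1 := hel.2 h hh
      rw [pow_eq_pow_mod k hp1, show k % Nat.card W₂ = 1 % Nat.card W₂ from hk1, ← pow_eq_pow_mod 1 hp1,
        pow_one]
    have h2 : c ^ k = 1 := by
      obtain ⟨m, hm⟩ := Nat.modEq_zero_iff_dvd.1 hk2
      rw [hm, pow_mul]
      have := congrArg Subtype.val
        (pow_card_eq_one' (x := (⟨c, hc⟩ : ↥(U ⊓ centralizer (H : Set G)))))
      simp only [Subgroup.coe_pow, Subgroup.coe_one] at this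
      rw [this, one_pow]
    rw [h1, h2, mul_one]
  set F' := (fitIn M).subgroupOf (coreIn M)
  have hval : ∀ x : F', ∃ h ∈ H, ∃ c ∈ U ⊓ centralizer (H : Set G), h * c = (((x : coreIn M) : M) : G) ∧
      Commute h c := fun x => hT.fitting_factor hG x.2
  let e : F' → ℂ := fun x => Λ ((((x : coreIn M) : M) : G) ^ k)
  have he0 : ∀ x : F', e x ≠ 0 := fun x => by
    obtain ⟨h, hh, c, hc, ex, -⟩ := hval x
    simp only [e, ← ex, hpow h hh c hc]
    exact hne0 h hh
  have hemul : ∀ x y : F', e (x * y) = e x * e y := fun x y => by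
    obtain ⟨h, hh, c, hc, ex, -⟩ := hval x
    obtain ⟨h', hh', c', hc', ey, -⟩ := hval y
    have exy : (((x * y : F') : coreIn M) : M) = ((x : coreIn M) : M) * ((y : coreIn M) : M) := rfl
    have hcc : h * c * (h' * c') = h * h' * (c * c') := by
      rw [mul_assoc h c, ← mul_assoc c h' c', ← mem_centralizer_iff.1 (mem_inf.1 hc).2 h' hh']
      simp [mul_assoc]
    simp only [e]
    rw [exy, Subgroup.coe_mul, ← ex, ← ey, hcc, hpow _ (H.mul_mem hh hh') _ (mul_mem hc hc'),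
      hpow h hh c hc, hpow h' hh' c' hc', hmul h hh h' hh']
  let η : F' →* ℂˣ := MonoidHom.mk' (fun x => Units.mk0 (e x) (he0 x)) fun x y =>
    Units.ext (hemul x y)
  have heη : ∀ x : F', ((η x : ℂˣ) : ℂ) = e x := fun x => rfl
  set η' : F' → ℂ := fun x => (η x : ℂ) with hη'
  have hirr : Cfsg.IsIrrCharacter F' η' := isIrrCharacter_ofHom η
  have hinertia : inertia η' ≤ F' := by
    intro x hx
    obtain ⟨h₀, hh₀, v, hv, exv⟩ := hT.typeP.U_compl.2.2.2 ((x : M) : G)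
      ((hT.core_eq hG hd P).le x.2)
    have hv' : v ∈ U ⊓ centralizer (H : Set G) := hstab v hv fun h hh => by
      have hhF : h ∈ Cfsg.fittingOf M := (hT.fitting_eq hG).ge (mem_sup_left hh)
      let n : F' := ⟨⟨⟨h, hT.derived_le (hT.H_le hh)⟩, (hT.core_eq hG hd P).ge (hT.H_le hh)⟩, hhF⟩
      have h1 := (mem_inertia_iff η' x).1 hx n
      simp only [hη', heη, e] at h1
      rw [show ((n : coreIn M) : M) = (⟨h, hT.derived_le (hT.H_le hh)⟩ : M) from rfl] at h1
      simp only [Subgroup.coe_mul, Subgroup.coe_inv] at h1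
      rw [show (h : G) ^ k = h by simpa using hpow h hh 1 (one_mem _)] at h1
      have hv2 : v * h * v⁻¹ ∈ H := (mem_normalizer_iff.1 (hT.UH hG hv) h).1 hh
      rw [exv,
        show h₀ * v * h * (h₀ * v)⁻¹ = h₀ * (v * h * v⁻¹) * h₀⁻¹ by group,
        (hT.H_comm hG hd hh₀ hv2).eq, mul_inv_cancel_right,
        show (v * h * v⁻¹) ^ k = v * h * v⁻¹ by simpa using hpow _ hv2 1 (one_mem _)] at h1
      exact h1
    show ((x : M) : G) ∈ Cfsg.fittingOf M
    rw [exv, hT.fitting_eq hG]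
    exact mul_mem (mem_sup_left hh₀) (mem_sup_right hv')
  set θ := Cfsg.indFun F' η' with hθ
  have hdeg : θ 1 = ((Cfsg.fittingOf M).relIndex ⁅M, M⁆ : ℂ) := by
    rw [hθ, indFun_one, hη']
    simp only [map_one, Units.val_one, mul_one]
    exact_mod_cast hT.core_fit_index hG hd P
  refine ⟨θ, isIrrCharacter_indFun_of_inertia_le hirr hinertia, hdeg, fun c hc => ?_, fun a ha => ?_⟩
  · haveI := hT.cent_normal hG hd P
    have hcF : c ∈ F' := hT.cent_le hG hd P hc
    rw [hθ, show c = (((⟨c, hcF⟩ : F')) : coreIn M) from rfl,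
      show (1 : coreIn M) = (((1 : F')) : coreIn M) from rfl, indFun_apply_normal, indFun_apply_normal]
    congr 1
    refine Finset.sum_congr rfl fun y _ => ?_
    have hy : ((y : M) * (c : M) * (y : M)⁻¹) ∈ centIn M U := Subgroup.Normal.conj_mem inferInstance _ hc _
    simp only [hη', heη, e]
    congr 1
    simp only [Subgroup.coe_mul, Subgroup.coe_inv, Subgroup.coe_one, mul_one, mul_inv_cancel, one_pow]
    have h := hpow 1 H.one_mem _ (show (((y : M) : G) * ((c : M) : G) * ((y : M) : G)⁻¹) ∈ _ from hy)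
    rwa [one_mul] at h
  · funext z
    rw [conjOn_apply]
    by_cases hz : z ∈ F'
    · have hz' : (⟨a * z * a⁻¹, P.normal_core.conj_mem _ z.2 a⟩ : coreIn M) ∈ F' :=
        (hT.fit_normal hG hd P).conj_mem _ hz a
      rw [hθ, show Cfsg.indFun F' η' z = Cfsg.indFun F' η' ((⟨z, hz⟩ : F') : coreIn M) from rfl,
        show Cfsg.indFun F' η' (⟨a * z * a⁻¹, P.normal_core.conj_mem _ z.2 a⟩ : coreIn M) =
          Cfsg.indFun F' η' ((⟨_, hz'⟩ : F') : coreIn M) from rfl, indFun_apply_normal, indFun_apply_normal]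
      congr 1
      refine (Fintype.sum_equiv (MulAut.conjNormal a).toEquiv _ _ fun y => ?_).symm
      simp only [hη', heη, e]
      have hy : ((y : M) * (z : M) * (y : M)⁻¹) ∈ fitIn M := (hT.fit_normal hG hd P).conj_mem _ hz _
      obtain ⟨h, hh, c, hc, ex, -⟩ := hT.fitting_factor hG (show ((((y : M) * (z : M) * (y : M)⁻¹) : M) : G) ∈ _ from hy)
      simp only [Subgroup.coe_mul, Subgroup.coe_inv, MulEquiv.toEquiv_eq_coe, EquivLike.coe_coe,
        MulAut.conjNormal_apply] at ex ⊢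
      rw [show (a : G) * ((y : M) : G) * (a : G)⁻¹ * ((a : G) * ((z : M) : G) * (a : G)⁻¹) *
          ((a : G) * ((y : M) : G) * (a : G)⁻¹)⁻¹ =
          (a : G) * (((y : M) : G) * ((z : M) : G) * ((y : M) : G)⁻¹) * (a : G)⁻¹ by group, ← ex, conj_pow,
        hpow h hh c hc, hW _ ha h hh]
    · have hz' : (⟨a * z * a⁻¹, P.normal_core.conj_mem _ z.2 a⟩ : coreIn M) ∉ F' := fun h => hz (by
        have := (hT.fit_normal hG hd P).conj_mem _ h a⁻¹
        show ((z : M) : G) ∈ Cfsg.fittingOf M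
        simpa [mul_assoc, Subgroup.mem_subgroupOf] using this)
      rw [hθ, indFun_eq_zero_of_normal _ hz, indFun_eq_zero_of_normal _ hz']

/-- Every nontrivial column lies in `S(C)` and its members have degree `u`. -/
theorem cols_mem [Fintype (Row W₁ W₂)] (hμ : IsMuG M (Cfsg.sigmaCore M) W₁ W₂ μ δ) :
    ∀ l : Col W₁ W₂, l ≠ col₀ →
      (∑ r : Row W₁ W₂, μ (cell r l)) ∈ Cfsg.inducedIrrAbove (coreIn M) (centIn M U) ∧
        μ l.1 1 = ((Cfsg.fittingOf M).relIndex ⁅M, M⁆ : ℂ) := by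
  classical
  haveI := P.normal_core
  obtain ⟨θ, hθ, hdeg, hker, hinv⟩ := hT.exists_invariant hG hd P
  obtain ⟨-, hu2, -⟩ := hT.u_facts hG
  have hθ1 : θ ≠ fun _ => 1 := fun e => by
    rw [e] at hdeg
    simp only at hdeg
    have : (1 : ℕ) = (Cfsg.fittingOf M).relIndex ⁅M, M⁆ := by exact_mod_cast hdeg
    have := hT.q_three hG
    omega
  have hnot : ¬ Cfsg.IsIrrCharacter M (Cfsg.indFun (coreIn M) θ) := fun h => by
    obtain ⟨a, ha, ha1⟩ := (Subgroup.bot_or_exists_ne_one W₁).resolve_left hT.typeP.W₁_ne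
    have hK : coreIn M ≤ inertia θ := le_inertia (IsIrrCharacter.isClassFunction hθ)
    have haI : (⟨a, hT.left_le ha⟩ : M) ∈ inertia θ := (mem_inertia θ _).2 (hinv _ ha)
    have hidx : (coreIn M).relIndex (inertia θ) * (inertia θ).index = Nat.card W₁ := by
      rw [relIndex_mul_index hK, P.core_index]
    rcases (Nat.dvd_prime (hT.prime_left hG)).1 ⟨_, hidx.symm⟩ with h1 | h1
    · have haK : (⟨a, hT.left_le ha⟩ : M) ∈ coreIn M := relIndex_eq_one.1 h1 haI
      exact ha1 (mem_bot.1 (hT.inf_left ▸ mem_inf.2 ⟨(hT.core_eq hG hd P).le haK, ha⟩))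
    · have h2 : (inertia θ).index = 1 := Nat.eq_of_mul_eq_mul_left (hT.prime_left hG).pos
        (by rw [mul_one]; conv_lhs => rw [← h1]; exact hidx)
      have h3 := IsIrrCharacter.classInner_self h
      rw [classInner_indFun_self hθ, Subgroup.index_eq_one.1 h2, card_top,
        ← Subgroup.card_mul_index (coreIn M), P.core_index, Nat.cast_mul,
        mul_div_cancel_left₀ _ (by exact_mod_cast (Nat.card_pos).ne')] at h3
      exact (hT.prime_left hG).ne_one (by exact_mod_cast h3)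
  obtain ⟨l₀, hl₀, hres⟩ := (P.primeDade_M.ind_cases hμ hθ).resolve_left hnot
  have hl₀ne : l₀ ≠ col₀ := fun e => hθ1 (funext fun k => by
    rw [← hres row₀ k, e, cell_col₀]
    exact congrFun hμ.one.1 _)
  intro k hk
  obtain ⟨σ, hσ⟩ := exists_col_galois P.W_M P.Ks_prime hl₀ne hk
  have hμk : ∀ r : Row W₁ W₂, μ (cell r k) = fun x => σ (μ (cell r l₀) x) := fun r => by
    rw [← hσ r]; exact (hμ.map σ _).1
  refine ⟨⟨fun x => σ (θ x), IsIrrCharacter.map_ringEquiv hθ σ, fun e => hθ1 (funext fun x => ?_),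
    fun c hc => by simp only [hker c hc], ?_⟩, ?_⟩
  · exact σ.injective (by rw [map_one]; exact congrFun e x)
  · funext x
    rw [← indFun_map_ringEquiv σ (coreIn M) θ x, hl₀, Finset.sum_apply, Finset.sum_apply, map_sum]
    exact Finset.sum_congr rfl fun r _ => congrFun (hμk r) x
  · rw [← cell_row₀ k, hμk row₀]
    show σ (μ (cell row₀ l₀) ((1 : coreIn M) : M)) = _
    rw [hres, hdeg, map_natCast]

end Three

end CfsgLib.OddEnd
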