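import Cfsg.Agent.OddEnd.ElevenSection

/-!
An alternating pairing into a group of prime order has square index over its radical.
-/

set_option autoImplicit false
set_option linter.unusedSectionVars false
set_option linter.style.haveILetI false

namespace CfsgLib.OddEnd

open Subgroup

universe u v

variable {V : Type u} [Group V] [Finite V] {Z : Type v} [CommGroup Z] [Finite Z]

/-- The radical of a pairing inside a subgroup. -/
def pairRad (B : V →* V →* Z) (X : Subgroup V) : Subgroup V where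
  carrier := {x | x ∈ X ∧ ∀ y ∈ X, B x y = 1}
  mul_mem' := fun {a b} ha hb => ⟨X.mul_mem ha.1 hb.1, fun y hy => by
    rw [map_mul, MonoidHom.mul_apply, ha.2 y hy, hb.2 y hy, mul_one]⟩
  one_mem' := ⟨X.one_mem, fun y _ => by rw [map_one, MonoidHom.one_apply]⟩
  inv_mem' := fun {a} ha => ⟨X.inv_mem ha.1, fun y hy => by
    rw [map_inv, MonoidHom.inv_apply, ha.2 y hy, inv_one]⟩

theorem mem_pairRad {B : V →* V →* Z} {X : Subgroup V} {x : V} :
    x ∈ pairRad B X ↔ x ∈ X ∧ ∀ y ∈ X, B x y = 1 := Iff.rfl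

theorem pairRad_le (B : V →* V →* Z) (X : Subgroup V) : pairRad B X ≤ X := fun _ h => h.1

/-- Alternating pairings have square index over the radical. -/
theorem isSquare_pairRad_relIndex {p : ℕ} (hp : p.Prime) (hZ : Nat.card Z = p) (B : V →* V →* Z)
    (halt : ∀ x, B x x = 1) (X : Subgroup V) : IsSquare ((pairRad B X).relIndex X) := by
  haveI := Fact.mk hp
  suffices key : ∀ (n : ℕ) (X : Subgroup V), Nat.card X = n → IsSquare ((pairRad B X).relIndex X) from
    key _ X rfl
  intro n
  induction n using Nat.strong_induction_on with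
  | _ n ih =>
    intro X hX
    by_cases hall : X ≤ pairRad B X
    · rw [relIndex_eq_one.2 hall]; exact ⟨1, rfl⟩
    obtain ⟨a, ha, hna⟩ := Set.not_subset.1 hall
    obtain ⟨b, hb, hab⟩ : ∃ b ∈ X, B a b ≠ 1 := by
      by_contra h
      push Not at h
      exact hna ⟨ha, h⟩
    have hskew : ∀ x y, B x y * B y x = 1 := fun x y => by
      have h := halt (x * y)
      simp only [map_mul, MonoidHom.mul_apply, halt, one_mul, mul_one] at h
      rwa [mul_comm]
    have hba : B b a ≠ 1 := fun h => hab (by have := hskew a b; rwa [h, mul_one] at this)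
    set f : X →* Z × Z := ((B a).comp X.subtype).prod ((B b).comp X.subtype) with hf
    have hzpow : ∀ {z : Z}, z ≠ 1 → ∀ y : Z, ∃ k : ℤ, z ^ k = y := fun {z} hz y =>
      mem_zpowers_iff.1 ((zpowers_eq_top_of_prime_card hZ hz).ge (mem_top y))
    have hsurj : ∀ y : X, ∃ i j : ℤ, f (⟨a, ha⟩ ^ i * ⟨b, hb⟩ ^ j) = f y := fun y => by
      obtain ⟨j, hj⟩ := hzpow hab (B a y)
      obtain ⟨i, hi⟩ := hzpow hba (B b y)
      refine ⟨i, j, ?_⟩
      simp [hf, halt, hj, hi]
    have htop : f.range = ⊤ := by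
      refine eq_top_iff.2 fun z _ => ?_
      obtain ⟨j, hj⟩ := hzpow hab z.1
      obtain ⟨i, hi⟩ := hzpow hba z.2
      exact ⟨⟨a, ha⟩ ^ i * ⟨b, hb⟩ ^ j, by simp [hf, halt, hj, hi]⟩
    set X₂ : Subgroup V := f.ker.map X.subtype with hX₂
    have hX₂le : X₂ ≤ X := map_subtype_le _
    have hrel : X₂.relIndex X = p * p := by
      have h1 : X₂.subgroupOf X = f.ker := comap_map_eq_self_of_injective X.subtype_injective _
      rw [relIndex, h1, index_ker, htop, card_top, Nat.card_prod, hZ]
    have hmem : ∀ {y}, y ∈ X₂ → B a y = 1 ∧ B b y = 1 := by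
      rintro _ ⟨y, hy, rfl⟩
      exact ⟨congrArg Prod.fst (MonoidHom.mem_ker.1 hy), congrArg Prod.snd (MonoidHom.mem_ker.1 hy)⟩
    have hrad : pairRad B X₂ = pairRad B X := by
      refine le_antisymm ?_ ?_
      · rintro x ⟨hx, hx'⟩
        refine ⟨hX₂le hx, fun y hy => ?_⟩
        obtain ⟨i, j, hij⟩ := hsurj ⟨y, hy⟩
        have hy₂ : (a ^ i * b ^ j)⁻¹ * y ∈ X₂ := by
          refine ⟨(⟨a, ha⟩ ^ i * ⟨b, hb⟩ ^ j)⁻¹ * ⟨y, hy⟩, ?_, by simp⟩
          show _ ∈ f.ker
          rw [MonoidHom.mem_ker, _root_.map_mul, _root_.map_inv, hij, inv_mul_cancel]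
        obtain ⟨e1, e2⟩ := hmem hx
        have hxa : B x a = 1 := by have := hskew a x; rwa [e1, one_mul] at this
        have hxb : B x b = 1 := by have := hskew b x; rwa [e2, one_mul] at this
        have h := hx' _ hy₂
        rw [map_mul, map_inv, map_mul, map_zpow, map_zpow, hxa, hxb, one_zpow, one_zpow, one_mul, inv_one,
          one_mul] at h
        exact h
      · rintro x ⟨hx, hx'⟩
        refine ⟨⟨⟨x, hx⟩, ?_, rfl⟩, fun y hy => hx' y (hX₂le hy)⟩
        show _ ∈ f.ker
        rw [MonoidHom.mem_ker]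
        refine Prod.ext ?_ ?_
        · show B a x = 1
          have := hskew x a; rwa [hx' a ha, one_mul] at this
        · show B b x = 1
          have := hskew x b; rwa [hx' b hb, one_mul] at this
    obtain ⟨k, hk⟩ := ih _ (by
      rw [← hX, ← relIndex_bot_left X₂, ← relIndex_bot_left X, ← relIndex_mul_relIndex ⊥ X₂ X bot_le hX₂le, hrel]
      refine lt_mul_of_one_lt_right (Nat.pos_of_dvd_of_pos (relIndex_dvd_card _ _) Nat.card_pos) ?_
      have := hp.two_le
      nlinarith) X₂ rfl
    refine ⟨k * p, ?_⟩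
    rw [← relIndex_mul_relIndex _ X₂ _ (hrad ▸ pairRad_le B X₂) hX₂le, hrel, ← hrad, hk]
    ring

end CfsgLib.OddEnd
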