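import Cfsg.Agent.OddEnd.ElevenChars
import Cfsg.Agent.OddEnd.ElevenData
import Cfsg.Agent.Frobenius.Fpf
import Cfsg.Agent.Char.CoherenceOddKernel
import Mathlib

/-!
Peterfalvi 11.7 and 11.9, Galois case: if `U` is irreducible on `H`, then `U` is cyclic, acts freely
on `H`, has order dividing `(p^q-1)/(p-1)`, and `M` is of type III.
-/

set_option autoImplicit false
set_option linter.unusedSectionVars false
set_option linter.style.haveILetI false

namespace CfsgLib.OddEnd

open Subgroup Polynomial CfsgLib.OddLocal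
open scoped commutatorElement

universe u

/-- An endomorphism with `T ^ p = T` of a nontrivial vector space over `ZMod p` has an eigenvector. -/
theorem exists_eigen {p : ℕ} [Fact p.Prime] {V : Type*} [AddCommGroup V] [Module (ZMod p) V]
    [Nontrivial V] (T : Module.End (ZMod p) V) (hT : T ^ p = T) :
    ∃ k : ZMod p, ∃ v : V, v ≠ 0 ∧ T v = k • v := by
  by_contra hcon
  have hinj : ∀ k : ZMod p, ∀ v : V, T v = k • v → v = 0 := fun k v hv =>
    by_contra fun hv0 => hcon ⟨k, v, hv0, hv⟩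
  have key : ∀ (s : Finset (ZMod p)) (v : V), aeval T (∏ k ∈ s, (X - C k)) v = 0 → v = 0 := by
    classical
    intro s
    induction s using Finset.induction_on with
    | empty => intro v hv; simpa using hv
    | insert a s ha ih =>
      intro v hv
      rw [Finset.prod_insert ha, map_mul, Module.End.mul_apply] at hv
      refine ih v (hinj a _ ?_)
      simpa [sub_eq_zero, Algebra.algebraMap_eq_smul_one] using hv
  obtain ⟨v, hv⟩ := exists_ne (0 : V)
  refine hv (key Finset.univ v ?_)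
  have hprod : (∏ k : ZMod p, (X - C k) : (ZMod p)[X]) = X ^ p - X := by
    have hm : (X ^ p - X : (ZMod p)[X]).Monic :=
      monic_X_pow_sub (by rw [degree_X]; exact_mod_cast (Fact.out : p.Prime).one_lt)
    have hr := FiniteField.roots_X_pow_card_sub_X (ZMod p)
    rw [ZMod.card] at hr
    have h2 := Polynomial.prod_multiset_X_sub_C_of_monic_of_roots_card_eq hm (by
      rw [hr, FiniteField.X_pow_card_sub_X_natDegree_eq _ (Fact.out : p.Prime).one_lt]
      simp)
    rw [hr] at h2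
    exact h2
  rw [hprod, map_sub, map_pow, aeval_X, hT, sub_self, LinearMap.zero_apply]

variable {G : Type u} [Group G] [Finite G]

/-- An endomorphism `σ` with `σ^[p] = σ` of a nontrivial abelian group of exponent `p` is a power map
on some nontrivial element. -/
theorem exists_pow_map {p : ℕ} [Fact p.Prime] {A : Type*} [CommGroup A] [Nontrivial A]
    [Module (ZMod p) (Additive A)] (σ : A →* A) (hσ : ∀ a, σ^[p] a = σ a) :
    ∃ a : A, a ≠ 1 ∧ ∃ k : ℕ, σ a = a ^ k := by
  let T : Module.End (ZMod p) (Additive A) := AddMonoidHom.toZModLinearMap p (MonoidHom.toAdditive σ)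
  have hn : ∀ (n : ℕ) (v : Additive A), (T ^ n) v = Additive.ofMul (σ^[n] (Additive.toMul v)) := by
    intro n
    induction n with
    | zero => intro v; simp
    | succ n ih =>
      intro v
      rw [pow_succ', Module.End.mul_apply, ih, Function.iterate_succ_apply']
      rfl
  obtain ⟨k, v, hv, hk⟩ := exists_eigen T (LinearMap.ext fun v => by rw [hn, hσ]; rfl)
  refine ⟨Additive.toMul v, fun h => hv (Additive.toMul.injective h), k.val, ?_⟩
  rw [show k • v = k.val • v by rw [← Nat.cast_smul_eq_nsmul (ZMod p), ZMod.natCast_zmod_val]] at hk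
  exact congrArg Additive.toMul hk

/-- An element inducing an automorphism of order dividing `p - 1` on a nontrivial group of exponent
`p` normalizes a subgroup of order `p` there. -/
theorem exists_pow_conj {p : ℕ} [Fact p.Prime] {H : Subgroup G}
    (hH : Cfsg.IsElementaryAbelian p H) (hne : H ≠ ⊥) {x : G} (hx : x ∈ normalizer (H : Set G))
    (hpow : x ^ (p - 1) = 1) : ∃ h ∈ H, h ≠ 1 ∧ ∃ k : ℕ, x * h * x⁻¹ = h ^ k := by
  letI : CommGroup H := { (inferInstance : Group H) with mul_comm := hH.1.is_comm.comm }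
  haveI : Nontrivial H := (nontrivial_iff_ne_bot H).2 hne
  let σ : H →* H := ((normalizerMonoidHom H) ⟨x, hx⟩).toMonoidHom
  have hn : ∀ (n : ℕ) (a : H), ((σ^[n] a : H) : G) = x ^ n * (a : G) * (x ^ n)⁻¹ := by
    intro n
    induction n with
    | zero => intro a; simp
    | succ n ih =>
      intro a
      rw [Function.iterate_succ_apply', show ((σ (σ^[n] a) : H) : G) = x * ((σ^[n] a : H) : G) * x⁻¹ from rfl,
        ih, pow_succ']
      group
  letI : Module (ZMod p) (Additive H) := AddCommGroup.zmodModule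
    (fun a => congrArg Additive.ofMul (Subtype.ext (hH.2 _ (Additive.toMul a).2) : Additive.toMul a ^ p = 1))
  obtain ⟨a, ha, k, hk⟩ := exists_pow_map (A := H) (p := p) σ
    (fun a => Subtype.ext (by
      rw [hn, show x ^ p = x by
        rw [← Nat.sub_add_cancel (Fact.out : p.Prime).one_le, pow_succ, hpow, one_mul]]
      rfl))
  exact ⟨a, a.2, fun h1 => ha (Subtype.ext h1), k, congrArg Subtype.val hk⟩

namespace Three

variable {M W₁ U W₂ : Subgroup G}

/-- Peterfalvi 11.7, 11.9 when `U` is irreducible on `H`. -/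
theorem threeData_of_galois (hT : Three M W₁ U W₂) (hG : Cfsg.IsMinSimpleOddOrder G)
    (hd : ⁅⁅M, M⁆, ⁅M, M⁆⁆ = Cfsg.fittingOf M) (hlt : Nat.card W₂ < Nat.card W₁)
    (hirr : ∀ N : Subgroup G, N ≤ Cfsg.fittingHallOf M → U ≤ normalizer (N : Set G) →
      N = ⊥ ∨ N = Cfsg.fittingHallOf M) :
    ThreeData M W₁ U W₂ := by
  haveI := Fintype.ofFinite G
  haveI := Fact.mk (hT.prime_right hG)
  have hq := hT.prime_left hG
  have hp := hT.prime_right hG
  set H := Cfsg.fittingHallOf M with hHdef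
  obtain ⟨hel, hcard⟩ := hT.H_elem hG hd
  have hUH := hT.UH hG
  have hC := hT.C_eq_derived hG hd
  have hHne : H ≠ ⊥ := fun e => hT.right_le_H.trans e.le |> fun h =>
    hp.ne_one (Subgroup.card_eq_one.2 (le_bot_iff.1 h))
  have hmemC : ∀ a ∈ U, ∀ b ∈ U, ⁅a, b⁆ ∈ centralizer (H : Set G) := fun a ha b hb =>
    (mem_inf.1 (hC.ge (commutator_mem_commutator ha hb))).2
  have hfix : ∀ x ∈ U, x ∉ centralizer (H : Set G) → ∀ h ∈ H, x * h = h * x → h = 1 := by
    intro x hx hxC h hh hc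
    have hN : U ≤ normalizer ((H ⊓ centralizer ({x} : Set G) : Subgroup G) : Set G) := by
      refine CfsgLib.Signalizer.le_normalizer_of_conj_mem fun v hv k hk => ?_
      refine mem_inf.2 ⟨(mem_normalizer_iff.1 (hUH hv) k).1 (mem_inf.1 hk).1,
        mem_centralizer_singleton_iff.2 ?_⟩
      have hk' : v * k * v⁻¹ ∈ H := (mem_normalizer_iff.1 (hUH hv) k).1 (mem_inf.1 hk).1
      have e1 : x * k = k * x := (mem_centralizer_singleton_iff.1 (mem_inf.1 hk).2).symm
      have e2 := mem_centralizer_iff.1 (hmemC v hv x hx) _ hk'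
      calc v * k * v⁻¹ * x = (v * k * v⁻¹) * ((⁅v, x⁆)⁻¹ * (v * x * v⁻¹)) := by
            simp [commutatorElement_def, mul_assoc]
        _ = (v * k * v⁻¹ * (⁅v, x⁆)⁻¹) * (v * x * v⁻¹) := by simp only [mul_assoc]
        _ = ((⁅v, x⁆)⁻¹ * (v * k * v⁻¹)) * (v * x * v⁻¹) := by
            rw [(Commute.inv_right (a := v * k * v⁻¹) e2).eq]
        _ = (⁅v, x⁆)⁻¹ * (v * (k * x) * v⁻¹) := by simp [mul_assoc]
        _ = (⁅v, x⁆)⁻¹ * (v * (x * k) * v⁻¹) := by rw [e1]
        _ = x * (v * k * v⁻¹) := by simp [commutatorElement_def, mul_assoc]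
    rcases hirr _ inf_le_left hN with e | e
    · exact mem_bot.1 (e ▸ mem_inf.2 ⟨hh, mem_centralizer_singleton_iff.2 hc.symm⟩)
    · refine absurd (mem_centralizer_iff.2 fun y hy => ?_) hxC
      exact mem_centralizer_singleton_iff.1 (mem_inf.1 (e.ge hy)).2
  haveI : Nontrivial H := (nontrivial_iff_ne_bot H).2 hHne
  let φ : U →* MulAut H := (normalizerMonoidHom H).comp (inclusion hUH)
  have hφ : ∀ (a : U) (h : H), ((φ a h : H) : G) = (a : G) * h * (a : G)⁻¹ := fun _ _ => rfl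
  have hker : ∀ a : U, (a : G) ∈ centralizer (H : Set G) → φ a = 1 := fun a ha => MulEquiv.ext fun h =>
    Subtype.ext (by
      rw [hφ, ← mem_centralizer_iff.1 ha h h.2]; simp)
  have hfpf : CfsgLib.Frobenius.IsFpf φ.range.subtype := by
    rintro ⟨e, a, rfl⟩ he h hh
    refine Subtype.ext (hfix a a.2 (fun ha => he (Subtype.ext (hker a ha))) h h.2 ?_)
    exact mul_inv_eq_iff_eq_mul.1 ((hφ a h).symm.trans (congrArg Subtype.val hh))
  have hcomm : ∀ a b : φ.range, a * b = b * a := by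
    rintro ⟨e, a, rfl⟩ ⟨f, b, rfl⟩
    refine Subtype.ext ?_
    show φ a * φ b = φ b * φ a
    rw [← map_mul, ← map_mul, show a * b = ⁅a, b⁆ * (b * a) by simp [commutatorElement_def, mul_assoc],
      map_mul, hker ⁅a, b⁆ (hmemC a a.2 b b.2), one_mul]
  obtain ⟨⟨g, x, hgx⟩, hg⟩ := (hfpf.isCyclic_of_comm hcomm).exists_generator
  haveI := hT.typeP.U_nilpotent
  have hUc : ∀ a b : U, a * b = b * a := by
    refine CfsgLib.Char.commutative_of_nilpotent_generated x (eq_top_iff.2 fun a _ => ?_)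
    obtain ⟨k, hk⟩ := mem_zpowers_iff.1 (hg ⟨φ a, a, rfl⟩)
    have hk' : φ (x ^ k) = φ a := by
      rw [map_zpow, hgx]; exact congrArg Subtype.val hk
    have hmem : (x ^ k)⁻¹ * a ∈ commutator U := by
      have h1 : (((x ^ k)⁻¹ * a : U) : G) ∈ centralizer (H : Set G) := by
        refine mem_centralizer_iff.2 fun h hh => ?_
        have h2 : φ ((x ^ k)⁻¹ * a) ⟨h, hh⟩ = ⟨h, hh⟩ := by
          rw [map_mul, map_inv, hk', inv_mul_cancel]; rfl
        exact (mul_inv_eq_iff_eq_mul.1 ((hφ _ _).symm.trans (congrArg Subtype.val h2))).symm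
      have h3 : (((x ^ k)⁻¹ * a : U) : G) ∈ ⁅U, U⁆ := hC.le (mem_inf.2 ⟨SetLike.coe_mem _, h1⟩)
      rw [show ⁅U, U⁆ = (commutator U).map U.subtype by
        rw [_root_.commutator_def, map_commutator, ← MonoidHom.range_eq_map, range_subtype]] at h3
      obtain ⟨z, hz, e⟩ := h3
      rwa [← Subtype.ext (a2 := (x ^ k)⁻¹ * a) e]
    rw [show a = x ^ k * ((x ^ k)⁻¹ * a) by group]
    exact mul_mem_sup (zpow_mem (mem_zpowers x) k) hmem
  have hfaith : U ⊓ centralizer (H : Set G) = ⊥ := by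
    rw [hC, eq_bot_iff, commutator_le]
    intro a ha b hb
    rw [mem_bot, commutatorElement_eq_one_iff_mul_comm]
    exact congrArg Subtype.val (hUc ⟨a, ha⟩ ⟨b, hb⟩)
  have hfree : ∀ u ∈ U, u ≠ 1 → ∀ h ∈ H, u * h = h * u → h = 1 := fun u hu hu1 h hh hc =>
    hfix u hu (fun hC' => hu1 (mem_bot.1 (hfaith ▸ mem_inf.2 ⟨hu, hC'⟩))) h hh hc
  have hφf : CfsgLib.Frobenius.IsFpf φ := fun a ha h hh => Subtype.ext
    (hfree a a.2 (fun e => ha (Subtype.ext e)) h h.2
      (mul_inv_eq_iff_eq_mul.1 ((hφ a h).symm.trans (congrArg Subtype.val hh))))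
  have hcop : (Nat.card U).Coprime (Nat.card W₂ - 1) := by
    refine Nat.coprime_of_dvd fun r hr hru hrp => ?_
    haveI := Fact.mk hr
    obtain ⟨y, hy⟩ := exists_prime_orderOf_dvd_card' r hru
    have hy0 : orderOf (y : G) = r := by rw [Subgroup.orderOf_coe, hy]
    obtain ⟨h, hh, hh1, k, hk⟩ := exists_pow_conj hel hHne (x := (y : G)) (hUH y.2)
      (by obtain ⟨c, hc⟩ := hrp; rw [hc, pow_mul, ← hy0, pow_orderOf_eq_one, one_pow])
    let S : Subgroup G :=
      { carrier := {g | g ∈ H ∧ (y : G) * g * (y : G)⁻¹ = g ^ k}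
        one_mem' := ⟨H.one_mem, by simp⟩
        mul_mem' := fun {a b} ha hb => ⟨H.mul_mem ha.1 hb.1, by
          have hab : Commute a b := congrArg Subtype.val (hel.1.is_comm.comm ⟨a, ha.1⟩ ⟨b, hb.1⟩)
          rw [hab.mul_pow, ← ha.2, ← hb.2]; group⟩
        inv_mem' := fun {a} ha => ⟨H.inv_mem ha.1, by rw [inv_pow, ← ha.2]; group⟩ }
    have hS : U ≤ normalizer (S : Set G) := by
      refine CfsgLib.Signalizer.le_normalizer_of_conj_mem fun v hv a ha => ?_
      refine ⟨(mem_normalizer_iff.1 (hUH hv) a).1 ha.1, ?_⟩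
      have e : (y : G) * v = v * y := congrArg Subtype.val (hUc y ⟨v, hv⟩)
      have e' : v⁻¹ * (y : G)⁻¹ = (y : G)⁻¹ * v⁻¹ := by rw [← mul_inv_rev, e, mul_inv_rev]
      calc (y : G) * (v * a * v⁻¹) * (y : G)⁻¹ = ((y : G) * v) * a * (v⁻¹ * (y : G)⁻¹) := by group
        _ = v * ((y : G) * a * (y : G)⁻¹) * v⁻¹ := by rw [e, e']; group
        _ = (v * a * v⁻¹) ^ k := by rw [ha.2, conj_pow]
    have hSH : S = H := (hirr S (fun a ha => ha.1) hS).resolve_left fun e =>
      hh1 (mem_bot.1 (e.le (show h ∈ S from ⟨hh, hk⟩)))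
    have hsc : ∀ a ∈ H, (y : G) * a * (y : G)⁻¹ = a ^ k := fun a ha => (hSH.ge ha).2
    obtain ⟨w, hw, hw1⟩ := (Subgroup.bot_or_exists_ne_one W₁).resolve_left hT.typeP.W₁_ne
    have hz : w * y * w⁻¹ ∈ U := (mem_normalizer_iff.1 (hT.typeP.U_normal hw) _).1 y.2
    have hzc : (w * y * w⁻¹)⁻¹ * y ∈ centralizer (H : Set G) := by
      refine mem_centralizer_iff.2 fun a ha => ?_
      have hwH := FittingHall.le_normalizer_of M (hT.left_le hw)
      have ha' : w⁻¹ * a * w ∈ H := by simpa using (mem_normalizer_iff.1 (inv_mem hwH) a).1 ha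
      have e1 : w * y * w⁻¹ * a * (w * y * w⁻¹)⁻¹ = (y : G) * a * (y : G)⁻¹ := by
        calc w * y * w⁻¹ * a * (w * y * w⁻¹)⁻¹ = w * (y * (w⁻¹ * a * w) * (y : G)⁻¹) * w⁻¹ := by group
          _ = (w * (w⁻¹ * a * w) * w⁻¹) ^ k := by rw [hsc _ ha', conj_pow]
          _ = a ^ k := by congr 1; group
          _ = (y : G) * a * (y : G)⁻¹ := (hsc a ha).symm
      calc a * ((w * y * w⁻¹)⁻¹ * y)
          = (w * y * w⁻¹)⁻¹ * (w * y * w⁻¹ * a * (w * y * w⁻¹)⁻¹) * y := by group
        _ = (w * y * w⁻¹)⁻¹ * y * a := by rw [e1]; group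
    have heq : w * y * w⁻¹ = (y : G) := inv_mul_eq_one.1
      (mem_bot.1 (hfaith ▸ mem_inf.2 ⟨U.mul_mem (U.inv_mem hz) y.2, hzc⟩))
    exact hr.ne_one (hy0.symm.trans
      (orderOf_eq_one_iff.2 (hT.U_fixed hG y.2 hw hw1 (mul_inv_eq_iff_eq_mul.1 heq))))
  have hdvd : Nat.card U ∣ (Nat.card W₂ ^ Nat.card W₁ - 1) / (Nat.card W₂ - 1) := by
    have h1 := hφf.card_modEq_one
    rw [hcard] at h1
    have h2 : Nat.card U ∣ Nat.card W₂ ^ Nat.card W₁ - 1 :=
      (Nat.modEq_iff_dvd' (Nat.one_le_pow _ _ hp.pos)).1 h1.symm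
    refine hcop.dvd_of_dvd_mul_left ?_
    rwa [Nat.mul_div_cancel' (by simpa using Nat.sub_dvd_pow_sub_pow (Nat.card W₂) 1 (Nat.card W₁))]
  refine ⟨hq, hp, hlt, hel, hcard, hφf.isCyclic_of_comm hUc, hfaith, hfree, hdvd,
    hT.types.resolve_right ?_⟩
  rintro ⟨W', U', W'', hP', -, -, -, hnc, -⟩
  refine hnc ⟨⟨fun a b => Subtype.ext (commutatorElement_eq_one_iff_mul_comm.1 ?_)⟩⟩
  have h1 : ⁅(a : G), (b : G)⁆ ∈ H := by
    have h2 := hd.le (commutator_mem_commutator (hP'.U_compl.2.1 a.2) (hP'.U_compl.2.1 b.2))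
    rwa [hT.fitting_eq hG, hfaith, sup_bot_eq] at h2
  exact mem_bot.1 (hP'.U_compl.2.2.1 ▸ mem_inf.2
    ⟨h1, U'.mul_mem (U'.mul_mem (U'.mul_mem a.2 b.2) (U'.inv_mem a.2)) (U'.inv_mem b.2)⟩)

end Three

end CfsgLib.OddEnd
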