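import Cfsg.Agent.OddEnd.ElevenCong

/-!
Peterfalvi 11.8: the Dade image of `1_{M'}^M - ζ` on the grid, and the coherence of `X` with the columns
when that image is the sum of a column of the grid.
-/

set_option autoImplicit false
set_option linter.unusedSectionVars false

namespace CfsgLib.OddEnd

open CfsgLib.Char
open scoped ComplexConjugate

universe u

variable {G : Type u} [Group G]

/-- The integer lemma behind the dichotomy for `(1_{M'}^M - ζ)^τ`. -/
theorem gamma_rigid {R : Type*} [Fintype R] (r₀ : R) (A : R → ℤ) (hA : A r₀ = 1) (p s b N : ℤ) (hp : 3 ≤ p)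
    (hN : 2 ≤ N)
    (h : ∑ r, A r * A r + (p - 1) * ∑ r, (A r + s) * (A r + s) + (N * (b * b) - 2 * b + 1) ≤
      (Fintype.card R : ℤ) + 1) :
    (s = 0 ∧ p * ∑ r, A r * A r ≤ (Fintype.card R : ℤ)) ∨
      (s = -1 ∧ (∀ r, A r = 1) ∧ (b = 0 ∨ (b = 1 ∧ N = 2))) := by
  have hb : 0 ≤ N * (b * b) - 2 * b := by
    rcases le_or_gt b 0 with hb | hb
    · nlinarith
    · nlinarith [mul_le_mul_of_nonneg_right (show 2 ≤ N * b by nlinarith) hb.le, hN]
  by_cases hs : s = 0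
  · subst hs
    simp only [add_zero] at h
    exact Or.inl ⟨rfl, by linarith⟩
  right
  rw [Finset.mul_sum, ← Finset.sum_add_distrib] at h
  have h1 : ∀ r, 1 ≤ A r * A r + (p - 1) * ((A r + s) * (A r + s)) ∧
      (A r * A r + (p - 1) * ((A r + s) * (A r + s)) ≤ 1 → A r + s = 0 ∧ A r * A r = 1) := fun r => by
    by_cases e : A r + s = 0
    · have : A r ≠ 0 := fun e' => hs (by rw [e', zero_add] at e; exact e)
      have := one_le_mul_self this
      refine ⟨by rw [e]; linarith, fun h' => ⟨e, ?_⟩⟩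
      rw [e] at h'
      linarith
    · have h2 := one_le_mul_self e
      have h3 : 2 ≤ A r * A r + (p - 1) * ((A r + s) * (A r + s)) := by nlinarith [mul_self_nonneg (A r)]
      exact ⟨by linarith, fun h' => absurd h' (by linarith)⟩
  have hall : ∀ r, A r * A r + (p - 1) * ((A r + s) * (A r + s)) ≤ 1 := fun r => by
    classical
    by_contra hr
    push Not at hr
    have hlt : ∑ _x : R, (1 : ℤ) < ∑ x, (A x * A x + (p - 1) * ((A x + s) * (A x + s))) :=
      Finset.sum_lt_sum (fun x _ => (h1 x).1) ⟨r, Finset.mem_univ r, hr⟩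
    simp only [Finset.sum_const, Finset.card_univ, nsmul_eq_mul, mul_one] at hlt
    omega
  have hs1 : s = -1 := by
    have := ((h1 r₀).2 (hall r₀)).1
    omega
  have hall1 : ∀ r, A r = 1 := fun r => by
    have := ((h1 r).2 (hall r)).1
    omega
  refine ⟨hs1, hall1, ?_⟩
  simp only [hall1, hs1] at h
  norm_num at h
  have h0 : N * (b * b) - 2 * b = 0 := le_antisymm (by linarith) hb
  have h0' : b * (N * b - 2) = 0 := by linear_combination h0
  rcases mul_eq_zero.1 h0' with e | e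
  · exact Or.inl e
  · right
    have hd : b ∣ 2 := ⟨N, by linarith⟩
    have hble : b ≤ 2 := Int.le_of_dvd (by norm_num) hd
    have hb1 : 1 ≤ b := by nlinarith
    interval_cases b <;> omega

/-- The integer lemma excluding nonzero coefficients in the first column. -/
theorem sum_multiples_zero {R : Type*} [Fintype R] [DecidableEq R] (r₀ : R) (ι : R → R)
    (hι : ∀ r, ι (ι r) = r) (hfix : ∀ r, ι r = r → r = r₀) (h0 : ι r₀ = r₀) (z : R → ℤ) (hz0 : z r₀ = 0)
    (hsym : ∀ r, z (ι r) = z r) (q u N : ℤ) (hq : 3 ≤ q) (hqo : ¬ (2 : ℤ) ∣ q) (hu : 3 ≤ u) (hN : q * N + 1 = u)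
    (hdvd : ∀ r, q ∣ z r)
    (h : ∑ r, z r * z r + (N * ((∑ r, z r) * ∑ r, z r) - 2 * u * ∑ r, z r) ≤ q) :
    (∑ r, z r) = 0 := by
  set a := ∑ r, z r with ha
  by_contra hne
  obtain ⟨r, hr⟩ : ∃ r, z r ≠ 0 := by
    by_contra hh
    push Not at hh
    exact hne (Finset.sum_eq_zero fun r _ => hh r)
  have hrr : ι r ≠ r := fun e => hr (hfix r e ▸ hz0)
  obtain ⟨c, hc⟩ := hdvd r
  have hc0 : c ≠ 0 := fun e => hr (by rw [hc, e, mul_zero])
  have hsq : 2 * (q * q) ≤ ∑ r, z r * z r := by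
    have h2 := sum_mul_self_mono {r, ι r} z
    rw [Finset.sum_pair (Ne.symm hrr), hsym, hc] at h2
    nlinarith [mul_le_mul_of_nonneg_left (one_le_mul_self hc0) (mul_self_nonneg q)]
  have heven : (2 : ℤ) ∣ a := by
    refine (ZMod.intCast_zmod_eq_zero_iff_dvd a 2).1 ?_
    rw [ha, Int.cast_sum]
    refine Finset.sum_involution (fun r _ => ι r) (fun x _ => ?_) (fun x _ hx hfx => ?_)
      (fun x _ => Finset.mem_univ _) (fun x _ => hι x)
    · rw [hsym]
      exact CharTwo.add_self_eq_zero _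
    · exact hx (by rw [hfix x hfx, hz0, Int.cast_zero])
  have hqa : q ∣ a := Finset.dvd_sum fun r _ => hdvd r
  obtain ⟨k, hk⟩ := hqa
  rw [hk] at h
  have key : N * (q * k * (q * k)) - 2 * u * (q * k) = q * k * (k * (u - 1) - 2 * u) := by
    have : q * N = u - 1 := by linarith
    linear_combination (q * k * k) * this
  rw [key] at h
  have hk1 : k ≠ 1 := fun e => hqo (by subst e; rw [mul_one] at hk; exact hk ▸ heven)
  rcases lt_trichotomy k 0 with hk0 | hk0 | hk0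
  · have h1 : 0 ≤ q * k * (k * (u - 1) - 2 * u) :=
      mul_nonneg_of_nonpos_of_nonpos (by nlinarith) (by nlinarith)
    nlinarith
  · exact hne (by rw [hk, hk0, mul_zero])
  · by_cases hk2 : 4 ≤ k
    · have h1 : 0 ≤ q * k * (k * (u - 1) - 2 * u) := mul_nonneg (by nlinarith) (by nlinarith)
      nlinarith
    · interval_cases k
      · exact hk1 rfl
      · nlinarith
      · nlinarith

/-- The principal character of `M'`, induced to `M`. -/
noncomputable def indOne (M : Subgroup G) [Fintype M] : M → ℂ :=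
  Cfsg.indFun ((Cfsg.sigmaCore M).subgroupOf M) (fun _ => (1 : ℂ))

/-- The data for the argument on the grid: `q`, `u`, the family `X` and the columns. -/
structure ColCtx {W₁ W₂ : Subgroup G} (M : Subgroup G) [Fintype M] [Fintype G] [Fintype (Row W₁ W₂)]
    (χ : (↥(W₁ ⊔ W₂) →* ℂˣ) → G → ℂ) (μ : (↥(W₁ ⊔ W₂) →* ℂˣ) → M → ℂ)
    (δ : (↥(W₁ ⊔ W₂) →* ℂˣ) → ℂ) (X : Finset (M → ℂ)) (u : ℕ) : Prop where
  fam : Cfsg.IsCyclicTIFamily W₁ W₂ χ
  mu : IsMuG M (Cfsg.sigmaCore M) W₁ W₂ μ δ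
  hq : (Nat.card W₁).Prime
  q3 : 3 ≤ Nat.card W₁
  p3 : 3 ≤ Nat.card W₂
  qodd : ¬ 2 ∣ Nat.card W₁
  u1 : u ≡ 1 [MOD Nat.card W₁]
  u2 : 2 * Nat.card W₁ + 1 ≤ u
  col : ∀ l : Col W₁ W₂, l ≠ col₀ → (∑ r : Row W₁ W₂, μ (cell r l)) ∈ tenS M
  deg : ∀ l : Col W₁ W₂, l ≠ col₀ → μ l.1 1 = (u : ℂ)
  sub : ↑X ⊆ tenS M
  irr : ∀ φ ∈ X, Cfsg.IsIrrCharacter M φ
  conjX : ∀ φ ∈ X, Cfsg.conjFun φ ∈ X
  degX : ∀ φ ∈ X, φ 1 = (Nat.card W₁ : ℂ)
  two : 1 < X.card
  card : Nat.card W₁ * X.card + 1 = u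

namespace ColCtx

open scoped Classical

variable [Fintype G] {M N W₁ W₂ V : Subgroup G} [Fintype M] [Fintype (Row W₁ W₂)]
  {χ : (↥(W₁ ⊔ W₂) →* ℂˣ) → G → ℂ} {μ : (↥(W₁ ⊔ W₂) →* ℂˣ) → M → ℂ}
  {δ : (↥(W₁ ⊔ W₂) →* ℂˣ) → ℂ} {X : Finset (M → ℂ)} {u : ℕ}
variable (E : ColCtx M χ μ δ X u) (P : TenPair M N W₁ W₂ V)
include E P

theorem cardRow : Fintype.card (Row W₁ W₂) = Nat.card W₁ := by
  rw [← Nat.card_eq_fintype_card, (card_trivL P.W_M).2]

theorem sign {l : Col W₁ W₂} (hl : l ≠ col₀) : δ l.1 = 1 :=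
  P.sign_one E.mu E.hq l (E.deg l hl) E.u1 E.q3

theorem col_one {l : Col W₁ W₂} (hl : l ≠ col₀) :
    (∑ r : Row W₁ W₂, μ (cell r l)) 1 = (Nat.card W₁ : ℂ) * u := by
  rw [P.col_apply E.mu l (Subgroup.one_mem _), E.deg l hl]

theorem Ione_one : indOne M 1 = (Nat.card W₁ : ℂ) := P.indOne_apply (Subgroup.one_mem _)

theorem Ione_gen : Cfsg.IsGeneralizedCharacter M (indOne M) :=
  IsCharacter.isGeneralized (IsCharacter.indFun (IsIrrCharacter.isCharacter isIrrCharacter_one))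

theorem supp_ind (ψ : M → ℂ) (hψ : ψ ∈ tenS M) (h1 : ψ 1 = (Nat.card W₁ : ℂ)) : SuppA M (indOne M - ψ) := by
  refine ⟨IsGeneralized.sub (E.Ione_gen P) (IsCharacter.isGeneralized (TenPair.tenS_char hψ)), fun x hx => ?_⟩
  by_cases hxK : (x : G) ∈ Cfsg.sigmaCore M
  · rw [show x = 1 from Subtype.ext (by_contra fun e => hx (P.mem_A hxK e)), Pi.sub_apply, E.Ione_one P, h1,
      sub_self]
  · rw [Pi.sub_apply, indOne, P.indOne_off hxK, P.tenS_off hψ hxK, sub_zero]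

theorem supp_col {l : Col W₁ W₂} (hl : l ≠ col₀) {ψ : M → ℂ} (hψ : ψ ∈ X) :
    SuppA M ((∑ r : Row W₁ W₂, μ (cell r l)) - (u : ℂ) • ψ) := by
  refine ⟨IsGeneralized.sub (IsCharacter.isGeneralized (TenPair.tenS_char (E.col l hl))) ?_, fun x hx => ?_⟩
  · exact_mod_cast IsGeneralized.intCast_smul (IsCharacter.isGeneralized (TenPair.tenS_char (E.sub hψ))) (u : ℤ)
  by_cases hxK : (x : G) ∈ Cfsg.sigmaCore M
  · rw [show x = 1 from Subtype.ext (by_contra fun e => hx (P.mem_A hxK e)), Pi.sub_apply, Pi.smul_apply,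
      E.col_one P hl, E.degX ψ hψ, smul_eq_mul, mul_comm, sub_self]
  · rw [Pi.sub_apply, Pi.smul_apply, P.tenS_off (E.col l hl) hxK, P.tenS_off (E.sub hψ) hxK, smul_zero, sub_zero]

theorem inner_Ione {φ : M → ℂ} (hφ : φ ∈ tenS M) : Cfsg.classInner (indOne M) φ = 0 ∧ Cfsg.classInner φ (indOne M) = 0 := by
  classical
  haveI := P.normal_core
  obtain ⟨θ, h1, h2, -, rfl⟩ := hφ
  have h : Cfsg.classInner (Cfsg.indFun ((Cfsg.sigmaCore M).subgroupOf M) θ) (indOne M) = 0 := by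
    rw [indOne, classInner_indFun_indFun h1 isIrrCharacter_one, if_neg]
    rw [mem_conjOrbit]
    rintro ⟨g, e⟩
    exact h2 (e.trans rfl)
  exact ⟨by rw [← classInner_conj, h, map_zero], h⟩

theorem Ione_norm : Cfsg.classInner (indOne M) (indOne M) = (Nat.card W₁ : ℂ) := by
  haveI := P.normal_core
  haveI := Fintype.ofFinite ↥((Cfsg.sigmaCore M).subgroupOf M)
  rw [indOne, classInner_indFun_self isIrrCharacter_one,
    show inertia (fun _ : ↥((Cfsg.sigmaCore M).subgroupOf M) => (1 : ℂ)) = ⊤ from eq_top_iff.2 fun g _ => rfl,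
    Subgroup.card_top, ← Subgroup.card_mul_index ((Cfsg.sigmaCore M).subgroupOf M), P.core_index, Nat.cast_mul,
    mul_div_cancel_left₀ _ (by exact_mod_cast (Nat.card_pos).ne')]

theorem inner_one {φ : M → ℂ} (hφ : φ ∈ tenS M) : Cfsg.classInner φ (fun _ => 1) = 0 := by
  obtain ⟨θ, h1, h2, -, rfl⟩ := hφ
  haveI := Fintype.ofFinite ↥((Cfsg.sigmaCore M).subgroupOf M)
  rw [classInner_indFun θ (fun _ _ => rfl)]
  exact IsIrrCharacter.classInner_of_ne h1 isIrrCharacter_one h2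

theorem Ione_inner_one : Cfsg.classInner (indOne M) (fun _ => 1) = 1 := by
  haveI := Fintype.ofFinite ↥((Cfsg.sigmaCore M).subgroupOf M)
  rw [indOne, classInner_indFun (fun _ : ↥((Cfsg.sigmaCore M).subgroupOf M) => (1 : ℂ)) (fun _ _ => rfl)]
  exact classInner_one_one

theorem col_inner (j k : Col W₁ W₂) :
    Cfsg.classInner (∑ r : Row W₁ W₂, μ (cell r j)) (∑ r : Row W₁ W₂, μ (cell r k)) =
      if j = k then (Nat.card W₁ : ℂ) else 0 := by
  classical
  rw [classInner_sum_left, Finset.sum_congr rfl fun r _ => by rw [classInner_sum_right]]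
  split_ifs with e
  · subst e
    rw [Finset.sum_congr rfl fun r _ => Finset.sum_eq_single r (fun s _ hs =>
        IsIrrCharacter.classInner_of_ne (E.mu.irr _) (E.mu.irr _) fun e' =>
          hs (cell_injective (E.mu.inj e')).1.symm) (fun h' => absurd (Finset.mem_univ r) h'),
      Finset.sum_congr rfl fun r _ => IsIrrCharacter.classInner_self (E.mu.irr _), Finset.sum_const,
      Finset.card_univ, E.cardRow P, nsmul_one]
  · exact Finset.sum_eq_zero fun r _ => Finset.sum_eq_zero fun s _ =>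
      IsIrrCharacter.classInner_of_ne (E.mu.irr _) (E.mu.irr _) fun e' => e (cell_injective (E.mu.inj e')).2

theorem col_irr (l : Col W₁ W₂) (hl : l ≠ col₀) {φ : M → ℂ} (hφ : φ ∈ X) :
    Cfsg.classInner (∑ r : Row W₁ W₂, μ (cell r l)) φ = 0 ∧
      Cfsg.classInner φ (∑ r : Row W₁ W₂, μ (cell r l)) = 0 := by
  have hne := P.irr_ne_col E.mu (E.sub hφ) (E.irr φ hφ) l
  exact ⟨P.tenS_orth (E.col l hl) (E.sub hφ) hne.symm, P.tenS_orth (E.sub hφ) (E.col l hl) hne⟩

theorem X_inner [DecidableEq (M → ℂ)] {φ ψ : M → ℂ} (hφ : φ ∈ X) (hψ : ψ ∈ X) :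
    Cfsg.classInner φ ψ = if φ = ψ then 1 else 0 := by
  split_ifs with h
  · rw [h, IsIrrCharacter.classInner_self (E.irr ψ hψ)]
  · exact IsIrrCharacter.classInner_of_ne (E.irr φ hφ) (E.irr ψ hψ) h

variable {f : (M → ℂ) → G → ℂ} (hf : Images M χ X f) {ζ : M → ℂ} (hζ : ζ ∈ X)
include hf hζ

/-- The array of `Γ₀ = (1_{M'}^M - ζ)^τ`. -/
theorem gamma_zero :
    ∃ (A : Row W₁ W₂ → ℤ) (s b : ℤ), A row₀ = 1 ∧
      (∀ r, Cfsg.classInner (tenTau M (indOne M - ζ)) (χ (cell r col₀)) = (A r : ℂ)) ∧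
      (∀ r l, l ≠ col₀ → Cfsg.classInner (tenTau M (indOne M - ζ)) (χ (cell r l)) = ((A r + s : ℤ) : ℂ)) ∧
      Cfsg.classInner (tenTau M (indOne M - ζ)) (f ζ) = ((b - 1 : ℤ) : ℂ) ∧
      (∀ ψ ∈ X, ψ ≠ ζ → Cfsg.classInner (tenTau M (indOne M - ζ)) (f ψ) = (b : ℂ)) ∧
      ((s = 0 ∧ (Nat.card W₂ : ℤ) * ∑ r, A r * A r ≤ (Nat.card W₁ : ℤ)) ∨
        (s = -1 ∧ (∀ r, A r = 1) ∧ (b = 0 ∨ (b = 1 ∧ X.card = 2)))) := by
  classical
  haveI := Fintype.ofFinite (Col W₁ W₂)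
  have hsupp := E.supp_ind P ζ (E.sub hζ) (E.degX ζ hζ)
  obtain ⟨t, s', ht, hs0, hadd, hdiff⟩ := P.grid_of_supp E.fam E.mu hsupp
  have ht1 : t row₀ = 1 := by
    rw [classInner_sub_left, E.Ione_inner_one P, E.inner_one P (E.sub hζ), sub_zero] at ht
    exact_mod_cast ht
  obtain ⟨l₁, hl₁⟩ : ∃ l : Col W₁ W₂, l ≠ col₀ := by
    by_contra h
    push Not at h
    have h1 : Fintype.card (Col W₁ W₂) ≤ 1 := Fintype.card_le_one_iff.2 fun a b => (h a).trans (h b).symm
    rw [← Nat.card_eq_fintype_card, (card_trivL P.W_M).1] at h1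
    have := E.p3
    omega
  have hconst : ∀ l, l ≠ col₀ → s' l = s' l₁ := fun l hl => by
    by_cases e : l = l₁
    · rw [e]
    have h := hdiff l l₁ e hl hl₁
    rw [E.sign P hl, one_mul, classInner_sub_left, classInner_sub_right, classInner_sub_right,
      (E.inner_Ione P (E.col l hl)).1, (E.inner_Ione P (E.col l₁ hl₁)).1, (E.col_irr P l hl hζ).2,
      (E.col_irr P l₁ hl₁ hζ).2] at h
    simp only [sub_self] at h
    have h' : (Nat.card W₁ : ℤ) * (s' l - s' l₁) = 0 := by exact_mod_cast h.symm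
    rcases mul_eq_zero.1 h' with e' | e'
    · exact absurd (by exact_mod_cast e') E.hq.ne_zero
    · exact sub_eq_zero.1 e'
  have hx : ∀ r l, Cfsg.classInner (tenTau M (indOne M - ζ)) (χ (cell r l)) =
      ((if l = col₀ then t r else t r + s' l₁ : ℤ) : ℂ) := fun r l => by
    rw [hadd]
    split_ifs with e
    · rw [e, hs0, add_zero]
    · rw [hconst l e]
  have hn : ∀ ψ ∈ X, ψ ≠ ζ → Cfsg.classInner (tenTau M (indOne M - ζ)) (f ψ - f ζ) = ((1 : ℤ) : ℂ) :=
    fun ψ hψ hne => by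
      rw [← hf.diff ψ hψ ζ hζ, P.tau_inner hsupp (P.suppA_sub (E.sub hψ) (E.sub hζ)
        (by rw [E.degX ψ hψ, E.degX ζ hζ])), classInner_sub_left, classInner_sub_right, classInner_sub_right,
        (E.inner_Ione P (E.sub hψ)).1, (E.inner_Ione P (E.sub hζ)).1, E.X_inner P hζ hψ, if_neg (Ne.symm hne),
        E.X_inner P hζ hζ, if_pos rfl]
      norm_num
  have hT : Cfsg.classInner (tenTau M (indOne M - ζ)) (tenTau M (indOne M - ζ)) = (((Nat.card W₁ : ℤ) + 1 : ℤ) : ℂ) := by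
    rw [P.tau_inner hsupp hsupp, classInner_sub_left, classInner_sub_right, classInner_sub_right, E.Ione_norm P,
      (E.inner_Ione P (E.sub hζ)).1, (E.inner_Ione P (E.sub hζ)).2, E.X_inner P hζ hζ, if_pos rfl]
    push_cast
    ring
  obtain ⟨b, hb1, hb, hB⟩ := TenPair.bessel_image E.fam hf (P.tau_gen hsupp) hζ 1 hn _ hx hT
  refine ⟨t, s' l₁, b, ht1, fun r => by rw [hx, if_pos rfl], fun r l hl => by rw [hx, if_neg hl], hb1, hb, ?_⟩
  rw [← Finset.add_sum_erase _ _ (Finset.mem_univ (col₀ : Col W₁ W₂))] at hB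
  simp only [if_true] at hB
  rw [Finset.sum_congr rfl (fun l hl => Finset.sum_congr rfl fun r _ => by
      rw [if_neg (Finset.ne_of_mem_erase hl)] : ∀ l ∈ (Finset.univ.erase (col₀ : Col W₁ W₂)),
        (∑ r, (if l = col₀ then t r else t r + s' l₁) * (if l = col₀ then t r else t r + s' l₁)) =
          ∑ r, (t r + s' l₁) * (t r + s' l₁)),
    Finset.sum_const, Finset.card_erase_of_mem (Finset.mem_univ _), Finset.card_univ, ← Nat.card_eq_fintype_card,
    (card_trivL P.W_M).1, nsmul_eq_mul, Nat.cast_sub (le_trans (by norm_num) E.p3), Nat.cast_one] at hB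
  rcases gamma_rigid row₀ t ht1 (Nat.card W₂) (s' l₁) b X.card (by exact_mod_cast E.p3)
    (by exact_mod_cast E.two) (by rw [E.cardRow P]; linarith) with ⟨h1, h2⟩ | ⟨h1, h2, h3⟩
  · exact Or.inl ⟨h1, by rwa [E.cardRow P] at h2⟩
  · exact Or.inr ⟨h1, h2, h3.imp_right fun h => ⟨h.1, by exact_mod_cast h.2⟩⟩

omit ζ hζ in
/-- With exactly two members the images may be exchanged. -/
theorem images_swap (h2 : X.card = 2) : Images M χ X (fun φ => -f (Cfsg.conjFun φ)) := by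
  classical
  refine ⟨fun φ hφ => IsGeneralized.neg (hf.gen _ (E.conjX φ hφ)), fun φ hφ => by
    rw [classInner_neg_left, classInner_neg_right, neg_neg, hf.norm _ (E.conjX φ hφ)], fun φ hφ ψ hψ hne => by
    rw [classInner_neg_left, classInner_neg_right, neg_neg, hf.disj _ (E.conjX φ hφ) _ (E.conjX ψ hψ)]
    exact fun e => hne (by rw [← conjFun_conjFun φ, e, conjFun_conjFun]), fun φ hφ ω => by
    rw [classInner_neg_left, hf.orth _ (E.conjX φ hφ), neg_zero], fun φ hφ => ?_, fun φ hφ ψ hψ => ?_⟩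
  · simp only [hf.conjEq _ (E.conjX φ hφ)]
    funext x; simp [Cfsg.conjFun]
  · have hpair : ({φ, Cfsg.conjFun φ} : Finset (M → ℂ)) = X := Finset.eq_of_subset_of_card_le
      (Finset.insert_subset hφ (Finset.singleton_subset_iff.2 (E.conjX φ hφ)))
      (by rw [h2, Finset.card_pair (Ne.symm (P.tenS_conj_ne (E.sub hφ)))])
    rw [← hpair, Finset.mem_insert, Finset.mem_singleton] at hψ
    rcases hψ with rfl | rfl
    · rw [sub_self, sub_self, tenTau, ← sub_self (0 : M → ℂ), dade_sub, sub_self]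
    · rw [conjFun_conjFun, hf.diff φ hφ _ (E.conjX φ hφ)]
      abel

end ColCtx

end CfsgLib.OddEnd
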