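import Cfsg.Agent.OddEnd.TenSystemR
import Cfsg.Agent.OddEnd.DadeAux

/-!
Coherent images of irreducible members of `S`, and the arrays of Dade images along the grid
(preparations for Peterfalvi 11.8, 11.9).
-/

set_option autoImplicit false
set_option linter.unusedSectionVars false

namespace CfsgLib.OddEnd

open CfsgLib.Char
open scoped ComplexConjugate

universe u

variable {G : Type u} [Group G]

/-- Generalized characters supported on `A(M)`. -/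
def SuppA (M : Subgroup G) (α : M → ℂ) : Prop :=
  Cfsg.IsGeneralizedCharacter M α ∧ ∀ x : M, (x : G) ∉ Cfsg.typeA M → α x = 0

theorem SuppA.sub {M : Subgroup G} {α β : M → ℂ} (ha : SuppA M α) (hb : SuppA M β) : SuppA M (α - β) :=
  ⟨IsGeneralized.sub ha.1 hb.1, fun x hx => by rw [Pi.sub_apply, ha.2 x hx, hb.2 x hx, sub_zero]⟩

theorem SuppA.smul {M : Subgroup G} {α : M → ℂ} (ha : SuppA M α) (n : ℤ) : SuppA M ((n : ℂ) • α) :=
  ⟨IsGeneralized.intCast_smul ha.1 n, fun x hx => by rw [Pi.smul_apply, ha.2 x hx, smul_zero]⟩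

theorem tenTau_sub (M : Subgroup G) (α β : M → ℂ) : tenTau M (α - β) = tenTau M α - tenTau M β :=
  dade_sub α β

theorem tenTau_smul (M : Subgroup G) (c : ℂ) (α : M → ℂ) : tenTau M (c • α) = c • tenTau M α := by
  funext g
  simp only [tenTau, Cfsg.dadeIsometry, Pi.smul_apply]
  split_ifs <;> simp

theorem tenTau_conj (M : Subgroup G) (α : M → ℂ) :
    tenTau M (Cfsg.conjFun α) = Cfsg.conjFun (tenTau M α) := by
  funext g
  simp only [tenTau, Cfsg.dadeIsometry, Cfsg.conjFun]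
  split_ifs <;> simp

/-- The images of a set of irreducible members of `S` under a coherent extension of `τ`. -/
structure Images [Fintype G] {W₁ W₂ : Subgroup G} (M : Subgroup G) (χ : (↥(W₁ ⊔ W₂) →* ℂˣ) → G → ℂ)
    (X : Finset (M → ℂ)) (f : (M → ℂ) → G → ℂ) : Prop where
  gen : ∀ φ ∈ X, Cfsg.IsGeneralizedCharacter G (f φ)
  norm : ∀ φ ∈ X, Cfsg.classInner (f φ) (f φ) = 1
  disj : ∀ φ ∈ X, ∀ ψ ∈ X, φ ≠ ψ → Cfsg.classInner (f φ) (f ψ) = 0
  orth : ∀ φ ∈ X, ∀ ω, Cfsg.classInner (f φ) (χ ω) = 0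
  conjEq : ∀ φ ∈ X, f (Cfsg.conjFun φ) = Cfsg.conjFun (f φ)
  diff : ∀ φ ∈ X, ∀ ψ ∈ X, tenTau M (φ - ψ) = f φ - f ψ

namespace TenPair

open Cfsg CfsgLib.OddLocal CfsgLib.OddLocal.Kap

variable [Fintype G] {M N K Ks V : Subgroup G} (P : TenPair M N K Ks V) [Fintype M]
include P

theorem tau_inner {α β : M → ℂ} (hα : SuppA M α) (hβ : SuppA M β) :
    Cfsg.classInner (tenTau M α) (tenTau M β) = Cfsg.classInner α β :=
  classInner_dadeIsometry_dadeIsometry P.dade_A (IsGeneralized.isClassFunction hα.1) hα.2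
    (IsGeneralized.isClassFunction hβ.1)

theorem tau_gen {α : M → ℂ} (hα : SuppA M α) : Cfsg.IsGeneralizedCharacter G (tenTau M α) :=
  isGeneralized_dadeIsometry P.dade_A hα.1 hα.2

theorem tau_one {α : M → ℂ} (hα : SuppA M α) :
    Cfsg.classInner (tenTau M α) (fun _ => 1) = Cfsg.classInner α (fun _ => 1) := by
  refine classInner_dadeIsometry P.dade_A (IsGeneralized.isClassFunction hα.1) hα.2 (fun _ _ => rfl)
    (ψ := fun _ => 1) fun a _ => ?_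
  rw [finsum_mem_eq_finite_toFinset_sum _ (Set.toFinite _), Finset.sum_const, nsmul_eq_mul, mul_one,
    ← Set.ncard_eq_toFinset_card, ← Nat.card_coe_set_eq]
  exact (inv_mul_cancel₀ (by exact_mod_cast (Nat.card_pos (α := ↥(Cfsg.supportR M (a : G)))).ne')).symm

/-- Dade images from `A(M)` vanish on the mixed elements. -/
theorem tau_mixed_zero (α : M → ℂ) (w : ↥(K ⊔ Ks)) (h1 : (w : G) ∉ K) (h2 : (w : G) ∉ Ks) :
    tenTau M α w = 0 := by
  refine dadeIsometry_eq_zero P.dade_A ?_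
  rintro ⟨a, ha, u, hu, x, hx⟩
  obtain ⟨l, hl, e⟩ := dade_conj_in_L P.dade_M (typeA_sub ha) (P.mixed_M w.2 h1 h2).1 hu
    (Subgroup.one_mem (Cfsg.supportR M (w : G))) (g := x⁻¹) (by rw [← hx]; group)
  have hwK : (w : G) ∈ Cfsg.sigmaCore M := by
    rw [← e]
    exact (Subgroup.mem_normalizer_iff.1 (TH.le_normalizer_core M hl) a).1 (P.typeA_M.le ha).1
  exact h2 (mem_right_of_mem_kernel P.primeDade_M.action (w := (⟨(w : G), P.le_M w.2⟩ : M))
    ((P.primeDade_M.mem_sup_iff _).2 w.2) hwK)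

theorem suppA_of_mem {α : M → ℂ} (hα : α ∈ Cfsg.zspanOn (tenS M) ({1}ᶜ : Set M)) : SuppA M α :=
  P.zspanOn_props hα

theorem suppA_sub {φ ψ : M → ℂ} (hφ : φ ∈ tenS M) (hψ : ψ ∈ tenS M) (h : φ 1 = ψ 1) :
    SuppA M (φ - ψ) :=
  P.suppA_of_mem (mem_zspanOn_one.2 ⟨Submodule.sub_mem _ (subset_zspan hφ) (subset_zspan hψ),
    by rw [Pi.sub_apply, h, sub_self]⟩)

variable {χ : (↥(K ⊔ Ks) →* ℂˣ) → G → ℂ}

/-- Irreducible members of one degree have coherent images orthogonal to the grid. -/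
theorem exists_images (hχ : Cfsg.IsCyclicTIFamily K Ks χ) (X : Finset (M → ℂ)) (hX : ↑X ⊆ tenS M)
    (hirr : ∀ φ ∈ X, Cfsg.IsIrrCharacter M φ) (hconj : ∀ φ ∈ X, Cfsg.conjFun φ ∈ X)
    (hdeg : ∀ φ ∈ X, ∀ ψ ∈ X, φ 1 = ψ 1) (h2 : 1 < X.card) : ∃ f, Images M χ X f := by
  classical
  obtain ⟨-, τ₁, hτ₁, hag⟩ := isCoherent_equal_irr X hirr hdeg h2
    (isometryOn_subset (zspanOn_subset_zspanOn hX _) P.tau_isometry.1)
    fun α hα => P.tau_isometry.2 α (zspanOn_subset_zspanOn hX _ hα)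
  have hmem : ∀ {φ : M → ℂ}, φ ∈ X → φ ∈ Cfsg.zspan (↑X : Set (M → ℂ)) := fun h => subset_zspan h
  have hsub : ∀ φ ∈ X, ∀ ψ ∈ X, tenTau M (φ - ψ) = τ₁ φ - τ₁ ψ := fun φ hφ ψ hψ => by
    rw [← hag (φ - ψ) (mem_zspanOn_one.2 ⟨Submodule.sub_mem _ (hmem hφ) (hmem hψ),
      by rw [Pi.sub_apply, hdeg φ hφ ψ hψ, sub_self]⟩), sub_eq_add_neg φ ψ, ← neg_one_zsmul ψ,
      hτ₁.1 _ (hmem hφ) _ (Submodule.smul_mem _ (-1 : ℤ) (hmem hψ)), hτ₁.2.1 _ (hmem hψ),
      neg_one_zsmul, sub_eq_add_neg]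
  have hgen : ∀ φ ∈ X, Cfsg.IsGeneralizedCharacter G (τ₁ φ) := fun φ hφ => hτ₁.2.2.2 _ (hmem hφ)
  have hnorm : ∀ φ ∈ X, Cfsg.classInner (τ₁ φ) (τ₁ φ) = 1 := fun φ hφ => by
    rw [hτ₁.2.2.1 _ (hmem hφ) _ (hmem hφ), IsIrrCharacter.classInner_self (hirr φ hφ)]
  have key : ∀ φ ∈ X, ∃ ν : G → ℂ, Cfsg.IsIrrCharacter G ν ∧
      (∀ ω, Cfsg.classInner ν (χ ω) = 0 ∧ Cfsg.classInner (Cfsg.conjFun ν) (χ ω) = 0) ∧
      ((τ₁ φ = ν ∧ τ₁ (Cfsg.conjFun φ) = Cfsg.conjFun ν) ∨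
        (τ₁ φ = -Cfsg.conjFun ν ∧ τ₁ (Cfsg.conjFun φ) = -ν)) := by
    intro φ hφ
    obtain ⟨ν, hν, hne, he, horth⟩ := P.tau_irr hχ (hX hφ) (hirr φ hφ)
    refine ⟨ν, hν, horth, ?_⟩
    have hν' : Cfsg.IsIrrCharacter G (Cfsg.conjFun ν) := IsIrrCharacter.conj hν
    have e : τ₁ φ - τ₁ (Cfsg.conjFun φ) = ν - Cfsg.conjFun ν := by
      rw [← hsub φ hφ _ (hconj φ hφ), he]
    have hone : Cfsg.classInner (τ₁ φ) ν - Cfsg.classInner (τ₁ φ) (Cfsg.conjFun ν) = 1 := by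
      rw [← classInner_sub_right, ← e, classInner_sub_right, hnorm φ hφ,
        hτ₁.2.2.1 _ (hmem hφ) _ (hmem (hconj φ hφ)),
        IsIrrCharacter.classInner_of_ne (hirr φ hφ) (hirr _ (hconj φ hφ))
          (Ne.symm (P.tenS_conj_ne (hX hφ))), sub_zero]
    have hs : IsSignedIrr (τ₁ φ) := IsGeneralized.isIrr_or_neg (hgen φ hφ) (hnorm φ hφ)
    by_cases h0 : Cfsg.classInner (τ₁ φ) ν = 0
    · have h1 : Cfsg.classInner (τ₁ φ) (Cfsg.conjFun ν) = -1 := by linear_combination h0 - hone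
      obtain ⟨s, -, hsm, hsv⟩ := IsSignedIrr.eq_smul_of_classInner_ne hs (Or.inl hν') (by rw [h1]; norm_num)
      rw [h1] at hsv
      rw [← hsv, neg_one_smul] at hsm
      refine Or.inr ⟨by rw [hsm, neg_neg], ?_⟩
      linear_combination (norm := module) -e + (by rw [hsm] : Cfsg.conjFun ν = -τ₁ φ)
    · obtain ⟨s, -, hsm, hsv⟩ := IsSignedIrr.eq_smul_of_classInner_ne hs (Or.inl hν) h0
      have h1 : Cfsg.classInner (τ₁ φ) (Cfsg.conjFun ν) = 0 := by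
        by_contra h1
        obtain ⟨t, -, htm, -⟩ := IsSignedIrr.eq_smul_of_classInner_ne hs (Or.inl hν') h1
        have h2' := IsIrrCharacter.classInner_of_ne hν hν' (Ne.symm hne)
        rw [htm, hsm, classInner_smul_left, classInner_smul_right, hnorm φ hφ, mul_one, mul_eq_zero,
          map_eq_zero] at h2'
        rcases h2' with h | h
        · exact h0 (by rw [hsv, h])
        · exact IsIrrCharacter.apply_one_ne_zero hν' (by rw [htm, h]; simp)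
      rw [h1, sub_zero, hsv] at hone
      rw [hone, one_smul] at hsm
      refine Or.inl ⟨hsm.symm, ?_⟩
      linear_combination (norm := module) -e - hsm
  refine ⟨τ₁, hgen, hnorm, fun φ hφ ψ hψ hne => by
    rw [hτ₁.2.2.1 _ (hmem hφ) _ (hmem hψ), IsIrrCharacter.classInner_of_ne (hirr φ hφ) (hirr ψ hψ) hne],
    fun φ hφ ω => ?_, fun φ hφ => ?_, hsub⟩
  · obtain ⟨ν, -, horth, ⟨h, -⟩ | ⟨h, -⟩⟩ := key φ hφ <;> rw [h]
    · exact (horth ω).1
    · rw [classInner_neg_left, (horth ω).2, neg_zero]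
  · obtain ⟨ν, -, -, ⟨h, h'⟩ | ⟨h, h'⟩⟩ := key φ hφ <;> rw [h, h']
    funext x
    simp [Cfsg.conjFun]

omit [Fintype M] P in
/-- Bessel's inequality for a generalized character with constant differences on the images. -/
theorem bessel_image [Fintype (Row K Ks)] [Fintype (Col K Ks)] (hχ : Cfsg.IsCyclicTIFamily K Ks χ)
    {X : Finset (M → ℂ)} {f : (M → ℂ) → G → ℂ} (hf : Images M χ X f) {θ : G → ℂ}
    (hθ : Cfsg.IsGeneralizedCharacter G θ) {ψ₀ : M → ℂ} (hψ₀ : ψ₀ ∈ X) (n : ℤ)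
    (hn : ∀ ψ ∈ X, ψ ≠ ψ₀ → Cfsg.classInner θ (f ψ - f ψ₀) = (n : ℂ))
    (x : Row K Ks → Col K Ks → ℤ) (hx : ∀ r l, Cfsg.classInner θ (χ (cell r l)) = (x r l : ℂ))
    {T : ℤ} (hT : Cfsg.classInner θ θ = (T : ℂ)) :
    ∃ b : ℤ, Cfsg.classInner θ (f ψ₀) = ((b - n : ℤ) : ℂ) ∧
      (∀ ψ ∈ X, ψ ≠ ψ₀ → Cfsg.classInner θ (f ψ) = (b : ℂ)) ∧
      ∑ l, ∑ r, x r l * x r l + ((X.card : ℤ) * (b * b) - 2 * n * b + n * n) ≤ T := by
  classical
  obtain ⟨c, hc⟩ := IsGeneralized.exists_classInner_eq_int hθ (hf.gen ψ₀ hψ₀)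
  have hother : ∀ ψ ∈ X, ψ ≠ ψ₀ → Cfsg.classInner θ (f ψ) = ((c + n : ℤ) : ℂ) := fun ψ hψ hne => by
    have h := hn ψ hψ hne
    rw [classInner_sub_right, hc, sub_eq_iff_eq_add] at h
    rw [h, Int.cast_add, add_comm]
  refine ⟨c + n, by rw [hc, add_sub_cancel_right], hother, ?_⟩
  have hinj : Set.InjOn f ↑X := fun φ hφ ψ hψ e => by
    by_contra hne
    have h := hf.disj φ hφ ψ hψ hne
    rw [e, hf.norm ψ hψ] at h
    exact one_ne_zero h
  let m : (G → ℂ) → ℤ := fun α => if α = f ψ₀ then c else c + n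
  have hm : ∀ α ∈ X.image f, Cfsg.classInner θ α = (m α : ℂ) := fun α hα => by
    obtain ⟨φ, hφ, rfl⟩ := Finset.mem_image.1 hα
    by_cases e : φ = ψ₀
    · subst e; simp [m, hc]
    · rw [hother φ hφ e]
      simp only [m, if_neg fun e' => e (hinj hφ hψ₀ e')]
  have h := grid_bessel hχ x hx (X.image f)
    (fun α hα β hβ hne => by
      obtain ⟨φ, hφ, rfl⟩ := Finset.mem_image.1 hα
      obtain ⟨ψ, hψ, rfl⟩ := Finset.mem_image.1 hβ
      exact hf.disj φ hφ ψ hψ fun e => hne (by rw [e]))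
    (fun α hα => by obtain ⟨φ, hφ, rfl⟩ := Finset.mem_image.1 hα; exact hf.norm φ hφ)
    (fun α hα ω => by obtain ⟨φ, hφ, rfl⟩ := Finset.mem_image.1 hα; exact hf.orth φ hφ ω) m hm
  rw [hT, Complex.intCast_re] at h
  have h' : ∑ l, ∑ r, x r l * x r l + ∑ α ∈ X.image f, m α * m α ≤ T := by exact_mod_cast h
  rw [Finset.sum_image hinj, ← Finset.add_sum_erase _ _ hψ₀,
    Finset.sum_congr rfl fun φ hφ => show m (f φ) * m (f φ) = (c + n) * (c + n) by
      simp only [m, if_neg fun e => Finset.ne_of_mem_erase hφ (hinj (Finset.mem_of_mem_erase hφ) hψ₀ e)],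
    Finset.sum_const, Finset.card_erase_of_mem hψ₀, nsmul_eq_mul,
    Nat.cast_sub (Finset.card_pos.2 ⟨ψ₀, hψ₀⟩)] at h'
  simp only [m, if_true, Nat.cast_one] at h'
  linarith

variable {μ : (↥(K ⊔ Ks) →* ℂˣ) → M → ℂ} {δ : (↥(K ⊔ Ks) →* ℂˣ) → ℂ}

/-- The array of a Dade image: additive, its column offsets read off from the inner products with columns. -/
theorem grid_of_supp [Fintype (Row K Ks)] (hχ : Cfsg.IsCyclicTIFamily K Ks χ)
    (hμ : IsMuG M (Cfsg.sigmaCore M) K Ks μ δ) {α : M → ℂ} (hα : SuppA M α) :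
    ∃ (t : Row K Ks → ℤ) (s : Col K Ks → ℤ), ((t row₀ : ℤ) : ℂ) = Cfsg.classInner α (fun _ => 1) ∧
      s col₀ = 0 ∧ (∀ r l, Cfsg.classInner (tenTau M α) (χ (cell r l)) = ((t r + s l : ℤ) : ℂ)) ∧
      ∀ j k : Col K Ks, j ≠ k → j ≠ col₀ → k ≠ col₀ →
        Cfsg.classInner α ((∑ r : Row K Ks, μ (cell r j)) - ∑ r : Row K Ks, μ (cell r k)) =
          δ j.1 * (((Nat.card K : ℤ) * (s j - s k) : ℤ) : ℂ) := by
  obtain ⟨n, t, s, hn, ht, hs, hadd⟩ := grid_additive hχ (P.tau_gen hα) fun w h1 h2 => P.tau_mixed_zero α w h1 h2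
  refine ⟨t, s, ?_, hs, hadd, fun j k hjk hj hk => ?_⟩
  · rw [ht, ← hn, hχ.map_one, P.tau_one hα]
  obtain ⟨hA, he⟩ := P.col_diff hχ hμ hjk hj hk
  have hβcl : Cfsg.IsClassFunction M ((∑ r : Row K Ks, μ (cell r j)) - ∑ r : Row K Ks, μ (cell r k)) :=
    fun x y => by
      simp only [Pi.sub_apply, Finset.sum_apply]
      congr 1 <;> exact Finset.sum_congr rfl fun r _ => IsIrrCharacter.isClassFunction (hμ.irr _) x y
  have hαcl := IsGeneralized.isClassFunction hα.1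
  rw [← classInner_dadeIsometry_dadeIsometry P.dade_M hαcl (fun x hx => hα.2 x fun h => hx (typeA_sub h)) hβcl,
    he, ← dade_restrict typeA_sub P.dade_A P.dade_M hαcl hα.2, classInner_smul_right, classInner_sum_right]
  have hreal : conj (δ j.1) = δ j.1 := by rcases hμ.sign j.1 with e | e <;> rw [e] <;> simp
  rw [hreal, Finset.sum_congr rfl fun r _ => by
    rw [classInner_sub_right, ← show tenTau M α = Cfsg.dadeIsometry (Cfsg.typeA M) M (Cfsg.supportR M) α from rfl,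
      hadd, hadd], Finset.sum_congr rfl (fun r _ => show ((t r + s j : ℤ) : ℂ) - ((t r + s k : ℤ) : ℂ) =
        ((s j - s k : ℤ) : ℂ) by push_cast; ring), Finset.sum_const, Finset.card_univ, nsmul_eq_mul,
    ← Nat.card_eq_fintype_card, (card_trivL P.W_M).2]
  push_cast
  ring

end TenPair

end CfsgLib.OddEnd
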