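import Cfsg.Agent.OddEnd.ElevenLineGroup

/-!
Peterfalvi 11.9, the line case: many irreducible members of `S(C)` of degree `q d`.
-/

set_option autoImplicit false
set_option linter.unusedSectionVars false
set_option linter.style.haveILetI false

namespace CfsgLib.OddEnd

open Subgroup CfsgLib.OddLocal CfsgLib.Char
open scoped ComplexConjugate commutatorElement

universe u

/-- A constituent of a character takes its degree wherever the character does. -/
theorem constituent_apply_eq {X : Type u} [Group X] [Fintype X] {φ ψ : X → ℂ} (hφ : Cfsg.IsCharacter X φ)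
    (hψ : Cfsg.IsIrrCharacter X ψ) (h : Cfsg.classInner φ ψ ≠ 0) {g : X} (hg : φ g = φ 1) : ψ g = ψ 1 := by
  have hle : ∀ {χ : X → ℂ}, Cfsg.IsCharacter X χ → ‖χ g‖ ≤ (χ 1).re := fun {χ} hχ => by
    obtain ⟨n, ρ, rfl⟩ := hχ
    rw [ρ.char_one, Complex.natCast_re]
    exact norm_character_le ρ g
  obtain ⟨a, -, ha⟩ := IsIrrCharacter.exists_degree hψ
  obtain ⟨b, hb⟩ := IsCharacter.exists_degree (IsCharacter.sub_irr hφ hψ h)
  have h1 := hle (IsCharacter.sub_irr hφ hψ h)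
  have h2 := hle (IsIrrCharacter.isCharacter hψ)
  rw [hb, Complex.natCast_re] at h1
  rw [ha, Complex.natCast_re] at h2
  have hsum : (φ - ψ) g + ψ g = (b : ℂ) + a := by
    rw [Pi.sub_apply, sub_add_cancel, hg, ← hb, ← ha, Pi.sub_apply, sub_add_cancel]
  have hre : ((φ - ψ) g).re + (ψ g).re = (b : ℝ) + a := by
    have := congrArg Complex.re hsum
    simpa using this
  have h3 := le_trans (Complex.re_le_norm _) h1
  have h4 := le_trans (Complex.re_le_norm _) h2
  have hre' : (ψ g).re = a := by linarith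
  have hnorm : (ψ g).re ^ 2 + (ψ g).im ^ 2 ≤ (a : ℝ) ^ 2 := by
    have h5 : ‖ψ g‖ ^ 2 ≤ (a : ℝ) ^ 2 := by gcongr
    rw [← Complex.normSq_eq_norm_sq, Complex.normSq_apply] at h5
    linarith
  rw [ha]
  refine Complex.ext (by rw [Complex.natCast_re, hre']) ?_
  rw [Complex.natCast_im]
  rw [hre'] at hnorm
  nlinarith

variable {G : Type u} [Group G] [Fintype G]

namespace Three

variable {M W₁ U W₂ N V A E : Subgroup G} {d : ℕ} [Fintype M]
  (hT : Three M W₁ U W₂) (hG : Cfsg.IsMinSimpleOddOrder G)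
  (hd : ⁅⁅M, M⁆, ⁅M, M⁆⁆ = Cfsg.fittingOf M) (P : TenPair M N W₁ W₂ V) (hL : StabData M W₁ U W₂ A E d)
include hT hG hd P hL

theorem line_le_core : E.subgroupOf M ≤ coreIn M := fun _ hx => (hT.core_eq hG hd P).ge (hL.le_core hx)

/-- The degree of a character above `A` nontrivial on `F(M)` is `d`. -/
theorem line_degree {θ : coreIn M → ℂ} (hθ : Cfsg.IsIrrCharacter (coreIn M) θ)
    (hA : ∀ a : coreIn M, ((a : M) : G) ∈ A → θ a = θ 1)
    (hF : ¬ ∀ a : coreIn M, ((a : M) : G) ∈ Cfsg.fittingOf M → θ a = θ 1) : cdeg θ = d := by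
  classical
  set E' := E.subgroupOf M
  haveI hEn : (E'.subgroupOf (coreIn M)).Normal := ⟨fun n hn g =>
    (mem_normalizer_iff.1 (hL.normalE ((hT.core_eq hG hd P).le g.2)) _).1 hn⟩
  set F' := (fitIn M).subgroupOf (coreIn M)
  haveI : F'.Normal := by
    haveI := hT.fit_normal hG hd P
    infer_instance
  have hup : cdeg θ ≤ d := by
    have h := cdeg_sq_le_of_section (le_refl E') (hT.line_le_core hG hd P hL) (B := A.subgroupOf M)
      (fun x hx y hy => hL.comm _ hx _ hy) hθ fun a ha => hA a ha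
    rw [relIndex_self, mul_one, relIndex_subgroupOf (P.derived_M ▸ hT.derived_le), hT.core_eq hG hd P,
      hL.indexE] at h
    exact (Nat.pow_le_pow_iff_left two_ne_zero).1 h
  obtain ⟨ψ, hψ, hψne⟩ := exists_constituent_restrict (N := F') hθ
  have hψA : ∀ a : F', (((a : coreIn M) : M) : G) ∈ A → ψ a = ψ 1 := fun a ha =>
    constituent_apply_eq (IsCharacter.restrict (IsIrrCharacter.isCharacter hθ) F') hψ hψne
      (by show θ a = θ ((1 : F') : coreIn M); exact hA _ ha)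
  have hψlin : ψ 1 = 1 := IsIrrCharacter.apply_one_eq_one_of_commutators hψ fun a b => hψA _
    (hL.comm _ (hL.fit_le a.2) _ (hL.fit_le b.2))
  obtain ⟨lam, hlam⟩ := IsCharacter.exists_hom (IsIrrCharacter.isCharacter hψ) hψlin
  obtain ⟨l, hl, hlA, hgen⟩ := hL.line
  have hlF : ∀ {x : G}, x ∈ Cfsg.fittingHallOf M → x ∈ Cfsg.fittingOf M := fun {x} hx =>
    (hT.fitting_eq hG).ge (mem_sup_left hx)
  have hlM : ∀ {x : G}, x ∈ Cfsg.fittingHallOf M → x ∈ M := fun {x} hx => hT.derived_le (hT.H_le hx)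
  let emb : ∀ (x : G), x ∈ Cfsg.fittingHallOf M → F' := fun x hx =>
    ⟨⟨⟨x, hlM hx⟩, (hT.core_eq hG hd P).ge (hT.H_le hx)⟩, hlF hx⟩
  have hlamA : ∀ a : F', (((a : coreIn M) : M) : G) ∈ A → lam a = 1 := fun a ha => Units.ext (by
    have := hψA a ha
    rwa [hψlin, hlam] at this)
  have hne1 : lam (emb l hl) ≠ 1 := by
    intro h1
    refine hF fun a ha => ?_
    have hψone : ∀ b : F', ψ b = 1 := fun b => by
      obtain ⟨h, hh, c, hc, e, -⟩ := hT.fitting_factor hG (show (((b : coreIn M) : M) : G) ∈ _ from b.2)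
      obtain ⟨a', ha', n, e'⟩ := hgen h hh
      have hcA : c ∈ A := hL.cent_le hc
      have haH : a' ∈ Cfsg.fittingOf M := by
        rw [show a' = h * (l ^ n)⁻¹ by rw [e', mul_inv_cancel_right]]
        exact mul_mem (hlF hh) (inv_mem (pow_mem (hlF hl) n))
      let a₁ : F' := ⟨⟨⟨a', Bender.fitting_le M haH⟩, (hT.core_eq hG hd P).ge (hT.typeP.fitting_le haH)⟩, haH⟩
      have hcF : c ∈ Cfsg.fittingOf M := (hT.fitting_eq hG).ge (mem_sup_right hc)
      let c₁ : F' := ⟨⟨⟨c, Bender.fitting_le M hcF⟩, (hT.core_eq hG hd P).ge (hT.typeP.fitting_le hcF)⟩, hcF⟩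
      have hb : b = a₁ * emb l hl ^ n * c₁ := Subtype.ext (Subtype.ext (Subtype.ext (by
        simp only [emb, a₁, c₁, Subgroup.coe_mul, Subgroup.coe_pow]
        rw [← e', e])))
      rw [hlam]
      simp only
      rw [hb, map_mul, map_mul, map_pow, h1, one_pow, mul_one, hlamA a₁ ha', hlamA c₁ hcA, one_mul, Units.val_one]
    have hres := restrict_eq_smul_sum hθ hψ hψne
    have horb : ∀ φ ∈ conjOrbit (G := coreIn M) ψ, φ = fun _ => 1 := fun φ hφ => by
      obtain ⟨g, rfl⟩ := mem_conjOrbit.1 hφ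
      funext x
      rw [conjOn_apply, hψone]
    have h1' := congrFun hres ⟨a, ha⟩
    have h2' := congrFun hres 1
    simp only [Pi.smul_apply, Finset.sum_apply] at h1' h2'
    have hone : ∀ x : F', ∀ φ ∈ conjOrbit (G := coreIn M) ψ, φ x = 1 := fun x φ hφ => by rw [horb φ hφ]
    rw [Finset.sum_congr rfl (hone ⟨a, ha⟩)] at h1'
    rw [Finset.sum_congr rfl (hone 1)] at h2'
    rw [h1']
    exact h2'.symm
  have hinert : ∀ x ∈ inertia (G := coreIn M) ψ, ((x : M) : G) ∈ E := by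
    intro x hx
    obtain ⟨h₀, hh₀, v, hv, exv⟩ := hT.typeP.U_compl.2.2.2 ((x : M) : G) ((hT.core_eq hG hd P).le x.2)
    rw [exv]
    refine mul_mem (hL.fit_le (hlF hh₀)) (hL.stab v hv fun y hy => ?_)
    have hy' : v * y * v⁻¹ ∈ Cfsg.fittingHallOf M := (mem_normalizer_iff.1 (hT.UH hG hv) y).1 hy
    have hinv : lam (emb (v * y * v⁻¹) hy') = lam (emb y hy) := by
      have h1 := (mem_inertia_iff ψ x).1 hx (emb y hy)
      rw [hlam] at h1
      refine Units.ext (Eq.trans ?_ h1)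
      simp only
      congr 2
      refine Subtype.ext (Subtype.ext (Subtype.ext ?_))
      simp only [emb, Subgroup.coe_mul, Subgroup.coe_inv]
      rw [exv, show h₀ * v * y * (h₀ * v)⁻¹ = h₀ * (v * y * v⁻¹) * h₀⁻¹ by group,
        (hT.H_comm hG hd hh₀ hy').eq, mul_inv_cancel_right]
    set z := v * y * v⁻¹ * y⁻¹
    have hz : z ∈ Cfsg.fittingHallOf M := mul_mem hy' (inv_mem hy)
    have hlz : lam (emb z hz) = 1 := by
      rw [show emb z hz = emb _ hy' * (emb y hy)⁻¹ from rfl, map_mul, map_inv, hinv, mul_inv_cancel]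
    obtain ⟨a', ha', n, e'⟩ := hgen z hz
    have haH : a' ∈ Cfsg.fittingOf M := by
      rw [show a' = z * (l ^ n)⁻¹ by rw [e', mul_inv_cancel_right]]
      exact mul_mem (hlF hz) (inv_mem (pow_mem (hlF hl) n))
    let a₁ : F' := ⟨⟨⟨a', Bender.fitting_le M haH⟩, (hT.core_eq hG hd P).ge (hT.typeP.fitting_le haH)⟩, haH⟩
    have hn1 : lam (emb l hl) ^ n = 1 := by
      have : emb z hz = a₁ * emb l hl ^ n := Subtype.ext (Subtype.ext (Subtype.ext (by
        simp only [emb, a₁, Subgroup.coe_mul, Subgroup.coe_pow]; exact e')))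
      rwa [this, map_mul, map_pow, hlamA a₁ ha', one_mul] at hlz
    have hlp : l ^ Nat.card W₂ = 1 := (hT.H_elem hG hd).1.2 l hl
    have hembp : emb l hl ^ Nat.card W₂ = 1 := Subtype.ext (Subtype.ext (Subtype.ext (by
      simp only [emb, Subgroup.coe_pow, Subgroup.coe_one]; exact hlp)))
    have hdvd : Nat.card W₂ ∣ n := by
      haveI := Fact.mk (hT.prime_right hG)
      have hord : orderOf (lam (emb l hl)) = Nat.card W₂ :=
        orderOf_eq_prime (by rw [← map_pow, hembp, map_one]) hne1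
      exact hord ▸ orderOf_dvd_of_pow_eq_one hn1
    obtain ⟨k, rfl⟩ := hdvd
    rw [pow_mul, hlp, one_pow, mul_one] at e'
    show z ∈ A
    rw [e']
    exact ha'
  -- the index of the inertia group divides the degree
  have hidx : d ≤ (inertia (G := coreIn M) ψ).index := by
    have hle : inertia (G := coreIn M) ψ ≤ E'.subgroupOf (coreIn M) := fun x hx => hinert x hx
    refine le_trans (le_of_eq ?_) (Nat.le_of_dvd (Nat.pos_of_ne_zero index_ne_zero_of_finite) (index_dvd_of_le hle))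
    show d = E'.relIndex (coreIn M)
    rw [relIndex_subgroupOf (P.derived_M ▸ hT.derived_le), hT.core_eq hG hd P, hL.indexE]
  have hdeg := degree_eq_mul hθ hψ hψne
  rw [hψlin, mul_one, apply_one_eq_cdeg (IsIrrCharacter.isCharacter hθ)] at hdeg
  obtain ⟨c, hc⟩ := IsCharacter.exists_classInner_eq_natCast
    (IsCharacter.restrict (IsIrrCharacter.isCharacter hθ) F') hψ
  rw [hc] at hdeg
  have hdeg' : cdeg θ = c * (inertia (G := coreIn M) ψ).index := by exact_mod_cast hdeg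
  have hc0 : c ≠ 0 := fun e => hψne (by rw [hc, e, Nat.cast_zero])
  have : (inertia (G := coreIn M) ψ).index ≤ cdeg θ := hdeg' ▸ Nat.le_mul_of_pos_left _ (Nat.pos_of_ne_zero hc0)
  omega

/-- At least `2 u / d` irreducible members of `S(C)` of degree `q d`. -/
theorem exists_Z {m : ℕ} (hm : (Cfsg.fittingOf M).relIndex ⁅M, M⁆ = d * m) :
    ∃ Z : Finset (M → ℂ), ↑Z ⊆ tenS M ∧ (∀ φ ∈ Z, Cfsg.IsIrrCharacter M φ) ∧
      (∀ φ ∈ Z, Cfsg.conjFun φ ∈ Z) ∧ (∀ φ ∈ Z, φ 1 = (Nat.card W₁ : ℂ) * d) ∧ 2 * m ≤ Z.card := by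
  classical
  haveI := P.normal_core
  haveI := hT.fit_normal hG hd P
  set u := (Cfsg.fittingOf M).relIndex ⁅M, M⁆
  set p := Nat.card W₂
  set A' := (A.subgroupOf M).subgroupOf (coreIn M)
  haveI : A'.Normal := ⟨fun n hn g => (mem_normalizer_iff.1 (hL.normalA ((hT.core_eq hG hd P).le g.2)) _).1 hn⟩
  set F' := (fitIn M).subgroupOf (coreIn M)
  set T := (irrFinset (coreIn M)).filter (fun θ => ∀ n ∈ A', θ n = θ 1) with hTdef
  set T1 := T.filter (fun θ => ¬ ∀ n ∈ F', θ n = θ 1) with hT1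
  have hAF : ∀ n ∈ A', ∀ θ : coreIn M → ℂ, Cfsg.IsIrrCharacter (coreIn M) θ → (∀ n ∈ F', θ n = θ 1) → θ n = θ 1 :=
    fun n hn _ _ h => h n (show ((n : M) : G) ∈ Cfsg.fittingOf M from hL.le_fit hn)
  have h0 : T.filter (fun θ => ∀ n ∈ F', θ n = θ 1) =
      (irrFinset (coreIn M)).filter (fun θ => ∀ n ∈ F', θ n = θ 1) := by
    ext θ
    simp only [hTdef, Finset.mem_filter]
    exact ⟨fun h => ⟨h.1.1, h.2⟩, fun h => ⟨⟨h.1, fun n hn => hAF n hn θ (mem_irrFinset.1 h.1) h.2⟩, h.2⟩⟩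
  have hsumT : ∑ θ ∈ T, cdeg θ ^ 2 = p * u := by
    rw [hTdef, sum_cdeg_sq_kernel A']
    show (A.subgroupOf M).relIndex (coreIn M) = _
    rw [relIndex_subgroupOf (P.derived_M ▸ hT.derived_le), hT.core_eq hG hd P, hL.indexA]
  have hsum0 : ∑ θ ∈ T.filter (fun θ => ∀ n ∈ F', θ n = θ 1), cdeg θ ^ 2 = u := by
    rw [h0, sum_cdeg_sq_kernel F']
    exact hT.core_fit_index hG hd P
  have hdeg : ∀ θ ∈ T1, cdeg θ = d := fun θ hθ => by
    obtain ⟨hθT, hnF⟩ := Finset.mem_filter.1 hθ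
    obtain ⟨hirr, hA⟩ := Finset.mem_filter.1 hθT
    exact hT.line_degree hG hd P hL (mem_irrFinset.1 hirr) (fun a ha => hA a ha) fun h => hnF fun n hn => h n hn
  have hcount : T1.card * (d * d) + u = p * u := by
    rw [← hsumT, ← Finset.sum_filter_add_sum_filter_not T (fun θ => ∀ n ∈ F', θ n = θ 1), hsum0, ← hT1,
      Finset.sum_congr rfl fun θ hθ => by rw [hdeg θ hθ], Finset.sum_const, smul_eq_mul, pow_two]
    exact add_comm _ _
  -- distinct characters stay distinct after induction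
  have hgK : ∀ θ ∈ T1, ∀ θ' ∈ T1, ∀ g : M, θ = conjOn g θ' → g ∈ coreIn M := by
    intro θ hθ θ' hθ' g he
    obtain ⟨hθT, hnF⟩ := Finset.mem_filter.1 hθ'
    obtain ⟨hirr', hA'⟩ := Finset.mem_filter.1 hθT
    have hA := (Finset.mem_filter.1 (Finset.mem_filter.1 hθ).1).2
    obtain ⟨k, hk, b, hb, eg⟩ := hT.typeP.W₁_compl.2.2.2 (g : G) g.2
    by_contra hgn
    have hb1 : b ≠ 1 := fun e => hgn (by
      show (g : G) ∈ Cfsg.sigmaCore M
      rw [eg, e, mul_one]; exact (hT.core_eq hG hd P).ge hk)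
    set k₁ : M := ⟨k, hT.derived_le hk⟩
    set b₁ : M := ⟨b, hT.left_le hb⟩
    have hg : g = k₁ * b₁ := Subtype.ext eg
    have hk₁ : conjOn k₁ θ' = θ' := (mem_inertia θ' k₁).1
      (le_inertia (IsIrrCharacter.isClassFunction (mem_irrFinset.1 hirr')) ((hT.core_eq hG hd P).ge hk))
    rw [hg, ← conjOn_conjOn, hk₁] at he
    have hχ := IsIrrCharacter.isCharacter (mem_irrFinset.1 hirr')
    set Kr : Subgroup G := ((kerSubgroup hχ).map (coreIn M).subtype).map M.subtype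
    have hmemK : ∀ x : coreIn M, θ' x = θ' 1 → ((x : M) : G) ∈ Kr := fun x hx =>
      mem_map_of_mem _ (mem_map_of_mem _ ((mem_kerSubgroup hχ x).2 hx))
    have hAM : ∀ {x : G}, x ∈ A → ∃ y : coreIn M, ((y : M) : G) = x := fun {x} hx =>
      ⟨⟨⟨x, hT.derived_le (hL.le_core (hL.le hx))⟩, (hT.core_eq hG hd P).ge (hL.le_core (hL.le hx))⟩, rfl⟩
    have hKA : A ≤ Kr := fun x hx => by
      obtain ⟨y, rfl⟩ := hAM hx
      exact hmemK y (hA' y hx)
    have hKb : A.map (MulAut.conj b).toMonoidHom ≤ Kr := by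
      rintro _ ⟨x, hx, rfl⟩
      obtain ⟨y, rfl⟩ := hAM hx
      have h2 := hA y hx
      rw [he, conjOn_apply, conjOn_apply_one] at h2
      exact hmemK ⟨b₁ * y * b₁⁻¹, P.normal_core.conj_mem y y.2 b₁⟩ h2
    refine hnF fun n hn => ?_
    obtain ⟨y, ⟨z, hz, rfl⟩, hy⟩ := hL.spread b hb hb1 Kr hKA hKb (show ((n : M) : G) ∈ _ from hn)
    obtain rfl : z = n := Subtype.ext (Subtype.ext hy)
    exact (mem_kerSubgroup hχ z).1 hz
  have hind : ∀ θ ∈ T1, Cfsg.IsIrrCharacter M (Cfsg.indFun (coreIn M) θ) := fun θ hθ =>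
    isIrrCharacter_indFun_of_inertia_le (mem_irrFinset.1 (Finset.mem_filter.1 (Finset.mem_filter.1 hθ).1).1)
      fun g hg => hgK θ hθ θ hθ g ((mem_inertia θ g).1 hg).symm
  have hinj : Set.InjOn (Cfsg.indFun (coreIn M)) (T1 : Set (coreIn M → ℂ)) := fun θ hθ θ' hθ' e => by
    have hθi := mem_irrFinset.1 (Finset.mem_filter.1 (Finset.mem_filter.1 hθ).1).1
    have hθi' := mem_irrFinset.1 (Finset.mem_filter.1 (Finset.mem_filter.1 hθ').1).1
    have h := IsIrrCharacter.classInner_self (hind θ hθ)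
    conv_lhs at h => arg 2; rw [e]
    rw [classInner_indFun_indFun hθi hθi'] at h
    by_cases hm : θ ∈ conjOrbit θ'
    · obtain ⟨g, rfl⟩ := mem_conjOrbit.1 hm
      exact (mem_inertia θ' g).1 (le_inertia (IsIrrCharacter.isClassFunction hθi') (hgK _ hθ θ' hθ' g rfl))
    · rw [if_neg hm] at h; exact absurd h zero_ne_one
  set Z := (aboveInd (coreIn M) (centIn M U)).filter
    (fun φ => Cfsg.IsIrrCharacter M φ ∧ φ 1 = (Nat.card W₁ : ℂ) * d) with hZ
  refine ⟨Z, fun φ hφ => inducedIrrAbove_subset_bot _ _ (mem_aboveInd.1 (Finset.mem_filter.1 hφ).1),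
    fun φ hφ => (Finset.mem_filter.1 hφ).2.1, fun φ hφ => ?_, fun φ hφ => (Finset.mem_filter.1 hφ).2.2, ?_⟩
  · obtain ⟨hm', hirr, hdg⟩ := Finset.mem_filter.1 hφ
    refine Finset.mem_filter.2 ⟨mem_aboveInd.2 (conjFun_mem_inducedIrrAbove (mem_aboveInd.1 hm')),
      IsIrrCharacter.conj hirr, ?_⟩
    rw [Cfsg.conjFun, hdg, map_mul, map_natCast, map_natCast]
  have hsub : T1.image (Cfsg.indFun (coreIn M)) ⊆ Z := by
    intro φ hφ
    obtain ⟨θ, hθ, rfl⟩ := Finset.mem_image.1 hφ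
    obtain ⟨hθT, hnF⟩ := Finset.mem_filter.1 hθ
    obtain ⟨hirr, hA⟩ := Finset.mem_filter.1 hθT
    refine Finset.mem_filter.2 ⟨mem_aboveInd.2 ⟨θ, mem_irrFinset.1 hirr, fun e => hnF fun n _ => by rw [e],
      fun a ha => hA a (hL.cent_le ha), rfl⟩, hind θ hθ, ?_⟩
    rw [indFun_one, P.core_index, apply_one_eq_cdeg (IsIrrCharacter.isCharacter (mem_irrFinset.1 hirr)), hdeg θ hθ]
  have hc := Finset.card_le_card hsub
  rw [Finset.card_image_of_injOn hinj] at hc
  refine le_trans ?_ hc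
  rw [hm] at hcount
  have h2d := hL.two_le
  have hd0 : 0 < d := by have := hL.three_le; omega
  have hkey : T1.card * d = (p - 1) * m := by
    refine Nat.eq_of_mul_eq_mul_right hd0 ?_
    have : p * (d * m) = (p - 1) * (d * m) + d * m := by
      have := hT.p_three hG
      conv_lhs => rw [show p = p - 1 + 1 by omega]
      ring
    rw [mul_assoc, mul_assoc, mul_comm m d]
    omega
  have : 2 * d * m ≤ T1.card * d := hkey ▸ Nat.mul_le_mul_right m h2d
  nlinarith

end Three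

end CfsgLib.OddEnd
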