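import Cfsg.Agent.OddEnd.ElevenChars
import Mathlib.GroupTheory.SpecificGroups.Cyclic

/-!
Peterfalvi 11.9, the line case, group theory: a `U`-invariant line `L` of `H` whose stabilizer has index
`d` in `U`, with `d ∣ p - 1` and `d ^ 3 ≤ u`.
-/

set_option autoImplicit false
set_option linter.unusedSectionVars false
set_option linter.style.haveILetI false

namespace CfsgLib.OddEnd

open Subgroup CfsgLib.OddLocal CfsgLib.Char
open scoped ComplexConjugate commutatorElement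

universe u

/-- A product of at most `n` commuting subgroups of order `p` has order at most `p ^ n`. -/
theorem card_iSup_le {G : Type u} [Group G] [Finite G] {H : Subgroup G} {p : ℕ}
    (hH : ∀ a ∈ H, ∀ b ∈ H, a * b = b * a) {ι : Type*} (s : Finset ι) (c : ι → Subgroup G)
    (hc : ∀ i ∈ s, c i ≤ H ∧ Nat.card (c i) = p) :
    (⨆ i ∈ s, c i) ≤ H ∧ Nat.card ↥(⨆ i ∈ s, c i) ≤ p ^ s.card := by
  classical
  induction s using Finset.induction with
  | empty => simp
  | insert i s hi ih =>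
    obtain ⟨h1, h2⟩ := ih fun j hj => hc j (Finset.mem_insert_of_mem hj)
    obtain ⟨hiH, hcard⟩ := hc i (Finset.mem_insert_self i s)
    rw [Finset.iSup_insert, Finset.card_insert_of_notMem hi, pow_succ']
    refine ⟨sup_le hiH h1, ?_⟩
    set S := ⨆ j ∈ s, c j
    have hn : c i ≤ normalizer (S : Set G) := fun x hx => mem_normalizer_iff.2 fun y => by
      constructor
      · intro hy; rw [hH x (hiH hx) y (h1 hy), mul_inv_cancel_right]; exact hy
      · intro hy
        have : x⁻¹ * (x * y * x⁻¹) * x = x * y * x⁻¹ := by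
          rw [hH x⁻¹ (H.inv_mem (hiH hx)) _ (h1 hy), inv_mul_cancel_right]
        rw [show x⁻¹ * (x * y * x⁻¹) * x = y by group] at this
        rw [this]; exact hy
    have h3 : Nat.card ↥(c i ⊔ S) ≤ Nat.card (c i) * Nat.card S := by
      have := Set.natCard_mul_le (s := (c i : Set G)) (t := (S : Set G))
      rw [← coe_mul_of_left_le_normalizer_right (c i) S hn] at this
      exact this
    rw [hcard] at h3
    exact h3.trans (Nat.mul_le_mul_left _ h2)

theorem inf_normalizer_le_normalizer_sup_line {G : Type u} [Group G] (X Y : Subgroup G) :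
    normalizer (X : Set G) ⊓ normalizer (Y : Set G) ≤ normalizer ((X ⊔ Y : Subgroup G) : Set G) := fun g hg =>
  mem_normalizer_iff_map_conj_eq.2 (show (X ⊔ Y).map (MulAut.conj g).toMonoidHom = X ⊔ Y by
    rw [Subgroup.map_sup, show X.map (MulAut.conj g).toMonoidHom = X from mem_normalizer_iff_map_conj_eq.1 hg.1,
      show Y.map (MulAut.conj g).toMonoidHom = Y from mem_normalizer_iff_map_conj_eq.1 hg.2])

/-- In an abelian group with a fixed-point-free coprime automorphism of prime order `q`, an element of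
order `d`, exponent `d` and all prime divisors of `d` odd and below `q` force `d ^ 3 ≤ |Q|`. -/
theorem cube_le_card {Q : Type u} [CommGroup Q] [Finite Q] {q d : ℕ}
    (hlayer : ∀ n r : ℕ, r.Prime → (powMonoidHom (n * r) : Q →* Q).range.relIndex (powMonoidHom n : Q →* Q).range ≡ 1 [MOD q])
    (hq : q.Prime) (hpr : ∀ r : ℕ, r.Prime → r ∣ d → r ≠ 2 ∧ r < q)
    (hexp : ∀ x : Q, x ^ d = 1) (x₀ : Q) (hx₀ : orderOf x₀ = d) : d ^ 3 ≤ Nat.card Q := by
  have hd0 : 0 < d := hx₀ ▸ orderOf_pos x₀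
  suffices H : ∀ n, n ∣ d → n ^ 3 * Nat.card (powMonoidHom n : Q →* Q).range ≤ Nat.card Q by
    have := H d dvd_rfl
    calc d ^ 3 = d ^ 3 * 1 := (mul_one _).symm
      _ ≤ d ^ 3 * Nat.card (powMonoidHom d : Q →* Q).range := Nat.mul_le_mul_left _ Nat.card_pos
      _ ≤ _ := this
  intro n
  induction n using Nat.strong_induction_on with
  | _ n ih =>
    intro hn
    by_cases h1 : n = 1
    · subst h1
      rw [one_pow, one_mul]
      exact Nat.le_of_dvd Nat.card_pos (Subgroup.card_subgroup_dvd_card _)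
    obtain ⟨r, hr, m, rfl⟩ := Nat.exists_prime_and_dvd h1
    have hn0 : 0 < r * m := Nat.pos_of_dvd_of_pos hn hd0
    have hm0 : 0 < m := Nat.pos_of_mul_pos_left hn0
    have hlt : m < r * m := by
      have := Nat.mul_le_mul_right m hr.two_le
      omega
    have IH := ih m hlt (dvd_trans (dvd_mul_left m r) hn)
    set Rm := (powMonoidHom m : Q →* Q).range
    set Rn := (powMonoidHom (r * m) : Q →* Q).range
    have hle : Rn ≤ Rm := by
      rintro _ ⟨y, rfl⟩
      exact ⟨y ^ r, (pow_mul y r m).symm⟩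
    haveI := Fact.mk hr
    have hpg : IsPGroup r (↥Rm ⧸ Rn.subgroupOf Rm) := fun z => by
      obtain ⟨⟨w, hw⟩, rfl⟩ := QuotientGroup.mk'_surjective _ z
      obtain ⟨y, rfl⟩ := hw
      refine ⟨1, ?_⟩
      rw [← map_pow, QuotientGroup.mk'_apply, QuotientGroup.eq_one_iff]
      exact ⟨y, by show y ^ (r * m) = (y ^ m) ^ (r ^ 1); rw [pow_one, ← pow_mul, mul_comm]⟩
    obtain ⟨i, hi⟩ := hpg.exists_card_eq
    have hidx : Rn.relIndex Rm = r ^ i := by rw [relIndex, index_eq_card, hi]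
    have hne : i ≠ 0 := fun e => by
      rw [e, pow_zero] at hidx
      obtain ⟨y, hy⟩ := relIndex_eq_one.1 hidx (⟨x₀, rfl⟩ : x₀ ^ m ∈ Rm)
      obtain ⟨t, ht⟩ := hn
      have h2 : x₀ ^ (m * t) = 1 := by
        rw [pow_mul, ← show y ^ (r * m) = x₀ ^ m from hy, ← pow_mul, ← ht, hexp]
      have h3 := Nat.le_of_dvd (Nat.mul_pos hm0 (Nat.pos_of_ne_zero fun e => by
        rw [e, mul_zero] at ht; omega)) (orderOf_dvd_of_pow_eq_one h2)
      rw [hx₀, ht, mul_assoc] at h3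
      have hmt : 0 < m * t := Nat.pos_of_ne_zero fun e => by rw [mul_assoc, e, mul_zero] at ht; omega
      have := Nat.mul_le_mul_right (m * t) hr.two_le
      omega
    have hmod := hlayer m r hr
    rw [show m * r = r * m from mul_comm _ _] at hmod
    change Rn.relIndex Rm ≡ 1 [MOD q] at hmod
    rw [hidx] at hmod
    obtain ⟨hr2, hrq⟩ := hpr r hr (dvd_trans (dvd_mul_right r m) hn)
    have hr3 : 3 ≤ r := by have := hr.two_le; omega
    have h3i : 3 ≤ i := by
      by_contra h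
      obtain rfl | rfl : i = 1 ∨ i = 2 := by omega
      · rw [pow_one] at hmod
        have h' : r % q = 1 % q := hmod
        rw [Nat.mod_eq_of_lt hrq, Nat.mod_eq_of_lt hq.one_lt] at h'
        omega
      · have hd' : q ∣ (r + 1) * (r - 1) := by
          rw [← Nat.sq_sub_sq, one_pow]
          exact (Nat.modEq_iff_dvd' (Nat.one_le_pow _ _ hr.pos)).1 hmod.symm
        rcases hq.dvd_mul.1 hd' with h' | h'
        · have := Nat.le_of_dvd (by omega) h'
          have hq' : q = r + 1 := by omega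
          obtain ⟨k, hk⟩ := hr.odd_of_ne_two hr2
          exact (by omega : q ≠ 2) ((Nat.prime_dvd_prime_iff_eq Nat.prime_two hq).1 ⟨k + 1, by omega⟩).symm
        · have := Nat.le_of_dvd (by omega) h'
          omega
    have hcard : Nat.card Rn * r ^ i = Nat.card Rm := hidx ▸ CfsgLib.InvariantHall.relIndex_mul_card hle
    calc (r * m) ^ 3 * Nat.card Rn = m ^ 3 * (Nat.card Rn * r ^ 3) := by ring
      _ ≤ m ^ 3 * (Nat.card Rn * r ^ i) :=
          Nat.mul_le_mul_left _ (Nat.mul_le_mul_left _ (Nat.pow_le_pow_right hr.pos h3i))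
      _ = m ^ 3 * Nat.card Rm := by rw [hcard]
      _ ≤ _ := IH

/-- The data of a line: a subgroup `A` of index `p u` and `E` of index `d` in `M'`, with `E / A` abelian. -/
structure StabData {G : Type u} [Group G] (M W₁ U W₂ : Subgroup G) (A E : Subgroup G) (d : ℕ) : Prop where
  le : A ≤ E
  le_core : E ≤ ⁅M, M⁆
  normalA : ⁅M, M⁆ ≤ normalizer (A : Set G)
  normalE : ⁅M, M⁆ ≤ normalizer (E : Set G)
  cent_le : U ⊓ centralizer (Cfsg.fittingHallOf M : Set G) ≤ A
  fit_le : Cfsg.fittingOf M ≤ E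
  le_fit : A ≤ Cfsg.fittingOf M
  comm : ∀ x ∈ E, ∀ y ∈ E, x * y * x⁻¹ * y⁻¹ ∈ A
  indexA : A.relIndex ⁅M, M⁆ = Nat.card W₂ * (Cfsg.fittingOf M).relIndex ⁅M, M⁆
  indexE : E.relIndex ⁅M, M⁆ = d
  line : ∃ l ∈ Cfsg.fittingHallOf M, l ∉ A ∧ ∀ x ∈ Cfsg.fittingHallOf M, ∃ a ∈ A, ∃ n : ℕ, x = a * l ^ n
  stab : ∀ v ∈ U, (∀ x ∈ Cfsg.fittingHallOf M, v * x * v⁻¹ * x⁻¹ ∈ A) → v ∈ E
  spread : ∀ b ∈ W₁, b ≠ 1 → ∀ K : Subgroup G, A ≤ K → A.map (MulAut.conj b).toMonoidHom ≤ K →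
    Cfsg.fittingOf M ≤ K
  two_le : 2 * d ≤ Nat.card W₂ - 1
  three_le : 3 ≤ d
  cube_le : d ^ 3 ≤ (Cfsg.fittingOf M).relIndex ⁅M, M⁆
  dvd : d ∣ (Cfsg.fittingOf M).relIndex ⁅M, M⁆

namespace Three

variable {G : Type u} [Group G] [Fintype G] {M W₁ U W₂ : Subgroup G} (hT : Three M W₁ U W₂)
  (hG : Cfsg.IsMinSimpleOddOrder G) (hd : ⁅⁅M, M⁆, ⁅M, M⁆⁆ = Cfsg.fittingOf M)
include hT hG hd

/-- `d ^ 3 ≤ u` for the stabilizer index `d` of a line. -/
theorem line_cube (hlt : Nat.card W₂ < Nat.card W₁) {d : ℕ} (hdp : d ∣ Nat.card W₂ - 1) (hdodd : Odd d)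
    (hexp : ∀ x ∈ U, x ^ d ∈ U ⊓ centralizer (Cfsg.fittingHallOf M : Set G)) {x₀ : G} (hx₀ : x₀ ∈ U)
    (hord : ∀ n, x₀ ^ n ∈ U ⊓ centralizer (Cfsg.fittingHallOf M : Set G) → d ∣ n) :
    d ^ 3 ≤ (U ⊓ centralizer (Cfsg.fittingHallOf M : Set G)).relIndex U := by
  set C := U ⊓ centralizer (Cfsg.fittingHallOf M : Set G) with hC
  haveI hn : (C.subgroupOf U).Normal :=
    (normal_subgroupOf_iff_le_normalizer inf_le_left).2 (hT.U_normalizes_C hG)
  letI : CommGroup (U ⧸ C.subgroupOf U) :=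
    { (inferInstance : Group (U ⧸ C.subgroupOf U)) with
      mul_comm := fun a b => by
        obtain ⟨x, rfl⟩ := QuotientGroup.mk'_surjective _ a
        obtain ⟨y, rfl⟩ := QuotientGroup.mk'_surjective _ b
        rw [← map_mul, ← map_mul]
        refine (QuotientGroup.eq_iff_div_mem).2 ?_
        show ((x * y / (y * x) : U) : G) ∈ C
        rw [hC, hT.C_eq_derived hG hd, show ((x * y / (y * x) : U) : G) = ⁅(x : G), (y : G)⁆ by
          simp [commutatorElement_def, div_eq_mul_inv, mul_assoc]]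
        exact commutator_mem_commutator x.2 y.2 }
  set f := QuotientGroup.mk' (C.subgroupOf U)
  have hf1 : ∀ x : U, f x = 1 ↔ (x : G) ∈ C := fun x => QuotientGroup.eq_one_iff x
  have hexp' : ∀ z : U ⧸ C.subgroupOf U, z ^ d = 1 := fun z => by
    obtain ⟨x, rfl⟩ := QuotientGroup.mk'_surjective _ z
    rw [← map_pow, hf1]
    exact_mod_cast hexp x x.2
  have hordf : orderOf (f ⟨x₀, hx₀⟩) = d := by
    refine Nat.dvd_antisymm (orderOf_dvd_of_pow_eq_one (hexp' _)) (hord _ ?_)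
    have := pow_orderOf_eq_one (f ⟨x₀, hx₀⟩)
    rw [← map_pow, hf1] at this
    simpa using this
  have hq := hT.prime_left hG
  refine le_of_le_of_eq (cube_le_card (Q := U ⧸ C.subgroupOf U) (q := Nat.card W₁) ?_ hq (fun r hr hrd => ?_)
    hexp' _ hordf) (index_eq_card _).symm
  swap
  · refine ⟨?_, ?_⟩
    · rintro rfl
      obtain ⟨j, hj⟩ := hdodd
      omega
    · have h1 := hrd.trans hdp
      have := Nat.le_of_dvd (by have := hT.p_three hG; omega) h1
      omega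
  intro n r _
  -- pull the layers back to subgroups of `U` normalized by `W₁`
  set T : ℕ → Subgroup G := fun k => (((powMonoidHom k : (U ⧸ C.subgroupOf U) →* _).range).comap f).map U.subtype
  have hTU : ∀ k, T k ≤ U := fun k => map_subtype_le _
  have hmemT : ∀ k {x : G}, x ∈ T k ↔ x ∈ U ∧ ∃ y ∈ U, (y ^ k)⁻¹ * x ∈ C := fun k {x} => by
    constructor
    · rintro ⟨z, ⟨w, hw⟩, rfl⟩
      obtain ⟨y, rfl⟩ := QuotientGroup.mk'_surjective _ w
      refine ⟨z.2, y, y.2, ?_⟩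
      have : f ((y ^ k)⁻¹ * z) = 1 := by
        rw [map_mul, map_inv, map_pow]
        exact inv_mul_eq_one.2 hw
      simpa using (hf1 _).1 this
    · rintro ⟨hx, y, hy, h⟩
      refine ⟨⟨x, hx⟩, ⟨f ⟨y, hy⟩, ?_⟩, rfl⟩
      have : f ((⟨y, hy⟩ ^ k)⁻¹ * ⟨x, hx⟩) = 1 := (hf1 _).2 (by simpa using h)
      rw [map_mul, map_inv, map_pow, inv_mul_eq_one] at this
      exact this
  have hCT : ∀ k, C ≤ T k := fun k c hc =>
    (hmemT k).2 ⟨(mem_inf.1 hc).1, 1, one_mem _, by simpa using hc⟩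
  have hnormT : ∀ k, U ≤ normalizer (T k : Set G) := fun k => by
    refine CfsgLib.Signalizer.le_normalizer_of_conj_mem fun g hg x hx => ?_
    obtain ⟨hxU, -⟩ := (hmemT k).1 hx
    obtain ⟨z, hz, rfl⟩ := hx
    refine ⟨⟨g, hg⟩ * z * ⟨g, hg⟩⁻¹, ?_, rfl⟩
    show f (⟨g, hg⟩ * z * ⟨g, hg⟩⁻¹) ∈ (powMonoidHom k).range
    rw [map_mul, map_mul, map_inv, mul_right_comm, mul_inv_cancel, one_mul]
    exact hz
  have hWT : ∀ k, W₁ ≤ normalizer (T k : Set G) := fun k => by
    refine CfsgLib.Signalizer.le_normalizer_of_conj_mem fun g hg x hx => ?_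
    obtain ⟨hxU, y, hy, h⟩ := (hmemT k).1 hx
    have hgU := hT.typeP.U_normal hg
    refine (hmemT k).2 ⟨(mem_normalizer_iff.1 hgU x).1 hxU, g * y * g⁻¹, (mem_normalizer_iff.1 hgU y).1 hy, ?_⟩
    rw [conj_pow, show (g * y ^ k * g⁻¹)⁻¹ * (g * x * g⁻¹) = g * ((y ^ k)⁻¹ * x) * g⁻¹ by group]
    exact (mem_normalizer_iff.1 (hT.C_normal hG (hT.left_le hg)) _).1 h
  have hle : T (n * r) ≤ T n := fun x hx => by
    obtain ⟨hxU, y, hy, h⟩ := (hmemT _).1 hx
    exact (hmemT n).2 ⟨hxU, y ^ r, U.pow_mem hy r, by rwa [← pow_mul, mul_comm r n]⟩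
  have hcop : (Nat.card W₁).Coprime (Nat.card (T n)) :=
    hT.coprime_left.coprime_dvd_right (card_dvd_of_le ((hTU n).trans hT.U_le))
  have h := relIndex_modEq_one hq rfl (hWT n) (hWT (n * r)) hle ((hTU n).trans (hnormT (n * r)))
    (Kap.solvable_le hG hT.coatom ((hTU _).trans (hT.U_le_M hG))) hcop fun x hx hc => by
      obtain ⟨a, ha, ha1⟩ := (Subgroup.bot_or_exists_ne_one W₁).resolve_left hT.typeP.W₁_ne
      rw [hT.U_fixed hG (hTU n hx) ha ha1 (hc a ha)]
      exact one_mem _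
  rw [show (T (n * r)).relIndex (T n) = ((powMonoidHom (n * r) : (U ⧸ C.subgroupOf U) →* _).range.comap f).relIndex
    ((powMonoidHom n : (U ⧸ C.subgroupOf U) →* _).range.comap f) from
      relIndex_map_map_of_injective _ _ U.subtype_injective, relIndex_comap,
    map_comap_eq_self_of_surjective (QuotientGroup.mk'_surjective _)] at h
  exact h

theorem exists_stabData (hlt : Nat.card W₂ < Nat.card W₁) {L : Subgroup G} (hLH : L ≤ Cfsg.fittingHallOf M)
    (hUL : U ≤ normalizer (L : Set G)) (hLp : Nat.card L = Nat.card W₂)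
    (hsup : (⨆ a ∈ W₁, L.map (MulAut.conj a).toMonoidHom) = Cfsg.fittingHallOf M) :
    ∃ A E d, StabData M W₁ U W₂ A E d := by
  classical
  set H := Cfsg.fittingHallOf M with hH
  set p := Nat.card W₂ with hp
  set C := U ⊓ centralizer (H : Set G) with hC
  haveI := Fact.mk (hT.prime_right hG)
  have hcomm : ∀ a ∈ H, ∀ b ∈ H, a * b = b * a := fun a ha b hb => hT.H_comm hG hd ha hb
  let c : G → Subgroup G := fun a => L.map (MulAut.conj a).toMonoidHom
  have hcH : ∀ a ∈ W₁, c a ≤ H ∧ Nat.card (c a) = p := fun a ha => by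
    refine ⟨?_, by rw [card_map_of_injective (MulAut.conj a).injective, hLp]⟩
    rintro _ ⟨x, hx, rfl⟩
    exact (mem_normalizer_iff.1 (FittingHall.le_normalizer_of M (hT.left_le ha)) x).1 (hLH hx)
  have hc1 : c 1 = L := by
    show L.map (MulAut.conj 1).toMonoidHom = L
    ext x; simp
  have hcU : ∀ a ∈ W₁, U ≤ normalizer (c a : Set G) := fun a ha u hu => by
    have hu' : a⁻¹ * u * a ∈ U := by
      have := (mem_normalizer_iff.1 (inv_mem (hT.typeP.U_normal ha)) u).1 hu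
      rwa [inv_inv] at this
    refine mem_normalizer_iff_map_conj_eq.2 ?_
    show (L.map (MulAut.conj a).toMonoidHom).map (MulAut.conj u).toMonoidHom = L.map (MulAut.conj a).toMonoidHom
    rw [TH.map_conj_map_conj, show u * a = a * (a⁻¹ * u * a) by group, ← TH.map_conj_map_conj,
      show L.map (MulAut.conj (a⁻¹ * u * a)).toMonoidHom = L from mem_normalizer_iff_map_conj_eq.1 (hUL hu')]
  set s := (Finset.univ.filter fun a : G => a ∈ W₁).erase 1 with hs
  have hsW : ∀ a ∈ s, a ∈ W₁ := fun a ha => (Finset.mem_filter.1 (Finset.mem_of_mem_erase ha)).2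
  set H₁ := ⨆ a ∈ s, c a with hH₁
  obtain ⟨hH₁H, hH₁card⟩ := card_iSup_le hcomm s c fun a ha => hcH a (hsW a ha)
  have hscard : s.card + 1 = Nat.card W₁ := by
    rw [hs, Finset.card_erase_add_one (Finset.mem_filter.2 ⟨Finset.mem_univ _, one_mem _⟩),
      Nat.card_eq_fintype_card, Fintype.card_subtype]
  obtain ⟨hel, hHcard⟩ := hT.H_elem hG hd
  have hall : H₁ ⊔ L = H := le_antisymm (sup_le hH₁H hLH) (hsup.ge.trans (iSup₂_le fun a ha => by
    by_cases e : a = 1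
    · subst e; rw [show L.map (MulAut.conj (1 : G)).toMonoidHom = L from hc1]; exact le_sup_right
    · exact le_sup_of_le_left (le_iSup₂_of_le a (Finset.mem_erase.2 ⟨e,
        Finset.mem_filter.2 ⟨Finset.mem_univ _, ha⟩⟩) le_rfl)))
  have hH₁lt : ¬ L ≤ H₁ := fun h => by
    rw [sup_eq_left.2 h] at hall
    change Nat.card H₁ ≤ _ at hH₁card
    rw [hall, hHcard, ← hscard, pow_succ] at hH₁card
    have hp2 := (hT.prime_right hG).two_le
    have : 0 < p ^ s.card := pow_pos (by omega) _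
    nlinarith
  have hdisj : L ⊓ H₁ = ⊥ := by
    rcases (Nat.dvd_prime (hT.prime_right hG)).1 (hLp ▸ card_dvd_of_le (inf_le_left : L ⊓ H₁ ≤ L)) with h | h
    · exact Subgroup.card_eq_one.1 h
    · exact absurd ((eq_of_le_of_card_ge inf_le_left (hLp.trans h.symm).le).ge.trans inf_le_right) hH₁lt
  have hLn : L ≤ normalizer (H₁ : Set G) := fun x hx => mem_normalizer_iff.2 fun y => by
    constructor
    · intro hy; rw [hcomm x (hLH hx) y (hH₁H hy), mul_inv_cancel_right]; exact hy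
    · intro hy
      have h2 : x⁻¹ * (x * y * x⁻¹) * x = x * y * x⁻¹ := by
        rw [hcomm x⁻¹ (H.inv_mem (hLH hx)) _ (hH₁H hy), inv_mul_cancel_right]
      rw [show x⁻¹ * (x * y * x⁻¹) * x = y by group] at h2
      rw [h2]; exact hy
  have hcardH : Nat.card H = Nat.card H₁ * p := by
    rw [← hall, sup_comm, CfsgLib.Solvable.card_sup_of_disjoint hLn hdisj, hLp, mul_comm]
  have hCcomm : ∀ x ∈ C, ∀ y ∈ H, x * y = y * x := fun x hx y hy =>
    (mem_centralizer_iff.1 (mem_inf.1 hx).2 y hy).symm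
  have hH₁U : U ≤ normalizer (H₁ : Set G) := fun u hu => by
    refine mem_normalizer_iff_map_conj_eq.2 ?_
    rw [hH₁]
    simp only [Subgroup.map_iSup]
    exact iSup_congr fun a => iSup_congr fun ha => mem_normalizer_iff_map_conj_eq.1 (hcU a (hsW a ha) hu)
  set A := H₁ ⊔ C with hA
  set D := U ⊓ centralizer (L : Set G) with hD
  set E := H ⊔ D with hE
  have hCD : C ≤ D := le_inf inf_le_left (inf_le_right.trans (Subgroup.centralizer_le (fun x hx => hLH hx)))
  have hFE : Cfsg.fittingOf M ≤ E := (hT.fitting_eq hG).le.trans (sup_le le_sup_left (le_sup_of_le_right hCD))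
  have hAE : A ≤ E := sup_le (le_sup_of_le_left hH₁H) (le_sup_of_le_right hCD)
  have hnormU : ∀ {X : Subgroup G}, U ≤ normalizer (X : Set G) → H ≤ normalizer (X : Set G) →
      ⁅M, M⁆ ≤ normalizer (X : Set G) := fun {X} h1 h2 m hm => by
    obtain ⟨x, hx, v, hv, rfl⟩ := hT.typeP.U_compl.2.2.2 m hm
    exact mul_mem (h2 hx) (h1 hv)
  have hCn : U ≤ normalizer (C : Set G) := hT.U_normalizes_C hG
  have hAn : ⁅M, M⁆ ≤ normalizer (A : Set G) := by
    refine hnormU ((le_inf hH₁U hCn).trans (inf_normalizer_le_normalizer_sup_line _ _)) ?_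
    refine CfsgLib.Signalizer.le_normalizer_of_conj_mem fun g hg x hx => ?_
    rw [hA, ← SetLike.mem_coe, sup_comm, coe_mul_of_left_le_normalizer_right _ _
      (inf_le_left.trans hH₁U)] at hx
    obtain ⟨v, hv, y, hy, rfl⟩ := hx
    rw [show g * (v * y) * g⁻¹ = g * v * g⁻¹ * (g * y * g⁻¹) by group,
      show g * v * g⁻¹ = v by rw [← hCcomm v hv g hg, mul_inv_cancel_right],
      show g * y * g⁻¹ = y by rw [hcomm g hg y (hH₁H hy), mul_inv_cancel_right]]
    exact mul_mem (mem_sup_right hv) (mem_sup_left hy)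
  have hUH := hT.UH hG
  -- `D` as a kernel
  set φ : U →* MulAut L := (normalizerMonoidHom L).comp (Subgroup.inclusion hUL) with hφ
  have hker : ∀ x : U, φ x = 1 ↔ (x : G) ∈ D := fun x => by
    constructor
    · intro hx
      refine mem_inf.2 ⟨x.2, mem_centralizer_iff.2 fun l hl => ?_⟩
      have h := congrArg Subtype.val (DFunLike.congr_fun hx ⟨l, hl⟩)
      change (x : G) * l * (x : G)⁻¹ = l at h
      exact (mul_inv_eq_iff_eq_mul.1 h).symm
    · intro hx
      refine MulEquiv.ext fun l => Subtype.ext ?_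
      show (x : G) * l * (x : G)⁻¹ = l
      rw [← mem_centralizer_iff.1 (mem_inf.1 hx).2 l l.2, mul_inv_cancel_right]
  have hDker : D.subgroupOf U = φ.ker := by
    ext x
    exact (hker x).symm
  set d := D.relIndex U with hddef
  have hDn : U ≤ normalizer (D : Set G) := by
    refine (normal_subgroupOf_iff_le_normalizer (inf_le_left : D ≤ U)).1 ?_
    rw [hDker]; infer_instance
  have hdrange : d = Nat.card φ.range := by rw [hddef, relIndex, hDker, index_ker]
  haveI : IsCyclic L := isCyclic_of_prime_card hLp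
  have haut : Nat.card (MulAut L) = p - 1 := by
    rw [Nat.card_congr (IsCyclic.mulAutMulEquiv L).toEquiv, hLp, Nat.card_eq_fintype_card,
      ZMod.card_units_eq_totient, Nat.totient_prime (hT.prime_right hG)]
  have hdp : d ∣ p - 1 := hdrange ▸ haut ▸ card_subgroup_dvd_card _
  have hdodd : Odd d := (hG.1.of_dvd_nat U.card_subgroup_dvd_card).of_dvd_nat (relIndex_dvd_card _ _)
  have hpodd : Odd p := hG.1.of_dvd_nat W₂.card_subgroup_dvd_card
  have hp3 := hT.p_three hG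
  have h2d : 2 * d ≤ p - 1 := by
    obtain ⟨k, hk⟩ := hdp
    obtain ⟨i, hi⟩ := hpodd
    obtain ⟨j, hj⟩ := hdodd
    rcases k with _ | _ | k
    · omega
    · omega
    · nlinarith
  -- the power `d` lands in every conjugate stabilizer
  have hexp : ∀ x ∈ U, x ^ d ∈ C := fun x hx => by
    refine mem_inf.2 ⟨U.pow_mem hx d, ?_⟩
    have hpow : ∀ y ∈ U, y ^ d ∈ centralizer (L : Set G) := fun y hy => by
      haveI : (D.subgroupOf U).Normal := (normal_subgroupOf_iff_le_normalizer inf_le_left).2 hDn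
      have := (D.subgroupOf U).pow_index_mem ⟨y, hy⟩
      exact (mem_inf.1 (show y ^ d ∈ D from by simpa [hddef, relIndex, mem_subgroupOf] using this)).2
    refine mem_centralizer_iff.2 fun h hh => ?_
    have hle : H ≤ centralizer ({x ^ d} : Set G) := hsup.ge.trans (iSup₂_le fun a ha => by
      rintro _ ⟨l, hl, rfl⟩
      have hy : a⁻¹ * x * a ∈ U := by
        have := (mem_normalizer_iff.1 (inv_mem (hT.typeP.U_normal ha)) x).1 hx
        rwa [inv_inv] at this
      have e := mem_centralizer_iff.1 (hpow _ hy) l hl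
      rw [show (a⁻¹ * x * a) ^ d = a⁻¹ * x ^ d * a by rw [show a⁻¹ * x * a = a⁻¹ * x * a⁻¹⁻¹ by rw [inv_inv], conj_pow, inv_inv]] at e
      refine mem_centralizer_singleton_iff.2 ?_
      show a * l * a⁻¹ * x ^ d = x ^ d * (a * l * a⁻¹)
      calc a * l * a⁻¹ * x ^ d = a * (l * (a⁻¹ * x ^ d * a)) * a⁻¹ := by group
        _ = a * ((a⁻¹ * x ^ d * a) * l) * a⁻¹ := by rw [e]
        _ = x ^ d * (a * l * a⁻¹) := by group)
    exact mem_centralizer_singleton_iff.1 (hle hh)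
  haveI : IsCyclic (MulAut L) := by
    haveI : Fact (Nat.card L).Prime := ⟨hLp ▸ hT.prime_right hG⟩
    exact isCyclic_of_surjective _ (IsCyclic.mulAutMulEquiv L).symm.surjective
  haveI : IsCyclic φ.range := inferInstance
  obtain ⟨⟨g, x₀, hx₀⟩, hgen⟩ := IsCyclic.exists_generator (α := φ.range)
  have hord : ∀ n, (x₀ : G) ^ n ∈ C → d ∣ n := fun n hn => by
    have h1 : φ (x₀ ^ n) = 1 := (hker _).2 (by simpa using hCD hn)
    rw [map_pow, hx₀] at h1
    rw [hdrange, ← orderOf_eq_card_of_forall_mem_zpowers hgen]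
    exact orderOf_dvd_of_pow_eq_one (Subtype.ext h1)
  have hu : (Cfsg.fittingOf M).relIndex ⁅M, M⁆ = C.relIndex U := hT.fitting_index hG
  have hcube := hT.line_cube hG hd hlt hdp hdodd hexp x₀.2 hord
  rw [← hu] at hcube
  have hd1 : d ≠ 1 := fun e => by
    refine hT.not_centralizes hG fun x hx => ?_
    have := hexp x hx
    rw [e, pow_one] at this
    exact (mem_inf.1 this).2
  have hd3 : 3 ≤ d := by obtain ⟨j, hj⟩ := hdodd; omega
  have hdvd : d ∣ (Cfsg.fittingOf M).relIndex ⁅M, M⁆ := hu ▸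
    ⟨C.relIndex D, by rw [hddef, mul_comm, relIndex_mul_relIndex C D U hCD inf_le_left]⟩
  -- indices
  have hH₁C : H₁ ⊓ C = ⊥ := le_bot_iff.1 (hT.H_inf_U ▸ inf_le_inf hH₁H inf_le_left)
  have hcardA : Nat.card A = Nat.card H₁ * Nat.card C := by
    rw [hA, sup_comm, CfsgLib.Solvable.card_sup_of_disjoint (inf_le_left.trans hH₁U) (by rw [inf_comm, hH₁C]),
      mul_comm]
  have hidxA : A.relIndex ⁅M, M⁆ = p * (Cfsg.fittingOf M).relIndex ⁅M, M⁆ := by
    refine Nat.eq_of_mul_eq_mul_left (Nat.card_pos (α := A)) ?_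
    rw [CfsgLib.InvariantHall.relIndex_mul_card (hAE.trans (sup_le hT.H_le (inf_le_left.trans hT.U_le))), hcardA,
      hT.card_derived, hu, ← CfsgLib.InvariantHall.relIndex_mul_card (inf_le_left : C ≤ U)]
    show Nat.card H * _ = _
    rw [hcardH]
    ring
  have hcardE : Nat.card E = Nat.card H * Nat.card D := by
    rw [hE, sup_comm, CfsgLib.Solvable.card_sup_of_disjoint (inf_le_left.trans hUH) (by
      rw [inf_comm, ← le_bot_iff, ← hT.H_inf_U]; exact inf_le_inf_left _ inf_le_left), mul_comm]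
  have hidxE : E.relIndex ⁅M, M⁆ = d := by
    refine Nat.eq_of_mul_eq_mul_left (Nat.card_pos (α := E)) ?_
    rw [CfsgLib.InvariantHall.relIndex_mul_card (sup_le hT.H_le (inf_le_left.trans hT.U_le)), hcardE,
      hT.card_derived, mul_assoc, hddef, CfsgLib.InvariantHall.relIndex_mul_card (inf_le_left : D ≤ U)]
  have hEn : ⁅M, M⁆ ≤ normalizer (E : Set G) := by
    refine hnormU ((le_inf hUH hDn).trans (inf_normalizer_le_normalizer_sup_line _ _)) ?_
    exact le_sup_left.trans le_normalizer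
  -- `v h v⁻¹ h⁻¹ ∈ A` for `v` centralizing the line
  have hfac : ∀ h ∈ H, ∃ h₁ ∈ H₁, ∃ l ∈ L, h = h₁ * l := fun h hh => by
    have hh' : h ∈ (↑(L ⊔ H₁) : Set G) := by rw [sup_comm, hall]; exact hh
    rw [coe_mul_of_left_le_normalizer_right L H₁ hLn] at hh'
    obtain ⟨l, hl, y, hy, rfl⟩ := hh'
    exact ⟨y, hy, l, hl, hcomm l (hLH hl) y (hH₁H hy)⟩
  have hDH : ∀ v ∈ D, ∀ h ∈ H, v * h * v⁻¹ * h⁻¹ ∈ H₁ := fun v hv h hh => by
    obtain ⟨h₁, hh₁, l, hl, rfl⟩ := hfac h hh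
    rw [show v * (h₁ * l) * v⁻¹ * (h₁ * l)⁻¹ = v * h₁ * v⁻¹ * (v * l * v⁻¹) * l⁻¹ * h₁⁻¹ by group,
      show v * l * v⁻¹ = l by rw [← mem_centralizer_iff.1 (mem_inf.1 hv).2 l hl, mul_inv_cancel_right],
      mul_inv_cancel_right]
    exact H₁.mul_mem ((mem_normalizer_iff.1 (hH₁U (mem_inf.1 hv).1) h₁).1 hh₁) (H₁.inv_mem hh₁)
  have hcommE : ∀ x ∈ E, ∀ y ∈ E, x * y * x⁻¹ * y⁻¹ ∈ A := by
    intro x hx y hy
    rw [hE, ← SetLike.mem_coe, sup_comm, coe_mul_of_left_le_normalizer_right _ _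
      (inf_le_left.trans hUH)] at hx hy
    obtain ⟨v, hv, h, hh, rfl⟩ := hx
    obtain ⟨w, hw, k, hk, rfl⟩ := hy
    set v' := v
    have hvh : v * h * v⁻¹ ∈ H := (mem_normalizer_iff.1 (hUH (mem_inf.1 hv).1) h).1 hh
    have hwk : w * k * w⁻¹ ∈ H := (mem_normalizer_iff.1 (hUH (mem_inf.1 hw).1) k).1 hk
    set a := v * h * v⁻¹
    set b := w * k * w⁻¹
    have hk1 := hDH v hv b hwk
    have hk2 := hDH w hw a⁻¹ (H.inv_mem hvh)
    have hcc : v * w * v⁻¹ * w⁻¹ ∈ C :=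
      (hT.C_eq_derived hG hd).ge (commutator_mem_commutator (mem_inf.1 hv).1 (mem_inf.1 hw).1)
    have he : v * h * (w * k) * (v * h)⁻¹ * (w * k)⁻¹ =
        a * (v * b * v⁻¹) * (v * w * v⁻¹ * w⁻¹) * (w * a⁻¹ * w⁻¹) * b⁻¹ := by
      simp only [a, b]; group
    rw [he]
    set k₁ := v * b * v⁻¹ * b⁻¹
    set k₂ := w * a⁻¹ * w⁻¹ * a⁻¹⁻¹
    set z := v * w * v⁻¹ * w⁻¹
    have e1 : v * b * v⁻¹ = k₁ * b := by simp only [k₁]; group
    have e2 : w * a⁻¹ * w⁻¹ = k₂ * a⁻¹ := by simp only [k₂]; group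
    rw [e1, e2]
    have hkb : k₁ * b ∈ H := H.mul_mem (hH₁H hk1) hwk
    have hka : k₂ * a⁻¹ ∈ H := H.mul_mem (hH₁H hk2) (H.inv_mem hvh)
    rw [show a * (k₁ * b) * z * (k₂ * a⁻¹) * b⁻¹ = a * (k₁ * b) * (z * (k₂ * a⁻¹)) * b⁻¹ by group,
      hCcomm z hcc _ hka, show a * (k₁ * b) * (k₂ * a⁻¹ * z) * b⁻¹ = a * (k₁ * b) * (k₂ * a⁻¹) * (z * b⁻¹) by group,
      hCcomm z hcc _ (H.inv_mem hwk), show a * (k₁ * b) * (k₂ * a⁻¹) * (b⁻¹ * z) =
        (a * (k₁ * b) * (k₂ * a⁻¹) * b⁻¹) * z by group]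
    refine mul_mem (mem_sup_left ?_) (mem_sup_right hcc)
    have : a * (k₁ * b) * (k₂ * a⁻¹) * b⁻¹ = k₁ * k₂ := by
      letI : CommGroup H := { (inferInstance : Group H) with mul_comm := fun x y => Subtype.ext (hcomm x x.2 y y.2) }
      have key : ∀ a b k₁ k₂ : H, a * (k₁ * b) * (k₂ * a⁻¹) * b⁻¹ = k₁ * k₂ := fun a b k₁ k₂ => by
        rw [show a * (k₁ * b) * (k₂ * a⁻¹) * b⁻¹ = k₁ * k₂ * (a * a⁻¹) * (b * b⁻¹) by
          simp only [mul_comm, mul_left_comm, mul_assoc], mul_inv_cancel, mul_inv_cancel, mul_one, mul_one]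
      exact congrArg Subtype.val (key ⟨a, hvh⟩ ⟨b, hwk⟩ ⟨k₁, hH₁H hk1⟩ ⟨k₂, hH₁H hk2⟩)
    rw [this]
    exact H₁.mul_mem hk1 hk2
  obtain ⟨l, hl, hl1⟩ := (Subgroup.bot_or_exists_ne_one L).resolve_left fun e => by
    rw [e, card_bot] at hLp; exact (hT.prime_right hG).ne_one hLp.symm
  have hlA : ∀ x ∈ L, x ∈ A → x = 1 := fun x hx hxA => by
    rw [hA, ← SetLike.mem_coe, sup_comm, coe_mul_of_left_le_normalizer_right _ _ (inf_le_left.trans hH₁U)] at hxA
    obtain ⟨v, hv, y, hy, rfl⟩ := hxA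
    have hvH : v ∈ H := by simpa using H.mul_mem (hLH hx) (H.inv_mem (hH₁H hy))
    obtain rfl : v = 1 := mem_bot.1 (hT.H_inf_U ▸ mem_inf.2 ⟨hvH, (mem_inf.1 hv).1⟩)
    simp only [one_mul] at hx ⊢
    exact mem_bot.1 (hdisj ▸ mem_inf.2 ⟨hx, hy⟩)
  refine ⟨A, E, d, hAE, sup_le hT.H_le (inf_le_left.trans hT.U_le), hAn, hEn, le_sup_right, hFE,
    (sup_le_sup_right hH₁H _).trans (hT.fitting_eq hG).ge, hcommE,
    hidxA, hidxE, ⟨l, hLH hl, fun h => hl1 (hlA l hl h), fun x hx => ?_⟩, fun v hv h => ?_, fun b hb hb1 K hAK hK => ?_,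
    h2d, hd3, hcube, hdvd⟩
  · obtain ⟨h₁, hh₁, y, hy, rfl⟩ := hfac x hx
    have hz : Subgroup.zpowers (⟨l, hl⟩ : L) = ⊤ :=
      zpowers_eq_top_of_prime_card hLp fun e => hl1 (congrArg Subtype.val e)
    obtain ⟨n, hn⟩ := ((isOfFinOrder_of_finite (⟨l, hl⟩ : L)).mem_powers_iff_mem_zpowers).2
      (hz.symm ▸ Subgroup.mem_top (⟨y, hy⟩ : L) : (⟨y, hy⟩ : L) ∈ _)
    exact ⟨h₁, mem_sup_left hh₁, n, by rw [show y = l ^ n from (congrArg Subtype.val hn).symm]⟩
  · refine mem_sup_right (mem_inf.2 ⟨hv, mem_centralizer_iff.2 fun y hy => ?_⟩)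
    have hyv : v * y * v⁻¹ * y⁻¹ ∈ L := L.mul_mem ((mem_normalizer_iff.1 (hUL hv) y).1 hy) (L.inv_mem hy)
    exact (mul_inv_eq_iff_eq_mul.1 (mul_inv_eq_one.1 (hlA _ hyv (h y (hLH hy))))).symm
  · refine (hT.fitting_eq hG).le.trans (sup_le ?_ (le_sup_right.trans hAK))
    rw [← hH, ← hall]
    refine sup_le (le_sup_left.trans hAK) ?_
    have hb' : b⁻¹ ∈ s := Finset.mem_erase.2 ⟨inv_ne_one.2 hb1, Finset.mem_filter.2 ⟨Finset.mem_univ _, W₁.inv_mem hb⟩⟩
    intro x hx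
    refine hK ⟨b⁻¹ * x * b, mem_sup_left ((le_iSup₂_of_le b⁻¹ hb' le_rfl : c b⁻¹ ≤ H₁) ⟨x, hx, by simp⟩), by
      simp [mul_assoc]⟩

end Three

end CfsgLib.OddEnd
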