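import Cfsg.Agent.OddEnd.ElevenQuot

/-!
Peterfalvi 11.4–11.6 without characters: the consequences of the bound `|M' : M''| ≤ 2qu + 1`.
-/

set_option autoImplicit false
set_option linter.unusedSectionVars false
set_option linter.style.haveILetI false

namespace CfsgLib.OddEnd

open Subgroup CfsgLib.OddLocal
open scoped commutatorElement

universe u

/-- Peterfalvi 11.1. -/
theorem four_sq_lt_pow {p q : ℕ} (hp : 3 ≤ p) (hq : 3 ≤ q) (hne : p ≠ q) (hp4 : p ≠ 4) :
    4 * q ^ 2 + 1 < p ^ q := by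
  rcases eq_or_lt_of_le hq with rfl | hq'
  · have h5 : 5 ≤ p := by omega
    have := Nat.pow_le_pow_left h5 3
    omega
  rcases eq_or_lt_of_le (Nat.succ_le_of_lt hq') with h4 | h5
  · subst h4
    by_cases h : p = 3
    · subst h; norm_num
    · have := Nat.pow_le_pow_left (show 5 ≤ p by omega) 4
      norm_num at this ⊢
      omega
  · have h : ∀ n, 5 ≤ n → 4 * n ^ 2 + 1 < 3 ^ n := by
      intro n hn
      induction n, hn using Nat.le_induction with
      | base => norm_num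
      | succ k hk ih =>
        rw [show 3 ^ (k + 1) = 3 * 3 ^ k by ring]
        nlinarith
    exact (h q h5).trans_le (Nat.pow_le_pow_left hp q)

/-- The derived subgroup of a normal subgroup is normalized. -/
theorem le_normalizer_commutator_self {G : Type u} [Group G] {X Y : Subgroup G}
    (h : Y ≤ normalizer (X : Set G)) : Y ≤ normalizer ((⁅X, X⁆ : Subgroup G) : Set G) := fun y hy => by
  have hmap : X.map (MulAut.conj y).toMonoidHom = X := mem_normalizer_iff_map_conj_eq.1 (h hy)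
  exact mem_normalizer_iff_map_conj_eq.2 (by
    show ⁅X, X⁆.map (MulAut.conj y).toMonoidHom = ⁅X, X⁆
    rw [map_commutator, hmap])

variable {G : Type u} [Group G] [Finite G]

/-- The quotient by a normal subgroup is `1 (mod q)` when a group of order `q` fixes only its elements. -/
theorem relIndex_modEq_one {q : ℕ} (hq : q.Prime) {A X N : Subgroup G} (hA : Nat.card A = q)
    (hAX : A ≤ normalizer (X : Set G)) (hAN : A ≤ normalizer (N : Set G)) (hNX : N ≤ X)
    (hXN : X ≤ normalizer (N : Set G)) (hsolv : Group.IsSolvable N)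
    (hcop : (Nat.card A).Coprime (Nat.card X))
    (hfix : ∀ x ∈ X, (∀ a ∈ A, a * x = x * a) → x ∈ N) : N.relIndex X ≡ 1 [MOD q] := by
  set L : Subgroup G := X ⊔ A
  have hXL : X ≤ L := le_sup_left
  have hAL : A ≤ L := le_sup_right
  haveI : (N.subgroupOf L).Normal :=
    (normal_subgroupOf_iff_le_normalizer (hNX.trans hXL)).2 (sup_le hXN hAN)
  set f := QuotientGroup.mk' (N.subgroupOf L)
  let P : Subgroup G → Subgroup (L ⧸ N.subgroupOf L) := fun B => (B.subgroupOf L).map f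
  have hrel : ∀ {B : Subgroup G}, B ≤ L → Nat.card (P B) = N.relIndex B := fun {B} hB => by
    rw [← relIndex_bot_left, ← relIndex_comap, MonoidHom.comap_bot, QuotientGroup.ker_mk',
      relIndex_subgroupOf hB]
  rw [← hrel hXL]
  refine card_modEq_one_of_fpf hq (A := P A) ?_ ?_ ?_
  · rw [hrel hAL, ← inf_relIndex_right, inf_eq_bot_of_coprime
      (hcop.coprime_dvd_right (card_dvd_of_le hNX)).symm, relIndex_bot_left, hA]
  · rintro _ ⟨a, ha, rfl⟩
    refine mem_normalizer_iff.2 fun y => ⟨?_, ?_⟩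
    · rintro ⟨x, hx, rfl⟩
      rw [← map_inv, ← map_mul, ← map_mul]
      exact mem_map_of_mem f ((mem_normalizer_iff.1 (hAX ha) _).1 hx)
    · rintro ⟨x, hx, he⟩
      refine ⟨a⁻¹ * x * a, ?_, by rw [map_mul, map_mul, map_inv, he]; group⟩
      have := (mem_normalizer_iff.1 (inv_mem (hAX ha)) _).1 hx
      rwa [inv_inv] at this
  · rintro _ ⟨x, hx, rfl⟩ h
    obtain ⟨c, hc, hcN⟩ := CfsgLib.CoprimeAct.exists_centralizing_mem_coset hAX hcop hNX hAN
      (Or.inr hsolv) (k := (x : G)) hx fun a ha => by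
        have he := h (f ⟨a, hAL ha⟩) (mem_map_of_mem f ha)
        refine (show f (x⁻¹ * (⟨a, hAL ha⟩ * x * ⟨a, hAL ha⟩⁻¹)) = 1 → _ from
          fun e => Subgroup.mem_subgroupOf.1 ((QuotientGroup.eq_one_iff _).1 e)) ?_
        rw [map_mul, map_mul, map_mul, map_inv, map_inv, he]
        group
    have hxN : (x : G) ∈ N := by
      rw [show (x : G) = c * ((x : G)⁻¹ * c)⁻¹ by group]
      exact N.mul_mem (hfix c hc.1 fun a ha => mem_centralizer_iff.1 hc.2 a ha) (N.inv_mem hcN)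
    exact (QuotientGroup.eq_one_iff x).2 hxN

namespace Three

variable {M W₁ U W₂ : Subgroup G} (hT : Three M W₁ U W₂) (hG : Cfsg.IsMinSimpleOddOrder G)
include hT hG

theorem H_not_le : ¬ Cfsg.fittingHallOf M ≤ centralizer (U : Set G) := fun h =>
  hT.not_centralizes hG fun u hu => mem_centralizer_iff.2 fun x hx =>
    (mem_centralizer_iff.1 (h hx) u hu).symm

theorem H_der_le : ⁅Cfsg.fittingHallOf M, Cfsg.fittingHallOf M⁆ ≤ Cfsg.fittingHallOf M :=
  commutator_le_self _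

theorem H_der_normal : M ≤ normalizer ((⁅Cfsg.fittingHallOf M, Cfsg.fittingHallOf M⁆ : Subgroup G) : Set G) :=
  le_normalizer_commutator_self (FittingHall.le_normalizer_of M)

theorem UH : U ≤ normalizer (Cfsg.fittingHallOf M : Set G) :=
  (hT.U_le_M hG).trans (FittingHall.le_normalizer_of M)

theorem not_commutator_le_derived :
    ¬ ⁅Cfsg.fittingHallOf M, U⁆ ≤ ⁅Cfsg.fittingHallOf M, Cfsg.fittingHallOf M⁆ := by
  intro h
  refine hT.H_not_le hG ?_
  have hc := CfsgLib.CoprimeAct.commutator_sup_centralizer (hT.UH hG) hT.coprime_H_U.symm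
    (Or.inr (Kap.solvable_le hG hT.coatom (FittingHall.of_le M)))
  have := eq_of_sup_commutator (FittingHall.nilpotent_of M)
    (K := Cfsg.fittingHallOf M ⊓ centralizer (U : Set G)) inf_le_left (by
      conv_lhs => rw [← hc]
      exact sup_le (h.trans le_sup_right) le_sup_left)
  exact this ▸ inf_le_right

theorem index_derived_ge : Nat.card W₂ ^ Nat.card W₁ ≤
    (⁅Cfsg.fittingHallOf M, Cfsg.fittingHallOf M⁆ : Subgroup G).relIndex (Cfsg.fittingHallOf M) := by
  rw [(hT.section_card hG (hT.H_der_le hG) (hT.H_der_normal hG) (hT.not_commutator_le_derived hG)).1]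
  exact Nat.le_mul_of_pos_right _ (Nat.pos_of_dvd_of_pos (relIndex_dvd_card _ _) Nat.card_pos)

theorem right_not_le_derived : ¬ W₂ ≤ ⁅Cfsg.fittingHallOf M, Cfsg.fittingHallOf M⁆ :=
  (hT.section_card hG (hT.H_der_le hG) (hT.H_der_normal hG) (hT.not_commutator_le_derived hG)).2

theorem fixed_derived {x : G} (hx : x ∈ ⁅Cfsg.fittingHallOf M, Cfsg.fittingHallOf M⁆) {a : G}
    (ha : a ∈ W₁) (ha1 : a ≠ 1) (hc : a * x = x * a) : x = 1 := by
  by_contra hx1
  haveI := Fact.mk (hT.prime_right hG)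
  have hxW := hT.mem_right_of_fixed hG (hT.H_le (hT.H_der_le hG hx)) ha ha1 hc
  refine hT.right_not_le_derived hG fun w hw => ?_
  have htop := zpowers_eq_top_of_prime_card (G := W₂) (p := Nat.card W₂) rfl
    (g := (⟨x, hxW⟩ : W₂)) fun e => hx1 (congrArg Subtype.val e)
  obtain ⟨k, hk⟩ := mem_zpowers_iff.1 (htop.ge (mem_top (⟨w, hw⟩ : W₂)))
  rw [show w = x ^ k by simpa using (congrArg Subtype.val hk).symm]
  exact zpow_mem hx k

theorem derived_le_centralizer :
    ⁅Cfsg.fittingHallOf M, Cfsg.fittingHallOf M⁆ ≤ centralizer (U : Set G) := by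
  set N := ⁅Cfsg.fittingHallOf M, Cfsg.fittingHallOf M⁆
  have hN := hT.H_der_le hG
  obtain ⟨a, ha, ha1⟩ := (Subgroup.bot_or_exists_ne_one W₁).resolve_left hT.typeP.W₁_ne
  have hcop : (Nat.card N).Coprime (Nat.card ↥(U ⊔ W₁)) :=
    (hT.coprime_H_UW hG).coprime_dvd_left (card_dvd_of_le hN)
  have h := Cfsg.Agent.S1545.result U W₁ N (hT.U_ne hG) hT.typeP.W₁_ne
    (inf_eq_bot_of_coprime (hT.coprime_left.coprime_dvd_right (card_dvd_of_le hT.U_le)).symm)
    (fun e he u hu => (mem_normalizer_iff.1 (hT.typeP.U_normal he) u).1 hu)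
    (fun e he he1 u hu hc => hT.U_fixed hG hu he he1 hc)
    (fun x hx h hh => (mem_normalizer_iff.1
      ((sup_le (hT.U_le_M hG) hT.left_le).trans (hT.H_der_normal hG) hx) h).1 hh)
    (inf_eq_bot_of_coprime hcop) (Kap.solvable_le hG hT.coatom (hN.trans (FittingHall.of_le M))) hcop
  have h1 : N ⊓ centralizer (W₁ : Set G) = ⊥ := eq_bot_iff.2 fun x hx =>
    mem_bot.2 (hT.fixed_derived hG hx.1 ha ha1 (mem_centralizer_iff.1 hx.2 a ha))
  have h2 : N ⊓ centralizer ((U ⊔ W₁ : Subgroup G) : Set G) = ⊥ :=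
    eq_bot_iff.2 ((inf_le_inf_left _ (Subgroup.centralizer_le (SetLike.coe_subset_coe.2 le_sup_right))).trans h1.le)
  rw [h1, h2, card_bot, one_pow, one_mul, one_mul] at h
  exact (eq_of_le_of_card_ge inf_le_left h.le).ge.trans inf_le_right

theorem der2_le : ⁅⁅M, M⁆, ⁅M, M⁆⁆ ≤ Cfsg.fittingOf M :=
  hT.typeP.derived_two_le.trans hT.typeP.fitting_eq.le

theorem fitting_eq : Cfsg.fittingOf M =
    Cfsg.fittingHallOf M ⊔ (U ⊓ centralizer (Cfsg.fittingHallOf M : Set G)) :=
  Cfsg.Agent.S1387.result M W₁ U W₂ hT.typeP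

theorem card_fitting : Nat.card ↥(Cfsg.fittingOf M) =
    Nat.card (Cfsg.fittingHallOf M) * Nat.card ↥(U ⊓ centralizer (Cfsg.fittingHallOf M : Set G)) := by
  rw [hT.fitting_eq hG, sup_comm, CfsgLib.Solvable.card_sup_of_disjoint
    (inf_le_left.trans (hT.UH hG)) (by
      rw [inf_comm, ← le_bot_iff, ← hT.H_inf_U]
      exact inf_le_inf_left _ inf_le_left), mul_comm]

theorem fitting_index : (Cfsg.fittingOf M).relIndex ⁅M, M⁆ =
    (U ⊓ centralizer (Cfsg.fittingHallOf M : Set G)).relIndex U := by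
  refine Nat.eq_of_mul_eq_mul_left (Nat.card_pos (α := ↥(Cfsg.fittingOf M))) ?_
  rw [CfsgLib.InvariantHall.relIndex_mul_card hT.typeP.fitting_le, hT.card_fitting hG, hT.card_derived,
    mul_assoc, CfsgLib.InvariantHall.relIndex_mul_card inf_le_left]

theorem index_modEq {N : Subgroup G} (hN : N ≤ ⁅M, M⁆) (hNM : M ≤ normalizer (N : Set G))
    (hW : W₂ ≤ N) : N.relIndex ⁅M, M⁆ ≡ 1 [MOD Nat.card W₁] := by
  obtain ⟨a, ha, ha1⟩ := (Subgroup.bot_or_exists_ne_one W₁).resolve_left hT.typeP.W₁_ne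
  exact relIndex_modEq_one (hT.prime_left hG) rfl
    (hT.left_le.trans (normalizer_commutator_ge_left M M)) (hT.left_le.trans hNM) hN
    (hT.derived_le.trans hNM) (Kap.solvable_le hG hT.coatom (hN.trans hT.derived_le)) hT.coprime_left
    fun x hx h => hW (hT.mem_right_of_fixed hG hx ha ha1 (h a ha))

theorem u_facts : (Cfsg.fittingOf M).relIndex ⁅M, M⁆ ≡ 1 [MOD Nat.card W₁] ∧
    2 * Nat.card W₁ + 1 ≤ (Cfsg.fittingOf M).relIndex ⁅M, M⁆ ∧
    Odd ((Cfsg.fittingOf M).relIndex ⁅M, M⁆) := by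
  have hm := hT.index_modEq hG hT.typeP.fitting_le (Bender.le_normalizer_fitting M)
    (hT.right_le_H.trans (hT.fitting_eq hG ▸ le_sup_left))
  set n := (Cfsg.fittingOf M).relIndex ⁅M, M⁆
  have hodd : Odd n := (hG.1.of_dvd_nat (⁅M, M⁆ : Subgroup G).card_subgroup_dvd_card).of_dvd_nat
    (relIndex_dvd_card _ _)
  have hn1 : n ≠ 1 := fun e => by
    refine hT.not_centralizes hG fun u hu => ?_
    have hu' : u ∈ Cfsg.fittingOf M := relIndex_eq_one.1 e (hT.U_le hu)
    rw [hT.fitting_eq hG, ← SetLike.mem_coe, sup_comm, coe_mul_of_left_le_normalizer_right _ _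
      (inf_le_left.trans (hT.UH hG))] at hu'
    obtain ⟨c, hc, x, hx, rfl⟩ := hu'
    have hxU : x ∈ U := by simpa using U.mul_mem (U.inv_mem (mem_inf.1 hc).1) hu
    have hx1 : x = 1 := mem_bot.1 (hT.H_inf_U ▸ mem_inf.2 ⟨hx, hxU⟩)
    rw [hx1]
    simpa using (mem_inf.1 hc).2
  refine ⟨hm, ?_, hodd⟩
  have hq := hT.q_three hG
  have hd : Nat.card W₁ ∣ n - 1 := (Nat.modEq_iff_dvd' (by rcases hodd with ⟨k, hk⟩; omega)).1 hm.symm
  obtain ⟨k, hk⟩ := hd
  obtain ⟨j, hj⟩ := hodd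
  have hqodd := hG.1.of_dvd_nat W₁.card_subgroup_dvd_card
  obtain ⟨i, hi⟩ := hqodd
  rcases k with _ | _ | k
  · omega
  · omega
  · nlinarith [show n = Nat.card W₁ * (k + 1 + 1) + 1 by omega]

/-- Peterfalvi 11.5: `M'' = F(M)`, given the bound. -/
theorem der2_eq (hb : (⁅⁅M, M⁆, ⁅M, M⁆⁆ : Subgroup G).relIndex ⁅M, M⁆ ≤
      2 * Nat.card W₁ * (Cfsg.fittingOf M).relIndex ⁅M, M⁆ + 1) :
    ⁅⁅M, M⁆, ⁅M, M⁆⁆ = Cfsg.fittingOf M := by
  set N := ⁅⁅M, M⁆, ⁅M, M⁆⁆
  have hNF := hT.der2_le hG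
  obtain ⟨hu, hu2, -⟩ := hT.u_facts hG
  have hn := hT.index_modEq hG (hNF.trans hT.typeP.fitting_le)
    (le_normalizer_commutator_self (normalizer_commutator_ge_left M M)) hT.right_le_der2
  rw [← relIndex_mul_relIndex N _ _ hNF hT.typeP.fitting_le] at hn hb
  set m := N.relIndex (Cfsg.fittingOf M)
  set u := (Cfsg.fittingOf M).relIndex ⁅M, M⁆
  have hm : m ≡ 1 [MOD Nat.card W₁] := by
    have h2 : m * u ≡ m * 1 [MOD Nat.card W₁] := Nat.ModEq.mul_left m hu
    rw [mul_one] at h2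
    exact h2.symm.trans hn
  have hmodd : Odd m := (hG.1.of_dvd_nat (Cfsg.fittingOf M).card_subgroup_dvd_card).of_dvd_nat
    (relIndex_dvd_card _ _)
  have hm1 : m = 1 := by
    by_contra hne
    obtain ⟨k, hk⟩ := (Nat.modEq_iff_dvd' (by rcases hmodd with ⟨k, hk⟩; omega)).1 hm.symm
    obtain ⟨j, hj⟩ := hmodd
    obtain ⟨i, hi⟩ := hG.1.of_dvd_nat W₁.card_subgroup_dvd_card
    rcases k with _ | _ | k
    · omega
    · omega
    · have : 2 * Nat.card W₁ + 1 ≤ m := by nlinarith [show m = Nat.card W₁ * (k + 1 + 1) + 1 by omega]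
      nlinarith [hT.q_three hG]
  exact le_antisymm hNF (relIndex_eq_one.1 hm1)

theorem commutator_sup_derived (hd : ⁅⁅M, M⁆, ⁅M, M⁆⁆ = Cfsg.fittingOf M) :
    ⁅Cfsg.fittingHallOf M, U⁆ = Cfsg.fittingHallOf M := by
  set H := Cfsg.fittingHallOf M
  set R := ⁅H, U⁆
  have hRH : R ≤ H := le_normalizer_iff_commutator_le_left.1 (hT.UH hG)
  refine eq_of_sup_commutator (FittingHall.nilpotent_of M) hRH fun x hx => ?_
  set E := R ⊔ ⁅H, H⁆
  have hEH : E ≤ H := sup_le hRH (hT.H_der_le hG)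
  have hEn : H ⊔ U ≤ normalizer (E : Set G) := fun g hg => by
    have h1 : R.map (MulAut.conj g).toMonoidHom = R := mem_normalizer_iff_map_conj_eq.1
      ((sup_le (normalizer_commutator_ge_left H U) (normalizer_commutator_ge_right H U)) hg)
    have h2 : (⁅H, H⁆).map (MulAut.conj g).toMonoidHom = ⁅H, H⁆ := mem_normalizer_iff_map_conj_eq.1
      (((sup_le (FittingHall.of_le M) (hT.U_le_M hG)).trans (hT.H_der_normal hG)) hg)
    exact mem_normalizer_iff_map_conj_eq.2 (by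
      show (R ⊔ ⁅H, H⁆).map (MulAut.conj g).toMonoidHom = R ⊔ ⁅H, H⁆
      rw [Subgroup.map_sup, h1, h2])
  have hD : ⁅M, M⁆ = H ⊔ U := le_antisymm (fun y hy => by
    obtain ⟨a, ha, b, hb, rfl⟩ := hT.typeP.U_compl.2.2.2 y hy
    exact mul_mem (mem_sup_left ha) (mem_sup_right hb)) (sup_le hT.H_le hT.U_le)
  -- modulo `E`, the derived subgroup of `M'` lies in the image of `U'`
  haveI : (E.subgroupOf (H ⊔ U)).Normal :=
    (normal_subgroupOf_iff_le_normalizer (hEH.trans le_sup_left)).2 hEn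
  set f := QuotientGroup.mk' (E.subgroupOf (H ⊔ U))
  set A := (H.subgroupOf (H ⊔ U)).map f
  set B := (U.subgroupOf (H ⊔ U)).map f
  have htop : (⊤ : Subgroup _) = A ⊔ B := by
    simp only [A, B]
    rw [← Subgroup.map_sup, ← subgroupOf_sup le_sup_left le_sup_right, subgroupOf_self,
      ← MonoidHom.range_eq_map, MonoidHom.range_eq_top.2 (QuotientGroup.mk'_surjective _)]
  have hcomm : ∀ y ∈ A, ∀ z ∈ A ⊔ B, y * z = z * y := fun y hy z hz => by
    have hle : A ⊔ B ≤ centralizer ({y} : Set _) := by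
      obtain ⟨a, ha, rfl⟩ := hy
      refine sup_le ?_ ?_ <;> rintro _ ⟨b, hb, rfl⟩ <;> refine mem_centralizer_singleton_iff.2 ?_
      · have : f ⁅b, a⁆ = 1 := (QuotientGroup.eq_one_iff _).2
          (show ((⁅b, a⁆ : ↥(H ⊔ U)) : G) ∈ E from mem_sup_right (commutator_mem_commutator hb ha))
        rwa [map_commutatorElement, commutatorElement_eq_one_iff_mul_comm] at this
      · have : f ⁅a, b⁆ = 1 := (QuotientGroup.eq_one_iff _).2
          (show ((⁅a, b⁆ : ↥(H ⊔ U)) : G) ∈ E from mem_sup_left (commutator_mem_commutator ha hb))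
        rw [map_commutatorElement, commutatorElement_eq_one_iff_mul_comm] at this
        exact this.symm
    exact (mem_centralizer_singleton_iff.1 (hle hz)).symm
  have hder : ⁅(⊤ : Subgroup (↥(H ⊔ U) ⧸ E.subgroupOf (H ⊔ U))), ⊤⁆ ≤ B := by
    refine commutator_le.2 fun y _ z _ => ?_
    have hABn : A ≤ normalizer (B : Set _) := fun a ha => mem_normalizer_iff.2 fun b => by
      rw [hcomm a ha b (htop ▸ mem_top b), mul_inv_cancel_right]
    have hy : y ∈ A ⊔ B := htop ▸ mem_top y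
    have hz : z ∈ A ⊔ B := htop ▸ mem_top z
    rw [← SetLike.mem_coe, coe_mul_of_left_le_normalizer_right A B hABn] at hy hz
    obtain ⟨a, ha, b, hb, rfl⟩ := hy
    obtain ⟨c, hc, d, hd', rfl⟩ := hz
    have h1 : Commute a c := hcomm a ha c (mem_sup_left hc)
    have h2 : Commute a d := hcomm a ha d (mem_sup_right hd')
    have h3 : Commute c b := hcomm c hc b (mem_sup_right hb)
    have h4 : Commute c d := hcomm c hc d (mem_sup_right hd')
    have he : ⁅a * b, c * d⁆ = ⁅b, d⁆ := by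
      rw [commutatorElement_mul_left_eq_conj_mul, commutatorElement_mul_right_eq_mul_conj,
        commutatorElement_mul_right_eq_mul_conj, commutatorElement_eq_one_iff_commute.2 h3.symm,
        commutatorElement_eq_one_iff_commute.2 h1, commutatorElement_eq_one_iff_commute.2 h2]
      have e1 : c * ⁅b, d⁆ * c⁻¹ = ⁅b, d⁆ := by
        rw [show c * ⁅b, d⁆ = ⁅b, d⁆ * c from
          hcomm c hc _ (mem_sup_right (B.mul_mem (B.mul_mem (B.mul_mem hb hd') (B.inv_mem hb)) (B.inv_mem hd'))),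
          mul_inv_cancel_right]
      have e2 : a * ⁅b, d⁆ * a⁻¹ = ⁅b, d⁆ := by
        rw [show a * ⁅b, d⁆ = ⁅b, d⁆ * a from
          hcomm a ha _ (mem_sup_right (B.mul_mem (B.mul_mem (B.mul_mem hb hd') (B.inv_mem hb)) (B.inv_mem hd'))),
          mul_inv_cancel_right]
      simp [e1, e2]
    rw [he]
    exact B.mul_mem (B.mul_mem (B.mul_mem hb hd') (B.inv_mem hb)) (B.inv_mem hd')
  have hxD : x ∈ ⁅H ⊔ U, H ⊔ U⁆ := hD ▸ hd.ge (hT.fitting_eq hG ▸ mem_sup_left hx)
  have h5 : f ⟨x, mem_sup_left hx⟩ ∈ B := hder (by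
    have h1 : (⟨x, mem_sup_left hx⟩ : ↥(H ⊔ U)) ∈ commutator ↥(H ⊔ U) := by
      obtain ⟨z, hz, he⟩ := (map_subtype_commutator (H ⊔ U)).ge hxD
      exact (show z = ⟨x, _⟩ from Subtype.ext he) ▸ hz
    have := mem_map_of_mem f h1
    rw [_root_.commutator_def, map_commutator] at this
    exact commutator_mono le_top le_top this)
  obtain ⟨v, hv, he⟩ := h5
  have hm : (v : G)⁻¹ * x ∈ E := Subgroup.mem_subgroupOf.1 (QuotientGroup.eq.1 he)
  have hvH : (v : G) ∈ H := by
    have := H.mul_mem hx (H.inv_mem (hEH hm))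
    simpa using this
  have hv1 : (v : G) = 1 := mem_bot.1 (hT.H_inf_U ▸ mem_inf.2 ⟨hvH, hv⟩)
  rwa [hv1, inv_one, one_mul] at hm

end Three

end CfsgLib.OddEnd
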