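import Cfsg.Agent.OddEnd.ElevenBase
import Cfsg.Agent.Solvable.CoprimeAct
import Cfsg.Agent.S1545

/-!
Sections of `M_F` under the Frobenius group `U W₁` (Peterfalvi 11.5, 11.6).
-/

set_option autoImplicit false
set_option linter.unusedSectionVars false
set_option linter.style.haveILetI false

namespace CfsgLib.OddEnd

open Subgroup CfsgLib.OddLocal
open scoped commutatorElement

universe u

/-- A subgroup of a nilpotent group which supplements the derived subgroup is everything. -/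
theorem eq_of_sup_commutator {G : Type u} [Group G] [Finite G] {H K : Subgroup G}
    (hn : Group.IsNilpotent H) (hK : K ≤ H) (h : H ≤ K ⊔ ⁅H, H⁆) : K = H := by
  by_contra hne
  haveI := hn
  have hlt : K.subgroupOf H ≠ ⊤ := fun e => hne (le_antisymm hK (Subgroup.subgroupOf_eq_top.1 e))
  obtain ⟨N, hN, hKN⟩ := (eq_top_or_exists_le_coatom (K.subgroupOf H)).resolve_left hlt
  haveI hNn : N.Normal := (Group.normalizerCondition_of_isNilpotent).normal_of_coatom N hN
  have hcomm : commutator H ≤ N := by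
    haveI : Nontrivial (H ⧸ N) := QuotientGroup.nontrivial_iff.2 hN.1
    haveI : IsSimpleGroup (H ⧸ N) :=
      ⟨fun Q hQ => by
        have hle : N ≤ Q.comap (QuotientGroup.mk' N) := fun n hn' => by
          simp [(QuotientGroup.eq_one_iff n).2 hn', Q.one_mem]
        rcases eq_or_lt_of_le hle with e | e
        · exact Or.inl (by
            rw [← map_comap_eq_self_of_surjective (QuotientGroup.mk'_surjective N) Q, ← e,
              QuotientGroup.map_mk'_self])
        · exact Or.inr (by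
            rw [← map_comap_eq_self_of_surjective (QuotientGroup.mk'_surjective N) Q, hN.2 _ e,
              ← MonoidHom.range_eq_map, MonoidHom.range_eq_top.2 (QuotientGroup.mk'_surjective N)])⟩
    have hc : commutator (H ⧸ N) = ⊥ := by
      haveI : Group.IsSolvable (H ⧸ N) := inferInstance
      rcases IsSimpleGroup.eq_bot_or_eq_top_of_normal (commutator (H ⧸ N)) inferInstance with e | e
      · exact e
      · exact absurd e (Group.IsSolvable.commutator_lt_top_of_nontrivial (H ⧸ N)).ne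
    refine fun x hx => (QuotientGroup.eq_one_iff x).1 (mem_bot.1 (hc.le ?_))
    have h1 := mem_map_of_mem (QuotientGroup.mk' N) hx
    rw [commutator_def, map_commutator] at h1
    exact commutator_mono le_top le_top h1
  refine hN.1 (top_le_iff.1 fun x _ => ?_)
  have hK' : K ≤ N.map H.subtype := fun k hk => ⟨⟨k, hK hk⟩, hKN hk, rfl⟩
  have hC' : ⁅H, H⁆ ≤ N.map H.subtype := (map_subtype_commutator H).symm.le.trans (map_mono hcomm)
  obtain ⟨y, hy, e⟩ := (h.trans (sup_le hK' hC')) x.2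
  exact (show y = x from Subtype.ext e) ▸ hy

/-- The fixed-point formula for a Frobenius group `U E` when `E` fixes at most `p` points. -/
theorem frobenius_fixed_prime {X : Type u} [Group X] [Finite X] {p : ℕ} (hp : p.Prime) (U E H : Subgroup X)
    (hU1 : U ≠ ⊥) (hE1 : E ≠ ⊥) (hUE : U ⊓ E = ⊥) (hUn : ∀ e ∈ E, ∀ u ∈ U, e * u * e⁻¹ ∈ U)
    (hfpf : ∀ e ∈ E, e ≠ 1 → ∀ u ∈ U, e * u = u * e → u = 1)
    (hHn : ∀ x ∈ U ⊔ E, ∀ h ∈ H, x * h * x⁻¹ ∈ H) (hdisj : H ⊓ (U ⊔ E) = ⊥)
    (hsolv : Group.IsSolvable H) (hcop : Nat.Coprime (Nat.card H) (Nat.card ↥(U ⊔ E)))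
    (hE : Nat.card ↥(H ⊓ centralizer (E : Set X)) ∣ p) (hnc : ¬ H ≤ centralizer (U : Set X)) :
    Nat.card H = p ^ Nat.card E * Nat.card ↥(H ⊓ centralizer (U : Set X)) ∧
      Nat.card ↥(H ⊓ centralizer (E : Set X)) = p := by
  have h := Cfsg.Agent.S1545.result U E H hU1 hE1 hUE hUn hfpf hHn hdisj hsolv hcop
  have hle : H ⊓ centralizer ((U ⊔ E : Subgroup X) : Set X) ≤ H ⊓ centralizer (E : Set X) :=
    inf_le_inf_left _ (centralizer_le (SetLike.coe_subset_coe.2 le_sup_right))
  rcases (Nat.dvd_prime hp).1 hE with hb | hb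
  all_goals rw [hb] at h
  · have ha : Nat.card ↥(H ⊓ centralizer ((U ⊔ E : Subgroup X) : Set X)) = 1 :=
      Nat.eq_one_of_dvd_one (hb ▸ card_dvd_of_le hle)
    rw [ha, one_pow, one_mul, one_mul] at h
    exact absurd (eq_of_le_of_card_ge inf_le_left h.le ▸ inf_le_right) hnc
  · rcases (Nat.dvd_prime hp).1 (hb ▸ card_dvd_of_le hle) with ha | ha
    · rw [ha, one_pow, one_mul] at h
      exact ⟨h, hb⟩
    · rw [ha] at h
      exact absurd (eq_of_le_of_card_ge inf_le_left
        (Nat.eq_of_mul_eq_mul_left (pow_pos hp.pos _) h).le ▸ inf_le_right) hnc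

variable {G : Type u} [Group G] [Finite G]

namespace Three

variable {M W₁ U W₂ : Subgroup G} (hT : Three M W₁ U W₂) (hG : Cfsg.IsMinSimpleOddOrder G)
include hT hG

theorem U_le_M : U ≤ M := hT.U_le.trans hT.derived_le

theorem coprime_H_UW : (Nat.card (Cfsg.fittingHallOf M)).Coprime (Nat.card ↥(U ⊔ W₁)) := by
  rw [sup_comm]
  refine Nat.Coprime.coprime_dvd_right (CfsgLib.Solvable.card_sup_dvd hT.typeP.U_normal |>.trans ?_)
    (Nat.Coprime.mul_right hT.coprime_H_U
      (hT.coprime_left.symm.coprime_dvd_left (card_dvd_of_le hT.H_le)))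
  exact dvd_of_eq (by ring)

/-- A section `H/N` that `U` moves has `p^q` elements over the fixed points of `U`. -/
theorem section_card {N : Subgroup G} (hN : N ≤ Cfsg.fittingHallOf M) (hNM : M ≤ normalizer (N : Set G))
    (hnc : ¬ ⁅Cfsg.fittingHallOf M, U⁆ ≤ N) :
    N.relIndex (Cfsg.fittingHallOf M) =
        Nat.card W₂ ^ Nat.card W₁ * N.relIndex ((Cfsg.fittingHallOf M ⊓ centralizer (U : Set G)) ⊔ N) ∧
      ¬ W₂ ≤ N := by
  have hp := hT.prime_right hG
  set H := Cfsg.fittingHallOf M with hH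
  have hHM : H ≤ M := FittingHall.of_le M
  have hUM := hT.U_le_M hG
  have hWM := hT.left_le
  haveI hNn : (N.subgroupOf M).Normal := (normal_subgroupOf_iff_le_normalizer (hN.trans hHM)).2 hNM
  set f := QuotientGroup.mk' (N.subgroupOf M) with hf
  have hker : ∀ x : M, f x = 1 ↔ (x : G) ∈ N := fun x =>
    (QuotientGroup.eq_one_iff x).trans Subgroup.mem_subgroupOf
  have hinv : ∀ {A : Subgroup G}, A ≤ M → (Nat.card A).Coprime (Nat.card N) →
      ∀ x : A, ∀ hx : (x : G) ∈ M, f ⟨x, hx⟩ = 1 → (x : G) = 1 := fun {A} hA hc x hx h =>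
    mem_bot.1 ((inf_eq_bot_of_coprime hc) ▸ ⟨x.2, (hker _).1 h⟩)
  have hsolvM : Group.IsSolvable M := hG.2.2.2 M hT.coatom.1
  have hcN : (Nat.card ↥(U ⊔ W₁)).Coprime (Nat.card N) :=
    ((hT.coprime_H_UW hG).coprime_dvd_left (card_dvd_of_le hN)).symm
  have hUW : U ⊔ W₁ ≤ M := sup_le hUM hWM
  let P : Subgroup G → Subgroup (M ⧸ N.subgroupOf M) := fun A => (A.subgroupOf M).map f
  have hP : ∀ {A : Subgroup G}, A ≤ M → ∀ {y}, y ∈ P A ↔ ∃ a : M, (a : G) ∈ A ∧ f a = y := fun _ {y} =>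
    ⟨fun ⟨a, ha, e⟩ => ⟨a, ha, e⟩, fun ⟨a, ha, e⟩ => ⟨a, ha, e⟩⟩
  have hsup : P U ⊔ P W₁ = P (U ⊔ W₁) := by
    simp only [P]; rw [← Subgroup.map_sup, ← subgroupOf_sup hUM hWM]
  have hrel : ∀ {A : Subgroup G}, A ≤ M → Nat.card (P A) = N.relIndex A := fun {A} hA => by
    rw [← relIndex_bot_left, ← relIndex_comap, MonoidHom.comap_bot, hf, QuotientGroup.ker_mk',
      relIndex_subgroupOf hA]
  have hsmall : ∀ {A : Subgroup G}, A ≤ U ⊔ W₁ → Nat.card (P A) = Nat.card A := fun {A} hA => by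
    rw [hrel (hA.trans hUW), ← inf_relIndex_right, inf_eq_bot_of_coprime
      (hcN.coprime_dvd_left (card_dvd_of_le hA)).symm, relIndex_bot_left]
  have hcW : (Nat.card W₁).Coprime (Nat.card H) :=
    hT.coprime_left.coprime_dvd_right (card_dvd_of_le hT.H_le)
  have hcU : (Nat.card U).Coprime (Nat.card H) := hT.coprime_H_U.symm
  have hlift : ∀ {A : Subgroup G}, A ≤ M → (Nat.card A).Coprime (Nat.card H) → A ≤ normalizer (H : Set G) →
      P H ⊓ centralizer (P A : Set (M ⧸ N.subgroupOf M)) = P ((H ⊓ centralizer (A : Set G)) ⊔ N) := by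
    intro A hA hc hAH
    refine le_antisymm ?_ ?_
    · rintro y ⟨⟨h, hh, rfl⟩, hy⟩
      obtain ⟨c, hcm, hcN'⟩ := CfsgLib.CoprimeAct.exists_centralizing_mem_coset hAH hc hN
        (hA.trans hNM) (Or.inr (Kap.solvable_le hG hT.coatom (hN.trans hHM))) (k := (h : G)) hh fun a ha => by
          have he := mem_centralizer_iff.1 hy (f ⟨a, hA ha⟩) (mem_map_of_mem f ha)
          refine (hker (h⁻¹ * (⟨a, hA ha⟩ * h * ⟨a, hA ha⟩⁻¹))).1 ?_
          rw [map_mul, map_mul, map_mul, map_inv, map_inv, he]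
          group
      have hmem : (h : G) ∈ (H ⊓ centralizer (A : Set G)) ⊔ N := by
        rw [show (h : G) = c * ((h : G)⁻¹ * c)⁻¹ by group]
        exact mul_mem (mem_sup_left hcm) (mem_sup_right (N.inv_mem hcN'))
      exact mem_map_of_mem f hmem
    · simp only [P]
      rw [subgroupOf_sup (inf_le_left.trans hHM) (hN.trans hHM), Subgroup.map_sup]
      refine sup_le ?_ ?_
      · rintro y ⟨x, hx, rfl⟩
        refine ⟨mem_map_of_mem f hx.1, mem_centralizer_iff.2 ?_⟩
        rintro z ⟨a, ha, rfl⟩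
        rw [← map_mul, ← map_mul]
        exact congrArg f (Subtype.ext (mem_centralizer_iff.1 hx.2 (a : G) ha))
      · rw [(Subgroup.map_eq_bot_iff _).2 (by rw [hf, QuotientGroup.ker_mk'])]
        exact bot_le
  have hWH : W₁ ≤ normalizer (H : Set G) := hWM.trans (FittingHall.le_normalizer_of M)
  have hUH : U ≤ normalizer (H : Set G) := hUM.trans (FittingHall.le_normalizer_of M)
  have hfixE : P H ⊓ centralizer (P W₁ : Set (M ⧸ N.subgroupOf M)) ≤ P W₂ := by
    rw [hlift hWM hcW hWH]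
    simp only [P]
    rw [subgroupOf_sup (inf_le_left.trans hHM) (hN.trans hHM), Subgroup.map_sup,
      (Subgroup.map_eq_bot_iff _).2 (show N.subgroupOf M ≤ f.ker by rw [hf, QuotientGroup.ker_mk']), sup_bot_eq]
    refine map_mono fun x hx => ?_
    obtain ⟨a, ha, ha1⟩ := (Subgroup.bot_or_exists_ne_one W₁).resolve_left hT.typeP.W₁_ne
    exact hT.mem_right_of_fixed hG (hT.H_le hx.1) ha ha1 (mem_centralizer_iff.1 hx.2 a ha)
  have hW₂M : W₂ ≤ M := hT.right_le_derived.trans hT.derived_le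
  have hdvd : Nat.card ↥(P H ⊓ centralizer (P W₁ : Set (M ⧸ N.subgroupOf M))) ∣ Nat.card W₂ := by
    refine (card_dvd_of_le hfixE).trans ?_
    rw [hrel hW₂M]
    exact relIndex_dvd_card _ _
  have h := frobenius_fixed_prime hp (P U) (P W₁) (P H)
    (fun e => hT.U_ne hG (eq_bot_of_card_eq _ (by rw [← hsmall le_sup_left, e, card_bot])))
    (fun e => hT.typeP.W₁_ne (eq_bot_of_card_eq _ (by rw [← hsmall le_sup_right, e, card_bot])))
    (inf_eq_bot_of_coprime (by
      rw [hsmall le_sup_left, hsmall le_sup_right]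
      exact (hT.coprime_left.coprime_dvd_right (card_dvd_of_le hT.U_le)).symm))
    (by
      rintro _ ⟨a, ha, rfl⟩ _ ⟨b, hb, rfl⟩
      rw [← map_inv, ← map_mul, ← map_mul]
      exact mem_map_of_mem f ((mem_normalizer_iff.1 (hT.typeP.U_normal ha) _).1 hb))
    (by
      rintro _ ⟨a, ha, rfl⟩ ha1 _ ⟨b, hb, rfl⟩ he
      have hm : (a : G) * b * (a : G)⁻¹ * (b : G)⁻¹ ∈ U :=
        U.mul_mem ((mem_normalizer_iff.1 (hT.typeP.U_normal ha) _).1 hb) (U.inv_mem hb)
      have h1 : (a : G) * b * (a : G)⁻¹ * (b : G)⁻¹ = 1 :=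
        hinv hUM (hcN.coprime_dvd_left (card_dvd_of_le le_sup_left)) ⟨_, hm⟩ (a * b * a⁻¹ * b⁻¹).2 (by
          show f (a * b * a⁻¹ * b⁻¹) = 1
          rw [map_mul, map_mul, map_mul, map_inv, map_inv, he]
          group)
      have hcomm : (a : G) * b = b * a := by
        rw [mul_inv_eq_one, mul_inv_eq_iff_eq_mul] at h1
        exact h1
      have hne : (a : G) ≠ 1 := fun e => ha1 (by rw [show a = 1 from Subtype.ext e, map_one])
      have hb1 := hT.U_fixed hG hb ha hne hcomm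
      rw [show b = 1 from Subtype.ext hb1, map_one])
    (by
      rw [hsup]
      rintro _ ⟨x, hx, rfl⟩ _ ⟨y, hy, rfl⟩
      rw [← map_inv, ← map_mul, ← map_mul]
      exact mem_map_of_mem f
        ((mem_normalizer_iff.1 ((hUW.trans (FittingHall.le_normalizer_of M)) hx) _).1 hy))
    (inf_eq_bot_of_coprime (by
      rw [hsup, hsmall le_rfl, hrel hHM]
      exact (hT.coprime_H_UW hG).coprime_dvd_left (relIndex_dvd_card _ _)))
    inferInstance
    (by
      rw [hsup, hsmall le_rfl, hrel hHM]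
      exact (hT.coprime_H_UW hG).coprime_dvd_left (relIndex_dvd_card _ _))
    hdvd (fun hle => hnc (commutator_le.2 fun h hh u hu => by
      have he := mem_centralizer_iff.1 (hle (mem_map_of_mem f (show (⟨h, hHM hh⟩ : M) ∈ H.subgroupOf M from hh)))
        (f ⟨u, hUM hu⟩) (mem_map_of_mem f hu)
      refine (hker ⁅(⟨h, hHM hh⟩ : M), ⟨u, hUM hu⟩⁆).1 ?_
      rw [map_commutatorElement, commutatorElement_eq_one_iff_mul_comm]
      exact he.symm))
  obtain ⟨h1, h2⟩ := h
  refine ⟨?_, fun hW => ?_⟩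
  · rw [hrel hHM, hsmall le_sup_right, hlift hUM hcU hUH,
      hrel (sup_le (inf_le_left.trans hHM) (hN.trans hHM))] at h1
    exact h1
  · have hd := card_dvd_of_le hfixE
    rw [h2, hrel hW₂M, (relIndex_eq_one.2 hW), Nat.dvd_one] at hd
    exact hp.ne_one hd

end Three

end CfsgLib.OddEnd
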