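import Cfsg.Agent.OddEnd.ElevenLocal
import Mathlib.Algebra.BigOperators.Group.Finset.Basic

/-!
Peterfalvi 11.6: `H/H'` is an irreducible section of order `p ^ q` and `H'` is central, once `M'' = F(M)`.
-/

set_option autoImplicit false
set_option linter.unusedSectionVars false
set_option linter.style.haveILetI false

namespace CfsgLib.OddEnd

open Subgroup CfsgLib.OddLocal
open scoped commutatorElement

universe u

/-- A coprime action on an abelian group generated by commutators has no fixed points. -/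
theorem inf_centralizer_eq_bot_of_commutator_eq {X : Type u} [Group X] [Finite X] {U V : Subgroup X}
    (hV : ∀ a ∈ V, ∀ b ∈ V, a * b = b * a) (hUV : U ≤ normalizer (V : Set X))
    (hcop : (Nat.card U).Coprime (Nat.card V)) (h : ⁅V, U⁆ = V) :
    V ⊓ centralizer (U : Set X) = ⊥ := by
  classical
  letI : CommGroup V := { (inferInstance : Group V) with
    mul_comm := fun a b => Subtype.ext (hV a a.2 b b.2) }
  haveI : Fintype U := Fintype.ofFinite U
  let cj : U → V → V := fun u v => ⟨(u : X) * v * (u : X)⁻¹, (mem_normalizer_iff.1 (hUV u.2) v).1 v.2⟩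
  let θ : V →* V :=
    { toFun := fun v => ∏ u : U, cj u v
      map_one' := Finset.prod_eq_one fun u _ => Subtype.ext (by show (u : X) * (1 : X) * (u : X)⁻¹ = 1; group)
      map_mul' := fun a b => by
        rw [← Finset.prod_mul_distrib]
        exact Finset.prod_congr rfl fun u _ => Subtype.ext (by
          show (u : X) * ((a : X) * b) * (u : X)⁻¹ = ((u : X) * a * (u : X)⁻¹) * ((u : X) * b * (u : X)⁻¹)
          group) }
  have hinv : ∀ (w : U) (v : V), θ (cj w v) = θ v := fun w v => by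
    show ∏ u : U, cj u (cj w v) = ∏ u : U, cj u v
    refine Fintype.prod_equiv (Equiv.mulRight w) _ _ fun u => Subtype.ext ?_
    show (u : X) * ((w : X) * v * (w : X)⁻¹) * (u : X)⁻¹ = ((u : X) * w) * v * ((u : X) * w)⁻¹
    group
  have hker : V ≤ θ.ker.map V.subtype := by
    conv_lhs => rw [← h]
    refine commutator_le.2 fun a ha u hu => ?_
    refine ⟨(⟨a, ha⟩ : V) * cj ⟨u, hu⟩ (⟨a, ha⟩ : V)⁻¹, ?_, ?_⟩
    · show _ ∈ θ.ker
      rw [MonoidHom.mem_ker, map_mul, hinv, map_inv, mul_inv_cancel]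
    · show a * (u * a⁻¹ * u⁻¹) = ⁅a, u⁆
      simp [commutatorElement_def, mul_assoc]
  refine eq_bot_iff.2 fun c hc => ?_
  obtain ⟨hcV, hcC⟩ := mem_inf.1 hc
  obtain ⟨d, hd, he⟩ := hker hcV
  have hd1 : θ (⟨c, hcV⟩ : V) = 1 := by
    rw [show (⟨c, hcV⟩ : V) = d from Subtype.ext he.symm]; exact hd
  have hpow : (⟨c, hcV⟩ : V) ^ Nat.card U = 1 := by
    rw [← hd1]
    show _ = ∏ u : U, cj u ⟨c, hcV⟩
    rw [Nat.card_eq_fintype_card, Finset.prod_congr rfl fun u _ => show cj u ⟨c, hcV⟩ = ⟨c, hcV⟩ from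
      Subtype.ext (by
        show (u : X) * c * (u : X)⁻¹ = c
        rw [mem_centralizer_iff.1 hcC u u.2, mul_inv_cancel_right]), Finset.prod_const, Finset.card_univ]
  have hc' := orderOf_eq_one_iff.1 (Nat.eq_one_of_dvd_coprimes hcop (orderOf_dvd_of_pow_eq_one hpow)
    (orderOf_dvd_natCard _))
  exact mem_bot.2 (congrArg Subtype.val hc')

variable {G : Type u} [Group G] [Finite G]

namespace Three

variable {M W₁ U W₂ : Subgroup G} (hT : Three M W₁ U W₂) (hG : Cfsg.IsMinSimpleOddOrder G)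
include hT hG

theorem section_nontrivial (hd : ⁅⁅M, M⁆, ⁅M, M⁆⁆ = Cfsg.fittingOf M) {N : Subgroup G}
    (hN : N ≤ Cfsg.fittingHallOf M) (hne : N ≠ Cfsg.fittingHallOf M) : ¬ ⁅Cfsg.fittingHallOf M, U⁆ ≤ N :=
  fun h => hne (le_antisymm hN ((hT.commutator_sup_derived hG hd).ge.trans h))

theorem cent_le_derived (hd : ⁅⁅M, M⁆, ⁅M, M⁆⁆ = Cfsg.fittingOf M) :
    Cfsg.fittingHallOf M ⊓ centralizer (U : Set G) ≤
      ⁅Cfsg.fittingHallOf M, Cfsg.fittingHallOf M⁆ := by
  set H := Cfsg.fittingHallOf M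
  set L := H ⊔ U
  haveI : (⁅H, H⁆.subgroupOf L).Normal :=
    (normal_subgroupOf_iff_le_normalizer ((hT.H_der_le hG).trans le_sup_left)).2
      ((sup_le (FittingHall.of_le M) (hT.U_le_M hG)).trans (hT.H_der_normal hG))
  set f := QuotientGroup.mk' (⁅H, H⁆.subgroupOf L)
  set V := (H.subgroupOf L).map f
  set U' := (U.subgroupOf L).map f
  have hcop : (Nat.card U').Coprime (Nat.card V) := by
    refine (Nat.Coprime.coprime_dvd_left ?_ hT.coprime_H_U.symm).coprime_dvd_right ?_
    · exact (card_map_dvd _ _).trans (Nat.card_congr (subgroupOfEquivOfLe le_sup_right).toEquiv).dvd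
    · exact (card_map_dvd _ _).trans (Nat.card_congr (subgroupOfEquivOfLe le_sup_left).toEquiv).dvd
  have hUV : U' ≤ normalizer (V : Set _) := by
    rintro _ ⟨w, hw, rfl⟩
    haveI : (H.subgroupOf L).Normal :=
      (normal_subgroupOf_iff_le_normalizer le_sup_left).2 (sup_le le_normalizer (hT.UH hG))
    have hn : V.Normal := Subgroup.Normal.map inferInstance f (QuotientGroup.mk'_surjective _)
    exact (Subgroup.normalizer_eq_top_iff.2 hn).symm ▸ mem_top _
  have hcomm : ⁅V, U'⁆ = V := by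
    rw [← map_commutator]
    refine congrArg (Subgroup.map f) (map_injective L.subtype_injective ?_)
    rw [map_commutator, map_subgroupOf_eq_of_le le_sup_left, map_subgroupOf_eq_of_le le_sup_right]
    exact hT.commutator_sup_derived hG hd
  have h := inf_centralizer_eq_bot_of_commutator_eq (U := U') (V := V) (by
      rintro _ ⟨a, ha, rfl⟩ _ ⟨b, hb, rfl⟩
      rw [← commutatorElement_eq_one_iff_mul_comm, ← map_commutatorElement]
      exact (QuotientGroup.eq_one_iff _).2 (commutator_mem_commutator ha hb)) hUV hcop hcomm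
  intro c hc
  obtain ⟨hcH, hcU⟩ := mem_inf.1 hc
  have : f ⟨c, mem_sup_left hcH⟩ ∈ V ⊓ centralizer (U' : Set _) := mem_inf.2
    ⟨mem_map_of_mem f hcH, mem_centralizer_iff.2 fun z hz => by
      obtain ⟨a, ha, rfl⟩ := hz
      rw [← map_mul, ← map_mul]
      exact congrArg f (Subtype.ext (mem_centralizer_iff.1 hcU (a : G) ha))⟩
  rw [h, mem_bot] at this
  exact Subgroup.mem_subgroupOf.1 ((QuotientGroup.eq_one_iff (⟨c, mem_sup_left hcH⟩ : L)).1 this)

theorem index_derived (hd : ⁅⁅M, M⁆, ⁅M, M⁆⁆ = Cfsg.fittingOf M) :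
    (⁅Cfsg.fittingHallOf M, Cfsg.fittingHallOf M⁆ : Subgroup G).relIndex (Cfsg.fittingHallOf M) =
      Nat.card W₂ ^ Nat.card W₁ := by
  rw [(hT.section_card hG (hT.H_der_le hG) (hT.H_der_normal hG) (hT.not_commutator_le_derived hG)).1,
    sup_eq_right.2 (hT.cent_le_derived hG hd), relIndex_self, mul_one]

theorem section_minimal (hd : ⁅⁅M, M⁆, ⁅M, M⁆⁆ = Cfsg.fittingOf M) {N : Subgroup G}
    (h0 : ⁅Cfsg.fittingHallOf M, Cfsg.fittingHallOf M⁆ ≤ N) (hN : N ≤ Cfsg.fittingHallOf M)
    (hNM : M ≤ normalizer (N : Set G)) :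
    N = ⁅Cfsg.fittingHallOf M, Cfsg.fittingHallOf M⁆ ∨ N = Cfsg.fittingHallOf M := by
  refine or_iff_not_imp_right.2 fun hne => le_antisymm ?_ h0
  have h1 := (hT.section_card hG hN hNM (hT.section_nontrivial hG hd hN hne)).1
  rw [sup_eq_right.2 ((hT.cent_le_derived hG hd).trans h0), relIndex_self, mul_one,
    ← hT.index_derived hG hd, ← relIndex_mul_relIndex _ N _ h0 hN] at h1
  refine relIndex_eq_one.1 (Nat.eq_of_mul_eq_mul_right
    (Nat.pos_of_dvd_of_pos (relIndex_dvd_card N (Cfsg.fittingHallOf M)) Nat.card_pos) ?_)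
  rw [one_mul]
  exact h1.symm

theorem isPGroup_H (hd : ⁅⁅M, M⁆, ⁅M, M⁆⁆ = Cfsg.fittingOf M) :
    IsPGroup (Nat.card W₂) (Cfsg.fittingHallOf M) := by
  set H := Cfsg.fittingHallOf M
  set p := Nat.card W₂
  haveI := Fact.mk (hT.prime_right hG)
  obtain ⟨P⟩ : Nonempty (Sylow p H) := inferInstance
  set Q := (P : Subgroup H).map H.subtype
  have hQH : Q ≤ H := map_subtype_le _
  have hPn : (P : Subgroup H).Normal := by
    haveI := FittingHall.nilpotent_of M
    exact P.normal_of_normalizerCondition (Group.normalizerCondition_of_isNilpotent)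
  suffices hQ : Q = H by
    have := P.2.map H.subtype
    exact hQ ▸ this
  refine eq_of_sup_commutator (FittingHall.nilpotent_of M) hQH (relIndex_eq_one.1 ?_)
  have hsupH : Q ⊔ ⁅H, H⁆ ≤ H := sup_le hQH (hT.H_der_le hG)
  have h1 : (Q ⊔ ⁅H, H⁆).relIndex H ∣ Nat.card W₂ ^ Nat.card W₁ :=
    hT.index_derived hG hd ▸ ⟨_, (relIndex_mul_relIndex _ _ _ le_sup_right hsupH).symm.trans (mul_comm _ _)⟩
  have h2 : (Q ⊔ ⁅H, H⁆).relIndex H ∣ (P : Subgroup H).index := by
    refine ⟨Q.relIndex (Q ⊔ ⁅H, H⁆), ?_⟩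
    rw [mul_comm, relIndex_mul_relIndex _ _ _ le_sup_left hsupH, relIndex,
      show Q.subgroupOf H = P from comap_map_eq_self_of_injective H.subtype_injective _]
  exact Nat.eq_one_of_dvd_coprimes
    (((hT.prime_right hG).coprime_iff_not_dvd.2 P.not_dvd_index).pow_left _) h1 h2

theorem pow_mem_derived (hd : ⁅⁅M, M⁆, ⁅M, M⁆⁆ = Cfsg.fittingOf M) {x : G}
    (hx : x ∈ Cfsg.fittingHallOf M) :
    x ^ Nat.card W₂ ∈ ⁅Cfsg.fittingHallOf M, Cfsg.fittingHallOf M⁆ := by
  set H := Cfsg.fittingHallOf M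
  set p := Nat.card W₂
  haveI := Fact.mk (hT.prime_right hG)
  set D := ⁅H, H⁆
  set S : Set G := {y | ∃ a ∈ H, a ^ p = y}
  set N := closure S ⊔ D
  have hSH : closure S ≤ H := (closure_le H).2 fun y ⟨a, ha, e⟩ => e ▸ H.pow_mem ha p
  have hN : N ≤ H := sup_le hSH (hT.H_der_le hG)
  have hNM : M ≤ normalizer (N : Set G) := fun g hg => by
    have hH := FittingHall.le_normalizer_of M hg
    refine mem_normalizer_iff_map_conj_eq.2 ?_
    show (closure S ⊔ D).map (MulAut.conj g).toMonoidHom = closure S ⊔ D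
    rw [Subgroup.map_sup, MonoidHom.map_closure,
      show D.map (MulAut.conj g).toMonoidHom = D from mem_normalizer_iff_map_conj_eq.1 (hT.H_der_normal hG hg)]
    congr 2
    ext y
    constructor
    · rintro ⟨_, ⟨a, ha, rfl⟩, rfl⟩
      exact ⟨g * a * g⁻¹, (mem_normalizer_iff.1 hH a).1 ha, (map_pow (MulAut.conj g).toMonoidHom a p).symm⟩
    · rintro ⟨a, ha, rfl⟩
      refine ⟨(g⁻¹ * a * g) ^ p, ⟨g⁻¹ * a * g, ?_, rfl⟩, ?_⟩
      · have := (mem_normalizer_iff.1 (inv_mem hH) a).1 ha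
        rwa [inv_inv] at this
      · rw [map_pow]; congr 1; show g * (g⁻¹ * a * g) * g⁻¹ = a; group
  have hne : N ≠ H := by
    intro e
    have hc : closure S = H := eq_of_sup_commutator (FittingHall.nilpotent_of M) hSH e.ge
    -- a homomorphism onto a group of exponent `p` would kill `H`
    haveI : (D.subgroupOf H).Normal :=
      (normal_subgroupOf_iff_le_normalizer (hT.H_der_le hG)).2
        ((FittingHall.of_le M).trans (hT.H_der_normal hG))
    set f := QuotientGroup.mk' (D.subgroupOf H)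
    have hsurj : ∀ y : H ⧸ D.subgroupOf H, ∃ z, z ^ p = y := by
      intro y
      obtain ⟨⟨a, ha⟩, rfl⟩ := QuotientGroup.mk_surjective y
      letI : CommGroup (H ⧸ D.subgroupOf H) := { (inferInstance : Group (H ⧸ D.subgroupOf H)) with
        mul_comm := fun y z => by
          obtain ⟨⟨b, hb⟩, rfl⟩ := QuotientGroup.mk_surjective y
          obtain ⟨⟨c, hc'⟩, rfl⟩ := QuotientGroup.mk_surjective z
          have : f ⁅(⟨b, hb⟩ : H), ⟨c, hc'⟩⁆ = 1 :=
            (QuotientGroup.eq_one_iff _).2 (commutator_mem_commutator hb hc')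
          rw [map_commutatorElement, commutatorElement_eq_one_iff_mul_comm] at this
          exact this }
      have hle : ∀ b ∈ closure S, ∀ hb : b ∈ H, f ⟨b, hb⟩ ∈ (powMonoidHom p : H ⧸ D.subgroupOf H →* _).range := by
        intro b hbS
        induction hbS using Subgroup.closure_induction with
        | mem z hz => intro hb; obtain ⟨c, hc', rfl⟩ := hz; exact ⟨f ⟨c, hc'⟩, (map_pow f ⟨c, hc'⟩ p).symm⟩
        | one => intro hb; exact ⟨1, by rw [map_one]; exact (_root_.map_one f).symm⟩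
        | mul y z hy hz iy iz =>
          intro hb
          have := mul_mem (iy (hSH hy)) (iz (hSH hz))
          rwa [← map_mul] at this
        | inv y hy iy =>
          intro hb
          have := inv_mem (iy (hSH hy))
          rwa [← map_inv] at this
      exact hle a (hc.ge ha) ha
    have hq : IsPGroup p (H ⧸ D.subgroupOf H) := (hT.isPGroup_H hG hd).to_quotient _
    have hsub : Subsingleton (H ⧸ D.subgroupOf H) := by
      refine ⟨fun a b => ?_⟩
      have hinj : Function.Injective fun z : H ⧸ D.subgroupOf H => z ^ p := Finite.injective_iff_surjective.2 hsurj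
      have h1 : ∀ z : H ⧸ D.subgroupOf H, z = 1 := fun z => by
        obtain ⟨k, hk⟩ := hq z
        induction k with
        | zero => simpa using hk
        | succ k ih =>
          refine ih (hinj ?_)
          show (z ^ p ^ k) ^ p = 1 ^ p
          rw [one_pow, ← pow_mul, ← pow_succ, hk]
      rw [h1 a, h1 b]
    have := (hT.index_derived hG hd).symm.trans (show D.relIndex H = 1 from Nat.card_unique (α := H ⧸ D.subgroupOf H))
    exact absurd this (Nat.one_lt_pow (hT.prime_left hG).pos.ne' (hT.prime_right hG).one_lt).ne'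
  exact ((hT.section_minimal hG hd le_sup_right hN hNM).resolve_right hne).le
    (mem_sup_left (subset_closure ⟨x, hx, rfl⟩))

theorem derived_central (hd : ⁅⁅M, M⁆, ⁅M, M⁆⁆ = Cfsg.fittingOf M) :
    ⁅Cfsg.fittingHallOf M, Cfsg.fittingHallOf M⁆ ≤ centralizer (Cfsg.fittingHallOf M : Set G) := by
  set H := Cfsg.fittingHallOf M
  have hDU := hT.derived_le_centralizer hG
  intro c hc
  suffices h : H ≤ centralizer ({c} : Set G) from mem_centralizer_iff.2 fun x hx =>
    mem_centralizer_singleton_iff.1 (h hx)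
  refine le_trans (hT.commutator_sup_derived hG hd).ge ?_
  refine commutator_le.2 fun a ha u hu => mem_centralizer_singleton_iff.2 ?_
  -- `[c, a]` lies in `H'`, so `u` fixes it
  have hc' : ∀ {z}, z ∈ ⁅H, H⁆ → u * z * u⁻¹ = z := fun {z} hz => by
    rw [mem_centralizer_iff.1 (hDU hz) u hu, mul_inv_cancel_right]
  set b := u * a⁻¹ * u⁻¹
  have h1 : u * ⁅c, a⁻¹⁆ * u⁻¹ = ⁅c, a⁻¹⁆ :=
    hc' (commutator_mem_commutator (hT.H_der_le hG hc) (inv_mem ha))
  have h2 : u * ⁅c, a⁻¹⁆ * u⁻¹ = ⁅c, b⁆ := by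
    rw [show u * ⁅c, a⁻¹⁆ * u⁻¹ = ⁅u * c * u⁻¹, b⁆ by simp [b, commutatorElement_def]; group, hc' hc]
  rw [h2] at h1
  simp only [commutatorElement_def, inv_inv] at h1
  have h3 : b * c⁻¹ * b⁻¹ = a⁻¹ * c⁻¹ * a := mul_left_cancel (a := c) (by simpa [mul_assoc] using h1)
  have h4 : (a * b) * c⁻¹ = c⁻¹ * (a * b) := by
    calc (a * b) * c⁻¹ = a * (b * c⁻¹ * b⁻¹) * b := by group
      _ = a * (a⁻¹ * c⁻¹ * a) * b := by rw [h3]
      _ = c⁻¹ * (a * b) := by group
  rw [show ⁅a, u⁆ = a * b by simp [b, commutatorElement_def, mul_assoc]]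
  exact (Commute.inv_right_iff.1 h4).eq

end Three

end CfsgLib.OddEnd
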