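import Cfsg.Agent.Char.Linear
import Cfsg.Agent.Char.Orthogonality
import Cfsg.Agent.Char.Signed

/-!
Averages over the cosets of the derived subgroup, and a Bessel lemma for conjugate pairs of irreducible characters.
-/

set_option autoImplicit false

namespace CfsgLib.OddEnd

open scoped ComplexConjugate
open CfsgLib.Char

universe u

section Fourier

variable {K : Type u} [Group K] [Fintype K]

theorem finite_linear : Finite (K →* ℂˣ) := Nat.finite_of_card_ne_zero (by
  rw [card_hom_eq_index_commutator]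
  exact Subgroup.index_ne_zero_of_finite)

/-- The linear characters detect the cosets of the derived subgroup. -/
theorem sum_linear [Fintype (K →* ℂˣ)] (y : K) [Decidable (y ∈ commutator K)] :
    ∑ l : K →* ℂˣ, (l y : ℂ) = if y ∈ commutator K then ((commutator K).index : ℂ) else 0 := by
  split_ifs with hy
  · have h1 : ∀ l : K →* ℂˣ, l y = 1 := fun l => Abelianization.commutator_subset_ker l hy
    rw [Finset.sum_congr rfl fun l _ => by rw [h1 l, Units.val_one], Finset.sum_const, Finset.card_univ,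
      ← Nat.card_eq_fintype_card, card_hom_eq_index_commutator, nsmul_eq_mul, mul_one]
  · obtain ⟨l₀, hl₀⟩ := exists_hom_ne_one hy
    have hne : (l₀ y : ℂ) ≠ 1 := fun h => hl₀ (Units.ext h)
    have h := Equiv.sum_comp (Equiv.mulLeft l₀) fun l : K →* ℂˣ => (l y : ℂ)
    simp only [Equiv.coe_mulLeft, MonoidHom.mul_apply, Units.val_mul] at h
    rw [← Finset.mul_sum] at h
    by_contra h0
    exact hne (mul_right_cancel₀ h0 (by rw [one_mul]; exact h))

/-- A function orthogonal to `1 - λ` up to a common constant has constant averages on the cosets of `K'` other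
than `K'`. -/
theorem coset_sum_of_common {g : K → ℂ} {N : ℂ}
    (hN : ∀ l : K →* ℂˣ, l ≠ 1 → ∑ z, (1 - (l z : ℂ)) * g z = N * (Nat.card K : ℂ))
    {w : K} (hw : w ∉ commutator K) [DecidablePred fun z => w⁻¹ * z ∈ commutator K] :
    ∑ z ∈ Finset.univ.filter (fun z => w⁻¹ * z ∈ commutator K), g z =
      N * (Nat.card (commutator K) : ℂ) := by
  classical
  haveI := finite_linear (K := K)
  haveI := Fintype.ofFinite (K →* ℂˣ)
  set n : ℂ := ((commutator K).index : ℂ)
  have hinv : w⁻¹ ∉ commutator K := fun h => hw (inv_inv w ▸ Subgroup.inv_mem _ h)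
  have hterm : ∀ l : K →* ℂˣ, (l w⁻¹ : ℂ) * ∑ z, (1 - (l z : ℂ)) * g z =
      if l = 1 then 0 else (l w⁻¹ : ℂ) * (N * (Nat.card K : ℂ)) := fun l => by
    split_ifs with h
    · subst h
      simp
    · rw [hN l h]
  have hA : ∑ l : K →* ℂˣ, (l w⁻¹ : ℂ) * ∑ z, (1 - (l z : ℂ)) * g z =
      - (N * (Nat.card K : ℂ)) := by
    rw [Finset.sum_congr rfl fun l _ => hterm l]
    have hs : ∀ l : K →* ℂˣ, (if l = 1 then (0 : ℂ) else (l w⁻¹ : ℂ) * (N * (Nat.card K : ℂ))) =
        (l w⁻¹ : ℂ) * (N * (Nat.card K : ℂ)) - if l = 1 then (N * (Nat.card K : ℂ)) else 0 := fun l => by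
      split_ifs with h
      · subst h; simp
      · simp
    rw [Finset.sum_congr rfl fun l _ => hs l, Finset.sum_sub_distrib, ← Finset.sum_mul, sum_linear, if_neg hinv,
      zero_mul, Finset.sum_ite_eq' Finset.univ 1, if_pos (Finset.mem_univ _), zero_sub]
  have hB : ∑ l : K →* ℂˣ, (l w⁻¹ : ℂ) * ∑ z, (1 - (l z : ℂ)) * g z =
      - (n * ∑ z ∈ Finset.univ.filter (fun z => w⁻¹ * z ∈ commutator K), g z) := by
    calc _ = ∑ l : K →* ℂˣ, ∑ z, ((l w⁻¹ : ℂ) - (l (w⁻¹ * z) : ℂ)) * g z :=
          Finset.sum_congr rfl fun l _ => by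
            rw [Finset.mul_sum]
            refine Finset.sum_congr rfl fun z _ => ?_
            rw [map_mul, Units.val_mul]
            ring
      _ = ∑ z, (0 - if w⁻¹ * z ∈ commutator K then n else 0) * g z := by
          rw [Finset.sum_comm]
          refine Finset.sum_congr rfl fun z _ => ?_
          rw [← Finset.sum_mul, Finset.sum_sub_distrib, sum_linear, sum_linear, if_neg hinv]
      _ = _ := by
          rw [Finset.sum_filter, Finset.mul_sum, ← Finset.sum_neg_distrib]
          refine Finset.sum_congr rfl fun z _ => ?_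
          split_ifs <;> ring
  have hn : n ≠ 0 := Nat.cast_ne_zero.2 Subgroup.index_ne_zero_of_finite
  refine mul_left_cancel₀ hn ?_
  rw [← neg_inj, ← hB, hA, ← (commutator K).card_mul_index, Nat.cast_mul]
  ring

end Fourier

section Pairs

variable {G : Type u} [Group G] [Fintype G]

/-- A virtual character meeting `m` conjugate pairs with difference `±1` and of norm `m` meets no other irreducible
character. -/
theorem orth_of_pairs {ι : Type*} (s : Finset ι) (μ : ι → G → ℂ)
    (hμ : ∀ i ∈ s, Cfsg.IsIrrCharacter G (μ i))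
    (hdis : ∀ i ∈ s, ∀ j ∈ s, i ≠ j → μ i ≠ μ j ∧ μ i ≠ Cfsg.conjFun (μ j))
    (hne : ∀ i ∈ s, μ i ≠ Cfsg.conjFun (μ i))
    {f : G → ℂ} (hf : Cfsg.IsGeneralizedCharacter G f)
    (hcoef : ∀ i ∈ s, Cfsg.classInner f (μ i - Cfsg.conjFun (μ i)) = 1 ∨
      Cfsg.classInner f (μ i - Cfsg.conjFun (μ i)) = -1)
    (hnorm : Cfsg.classInner f f = (s.card : ℂ)) {ν : G → ℂ} (hν : Cfsg.IsIrrCharacter G ν)
    (hν' : ∀ i ∈ s, ν ≠ μ i ∧ ν ≠ Cfsg.conjFun (μ i)) : Cfsg.classInner f ν = 0 := by
  classical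
  have hint : ∀ χ, Cfsg.IsIrrCharacter G χ → ∃ n : ℤ, Cfsg.classInner f χ = n := fun χ hχ =>
    IsGeneralized.exists_classInner_eq_int hf (IsIrrCharacter.isGeneralized hχ)
  choose! c hc using hint
  have hconj : ∀ i ∈ s, Cfsg.IsIrrCharacter G (Cfsg.conjFun (μ i)) := fun i hi =>
    IsIrrCharacter.conj (hμ i hi)
  set P : ι → Finset (G → ℂ) := fun i => {μ i, Cfsg.conjFun (μ i)}
  have hP : ∀ i ∈ s, ∀ χ ∈ P i, Cfsg.IsIrrCharacter G χ := fun i hi χ hχ => by
    rcases Finset.mem_insert.1 hχ with h | h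
    · exact h ▸ hμ i hi
    · exact Finset.mem_singleton.1 h ▸ hconj i hi
  have hPdis : (s : Set ι).PairwiseDisjoint P := fun i hi j hj hij => by
    rw [Function.onFun, Finset.disjoint_left]
    intro χ h1 h2
    obtain ⟨a, b⟩ := hdis i hi j hj hij
    obtain ⟨-, b'⟩ := hdis j hj i hi (Ne.symm hij)
    simp only [P, Finset.mem_insert, Finset.mem_singleton] at h1 h2
    rcases h1 with h1 | h1 <;> rcases h2 with h2 | h2
    · exact a (h1.symm.trans h2)
    · exact b (h1.symm.trans h2)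
    · exact b' (h2.symm.trans h1)
    · refine a (funext fun g => (starRingEnd ℂ).injective ?_)
      exact congrFun (h1.symm.trans h2) g
  have hν0 : ν ∉ s.biUnion P := fun h => by
    obtain ⟨i, hi, h'⟩ := Finset.mem_biUnion.1 h
    rcases Finset.mem_insert.1 h' with e | e
    · exact (hν' i hi).1 e
    · exact (hν' i hi).2 (Finset.mem_singleton.1 e)
  have htot : ∑ χ ∈ irrFinset G, (c χ) ^ 2 = (s.card : ℤ) := by
    have h := classInner_eq_sum_irr (IsGeneralized.isClassFunction hf) f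
    rw [hnorm, Finset.sum_congr rfl (g := fun χ => (((c χ) ^ 2 : ℤ) : ℂ)) fun χ hχ => by
      rw [hc χ (mem_irrFinset.1 hχ), map_intCast, sq]; push_cast; ring] at h
    exact_mod_cast h.symm
  have hsub : insert ν (s.biUnion P) ⊆ irrFinset G := by
    refine Finset.insert_subset (mem_irrFinset.2 hν) fun χ hχ => ?_
    obtain ⟨i, hi, h'⟩ := Finset.mem_biUnion.1 hχ
    exact mem_irrFinset.2 (hP i hi χ h')
  have hle := Finset.sum_le_sum_of_subset_of_nonneg (f := fun χ => (c χ) ^ 2) hsub fun χ _ _ => sq_nonneg (c χ)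
  rw [Finset.sum_insert hν0, Finset.sum_biUnion hPdis, htot] at hle
  have hone : (s.card : ℤ) ≤ ∑ i ∈ s, ∑ χ ∈ P i, (c χ) ^ 2 := by
    have h : ∀ i ∈ s, (1 : ℤ) ≤ ∑ χ ∈ P i, (c χ) ^ 2 := fun i hi => by
      rw [Finset.sum_pair (hne i hi)]
      have hd := hcoef i hi
      rw [classInner_sub_right, hc _ (hμ i hi), hc _ (hconj i hi)] at hd
      have hd' : c (μ i) - c (Cfsg.conjFun (μ i)) = 1 ∨ c (μ i) - c (Cfsg.conjFun (μ i)) = -1 := by
        exact_mod_cast hd
      rcases hd' with e | e <;>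
        nlinarith [sq_nonneg (c (μ i) + c (Cfsg.conjFun (μ i))), sq_nonneg (c (μ i)),
          sq_nonneg (c (Cfsg.conjFun (μ i))), Int.le_self_sq (c (μ i)), Int.le_self_sq (-c (μ i))]
    simpa using Finset.sum_le_sum h
  have h0 : (c ν) ^ 2 = 0 := le_antisymm (by linarith) (sq_nonneg _)
  rw [hc ν hν, pow_eq_zero_iff two_ne_zero |>.1 h0, Int.cast_zero]

end Pairs

end CfsgLib.OddEnd
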