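import Cfsg.Agent.OddEnd.TenFamily
import Cfsg.Agent.Char.BrauerPerm
import Cfsg.Agent.Char.Signed

/-!
Peterfalvi section 14: parity of inner products of real generalized characters, the families attached to a
maximal subgroup, and the arrays of their bridges on the grid.
-/

set_option autoImplicit false

namespace CfsgLib.OddEnd

open CfsgLib.Char
open scoped ComplexConjugate

universe u

variable {G : Type u} [Group G] [Fintype G]

/-- Functions with disjoint supports are orthogonal. -/
theorem classInner_eq_zero_of_supports {φ ψ : G → ℂ} {X Y : Set G} (hXY : Disjoint X Y)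
    (hφ : ∀ g, g ∉ X → φ g = 0) (hψ : ∀ g, g ∉ Y → ψ g = 0) : Cfsg.classInner φ ψ = 0 := by
  rw [classInner_def, Finset.sum_eq_zero, mul_zero]
  intro g _
  by_cases hg : g ∈ X
  · rw [hψ g (Set.disjoint_left.1 hXY hg), map_zero, mul_zero]
  · rw [hφ g hg, zero_mul]

/-- In a group of odd order real generalized characters have inner product congruent modulo two to the
product of their coefficients at the principal character. -/
theorem odd_classInner_real (hodd : Odd (Nat.card G)) {φ ψ : G → ℂ}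
    (hφ : Cfsg.IsGeneralizedCharacter G φ) (hψ : Cfsg.IsGeneralizedCharacter G ψ)
    (hφr : Cfsg.conjFun φ = φ) (hψr : Cfsg.conjFun ψ = ψ)
    (hφ1 : Cfsg.classInner φ (fun _ => 1) = 1) (hψ1 : Cfsg.classInner ψ (fun _ => 1) = 1)
    {k : ℤ} (hk : Cfsg.classInner φ ψ = (k : ℂ)) : Odd k := by
  classical
  choose! a ha using fun χ (h : χ ∈ irrFinset G) => IsGeneralized.exists_classInner_eq_int hφ
    (IsIrrCharacter.isGeneralized (mem_irrFinset.1 h))
  choose! b hb using fun χ (h : χ ∈ irrFinset G) => IsGeneralized.exists_classInner_eq_int hψ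
    (IsIrrCharacter.isGeneralized (mem_irrFinset.1 h))
  have hsum : k = ∑ χ ∈ irrFinset G, a χ * b χ := by
    have h := classInner_eq_sum_irr (IsGeneralized.isClassFunction hφ) ψ
    rw [hk] at h
    have h' : (k : ℂ) = ((∑ χ ∈ irrFinset G, a χ * b χ : ℤ) : ℂ) := by
      rw [h]
      push_cast
      exact Finset.sum_congr rfl fun χ hχ => by rw [ha χ hχ, hb χ hχ, map_intCast]
    exact_mod_cast h'
  have hconj : ∀ {θ : G → ℂ} {c : (G → ℂ) → ℤ}, Cfsg.conjFun θ = θ →
      (∀ χ ∈ irrFinset G, Cfsg.classInner θ χ = (c χ : ℂ)) →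
      ∀ χ ∈ irrFinset G, c (Cfsg.conjFun χ) = c χ := by
    intro θ c hθ hc χ hχ
    have h1 := classInner_conjFun_conjFun θ χ
    rw [hθ, hc (Cfsg.conjFun χ) (mem_irrFinset.2 (IsIrrCharacter.conj (mem_irrFinset.1 hχ))), ← classInner_conj,
      hc χ hχ, map_intCast] at h1
    exact_mod_cast h1
  have h1mem : (fun _ : G => (1 : ℂ)) ∈ irrFinset G := mem_irrFinset.2 isIrrCharacter_one
  have ha1 : a (fun _ : G => (1 : ℂ)) = 1 := by
    have := ha _ h1mem
    rw [hφ1] at this
    exact_mod_cast this.symm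
  have hb1 : b (fun _ : G => (1 : ℂ)) = 1 := by
    have := hb _ h1mem
    rw [hψ1] at this
    exact_mod_cast this.symm
  have hpair : ∑ χ ∈ (irrFinset G).erase (fun _ => 1), ((a χ * b χ : ℤ) : ZMod 2) = 0 := by
    refine Finset.sum_involution (fun χ _ => Cfsg.conjFun χ) (fun χ hχ => ?_) (fun χ hχ _ => ?_)
      (fun χ hχ => ?_) fun χ _ => conjFun_conjFun χ
    · rw [hconj hφr ha χ (Finset.mem_of_mem_erase hχ), hconj hψr hb χ (Finset.mem_of_mem_erase hχ)]
      exact CharTwo.add_self_eq_zero _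
    · intro e
      refine Finset.ne_of_mem_erase hχ (eq_one_of_real_of_odd hodd
        (mem_irrFinset.1 (Finset.mem_of_mem_erase hχ)) fun g => ?_)
      have := congrFun e g
      exact Complex.conj_eq_iff_im.1 this
    · refine Finset.mem_erase.2 ⟨fun e => Finset.ne_of_mem_erase hχ ?_,
        mem_irrFinset.2 (IsIrrCharacter.conj (mem_irrFinset.1 (Finset.mem_of_mem_erase hχ)))⟩
      rw [← conjFun_conjFun χ, e]
      funext g
      simp [Cfsg.conjFun]
  have hk2 : (k : ZMod 2) = 1 := by
    rw [hsum, ← Finset.add_sum_erase _ _ h1mem, Int.cast_add, Int.cast_sum, hpair, ha1, hb1]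
    simp
  rcases Int.even_or_odd k with h | h
  · obtain ⟨j, rfl⟩ := h
    rw [Int.cast_add, CharTwo.add_self_eq_zero] at hk2
    exact absurd hk2 (by decide)
  · exact h

/-- The family `z` of images of the characters induced from the kernel of a maximal subgroup, with the
bridge `α = (Ind 1 - ζ)^τ`, where `X` is the support of the isometry. -/
structure Family (G : Type u) [Group G] [Fintype G] (ι : Type u) [Fintype ι] where
  /-- The index of the kernel. -/
  e : ℕ
  /-- The images. -/
  z : ι → G → ℂ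
  /-- The degrees relative to the index. -/
  r : ι → ℤ
  /-- Complex conjugation. -/
  bar : ι → ι
  /-- The distinguished member. -/
  i₀ : ι
  /-- The support. -/
  X : Set G
  /-- The bridge. -/
  α : G → ℂ
  signed : ∀ i, IsSignedIrr (z i)
  orth : ∀ i j, i ≠ j → Cfsg.classInner (z i) (z j) = 0
  r_i₀ : r i₀ = 1
  bar_ne : ∀ i, bar i ≠ i
  r_bar : ∀ i, r (bar i) = r i
  conj_z : ∀ i, Cfsg.conjFun (z i) = z (bar i)
  z_off : ∀ i g, g ∉ X → z i g = (r i : ℂ) * z i₀ g
  α_gen : Cfsg.IsGeneralizedCharacter G α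
  α_off : ∀ g, g ∉ X → α g = 0
  α_one : Cfsg.classInner α (fun _ => 1) = 1
  α_norm : Cfsg.classInner α α = (e : ℂ) + 1
  α_diff : ∀ i, i ≠ i₀ → Cfsg.classInner α (z i - (r i : ℂ) • z i₀) = (r i : ℂ)
  α_conj : Cfsg.conjFun α = α + z i₀ - z (bar i₀)

namespace Family

variable {ι : Type u} [Fintype ι] (F : Family G ι)

/-- The squared relative degrees summed: `(h - 1) / e` for a Frobenius kernel of order `h`. -/
def sq : ℤ := ∑ i, F.r i * F.r i

theorem z_gen (i : ι) : Cfsg.IsGeneralizedCharacter G (F.z i) := IsSignedIrr.isGeneralized (F.signed i)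

theorem z_self (i : ι) : Cfsg.classInner (F.z i) (F.z i) = 1 := IsSignedIrr.classInner_self (F.signed i)

theorem z_injective : Function.Injective F.z := fun i j e => by
  by_contra h
  have := F.orth i j h
  rw [e, F.z_self] at this
  exact one_ne_zero this

theorem z_one (i : ι) : Cfsg.classInner (F.z i) (fun _ => 1) = 0 := by
  by_contra h
  obtain ⟨s, hs, he, -⟩ := IsSignedIrr.eq_smul_of_classInner_ne (Or.inl isIrrCharacter_one) (F.signed i)
    (fun h0 => h (by rw [← classInner_conj, h0, map_zero]))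
  have hc : Cfsg.conjFun (F.z i) = F.z i := by
    rw [he]
    funext g
    rcases hs with rfl | rfl <;> simp [Cfsg.conjFun]
  rw [F.conj_z] at hc
  exact F.bar_ne i (F.z_injective hc)

/-- A member and its conjugate differ only on the support. -/
theorem pair_off (i : ι) {g : G} (hg : g ∉ F.X) : (F.z i - F.z (F.bar i)) g = 0 := by
  rw [Pi.sub_apply, F.z_off i g hg, F.z_off (F.bar i) g hg, F.r_bar, sub_self]

theorem z_apply_one_bar (i : ι) : F.z i 1 = F.z (F.bar i) 1 := by
  obtain ⟨k, hk⟩ := IsGeneralized.exists_apply_one (F.z_gen i)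
  rw [← F.conj_z i]
  simp [Cfsg.conjFun, hk]

/-- The coefficients of the bridge on the family are proportional to the degrees. -/
theorem exists_coeff {θ : G → ℂ} (hθ : Cfsg.IsGeneralizedCharacter G θ)
    (hd : ∀ i, i ≠ F.i₀ → Cfsg.classInner θ (F.z i - (F.r i : ℂ) • F.z F.i₀) = 0) :
    ∃ a : ℤ, ∀ i, Cfsg.classInner θ (F.z i) = ((a * F.r i : ℤ) : ℂ) := by
  obtain ⟨a, ha⟩ := IsGeneralized.exists_classInner_eq_int hθ (F.z_gen F.i₀)
  refine ⟨a, fun i => ?_⟩
  by_cases hi : i = F.i₀
  · rw [hi, F.r_i₀, mul_one, ha]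
  · have := hd i hi
    rw [classInner_sub_right, classInner_smul_right, ha, sub_eq_zero] at this
    rw [this, map_intCast]
    push_cast
    ring

/-- A function supported off `X` has proportional coefficients on the family. -/
theorem exists_coeff_of_disjoint {θ : G → ℂ} (hθ : Cfsg.IsGeneralizedCharacter G θ) {Y : Set G}
    (hY : Disjoint Y F.X) (hoff : ∀ g, g ∉ Y → θ g = 0) :
    ∃ a : ℤ, ∀ i, Cfsg.classInner θ (F.z i) = ((a * F.r i : ℤ) : ℂ) :=
  F.exists_coeff hθ fun i _ => classInner_eq_zero_of_supports hY hoff fun g hg => by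
    simp [F.z_off i g hg]

/-- The bridge meets its own family non-trivially. -/
theorem exists_self_coeff : ∃ m : ι → ℤ, (∀ i, Cfsg.classInner F.α (F.z i) = (m i : ℂ)) ∧
    1 ≤ ∑ i, m i * m i := by
  choose m hm using fun i => IsGeneralized.exists_classInner_eq_int F.α_gen (F.z_gen i)
  refine ⟨m, hm, ?_⟩
  by_contra h
  have h0 : ∀ i, m i = 0 := fun i => by
    by_contra hi
    have := Finset.single_le_sum (f := fun j => m j * m j) (fun j _ => mul_self_nonneg _) (Finset.mem_univ i)
    exact h (le_trans (one_le_mul_self hi) this)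
  have h1 := F.α_diff (F.bar F.i₀) (F.bar_ne _)
  rw [classInner_sub_right, classInner_smul_right, hm, hm, h0, h0, F.r_bar, F.r_i₀] at h1
  simp at h1

theorem α_add_real : Cfsg.conjFun (F.α + F.z F.i₀) = F.α + F.z F.i₀ := by
  rw [show Cfsg.conjFun (F.α + F.z F.i₀) = Cfsg.conjFun F.α + Cfsg.conjFun (F.z F.i₀) from
    funext fun g => by simp [Cfsg.conjFun], F.α_conj, F.conj_z]
  abel

/-- Members of families with disjoint supports are orthogonal. -/
theorem orth_pairs {a b : G → ℂ} (ha : IsSignedIrr a) (hb : IsSignedIrr b)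
    (hab : Cfsg.classInner a b = 0) (hconj : Cfsg.conjFun a = b) {Y : Set G} (hY : Disjoint Y F.X)
    (hoff : ∀ g, g ∉ Y → (a - b) g = 0) (i : ι) : Cfsg.classInner a (F.z i) = 0 := by
  have h1 : a 1 = b 1 := by
    obtain ⟨k, hk⟩ := IsGeneralized.exists_apply_one (IsSignedIrr.isGeneralized ha)
    rw [← hconj]
    simp [Cfsg.conjFun, hk]
  refine classInner_eq_zero_of_pairs ha hb (F.signed i) (F.signed (F.bar i)) (u := 1) (v := 1)
    one_ne_zero hab (F.orth _ _ (F.bar_ne i).symm) ?_ h1 (by simp [← F.z_apply_one_bar i])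
  simp only [Complex.ofReal_one, one_smul]
  exact classInner_eq_zero_of_supports hY hoff fun g hg => F.pair_off i hg

/-- Two families with disjoint supports are orthogonal. -/
theorem orth_family {κ : Type u} [Fintype κ] (F' : Family G κ) (h : Disjoint F'.X F.X) (j : κ) (i : ι) :
    Cfsg.classInner (F'.z j) (F.z i) = 0 :=
  F.orth_pairs (F'.signed j) (F'.signed _) (F'.orth _ _ (F'.bar_ne j).symm) (F'.conj_z j) h
    (fun _ hg => F'.pair_off j hg) i

variable {W₁ W₂ : Subgroup G} {χ : (↥(W₁ ⊔ W₂) →* ℂˣ) → G → ℂ}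

/-- The family is orthogonal to the grid when its support avoids the mixed elements. -/
theorem orth_grid (hχ : Cfsg.IsCyclicTIFamily W₁ W₂ χ) (hW : Cfsg.IsSelfNormalizingCyclic W₁ W₂)
    (hR : 3 ≤ Nat.card W₁) (hC : 3 ≤ Nat.card W₂)
    (hX : ∀ w : ↥(W₁ ⊔ W₂), (w : G) ∉ W₁ → (w : G) ∉ W₂ → (w : G) ∉ F.X) (i : ι)
    (ω : ↥(W₁ ⊔ W₂) →* ℂˣ) : Cfsg.classInner (F.z i) (χ ω) = 0 := by
  classical
  have := Fintype.ofFinite (Row W₁ W₂)
  have := Fintype.ofFinite (Col W₁ W₂)
  set a := F.z i with ha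
  set b := F.z (F.bar i) with hb
  have hab : Cfsg.classInner a b = 0 := F.orth _ _ (F.bar_ne i).symm
  obtain ⟨n, t, u, hn, ht, hu, hadd⟩ := grid_additive hχ
    (IsGeneralized.sub (F.z_gen i) (F.z_gen (F.bar i)))
    fun w h1 h2 => F.pair_off i (hX w h1 h2)
  have hn0 : n = 0 := by
    rw [hχ.map_one, classInner_sub_left, F.z_one, F.z_one, sub_zero] at hn
    exact_mod_cast hn.symm
  subst hn0
  -- every member meets at most one cell
  have huniq : ∀ (c : G → ℂ), IsSignedIrr c → ∀ ω η, Cfsg.classInner c (χ ω) ≠ 0 →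
      Cfsg.classInner c (χ η) ≠ 0 → ω = η := fun c hc ω η h1 h2 => by
    obtain ⟨s, hs, he, -⟩ := IsSignedIrr.eq_smul_of_classInner_ne hc (hχ.irr_or_neg ω) h1
    obtain ⟨s', hs', he', -⟩ := IsSignedIrr.eq_smul_of_classInner_ne hc (hχ.irr_or_neg η) h2
    by_contra hne
    have h3 := hχ.orthonormal ω η
    rw [if_neg hne, he, he', classInner_smul_left, classInner_smul_right,
      IsSignedIrr.classInner_self hc] at h3
    rcases hs with rfl | rfl <;> rcases hs' with rfl | rfl <;> simp at h3
  have hzero : ∀ r l, t r + u l = 0 := by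
    let S := Finset.univ.filter fun x : Row W₁ W₂ × Col W₁ W₂ => t x.1 + u x.2 ≠ 0
    have hS : S.card ≤ 2 := by
      have hsub : S ⊆ (Finset.univ.filter fun x : Row W₁ W₂ × Col W₁ W₂ =>
          Cfsg.classInner a (χ (cell x.1 x.2)) ≠ 0) ∪ Finset.univ.filter fun x : Row W₁ W₂ × Col W₁ W₂ =>
          Cfsg.classInner b (χ (cell x.1 x.2)) ≠ 0 := fun x hx => by
        rw [Finset.mem_union, Finset.mem_filter, Finset.mem_filter]
        by_contra hh
        simp only [Finset.mem_univ, true_and, not_or, not_not] at hh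
        have := hadd x.1 x.2
        rw [classInner_sub_left, hh.1, hh.2, sub_zero] at this
        exact (Finset.mem_filter.1 hx).2 (by exact_mod_cast this.symm)
      have h1 : ∀ c : G → ℂ, IsSignedIrr c → (Finset.univ.filter fun x : Row W₁ W₂ × Col W₁ W₂ =>
          Cfsg.classInner c (χ (cell x.1 x.2)) ≠ 0).card ≤ 1 := fun c hc =>
        Finset.card_le_one.2 fun x hx y hy => by
          have := cell_injective (huniq c hc _ _ (Finset.mem_filter.1 hx).2 (Finset.mem_filter.1 hy).2)
          exact Prod.ext this.1 this.2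
      calc S.card ≤ _ := Finset.card_le_card hsub
        _ ≤ _ := Finset.card_union_le _ _
        _ ≤ 1 + 1 := Nat.add_le_add (h1 a (F.signed i)) (h1 b (F.signed _))
    have hcR : 3 ≤ Fintype.card (Row W₁ W₂) := by
      rwa [← Nat.card_eq_fintype_card, (card_trivL hW).2]
    have hcC : 3 ≤ Fintype.card (Col W₁ W₂) := by
      rwa [← Nat.card_eq_fintype_card, (card_trivL hW).1]
    have ht0 : ∀ r, t r = 0 := fun r => by
      by_contra hr
      let f : Col W₁ W₂ → Row W₁ W₂ × Col W₁ W₂ := fun l => if u l = 0 then (r, l) else (row₀, l)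
      have hf : Function.Injective f := fun l l' e => by
        have := congrArg Prod.snd e
        simp only [f] at this
        split_ifs at this <;> exact this
      have h3 := Finset.card_le_card (show Finset.univ.image f ⊆ S from fun x hx => by
        obtain ⟨l, -, rfl⟩ := Finset.mem_image.1 hx
        simp only [f, S, Finset.mem_filter, Finset.mem_univ, true_and]
        split_ifs with hl
        · simpa [hl] using hr
        · simpa [ht] using hl)
      rw [Finset.card_image_of_injective _ hf, Finset.card_univ] at h3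
      omega
    intro r l
    rw [ht0 r, zero_add]
    by_contra hl
    let g : Row W₁ W₂ → Row W₁ W₂ × Col W₁ W₂ := fun r => (r, l)
    have h3 := Finset.card_le_card (show Finset.univ.image g ⊆ S from fun x hx => by
      obtain ⟨r', -, rfl⟩ := Finset.mem_image.1 hx
      simp [g, S, ht0, hl])
    rw [Finset.card_image_of_injective _ (fun r r' e => congrArg Prod.fst e), Finset.card_univ] at h3
    omega
  obtain ⟨r, l, rfl⟩ := exists_cell hW ω
  have heq := hadd r l
  rw [hzero r l, Int.cast_zero, classInner_sub_left, sub_eq_zero] at heq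
  by_contra h1
  obtain ⟨s, hs, he, hv⟩ := IsSignedIrr.eq_smul_of_classInner_ne (F.signed i) (hχ.irr_or_neg _) h1
  rw [he, classInner_smul_right, classInner_smul_right, F.z_self,
    ← classInner_conj (F.z i) (F.z (F.bar i)), hab, map_zero, mul_zero, mul_one] at heq
  rcases hs with rfl | rfl <;> simp at heq

end Family

/-! ### Arrays of bridges -/

/-- An array with odd column value and `e = pq`. -/
theorem array_bound_pq {p q c d : ℤ} {m m' R : ℤ} (hp : 5 ≤ p) (hq : 3 ≤ q) (hq2 : Odd q) (hd : Odd d)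
    (hm : m = d + (q - 1) * (c + d - 1)) (hm' : 1 ≤ m') (hR : 0 ≤ R)
    (h : (q - 1) * (c * c) + (p - 1) * (d * d) + (q - 1) * (p - 1) * ((c + d - 1) * (c + d - 1)) +
      m' * (m * m) + R ≤ p * q - 1) : Even c ∧ m' + R ≤ p * (q - 1) := by
  have hd2 : 1 ≤ d * d := one_le_mul_self fun e => by subst e; simp at hd
  have hc : Even c := by
    by_contra hc
    rw [Int.not_even_iff_odd] at hc
    have hc2 : 1 ≤ c * c := one_le_mul_self fun e => by subst e; simp at hc
    have hx : 1 ≤ (c + d - 1) * (c + d - 1) := one_le_mul_self fun e => by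
      obtain ⟨i, rfl⟩ := hc
      obtain ⟨j, rfl⟩ := hd
      omega
    have h1 : (q - 1) * 1 ≤ (q - 1) * (c * c) := Int.mul_le_mul_of_nonneg_left hc2 (by omega)
    have h2 : (p - 1) * 1 ≤ (p - 1) * (d * d) := Int.mul_le_mul_of_nonneg_left hd2 (by omega)
    have h3 : (q - 1) * (p - 1) * 1 ≤ (q - 1) * (p - 1) * ((c + d - 1) * (c + d - 1)) :=
      Int.mul_le_mul_of_nonneg_left hx (mul_nonneg (by omega) (by omega))
    have hmm : 1 ≤ m * m := one_le_mul_self fun e => by
      obtain ⟨i, rfl⟩ := hc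
      obtain ⟨j, rfl⟩ := hd
      obtain ⟨l, hl⟩ := hq2
      have hm1 : m = 2 * (j + l * (2 * i + 2 * j + 1)) + 1 := by rw [hm, hl]; ring
      omega
    have h4 : 1 * 1 ≤ m' * (m * m) := mul_le_mul hm' hmm (by norm_num) (by omega)
    nlinarith
  refine ⟨hc, ?_⟩
  have hx : c + d - 1 = 0 := by
    by_contra hx
    have hx4 : 4 ≤ (c + d - 1) * (c + d - 1) := by
      obtain ⟨i, rfl⟩ := hc
      obtain ⟨j, rfl⟩ := hd
      have hij : i + j ≠ 0 := fun e => hx (by omega)
      have := one_le_mul_self hij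
      nlinarith
    have h3 : (q - 1) * (p - 1) * 4 ≤ (q - 1) * (p - 1) * ((c + d - 1) * (c + d - 1)) :=
      Int.mul_le_mul_of_nonneg_left hx4 (mul_nonneg (by omega) (by omega))
    have h1 : 0 ≤ (q - 1) * (c * c) := mul_nonneg (by omega) (mul_self_nonneg _)
    have h2 : (p - 1) * 1 ≤ (p - 1) * (d * d) := Int.mul_le_mul_of_nonneg_left hd2 (by omega)
    have h4 : 0 ≤ m' * (m * m) := mul_nonneg (by omega) (mul_self_nonneg _)
    nlinarith
  rw [hm, hx] at h
  have h1 : 0 ≤ (q - 1) * (c * c) := mul_nonneg (by omega) (mul_self_nonneg _)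
  have h2 : (p - 1) * 1 ≤ (p - 1) * (d * d) := Int.mul_le_mul_of_nonneg_left hd2 (by omega)
  have h4 : m' * 1 ≤ m' * ((d + (q - 1) * 0) * (d + (q - 1) * 0)) :=
    Int.mul_le_mul_of_nonneg_left (by simpa using hd2) (by omega)
  nlinarith

/-- No array with odd column value when `e = p`. -/
theorem array_absurd_prime {A : Type*} (s : Finset A) {p d m m' : ℤ} (hp : 2 ≤ p) (hd : Odd d)
    (c : A → ℤ) (hm : m = d + ∑ i ∈ s, (c i + d - 1)) (hm' : 1 ≤ m')
    (h : (p - 1) * (d * d) + ∑ i ∈ s, (c i * c i + (p - 1) * ((c i + d - 1) * (c i + d - 1))) +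
      m' * (m * m) ≤ p - 1) : False := by
  have hd2 : 1 ≤ d * d := one_le_mul_self fun e => by subst e; simp at hd
  have h2 : (p - 1) * 1 ≤ (p - 1) * (d * d) := Int.mul_le_mul_of_nonneg_left hd2 (by omega)
  have hnn : ∀ i ∈ s, 0 ≤ c i * c i + (p - 1) * ((c i + d - 1) * (c i + d - 1)) := fun i _ =>
    add_nonneg (mul_self_nonneg _) (mul_nonneg (by omega) (mul_self_nonneg _))
  have h4 : 0 ≤ m' * (m * m) := mul_nonneg (by omega) (mul_self_nonneg _)
  have hs := Finset.sum_nonneg hnn
  have hz : ∀ i ∈ s, c i + d - 1 = 0 := fun i hi => by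
    have h5 := Finset.single_le_sum hnn hi
    by_contra hne
    have h6 : (p - 1) * 1 ≤ (p - 1) * ((c i + d - 1) * (c i + d - 1)) :=
      Int.mul_le_mul_of_nonneg_left (one_le_mul_self hne) (by omega)
    have h7 := mul_self_nonneg (c i)
    omega
  rw [Finset.sum_eq_zero hz, add_zero] at hm
  subst hm
  have h8 : 1 * 1 ≤ m' * (m * m) := mul_le_mul hm' hd2 (by norm_num) (by omega)
  omega

/-- The array is that of `1 + Σ η_{i0}` when `e = q`. -/
theorem array_small {p q c d R : ℤ} (hq : 3 ≤ q) (hqp : q < p) (hR : 0 ≤ R)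
    (h : (q - 1) * (c * c) + (p - 1) * (d * d) + (q - 1) * (p - 1) * ((c + d - 1) * (c + d - 1)) + R ≤
      q - 1) : c = 1 ∧ d = 0 ∧ R = 0 := by
  have h1 : 0 ≤ (q - 1) * (c * c) := mul_nonneg (by omega) (mul_self_nonneg _)
  have h2 : 0 ≤ (p - 1) * (d * d) := mul_nonneg (by omega) (mul_self_nonneg _)
  have h3 : 0 ≤ (q - 1) * (p - 1) * ((c + d - 1) * (c + d - 1)) :=
    mul_nonneg (mul_nonneg (by omega) (by omega)) (mul_self_nonneg _)
  have hd : d = 0 := by
    by_contra hd
    have : (p - 1) * 1 ≤ (p - 1) * (d * d) :=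
      Int.mul_le_mul_of_nonneg_left (one_le_mul_self hd) (by omega)
    omega
  subst hd
  have hc : c = 1 := by
    by_contra hc
    have h5 : (q - 1) * (p - 1) * 1 ≤ (q - 1) * (p - 1) * ((c + 0 - 1) * (c + 0 - 1)) :=
      Int.mul_le_mul_of_nonneg_left (one_le_mul_self (by omega)) (mul_nonneg (by omega) (by omega))
    have : (q - 1) * 2 ≤ (q - 1) * (p - 1) := Int.mul_le_mul_of_nonneg_left (by omega) (by omega)
    omega
  subst hc
  refine ⟨rfl, rfl, ?_⟩
  simp at h
  omega

end CfsgLib.OddEnd
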