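import Cfsg.Agent.OddEnd.FourteenArith

/-!
Peterfalvi section 14: the numerical contradiction for `u < (p^q - 1)/(p - 1)`.
-/

set_option autoImplicit false

namespace CfsgLib.OddEnd

namespace OddPq

variable {p q : ℕ} (h : OddPq p q)
include h

theorem geo_three (hq : q = 3) : geoN p q = p * p + p + 1 := by
  rw [h.geom, hq]
  simp [Finset.sum_range_succ]
  ring

/-- The Galois case, with `u` congruent to one modulo `p`. -/
theorem galois_conj_absurd {u a m : ℕ} (hua : u * a = geoN p q) (huq : u % q = 1) (ha : a ≠ 1)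
    (hup : u % p = 1) (hm : a * (p - 1) ≤ m * q + (p - 1)) (hbd : m ≤ p * (q - 1)) : False := by
  obtain ⟨-, hmq, hodd⟩ := h.quot_facts hua huq ha
  have hq := h.three_le
  have h2 := h.two_add_le
  have hap : a % p = 1 := by
    have := h.geo_mod
    rwa [← hua, Nat.mul_mod, hup, one_mul, Nat.mod_mod] at this
  obtain ⟨j, hj⟩ : ∃ j, a = p * j + 1 := ⟨a / p, by have := Nat.div_add_mod a p; omega⟩
  have hj0 : j ≠ 0 := fun e => ha (by rw [hj, e, mul_zero])
  have hje : Even j := by
    have h3 : Odd p := h.prime_p.odd_of_ne_two (by omega)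
    have h4 : Even (p * j) := by
      rcases hodd with ⟨i, hi⟩
      exact ⟨i, by omega⟩
    rcases Nat.even_mul.1 h4 with h5 | h5
    · exact absurd h5 (Nat.not_even_iff_odd.2 h3)
    · exact h5
  have h1 : p * j * (p - 1) ≤ p * ((q - 1) * q) := by
    have h5 : a * (p - 1) = p * j * (p - 1) + (p - 1) := by rw [hj]; ring
    have h6 : m * q ≤ p * (q - 1) * q := Nat.mul_le_mul_right q hbd
    have h7 : p * (q - 1) * q = p * ((q - 1) * q) := by ring
    omega
  rw [mul_assoc] at h1
  have h1' : j * (p - 1) ≤ (q - 1) * q := Nat.le_of_mul_le_mul_left h1 (by omega)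
  -- `j` is at least `q - 1`
  have hjq : q - 1 ≤ j := by
    by_contra hlt
    rw [hj, Nat.add_mod, Nat.mul_mod] at hmq
    split_ifs at hmq with hpq
    · rw [hpq, one_mul, Nat.mod_mod, Nat.mod_eq_of_lt (show j < q by omega),
        Nat.mod_eq_of_lt (show 1 < q by omega), Nat.mod_eq_of_lt (show j + 1 < q by omega)] at hmq
      omega
    · have h8 : p * j % q = 0 := by
        have h9 : (p * j + 1) % q = 1 % q := by
          rw [Nat.add_mod, Nat.mul_mod, hmq, Nat.mod_eq_of_lt (show 1 < q by omega)]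
        simpa using Nat.sub_mod_eq_zero_of_mod_eq h9
      rcases (Nat.Prime.dvd_mul h.prime_q).1 (Nat.dvd_of_mod_eq_zero h8) with h9 | h9
      · exact absurd ((Nat.prime_dvd_prime_iff_eq h.prime_q h.prime_p).1 h9) (by omega)
      · exact absurd (Nat.le_of_dvd (by omega) h9) (by omega)
  have h10 : (q - 1) * (p - 1) ≤ (q - 1) * q := le_trans (Nat.mul_le_mul_right _ hjq) h1'
  have h11 := Nat.le_of_mul_le_mul_left h10 (by omega)
  omega

/-- The Galois case in general. -/
theorem galois_absurd {u a m n k : ℕ} (hua : u * a = geoN p q) (huq : u % q = 1) (ha : a ≠ 1)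
    (hm : a * (p - 1) ≤ m * q + (p - 1)) (hbd : n + m ≤ p * (q - 1)) (hk : n * (p * q) + 1 = k)
    (hkodd : Odd k) (huk : u ∣ k) : False := by
  obtain ⟨haq, hmq, hodd⟩ := h.quot_facts hua huq ha
  have hq := h.three_le
  have h2 := h.two_add_le
  obtain ⟨b, rfl⟩ : ∃ b, a = b + 1 := ⟨a - 1, by omega⟩
  obtain ⟨P, hP⟩ : ∃ P, p = P + 1 := ⟨p - 1, by omega⟩
  obtain ⟨Q, hQ⟩ : ∃ Q, q = Q + 1 := ⟨q - 1, by omega⟩
  have hp1 : p - 1 = P := by omega
  have hq1 : q - 1 = Q := by omega
  rw [hp1] at hm
  rw [hq1] at hbd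
  have hb : b * P ≤ m * q := by
    have : (b + 1) * P = b * P + P := by ring
    omega
  have hmb : m * q + n * q ≤ p * Q * q := by
    rw [← add_mul]; exact Nat.mul_le_mul_right q (by omega)
  have hk0 : 0 < k := by omega
  have huk' : u ≤ k := Nat.le_of_dvd hk0 huk
  have hN : geoN p q ≤ (b + 1) * k := by
    rw [← hua, mul_comm]; exact Nat.mul_le_mul_left _ huk'
  have hbq : b ≤ q * q := by
    by_contra hh
    have h3 : (q * q + 1) * P ≤ b * P := Nat.mul_le_mul_right P (by omega)
    have h4 : p * Q * q < (q * q + 1) * P := by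
      subst hQ
      subst hP
      nlinarith
    omega
  by_cases hq7 : 7 ≤ q
  · have h4 : p ^ 6 ≤ geoN p q := (Nat.pow_le_pow_right (by omega) (by omega)).trans h.pow_le_geo
    have h5 : k ≤ p * p * (q * q) := by
      have h6 : n * (p * q) ≤ p * Q * (p * q) := Nat.mul_le_mul_right _ (by omega)
      have h7 : p * Q * (p * q) + 1 ≤ p * p * (q * q) := by
        subst hQ
        have : 1 ≤ p * p * (Q + 1) := Nat.mul_pos (Nat.mul_pos (by omega) (by omega)) (by omega)
        calc p * Q * (p * (Q + 1)) + 1 ≤ p * Q * (p * (Q + 1)) + p * p * (Q + 1) := by omega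
          _ = p * p * ((Q + 1) * (Q + 1)) := by ring
      omega
    have h8 : (b + 1) * k ≤ (q * q + 1) * (p * p * (q * q)) := Nat.mul_le_mul (by omega) h5
    have h9 : (q * q + 1) * (p * p * (q * q)) < p ^ 6 := by
      have h10 : q * q + 1 < p * p := by nlinarith
      have h11 : q * q < p * p := by omega
      calc (q * q + 1) * (p * p * (q * q)) < p * p * (p * p * (p * p)) :=
            Nat.mul_lt_mul'' h10 ((Nat.mul_lt_mul_left (Nat.mul_pos (by omega) (by omega))).2 h11)
        _ = p ^ 6 := by ring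
    omega
  have hq357 : q = 3 ∨ q = 5 := by
    have h4 : q ≠ 4 := fun e => absurd (e ▸ h.prime_q) (by norm_num)
    have h6 : q ≠ 6 := fun e => absurd (e ▸ h.prime_q) (by norm_num)
    omega
  rcases hq357 with rfl | rfl
  · -- `q = 3`
    have hQ2 : Q = 2 := by omega
    subst hQ2
    have hN3 := h.geo_three rfl
    have hb7 : b ≤ 7 := by
      by_contra hh
      have : 8 * P ≤ b * P := Nat.mul_le_mul_right P (by omega)
      omega
    have hcases : b = 2 ∨ b = 6 := by
      rcases hodd with ⟨i, hi⟩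
      split_ifs at hmq with hp3 <;> omega
    obtain ⟨r, rfl⟩ := huk
    have hrodd : Odd r := (Nat.odd_mul.1 hkodd).2
    have hr3 : r % 3 = 1 := by
      have h3 : u * r % 3 = 1 := by
        rw [← hk, show n * (p * 3) + 1 = 3 * (n * p) + 1 by ring, Nat.mul_add_mod]
      rwa [Nat.mul_mod, huq, one_mul, Nat.mod_mod] at h3
    have key : r * (p * p + p + 1) = (b + 1) * (n * (p * 3) + 1) := by
      rw [← hN3, ← hua, hk]; ring
    have hdiv : (p : ℤ) ∣ (r : ℤ) - (b + 1 : ℕ) := ⟨(b + 1 : ℕ) * (n * 3) - r * (p + 1), by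
      have : (r : ℤ) * (p * p + p + 1) = (b + 1 : ℕ) * (n * (p * 3) + 1) := by exact_mod_cast key
      push_cast at this ⊢
      linear_combination this⟩
    rcases hcases with rfl | rfl
    · have hn : 3 * n ≤ 4 * P + 6 := by omega
      have hr11 : r < 13 := by
        by_contra hh
        have h3 : 13 * (p * p + p + 1) ≤ r * (p * p + p + 1) := Nat.mul_le_mul_right _ (by omega)
        have h4 : (2 + 1) * (n * (p * 3) + 1) ≤ 3 * ((4 * P + 6) * p + 1) := by
          have := Nat.mul_le_mul_right p hn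
          nlinarith
        nlinarith
      have hp7 : 7 ≤ p := by
        have h5 := h.five_le
        have h6 : p ≠ 6 := fun e => absurd (e ▸ h.prime_p) (by norm_num)
        split_ifs at hmq with hp3 <;> omega
      obtain ⟨i, hi⟩ := hrodd
      push_cast at hdiv
      rcases eq_or_ne r 3 with rfl | hr
      · omega
      have h6 : (p : ℤ) ≤ |(r : ℤ) - 3| :=
        Int.le_of_dvd (abs_pos.2 (sub_ne_zero.2 (by exact_mod_cast hr))) ((dvd_abs _ _).2 hdiv)
      have h7 : (r : ℤ) = 7 ∨ (r : ℤ) = 1 := by omega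
      rcases h7 with h7 | h7
      · rw [h7] at h6
        norm_num at h6
        omega
      · rw [h7] at h6
        norm_num at h6
        omega
    · have hn : n ≤ 2 := by
        have h4 : 3 * n ≤ 6 := by omega
        omega
      have hp5 := h.five_le
      have hr4 : r < 4 ∨ p < 11 := by
        by_contra hh
        have h3 : 4 * (p * p + p + 1) ≤ r * (p * p + p + 1) := Nat.mul_le_mul_right _ (by omega)
        have h4 : n * (p * 3) ≤ 2 * (p * 3) := Nat.mul_le_mul_right _ hn
        have h5 : 11 * p ≤ p * p := Nat.mul_le_mul_right p (by omega)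
        nlinarith
      obtain ⟨i, hi⟩ := hrodd
      push_cast at hdiv
      rcases hr4 with hr4 | hp11
      · have hr1 : r = 1 := by omega
        subst hr1
        have h6 := Int.le_of_dvd (b := |(1 : ℤ) - 7|) (by norm_num) ((dvd_abs _ _).2 (by simpa using hdiv))
        norm_num at h6
        have h7 : p ≠ 6 := fun e => absurd (e ▸ h.prime_p) (by norm_num)
        have hp5' : p = 5 := by omega
        subst hp5'
        omega
      · have h7 : p ≠ 6 := fun e => absurd (e ▸ h.prime_p) (by norm_num)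
        have h8 : p ≠ 8 := fun e => absurd (e ▸ h.prime_p) (by norm_num)
        have h9 : p ≠ 9 := fun e => absurd (e ▸ h.prime_p) (by norm_num)
        have h10 : p ≠ 10 := fun e => absurd (e ▸ h.prime_p) (by norm_num)
        have hp57 : p = 5 ∨ p = 7 := by omega
        rcases hp57 with rfl | rfl
        · have : u * 7 = 31 := by rw [hua, hN3]
          omega
        · split_ifs at hmq with hp3 <;> omega
  · -- `q = 5`
    have hQ4 : Q = 4 := by omega
    subst hQ4
    have hb26 : b ≤ 25 := by omega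
    have h4 : p ^ 4 ≤ geoN p 5 := by simpa using h.pow_le_geo
    have hp5 := h.five_le
    by_cases hp13 : 13 ≤ p
    · have h6 : n * (p * 5) + b * P * p ≤ 20 * (p * p) := by
        have h7 : (n * 5 + b * P) * p ≤ 20 * p * p := Nat.mul_le_mul_right p (by omega)
        calc n * (p * 5) + b * P * p = (n * 5 + b * P) * p := by ring
          _ ≤ _ := h7
          _ = 20 * (p * p) := by ring
      have h8 : (b + 1) * k + (b + 1) * (b * P * p) ≤ (b + 1) * (20 * (p * p) + 1) := by
        rw [← mul_add]
        exact Nat.mul_le_mul_left _ (by omega)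
      have h9 : (b + 1) * (20 * (p * p) + 1) < p ^ 4 + (b + 1) * (b * P * p) := by
        have hb' : (b + 1) * b ≤ 26 * 25 := Nat.mul_le_mul (by omega) hb26
        subst hP
        have h10 : ((b : ℤ) + 1) * (20 - b) ≤ 110 := by nlinarith [sq_nonneg (2 * (b : ℤ) - 19)]
        have h11 : (169 : ℤ) * (((P : ℤ) + 1) * ((P : ℤ) + 1)) ≤
            (((P : ℤ) + 1) * ((P : ℤ) + 1)) * (((P : ℤ) + 1) * ((P : ℤ) + 1)) :=
          mul_le_mul_of_nonneg_right (by nlinarith) (by positivity)
        have h12 : ((b : ℤ) + 1) * (20 - b) * (((P : ℤ) + 1) * ((P : ℤ) + 1)) ≤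
            110 * (((P : ℤ) + 1) * ((P : ℤ) + 1)) := mul_le_mul_of_nonneg_right h10 (by positivity)
        have h13 : ((b : ℤ) + 1) * b * ((P : ℤ) + 1) ≤ 650 * ((P : ℤ) + 1) :=
          mul_le_mul_of_nonneg_right (by exact_mod_cast hb') (by positivity)
        zify
        nlinarith
      omega
    · have h7 : p = 7 ∨ p = 11 := by
        have h8 : p ≠ 8 := fun e => absurd (e ▸ h.prime_p) (by norm_num)
        have h9 : p ≠ 9 := fun e => absurd (e ▸ h.prime_p) (by norm_num)
        have h10 : p ≠ 10 := fun e => absurd (e ▸ h.prime_p) (by norm_num)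
        have h12 : p ≠ 12 := fun e => absurd (e ▸ h.prime_p) (by norm_num)
        omega
      rcases h7 with rfl | rfl
      · have hN7 : geoN 7 5 = 2801 := by norm_num [geoN]
        rw [hN7] at hua
        interval_cases b <;> omega
      · have hN11 : geoN 11 5 = 16105 := by norm_num [geoN]
        rw [hN11] at hua
        interval_cases b <;> omega

/-- The split case. -/
theorem split_absurd {u A m n k : ℕ} (huA : u * A = (p - 1) ^ (q - 1)) (hu : Odd u) (huq : u % q = 1)
    (hu1 : 1 < u) (hm : A * (p - 1) ≤ m * q + (p - 1)) (hbd : n + m ≤ p * (q - 1))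
    (hk : n * (p * q) + 1 = k) (hkodd : Odd k) (huk : u ∣ k) : False := by
  have hq := h.three_le
  have h2 := h.two_add_le
  obtain ⟨P, hP⟩ : ∃ P, p = P + 1 := ⟨p - 1, by omega⟩
  obtain ⟨Q, hQ⟩ : ∃ Q, q = Q + 1 := ⟨q - 1, by omega⟩
  have hp1 : p - 1 = P := by omega
  have hq1 : q - 1 = Q := by omega
  rw [hp1] at huA hm
  rw [hq1] at huA hbd
  have h2P : 2 ∣ P := by
    have h3 : Odd p := h.prime_p.odd_of_ne_two (by omega)
    rw [hP, Nat.odd_add_one, Nat.not_odd_iff_even] at h3
    exact h3.two_dvd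
  have h2A : 2 ^ Q ∣ A :=
    (((Nat.coprime_two_left.2 hu)).pow_left Q).dvd_of_dvd_mul_left (huA.symm ▸ pow_dvd_pow_of_dvd h2P Q)
  obtain ⟨c, rfl⟩ := h2A
  have hc : 1 ≤ c := Nat.one_le_iff_ne_zero.2 fun e => by
    rw [e, mul_zero, mul_zero] at huA
    exact absurd huA.symm (pow_ne_zero _ (by omega))
  have hmb : m * q + n * q ≤ p * Q * q := by
    rw [← add_mul]; exact Nat.mul_le_mul_right q (by omega)
  by_cases hq7 : 7 ≤ q
  · have key : ∀ j : ℕ, (j + 7) * (j + 7) + (j + 7) ≤ 2 ^ (j + 6) := by
      intro j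
      induction j with
      | zero => norm_num
      | succ j ih =>
        rw [show j + 1 + 6 = (j + 6) + 1 by omega, pow_succ]
        nlinarith
    have h3 : q * q + q ≤ 2 ^ Q * c := by
      have := key (q - 7)
      rw [show q - 7 + 7 = q by omega, show q - 7 + 6 = Q by omega] at this
      exact this.trans (Nat.le_mul_of_pos_right _ hc)
    have h4 : (q * q + q) * P ≤ 2 ^ Q * c * P := Nat.mul_le_mul_right P h3
    have h5 : p * Q * q + P < (q * q + q) * P := by
      subst hP
      subst hQ
      nlinarith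
    omega
  have hq357 : q = 3 ∨ q = 5 := by
    have h4 : q ≠ 4 := fun e => absurd (e ▸ h.prime_q) (by norm_num)
    have h6 : q ≠ 6 := fun e => absurd (e ▸ h.prime_q) (by norm_num)
    omega
  obtain ⟨r, rfl⟩ := huk
  have hrodd : Odd r := (Nat.odd_mul.1 hkodd).2
  rcases hq357 with rfl | rfl
  · have hQ2 : Q = 2 := by omega
    subst hQ2
    have hr3 : r % 3 = 1 := by
      have h3 : u * r % 3 = 1 := by
        rw [← hk, show n * (p * 3) + 1 = 3 * (n * p) + 1 by ring, Nat.mul_add_mod]
      rwa [Nat.mul_mod, huq, one_mul, Nat.mod_mod] at h3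
    by_cases hp7 : p ≤ 7
    · have h5 := h.five_le
      have h6 : p ≠ 6 := fun e => absurd (e ▸ h.prime_p) (by norm_num)
      have hp57 : p = 5 ∨ p = 7 := by omega
      have hPv : P = 4 ∨ P = 6 := by omega
      obtain ⟨i, rfl⟩ := hu
      rcases hPv with rfl | rfl
      · have hle : 2 * i + 1 ≤ 16 := Nat.le_of_dvd (by norm_num) ⟨2 ^ 2 * c, huA.symm⟩
        have hi : i ≤ 8 := by omega
        interval_cases i <;> omega
      · have hle : 2 * i + 1 ≤ 36 := Nat.le_of_dvd (by norm_num) ⟨2 ^ 2 * c, huA.symm⟩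
        have hi : i ≤ 18 := by omega
        interval_cases i <;> omega
    have hc1 : c = 1 := by
      by_contra hc1
      have : 2 ^ 2 * 2 * P ≤ 2 ^ 2 * c * P := Nat.mul_le_mul_right P (Nat.mul_le_mul_left _ (by omega))
      omega
    subst hc1
    have hn : 3 * n ≤ 3 * P + 6 := by omega
    have key : r * (P * P) = 4 * (n * (p * 3) + 1) := by
      rw [show P * P = P ^ 2 by ring, ← huA, hk]; ring
    have hdiv : (p : ℤ) ∣ (r : ℤ) - 4 := ⟨12 * n - r * ((P : ℤ) - 1), by
      have h3 : (r : ℤ) * (P * P) = 4 * (n * (p * 3) + 1) := by exact_mod_cast key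
      have hP' : (p : ℤ) = P + 1 := by exact_mod_cast hP
      rw [hP'] at h3 ⊢
      linear_combination h3⟩
    obtain ⟨z, hz⟩ := hdiv
    obtain ⟨i, hi⟩ := hrodd
    have hr16 : r < 16 ∨ p < 12 := by
      by_contra hh
      have h3 : 16 * (P * P) ≤ r * (P * P) := Nat.mul_le_mul_right _ (by omega)
      have h4 : 3 * n * p ≤ (3 * P + 6) * p := Nat.mul_le_mul_right p hn
      have h5 : 11 * P ≤ P * P := Nat.mul_le_mul_right P (by omega)
      subst hP
      nlinarith
    rcases hr16 with hr | hp12
    · have hz1 : z = 0 ∨ z ≠ 0 := em _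
      rcases hz1 with rfl | hz0
      · omega
      have h6 : (p : ℤ) ≤ |(r : ℤ) - 4| := by
        rw [hz, abs_mul, Nat.abs_cast]
        exact le_mul_of_one_le_right (by positivity) (abs_pos.2 hz0)
      have h8 : (r : ℤ) = 1 ∨ (r : ℤ) = 7 ∨ (r : ℤ) = 13 := by omega
      rcases h8 with h8 | h8 | h8 <;> rw [h8] at h6 hz <;> norm_num at h6
      · omega
      · omega
      · have hp89 : p ≠ 8 ∧ p ≠ 9 := ⟨fun e => absurd (e ▸ h.prime_p) (by norm_num),
          fun e => absurd (e ▸ h.prime_p) (by norm_num)⟩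
        omega
    · have h8 : p ≠ 8 := fun e => absurd (e ▸ h.prime_p) (by norm_num)
      have h9 : p ≠ 9 := fun e => absurd (e ▸ h.prime_p) (by norm_num)
      have h10 : p ≠ 10 := fun e => absurd (e ▸ h.prime_p) (by norm_num)
      have hp11 : p = 11 := by omega
      subst hp11
      have hP10 : P = 10 := by omega
      subst hP10
      have hn12 : n ≤ 12 := by omega
      omega
  · have hQ4 : Q = 4 := by omega
    subst hQ4
    have hc1 : c = 1 := by
      by_contra hc1
      have : 2 ^ 4 * 2 * P ≤ 2 ^ 4 * c * P := Nat.mul_le_mul_right P (Nat.mul_le_mul_left _ (by omega))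
      omega
    subst hc1
    have hn : n ≤ P + 4 := by omega
    have hp12 : p < 13 := by
      by_contra hh
      have h3 : P ^ 4 ≤ 16 * ((P + 4) * (p * 5) + 1) := by
        have h4 : u ≤ u * r := Nat.le_mul_of_pos_right u hrodd.pos
        have h5 : u * r ≤ (P + 4) * (p * 5) + 1 := by
          rw [← hk]; exact Nat.add_le_add_right (Nat.mul_le_mul_right _ hn) 1
        omega
      have h6 : 144 * (P * P) ≤ P ^ 4 := by
        rw [show P ^ 4 = P * P * (P * P) by ring]
        exact Nat.mul_le_mul_right _ (by nlinarith)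
      subst hP
      nlinarith
    have h7 : p = 7 ∨ p = 11 := by
      have h8 : p ≠ 8 := fun e => absurd (e ▸ h.prime_p) (by norm_num)
      have h9 : p ≠ 9 := fun e => absurd (e ▸ h.prime_p) (by norm_num)
      have h10 : p ≠ 10 := fun e => absurd (e ▸ h.prime_p) (by norm_num)
      have h12 : p ≠ 12 := fun e => absurd (e ▸ h.prime_p) (by norm_num)
      omega
    rcases h7 with rfl | rfl
    · have hP6 : P = 6 := by omega
      subst hP6
      have hu81 : u = 81 := by omega
      subst hu81
      omega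
    · have hP10 : P = 10 := by omega
      subst hP10
      have hu625 : u = 625 := by omega
      subst hu625
      omega

end OddPq

end CfsgLib.OddEnd
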