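import Cfsg.Agent.OddEnd.FourteenCount
import Cfsg.Agent.OddEnd.FourteenSide
import Cfsg.Agent.OddEnd.TenFamily
import Cfsg.Agent.Char.Signed

/-!
Peterfalvi section 14: what the characters of one side give in `G`.
-/

set_option autoImplicit false

namespace CfsgLib.OddEnd

open Subgroup CfsgLib.Char
open scoped ComplexConjugate

universe u

variable {G : Type u} [Group G] [Fintype G] {W₁ W₂ : Subgroup G}

/-- The number of characters of `P` with trivial stabiliser in `U`. -/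
noncomputable def nFree (S P U : Subgroup G) : ℕ :=
  Nat.card {φ : ↥(P.subgroupOf S) →* ℂˣ // FreeChar (U.subgroupOf S) φ}

/-- The bridges `β` and the images `lam` of the irreducible characters induced from `P` on one side. -/
structure SideImages [Fintype (Row W₁ W₂)] (χ : (↥(W₁ ⊔ W₂) →* ℂˣ) → G → ℂ) (S P U : Subgroup G)
    (κ : Type u) [Fintype κ] where
  /-- The images of the bridges. -/
  β : Col W₁ W₂ → G → ℂ
  /-- The images of the irreducible induced characters. -/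
  lam : κ → G → ℂ
  /-- Complex conjugation. -/
  lamBar : κ → κ
  β_gen : ∀ l, l ≠ col₀ → Cfsg.IsGeneralizedCharacter G (β l)
  β_off : ∀ l, l ≠ col₀ → ∀ g, g ∉ conjSet (bridgeSet S P W₁ W₂) → β l g = 0
  β_one : ∀ l, l ≠ col₀ → Cfsg.classInner (β l) (fun _ => 1) = 1
  β_norm : ∀ l, l ≠ col₀ → ∃ k : ℕ, k * Nat.card W₁ + 1 = Nat.card U ∧
    Cfsg.classInner (β l) (β l) = (k : ℂ) + 2
  β_mixed : ∀ l : Col W₁ W₂, l ≠ col₀ → ∀ w : ↥(W₁ ⊔ W₂), (w : G) ∉ W₁ → (w : G) ∉ W₂ →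
    β l w = 1 - (l.1 w : ℂ)
  β_diff : ∀ l k, l ≠ col₀ → k ≠ col₀ → β l - β k = χ (cell row₀ k) - χ (cell row₀ l)
  β_conj : ∀ l, l ≠ col₀ → ∃ k, k ≠ col₀ ∧ Cfsg.conjFun (β l) = β k ∧
    Cfsg.conjFun (χ (cell row₀ l)) = χ (cell row₀ k)
  pair_off : ∀ r j k, j ≠ col₀ → k ≠ col₀ → ∀ g, g ∉ conjSet (bridgeSet S P W₁ W₂) →
    χ (cell r j) g = χ (cell r k) g
  lam_signed : ∀ s, IsSignedIrr (lam s)
  lam_orth : ∀ s t, s ≠ t → Cfsg.classInner (lam s) (lam t) = 0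
  lamBar_ne : ∀ s, lamBar s ≠ s
  lam_conj : ∀ s, Cfsg.conjFun (lam s) = lam (lamBar s)
  lam_grid : ∀ s ω, Cfsg.classInner (lam s) (χ ω) = 0
  lam_off : ∀ s l, l ≠ col₀ → ∀ g, g ∉ conjSet ((P : Set G) \ {1}) →
    lam s g = ∑ r : Row W₁ W₂, χ (cell r l) g
  lam_mass : ∀ s (Z : Finset G), (∀ g, g ∈ Z ↔ g ∈ conjSet ((P : Set G) \ {1})) →
    1 - ((Nat.card U * Nat.card W₁ : ℕ) : ℝ) / nFree S P U ≤
      (Nat.card G : ℝ)⁻¹ * ∑ g ∈ Z, ‖lam s g‖ ^ 2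
  lam_count : nFree S P U ≤
    Nat.card U * (Fintype.card κ * Nat.card W₁ + (Nat.card W₂ - 1))

end CfsgLib.OddEnd
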