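import Cfsg.Agent.OddEnd.FourteenAlg
import Cfsg.Agent.OddEnd.FourteenImages

/-!
Peterfalvi section 14: the coefficients of the bridge of a family on the grid, and its inner products with
the bridges and the images of one side.
-/

set_option autoImplicit false
set_option linter.unusedSectionVars false

namespace CfsgLib.OddEnd

open Subgroup CfsgLib.Char
open scoped ComplexConjugate

universe u

variable {G : Type u} [Group G] [Fintype G] {W₁ W₂ : Subgroup G}
variable {χ : (↥(W₁ ⊔ W₂) →* ℂˣ) → G → ℂ}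

theorem IsCyclicTIFamily.inner_cell (hχ : Cfsg.IsCyclicTIFamily W₁ W₂ χ)
    (r r' : Row W₁ W₂) (l l' : Col W₁ W₂) [DecidableEq (Row W₁ W₂)] [DecidableEq (Col W₁ W₂)] :
    Cfsg.classInner (χ (cell r l)) (χ (cell r' l')) = if r = r' ∧ l = l' then 1 else 0 := by
  rw [hχ.orthonormal]
  by_cases h : r = r' ∧ l = l'
  · rw [if_pos h, if_pos (by rw [h.1, h.2])]
  · rw [if_neg h, if_neg fun e => h (cell_injective e)]

/-- Bessel's inequality on the grid and an orthonormal family outside it. -/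
theorem grid_bessel_index [Fintype (Row W₁ W₂)] [Fintype (Col W₁ W₂)]
    (hχ : Cfsg.IsCyclicTIFamily W₁ W₂ χ) {A : Type*} [Fintype A] {θ : G → ℂ} {N : ℤ}
    (x : Row W₁ W₂ → Col W₁ W₂ → ℤ) (hx : ∀ r l, Cfsg.classInner θ (χ (cell r l)) = (x r l : ℂ))
    (f : A → G → ℂ) (hf1 : ∀ a, IsSignedIrr (f a)) (hf : ∀ a b, a ≠ b → Cfsg.classInner (f a) (f b) = 0)
    (hfχ : ∀ a ω, Cfsg.classInner (f a) (χ ω) = 0)
    (m : A → ℤ) (hm : ∀ a, Cfsg.classInner θ (f a) = (m a : ℂ)) (hN : Cfsg.classInner θ θ = (N : ℂ)) :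
    ∑ l, ∑ r, x r l * x r l + ∑ a, m a * m a ≤ N := by
  classical
  have hinj : Function.Injective f := fun a b e => by
    by_contra h
    have := hf a b h
    rw [e, IsSignedIrr.classInner_self (hf1 b)] at this
    exact one_ne_zero this
  have h := grid_bessel hχ x hx (Finset.univ.image f) (fun α hα β hβ hne => by
      obtain ⟨a, -, rfl⟩ := Finset.mem_image.1 hα
      obtain ⟨b, -, rfl⟩ := Finset.mem_image.1 hβ
      exact hf a b fun e => hne (congrArg f e))
    (fun α hα => by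
      obtain ⟨a, -, rfl⟩ := Finset.mem_image.1 hα
      exact IsSignedIrr.classInner_self (hf1 a))
    (fun α hα ω => by
      obtain ⟨a, -, rfl⟩ := Finset.mem_image.1 hα
      exact hfχ a ω)
    (fun α => if h : ∃ a, f a = α then m h.choose else 0) (fun α hα => by
      obtain ⟨a, -, rfl⟩ := Finset.mem_image.1 hα
      have he : ∃ b, f b = f a := ⟨a, rfl⟩
      simp only [dif_pos he]
      rw [hinj he.choose_spec, hm a])
  rw [hN, Complex.intCast_re, Finset.sum_image fun a _ b _ e => hinj e] at h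
  have hs : ∀ a, (if h : ∃ b, f b = f a then m h.choose else 0) = m a := fun a => by
    have he : ∃ b, f b = f a := ⟨a, rfl⟩
    rw [dif_pos he, hinj he.choose_spec]
  simp only [hs] at h
  exact_mod_cast h

variable [Fintype (Row W₁ W₂)]

/-- The mixed elements lie in the bridge set. -/
theorem mixed_mem_bridge (S P : Subgroup G) {w : ↥(W₁ ⊔ W₂)} (h1 : (w : G) ∉ W₁) (h2 : (w : G) ∉ W₂) :
    (w : G) ∈ conjSet (bridgeSet S P W₁ W₂) :=
  ⟨w, Or.inr ⟨1, S.one_mem, w, w.2, h1, h2, by group⟩, 1, by group⟩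

theorem punctured_subset_bridge (S P : Subgroup G) :
    conjSet ((P : Set G) \ {1}) ⊆ conjSet (bridgeSet S P W₁ W₂) := fun _ ⟨a, ha, x, hx⟩ =>
  ⟨a, Or.inl ha, x, hx⟩

omit [Fintype (Row W₁ W₂)] in
theorem exists_col_ne (hW : Cfsg.IsSelfNormalizingCyclic W₁ W₂) (h : 3 ≤ Nat.card W₂) :
    ∃ l : Col W₁ W₂, l ≠ col₀ := by
  by_contra hh
  push Not at hh
  have : Subsingleton (Col W₁ W₂) := ⟨fun a b => (hh a).trans (hh b).symm⟩
  have h1 : Nat.card (Col W₁ W₂) = Nat.card W₂ := (card_trivL hW).1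
  have h2 : Nat.card (Col W₁ W₂) ≤ 1 := Finite.card_le_one_iff_subsingleton.2 this
  omega

omit [Fintype (Row W₁ W₂)] in
theorem exists_row_ne (hW : Cfsg.IsSelfNormalizingCyclic W₁ W₂) (h : 3 ≤ Nat.card W₁) :
    ∃ r : Row W₁ W₂, r ≠ row₀ := by
  by_contra hh
  push Not at hh
  have : Subsingleton (Row W₁ W₂) := ⟨fun a b => (hh a).trans (hh b).symm⟩
  have h1 : Nat.card (Row W₁ W₂) = Nat.card W₁ := (card_trivL hW).2
  have h2 : Nat.card (Row W₁ W₂) ≤ 1 := Finite.card_le_one_iff_subsingleton.2 this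
  omega

variable {ι : Type u} [Fintype ι] {κ : Type u} [Fintype κ] {S P U : Subgroup G}

/-- The hypotheses under which a family meets a side. -/
structure Meets (F : Family G ι) (I : SideImages χ S P U κ) : Prop where
  family : Cfsg.IsCyclicTIFamily W₁ W₂ χ
  self : Cfsg.IsSelfNormalizingCyclic W₁ W₂
  left : 3 ≤ Nat.card W₁
  right : 3 ≤ Nat.card W₂
  odd : Odd (Nat.card G)
  disjoint : Disjoint F.X (conjSet (bridgeSet S P W₁ W₂))

namespace Meets

variable {F : Family G ι} {I : SideImages χ S P U κ} (hM : Meets F I)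
include hM

theorem z_grid (i : ι) (ω : ↥(W₁ ⊔ W₂) →* ℂˣ) : Cfsg.classInner (F.z i) (χ ω) = 0 :=
  F.orth_grid hM.family hM.self hM.left hM.right
    (fun _ h1 h2 => Set.disjoint_right.1 hM.disjoint (mixed_mem_bridge S P h1 h2)) i ω

theorem z_lam (i : ι) (s : κ) : Cfsg.classInner (F.z i) (I.lam s) = 0 := by
  have h : Cfsg.classInner (I.lam s) (F.z i) = 0 :=
    F.orth_pairs (I.lam_signed s) (I.lam_signed _) (I.lam_orth _ _ (I.lamBar_ne s).symm) (I.lam_conj s)
      (Y := conjSet ((P : Set G) \ {1}))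
      ((hM.disjoint.mono_right (punctured_subset_bridge S P)).symm)
      (fun g hg => by
        obtain ⟨l, hl⟩ := exists_col_ne hM.self hM.right
        rw [Pi.sub_apply, I.lam_off s l hl g hg, I.lam_off _ l hl g hg, sub_self]) i
  rw [← classInner_conj, h, map_zero]

theorem exists_col : ∃ l : Col W₁ W₂, l ≠ col₀ := exists_col_ne hM.self hM.right

open scoped Classical in
/-- The array of the bridge: constant along the rows. -/
theorem exists_array : ∃ (t : Row W₁ W₂ → ℤ) (d : ℤ), t row₀ = 1 ∧ ∀ r l,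
    Cfsg.classInner F.α (χ (cell r l)) = ((t r + if l = col₀ then 0 else d - 1 : ℤ) : ℂ) := by
  obtain ⟨n, t, u, hn, ht, hu, hadd⟩ := grid_additive hM.family F.α_gen fun w h1 h2 =>
    F.α_off _ (Set.disjoint_right.1 hM.disjoint (mixed_mem_bridge S P h1 h2))
  have hn1 : n = 1 := by
    rw [hM.family.map_one, F.α_one] at hn
    exact_mod_cast hn.symm
  subst hn1
  obtain ⟨j, hj⟩ := hM.exists_col
  have hconst : ∀ k, k ≠ col₀ → u k = u j := fun k hk => by
    have h0 : Cfsg.classInner F.α (χ (cell row₀ k) - χ (cell row₀ j)) = 0 :=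
      classInner_eq_zero_of_supports hM.disjoint F.α_off fun g hg => by
        rw [Pi.sub_apply, I.pair_off row₀ k j hk hj g hg, sub_self]
    rw [classInner_sub_right, hadd, hadd, sub_eq_zero] at h0
    have h' : t row₀ + u k = t row₀ + u j := by exact_mod_cast h0
    omega
  refine ⟨t, 1 + u j, ht, fun r l => ?_⟩
  rw [hadd]
  split_ifs with hl
  · rw [hl, hu]
  · rw [hconst l hl, add_sub_cancel_left]

open scoped Classical in
/-- The value of the bridge on an image of the side is the sum of a column. -/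
theorem inner_lam {t : Row W₁ W₂ → ℤ} {d : ℤ} (ht : ∀ r l, Cfsg.classInner F.α (χ (cell r l)) =
      ((t r + if l = col₀ then 0 else d - 1 : ℤ) : ℂ) ) (s : κ) :
    Cfsg.classInner F.α (I.lam s) = ((∑ r, (t r + (d - 1)) : ℤ) : ℂ) := by
  obtain ⟨l, hl⟩ := hM.exists_col
  have h0 : Cfsg.classInner F.α (I.lam s - ∑ r, χ (cell r l)) = 0 :=
    classInner_eq_zero_of_supports (hM.disjoint.mono_right (punctured_subset_bridge S P)) F.α_off
      fun g hg => by rw [Pi.sub_apply, Finset.sum_apply, I.lam_off s l hl g hg, sub_self]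
  rw [classInner_sub_right, classInner_sum_right, sub_eq_zero] at h0
  rw [h0, Int.cast_sum]
  exact Finset.sum_congr rfl fun r _ => by rw [ht, if_neg hl]

open scoped Classical in
/-- The parity of the column value and the coefficient of a bridge of the side on the family. -/
theorem exists_parity {t : Row W₁ W₂ → ℤ} {d : ℤ} (ht0 : t row₀ = 1)
    (ht : ∀ r l, Cfsg.classInner F.α (χ (cell r l)) =
      ((t r + if l = col₀ then 0 else d - 1 : ℤ) : ℂ)) {l : Col W₁ W₂} (hl : l ≠ col₀) :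
    ∃ g : ℤ, (∀ i, Cfsg.classInner (I.β l) (F.z i) = ((g * F.r i : ℤ) : ℂ)) ∧ Odd (d + g) := by
  obtain ⟨g, hg⟩ := F.exists_coeff_of_disjoint (I.β_gen l hl) hM.disjoint.symm (I.β_off l hl)
  refine ⟨g, hg, ?_⟩
  obtain ⟨k, hk, hkβ, hkχ⟩ := I.β_conj l hl
  have hreal : Cfsg.conjFun (I.β l + χ (cell row₀ l)) = I.β l + χ (cell row₀ l) := by
    rw [show Cfsg.conjFun (I.β l + χ (cell row₀ l)) = Cfsg.conjFun (I.β l) + Cfsg.conjFun (χ (cell row₀ l))
      from funext fun x => by simp [Cfsg.conjFun], hkβ, hkχ]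
    have := I.β_diff l k hl hk
    rw [sub_eq_iff_eq_add] at this
    rw [this]
    abel
  have hη1 : Cfsg.classInner (χ (cell row₀ l)) (fun _ => (1 : ℂ)) = 0 := by
    rw [← hM.family.map_one, hM.family.orthonormal, if_neg]
    intro e
    rw [show (1 : ↥(W₁ ⊔ W₂) →* ℂˣ) = cell row₀ col₀ from (cell_row₀ col₀).symm] at e
    exact hl (cell_injective e).2
  refine odd_classInner_real hM.odd (IsGeneralized.add F.α_gen (F.z_gen F.i₀))
    (IsGeneralized.add (I.β_gen l hl) (isGeneralized_family hM.family _)) F.α_add_real hreal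
    (by rw [classInner_add_left, F.α_one, F.z_one, add_zero])
    (by rw [classInner_add_left, I.β_one l hl, hη1, add_zero]) ?_
  rw [classInner_add_left, classInner_add_right, classInner_add_right, ht, if_neg hl, ht0, hM.z_grid,
    classInner_eq_zero_of_supports hM.disjoint F.α_off (I.β_off l hl), ← classInner_conj (I.β l) (F.z F.i₀),
    hg, F.r_i₀, map_intCast]
  push_cast
  ring

variable [Fintype (Col W₁ W₂)]

/-- The array of a bridge of the side has norm at least two, and exactly two only for `1 - η_{0 l}`. -/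
theorem β_array {l : Col W₁ W₂} (hl : l ≠ col₀) :
    ∃ x : Row W₁ W₂ → Col W₁ W₂ → ℤ, (∀ r k, Cfsg.classInner (I.β l) (χ (cell r k)) = (x r k : ℂ)) ∧
      2 ≤ ∑ k, ∑ r, x r k * x r k ∧
      (∑ k, ∑ r, x r k * x r k ≤ 2 → x row₀ col₀ = 1 ∧ x row₀ l = -1 ∧
        ∀ r k, ¬ (r = row₀ ∧ (k = col₀ ∨ k = l)) → x r k = 0) := by
  classical
  obtain ⟨n, t, u, hn, ht, hu, hadd⟩ := grid_additive hM.family
    (θ := I.β l + χ (cell row₀ l) - χ 1)
    (IsGeneralized.sub (IsGeneralized.add (I.β_gen l hl) (isGeneralized_family hM.family _))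
      (isGeneralized_family hM.family _)) fun w h1 h2 => by
    rw [Pi.sub_apply, Pi.add_apply, I.β_mixed l hl w h1 h2, hM.family.eq_on _ w h1 h2,
      hM.family.map_one, cell_row₀]
    ring
  have h11 : (1 : ↥(W₁ ⊔ W₂) →* ℂˣ) = cell row₀ col₀ := (cell_row₀ col₀).symm
  have hcoef : ∀ r k, Cfsg.classInner (I.β l) (χ (cell r k)) =
      ((t r + u k + (if r = row₀ ∧ k = col₀ then 1 else 0) - (if r = row₀ ∧ k = l then 1 else 0) : ℤ) : ℂ) := by
    intro r k
    have h := hadd r k
    rw [classInner_sub_left, classInner_add_left, h11, IsCyclicTIFamily.inner_cell hM.family,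
      IsCyclicTIFamily.inner_cell hM.family] at h
    push_cast at h ⊢
    simp only [eq_comm (a := row₀), eq_comm (a := col₀), eq_comm (a := l)] at h
    linear_combination h
  have hn0 : n = 0 := by
    have h := hcoef row₀ col₀
    rw [← h11, hM.family.map_one, I.β_one l hl, ht, hu] at h
    simp [hl.symm] at h
    exact_mod_cast h
  subst hn0
  set x : Row W₁ W₂ → Col W₁ W₂ → ℤ := fun r k =>
    t r + u k + (if r = row₀ ∧ k = col₀ then 1 else 0) - (if r = row₀ ∧ k = l then 1 else 0) with hx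
  have hx00 : x row₀ col₀ = 1 := by simp [hx, ht, hu, hl.symm]
  have hne : ∃ r k, ¬ (r = row₀ ∧ k = col₀) ∧ x r k ≠ 0 := by
    by_contra hh
    push Not at hh
    obtain ⟨r, hr⟩ := exists_row_ne hM.self hM.left
    have h1 := hh row₀ l fun _ => hl
    have h2 := hh r col₀ fun e => absurd e hr
    have h3 := hh r l fun e => absurd e hr
    simp [hx, ht, hu, hl, hr] at h1 h2 h3
    omega
  have hsum : ∀ s : Finset (Row W₁ W₂ × Col W₁ W₂),
      ∑ p ∈ s, x p.1 p.2 * x p.1 p.2 ≤ ∑ k, ∑ r, x r k * x r k := fun s => by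
    rw [Finset.sum_comm, ← Fintype.sum_prod_type' (f := fun r k => x r k * x r k)]
    exact Finset.sum_le_sum_of_subset_of_nonneg (Finset.subset_univ s) fun _ _ _ => mul_self_nonneg _
  obtain ⟨r₁, k₁, hne1, hx1⟩ := hne
  have hpair : ((row₀, col₀) : Row W₁ W₂ × Col W₁ W₂) ≠ (r₁, k₁) := fun e =>
    hne1 ⟨(congrArg Prod.fst e).symm, (congrArg Prod.snd e).symm⟩
  refine ⟨x, hcoef, ?_, fun hle => ?_⟩
  · have h := hsum {(row₀, col₀), (r₁, k₁)}
    rw [Finset.sum_pair hpair, hx00] at h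
    simp only at h
    have := one_le_mul_self hx1
    omega
  have honly : ∀ r k, ¬ (r = row₀ ∧ k = col₀) → x r k ≠ 0 → r = r₁ ∧ k = k₁ := fun r k h1 h2 => by
    by_contra hh
    have h := hsum {(row₀, col₀), (r₁, k₁), (r, k)}
    rw [Finset.sum_insert (by simpa using ⟨fun a b => hpair (by rw [a, b]),
        fun a b => h1 ⟨a.symm, b.symm⟩⟩),
      Finset.sum_pair (fun e => hh ⟨(congrArg Prod.fst e).symm, (congrArg Prod.snd e).symm⟩), hx00] at h
    simp only at h
    have := one_le_mul_self hx1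
    have := one_le_mul_self h2
    omega
  have hu1 : u l ≠ 1 := by
    intro hul
    obtain ⟨r, r', hr, hr', hrr⟩ : ∃ r r' : Row W₁ W₂, r ≠ row₀ ∧ r' ≠ row₀ ∧ r ≠ r' := by
      have hcard : 3 ≤ Fintype.card (Row W₁ W₂) := by
        rw [← Nat.card_eq_fintype_card, (card_trivL hM.self).2]
        exact hM.left
      have h2 : 1 < ((Finset.univ : Finset (Row W₁ W₂)).erase row₀).card := by
        rw [Finset.card_erase_of_mem (Finset.mem_univ _), Finset.card_univ]
        omega
      obtain ⟨a, ha, b, hb, hab⟩ := Finset.one_lt_card.1 h2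
      exact ⟨a, b, Finset.ne_of_mem_erase ha, Finset.ne_of_mem_erase hb, hab⟩
    have hA : ∀ a, a ≠ row₀ → a = r₁ := fun a ha => by
      by_cases h0 : x a col₀ = 0
      · refine (honly a l (fun e => ha e.1) ?_).1
        simp [hx, ha, hu] at h0 ⊢
        omega
      · exact (honly a col₀ (fun e => ha e.1) h0).1
    exact hrr ((hA r hr).trans (hA r' hr').symm)
  have hxl : x row₀ l ≠ 0 := by
    simp [hx, ht, hl]
    omega
  obtain ⟨hr1, hk1⟩ := honly row₀ l (fun e => hl e.2) hxl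
  have hzero : ∀ r k, ¬ (r = row₀ ∧ (k = col₀ ∨ k = l)) → x r k = 0 := fun r k h1 => by
    by_contra h2
    obtain ⟨a, b⟩ := honly r k (fun e => h1 ⟨e.1, Or.inl e.2⟩) h2
    exact h1 ⟨a.trans hr1.symm, Or.inr (b.trans hk1.symm)⟩
  refine ⟨hx00, ?_, hzero⟩
  obtain ⟨r, hr⟩ := exists_row_ne hM.self hM.left
  have h2 := hzero r col₀ fun e => hr e.1
  have h3 := hzero r l fun e => hr e.1
  simp [hx, ht, hu, hl, hr] at h2 h3 ⊢
  omega

/-- The coefficient of a bridge of the side on the family is small. -/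
theorem coeff_bound {l : Col W₁ W₂} (hl : l ≠ col₀) {g : ℤ}
    (hg : ∀ i, Cfsg.classInner (I.β l) (F.z i) = ((g * F.r i : ℤ) : ℂ)) :
    ∃ k : ℕ, k * Nat.card W₁ + 1 = Nat.card U ∧ g * g * F.sq ≤ k := by
  classical
  obtain ⟨k, hk, hnorm⟩ := I.β_norm l hl
  obtain ⟨x, hx, h2, -⟩ := hM.β_array hl
  refine ⟨k, hk, ?_⟩
  have h := grid_bessel_index hM.family x hx F.z F.signed F.orth hM.z_grid _ hg
    (N := (k : ℤ) + 2) (by rw [hnorm]; push_cast; ring)
  have e : ∑ i, g * F.r i * (g * F.r i) = g * g * F.sq := by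
    rw [Family.sq, Finset.mul_sum]
    exact Finset.sum_congr rfl fun i _ => by ring
  omega

end Meets

/-- Two families with disjoint supports: the two mixed coefficients have different parity. -/
theorem family_parity {ι' : Type u} [Fintype ι'] (F : Family G ι) (F' : Family G ι')
    (hodd : Odd (Nat.card G)) (hdis : Disjoint F.X F'.X) :
    ∃ a b : ℤ, (∀ i, Cfsg.classInner F.α (F'.z i) = ((a * F'.r i : ℤ) : ℂ)) ∧
      (∀ i, Cfsg.classInner F'.α (F.z i) = ((b * F.r i : ℤ) : ℂ)) ∧ Odd (a + b) := by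
  obtain ⟨a, ha⟩ := F'.exists_coeff_of_disjoint F.α_gen hdis F.α_off
  obtain ⟨b, hb⟩ := F.exists_coeff_of_disjoint F'.α_gen hdis.symm F'.α_off
  refine ⟨a, b, ha, hb, ?_⟩
  refine odd_classInner_real hodd (IsGeneralized.add F.α_gen (F.z_gen F.i₀))
    (IsGeneralized.add F'.α_gen (F'.z_gen F'.i₀)) F.α_add_real F'.α_add_real
    (by rw [classInner_add_left, F.α_one, F.z_one, add_zero])
    (by rw [classInner_add_left, F'.α_one, F'.z_one, add_zero]) ?_
  rw [classInner_add_left, classInner_add_right, classInner_add_right,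
    classInner_eq_zero_of_supports hdis F.α_off F'.α_off, ha, F'.r_i₀,
    ← classInner_conj F'.α (F.z F.i₀), hb, F.r_i₀, map_intCast,
    ← classInner_conj (F'.z F'.i₀) (F.z F.i₀), F.orth_family F' hdis.symm, map_zero]
  push_cast
  ring

end CfsgLib.OddEnd
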