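import Cfsg.Agent.OddEnd.FourteenCount
import Cfsg.Agent.OddEnd.TenDade

/-!
Peterfalvi section 14: the Dade map of a Dade hypothesis with trivial supporting subgroups.
-/

set_option autoImplicit false
set_option linter.unusedSectionVars false

namespace CfsgLib.OddEnd

open CfsgLib.Char
open scoped ComplexConjugate

universe u

variable {G : Type u} [Group G] [Fintype G]

/-- The Dade map with trivial supporting subgroups. -/
noncomputable def tiMap (A : Set G) (L : Subgroup G) (f : L → ℂ) : G → ℂ :=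
  Cfsg.dadeIsometry A L (fun _ => ⊥) f

variable {A : Set G} {L : Subgroup G} (hD : Cfsg.DadeHypothesis A L (fun _ => ⊥))
include hD

theorem tiMap_off {f : L → ℂ} {g : G} (hg : g ∉ conjSet A) : tiMap A L f g = 0 :=
  dadeIsometry_eq_zero hD fun ⟨a, ha, u, hu, x, hx⟩ => hg ⟨a, ha, x, by
    rw [hx, Subgroup.mem_bot.1 hu, mul_one]⟩

theorem tiMap_at {f : L → ℂ} (hf : Cfsg.IsClassFunction L f) {g : G} {a : L} (ha : (a : G) ∈ A) {x : G}
    (hx : x * g * x⁻¹ = a) : tiMap A L f g = f a :=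
  dadeIsometry_apply hD hf ha (Subgroup.one_mem _) (x := x) (by rw [hx, mul_one])

theorem tiMap_self {f : L → ℂ} (hf : Cfsg.IsClassFunction L f) {a : L} (ha : (a : G) ∈ A) :
    tiMap A L f a = f a :=
  tiMap_at hD hf ha (x := 1) (by group)

theorem tiMap_sub {f g : L → ℂ} (hf : Cfsg.IsClassFunction L f) (hg : Cfsg.IsClassFunction L g) :
    tiMap A L (f - g) = tiMap A L f - tiMap A L g := by
  have hfg : Cfsg.IsClassFunction L (f - g) := fun x y => by
    rw [Pi.sub_apply, Pi.sub_apply, hf x y, hg x y]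
  funext y
  by_cases hy : y ∈ conjSet A
  · obtain ⟨a, ha, x, hx⟩ := hy
    rw [Pi.sub_apply, tiMap_at hD hfg (a := ⟨a, hD.subset ha⟩) ha hx,
      tiMap_at hD hf (a := ⟨a, hD.subset ha⟩) ha hx, tiMap_at hD hg (a := ⟨a, hD.subset ha⟩) ha hx,
      Pi.sub_apply]
  · rw [Pi.sub_apply, tiMap_off hD hy, tiMap_off hD hy, tiMap_off hD hy, sub_zero]

theorem tiMap_sum {ι : Type*} (s : Finset ι) {f : ι → L → ℂ} (hf : ∀ i ∈ s, Cfsg.IsClassFunction L (f i)) :
    tiMap A L (∑ i ∈ s, f i) = ∑ i ∈ s, tiMap A L (f i) := by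
  have hsum : Cfsg.IsClassFunction L (∑ i ∈ s, f i) := fun x y => by
    rw [Finset.sum_apply, Finset.sum_apply]
    exact Finset.sum_congr rfl fun i hi => hf i hi x y
  funext y
  rw [Finset.sum_apply]
  by_cases hy : y ∈ conjSet A
  · obtain ⟨a, ha, x, hx⟩ := hy
    rw [tiMap_at hD hsum (a := ⟨a, hD.subset ha⟩) ha hx, Finset.sum_apply]
    exact Finset.sum_congr rfl fun i hi => (tiMap_at hD (hf i hi) (a := ⟨a, hD.subset ha⟩) ha hx).symm
  · rw [tiMap_off hD hy]
    exact (Finset.sum_eq_zero fun i _ => tiMap_off hD hy).symm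

theorem tiMap_conjFun {f : L → ℂ} (hf : Cfsg.IsClassFunction L f) :
    Cfsg.conjFun (tiMap A L f) = tiMap A L (Cfsg.conjFun f) := by
  have hc : Cfsg.IsClassFunction L (Cfsg.conjFun f) := fun x y => congrArg conj (hf x y)
  funext y
  by_cases hy : y ∈ conjSet A
  · obtain ⟨a, ha, x, hx⟩ := hy
    show conj (tiMap A L f y) = _
    rw [tiMap_at hD hf (a := ⟨a, hD.subset ha⟩) ha hx, tiMap_at hD hc (a := ⟨a, hD.subset ha⟩) ha hx]
    rfl
  · show conj (tiMap A L f y) = _
    rw [tiMap_off hD hy, tiMap_off hD hy, map_zero]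

/-- A function supported on a smaller set gives an image supported on its conjugates. -/
theorem tiMap_off_sub {B : Set G} {f : L → ℂ} (hf : Cfsg.IsClassFunction L f)
    (hB : ∀ x : L, (x : G) ∉ B → f x = 0) {g : G} (hg : g ∉ conjSet B) : tiMap A L f g = 0 := by
  by_cases hgA : g ∈ conjSet A
  · obtain ⟨a, ha, x, hx⟩ := hgA
    rw [tiMap_at hD hf (a := ⟨a, hD.subset ha⟩) ha hx, hB _ fun haB => hg ⟨a, haB, x, hx⟩]
  · exact tiMap_off hD hgA

variable [Fintype L]

theorem isGeneralized_tiMap {f : L → ℂ} (hf : Cfsg.IsGeneralizedCharacter L f)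
    (hA : ∀ x : L, (x : G) ∉ A → f x = 0) : Cfsg.IsGeneralizedCharacter G (tiMap A L f) :=
  isGeneralized_dadeIsometry hD hf hA

theorem tiMap_inner {f g : L → ℂ} (hf : Cfsg.IsClassFunction L f) (hA : ∀ x : L, (x : G) ∉ A → f x = 0)
    (hg : Cfsg.IsClassFunction L g) :
    Cfsg.classInner (tiMap A L f) (tiMap A L g) = Cfsg.classInner f g :=
  classInner_dadeIsometry_dadeIsometry hD hf hA hg

/-- Frobenius reciprocity for the Dade map. -/
theorem tiMap_inner_restrict {f : L → ℂ} (hf : Cfsg.IsClassFunction L f)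
    (hA : ∀ x : L, (x : G) ∉ A → f x = 0) {η : G → ℂ} (hη : Cfsg.IsClassFunction G η) :
    Cfsg.classInner (tiMap A L f) η = Cfsg.classInner f (fun x : L => η x) :=
  classInner_dadeIsometry hD hf hA hη fun a _ => by
    rw [Subgroup.coe_bot, finsum_mem_singleton, Subgroup.card_bot, Nat.cast_one, inv_one, one_mul, mul_one]

theorem tiMap_inner_one {f : L → ℂ} (hf : Cfsg.IsClassFunction L f) (hA : ∀ x : L, (x : G) ∉ A → f x = 0) :
    Cfsg.classInner (tiMap A L f) (fun _ => (1 : ℂ)) = Cfsg.classInner f (fun _ => (1 : ℂ)) :=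
  tiMap_inner_restrict hD hf hA (η := fun _ => (1 : ℂ)) fun _ _ => rfl

end CfsgLib.OddEnd
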