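import Cfsg.Agent.OddEnd.FourteenChars
import Cfsg.Agent.OddEnd.FourteenTI

/-!
Peterfalvi section 14: the nontrivial columns of one side, and the bridge `Ind_{P W₁}^S 1 - μ(0, l)`.
-/

set_option autoImplicit false
set_option linter.unusedSectionVars false
set_option linter.style.haveILetI false

namespace CfsgLib.OddEnd

open Subgroup CfsgLib.Char
open scoped ComplexConjugate

universe u

variable {G : Type u} [Group G]

/-- The sum of a column of the grid. -/
noncomputable def colSum {X : Type*} {W₁ W₂ : Subgroup G} [Fintype (Row W₁ W₂)]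
    (μ : (↥(W₁ ⊔ W₂) →* ℂˣ) → X → ℂ) (l : Col W₁ W₂) : X → ℂ :=
  ∑ r : Row W₁ W₂, μ (cell r l)

/-- The permutation character of `S` on the cosets of `P W₁`. -/
noncomputable def bridgeChar (S P W₁ : Subgroup G) [Fintype S] : S → ℂ :=
  Cfsg.indFun (P.subgroupOf S ⊔ W₁.subgroupOf S) fun _ => (1 : ℂ)

variable [Fintype G]

namespace SideData

variable {S K P U W₁ W₂ : Subgroup G} {p q : ℕ} (D : SideData S K P U W₁ W₂ p q) [Fintype S]
include D

theorem W₂_le_S : W₂ ≤ S := D.W₂_le.trans D.P_le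

theorem W₂_le_K : W₂ ≤ K := D.W₂_le.trans D.P_le_K

theorem left_not_P {w : G} (hw : w ∈ W₁) (hwP : w ∈ K) : w = 1 :=
  mem_bot.1 (D.compl'.2.2.1 ▸ ⟨hwP, hw⟩)

/-- An element of `W₁ W₂` is a product. -/
theorem mem_W {x : G} (hx : x ∈ W₁ ⊔ W₂) : ∃ a ∈ W₁, ∃ b ∈ W₂, x = a * b := by
  have hn : W₁ ≤ normalizer (W₂ : Set G) := fun a ha => centralizer_le_normalizer _
    (mem_centralizer_iff.2 fun b hb => (D.primeDade.selfNorm.2.2.2.1 a ha b hb).symm)
  rw [← SetLike.mem_coe, coe_mul_of_left_le_normalizer_right W₁ W₂ hn] at hx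
  obtain ⟨a, ha, b, hb, e⟩ := hx
  exact ⟨a, ha, b, hb, e.symm⟩

theorem W_inf_K {x : G} (hx : x ∈ W₁ ⊔ W₂) (hxK : x ∈ K) : x ∈ W₂ := by
  obtain ⟨a, ha, b, hb, rfl⟩ := D.mem_W hx
  have ha1 : a = 1 := D.left_not_P ha (by simpa using K.mul_mem hxK (K.inv_mem (D.W₂_le_K hb)))
  simpa [ha1] using hb

/-- Elements of the bridge set. -/
theorem mem_bridge_of_conj {x g : S} (hg : ((g * x * g⁻¹ : S) : G) ∈ W₁ ⊔ W₂)
    (h1 : ((g * x * g⁻¹ : S) : G) ∉ W₁) (h2 : ((g * x * g⁻¹ : S) : G) ∉ W₂) :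
    (x : G) ∈ bridgeSet S P W₁ W₂ :=
  Or.inr ⟨(g : G)⁻¹, S.inv_mem g.2, _, hg, h1, h2, by simp [mul_assoc]⟩

theorem punctured_bridge {x : S} (hx : (x : G) ∈ P) (hx1 : x ≠ 1) : (x : G) ∈ bridgeSet S P W₁ W₂ :=
  Or.inl ⟨hx, fun e => hx1 (Subtype.ext e)⟩

theorem bridgeChar_of_mem {x : S} (hx : (x : G) ∈ P) : bridgeChar S P W₁ x = (Nat.card U : ℂ) := by
  classical
  haveI := D.normal_P
  set T := P.subgroupOf S ⊔ W₁.subgroupOf S
  rw [bridgeChar, indFun_def, Finset.sum_congr rfl fun g _ => extendByZero_of_mem _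
    (show g⁻¹ * x * g ∈ T from mem_sup_left (by
      simpa using (D.normal_P).conj_mem x hx g⁻¹)), Finset.sum_const, Finset.card_univ, nsmul_one,
    ← Nat.card_eq_fintype_card, D.card_S]
  have hT : Nat.card ↥T = Nat.card P * q := by
    have hdis : W₁.subgroupOf S ⊓ P.subgroupOf S = ⊥ := eq_bot_iff.2 fun y hy =>
      mem_bot.2 (Subtype.ext (D.left_not_P hy.1 (D.P_le_K hy.2)))
    have h := CfsgLib.Solvable.card_sup_of_disjoint (A := W₁.subgroupOf S) (K := P.subgroupOf S)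
      le_normalizer_of_normal hdis
    rw [sup_comm, card_subgroupOf D.P_le, card_subgroupOf D.W₁_le, D.mod.card_W, mul_comm] at h
    exact h
  rw [hT]
  have h1 : (Nat.card P : ℂ) ≠ 0 := Nat.cast_ne_zero.2 Nat.card_pos.ne'
  have h2 : (q : ℂ) ≠ 0 := Nat.cast_ne_zero.2 D.mod.prime_q.ne_zero
  push_cast
  field_simp

omit [Fintype S] in
theorem mem_PW {x : S} :
    x ∈ P.subgroupOf S ⊔ W₁.subgroupOf S ↔ ∃ a ∈ P.subgroupOf S, ∃ w ∈ W₁.subgroupOf S, x = a * w := by
  haveI := D.normal_P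
  rw [← SetLike.mem_coe, normal_mul]
  exact ⟨fun ⟨a, ha, w, hw, e⟩ => ⟨a, ha, w, hw, e.symm⟩, fun ⟨a, ha, w, hw, e⟩ => ⟨a, ha, w, hw, e.symm⟩⟩

theorem bridgeChar_zero {x : S} (hxK : (x : G) ∈ K) (hxP : (x : G) ∉ P) : bridgeChar S P W₁ x = 0 := by
  haveI := D.normal_P
  haveI := D.normal_K
  refine indFun_eq_zero _ fun g hg => hxP ?_
  obtain ⟨a, ha, w, hw, e⟩ := D.mem_PW.1 hg
  have hgK : g⁻¹ * x * g ∈ K.subgroupOf S := by simpa using (D.normal_K).conj_mem x hxK g⁻¹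
  have hw1 : (w : G) = 1 := D.left_not_P hw (by
    have : w = a⁻¹ * (g⁻¹ * x * g) := by rw [e, inv_mul_cancel_left]
    rw [this]
    exact mul_mem (inv_mem (D.P_le_K ha)) hgK)
  rw [show w = 1 from Subtype.ext hw1, mul_one] at e
  have := (D.normal_P).conj_mem a ha g
  rw [← e, show g * (g⁻¹ * x * g) * g⁻¹ = x by group] at this
  exact this

theorem bridgeChar_off_K {x : S} (hx : (x : G) ∉ K) : bridgeChar S P W₁ x = 1 := by
  classical
  haveI := D.normal_P
  haveI := D.normal_K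
  obtain ⟨g₀, hg₀, hg₂⟩ := D.primeDade.exists_conj hx
  rw [bridgeChar, ← isClassFunction_indFun _ _ x g₀, indFun_def]
  set T := P.subgroupOf S ⊔ W₁.subgroupOf S
  obtain ⟨a, ha, b, hb, hab⟩ := D.mem_W hg₀
  set A : S := ⟨a, D.W₁_le ha⟩
  set B : S := ⟨b, D.W₂_le_S hb⟩
  have hA1 : a ≠ 1 := fun e => hg₂ (by rw [hab, e, one_mul]; exact hb)
  have hy : g₀ * x * g₀⁻¹ = A * B := Subtype.ext hab
  have hAT : A ∈ T := mem_sup_right (show a ∈ W₁ from ha)
  have hBP : B ∈ P.subgroupOf S := D.W₂_le hb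
  rw [hy]
  have hiff : ∀ g : S, g⁻¹ * (A * B) * g ∈ T ↔ g ∈ T := fun g => by
    refine ⟨fun hg => ?_, fun hg => mul_mem (mul_mem (inv_mem hg) (mul_mem hAT (mem_sup_left hBP))) hg⟩
    obtain ⟨k, hk, w, hw, e⟩ := D.compl'.2.2.2 (g : G) g.2
    obtain ⟨c, hc, v, hv, e'⟩ := D.compl.2.2.2 k hk
    set V : S := ⟨v, D.U_le hv⟩
    have hgV : g = (⟨c, D.P_le hc⟩ : S) * V * ⟨w, D.W₁_le hw⟩ := Subtype.ext (by rw [e, e']; rfl)
    have hcT : (⟨c, D.P_le hc⟩ : S) ∈ T := mem_sup_left (show c ∈ P from hc)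
    have hwT : (⟨w, D.W₁_le hw⟩ : S) ∈ T := mem_sup_right (show w ∈ W₁ from hw)
    set B' : S := A⁻¹ * ((⟨c, D.P_le hc⟩ : S)⁻¹ * (A * B) * (⟨c, D.P_le hc⟩ : S))
    have hB' : B' ∈ P.subgroupOf S := by
      have h1 : A⁻¹ * (⟨c, D.P_le hc⟩ : S)⁻¹ * A ∈ P.subgroupOf S := by
        simpa using (D.normal_P).conj_mem _ (inv_mem (show (⟨c, D.P_le hc⟩ : S) ∈ P.subgroupOf S from hc)) A⁻¹
      have h2 := mul_mem (mul_mem h1 hBP) (show (⟨c, D.P_le hc⟩ : S) ∈ P.subgroupOf S from hc)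
      simp only [B']
      convert h2 using 1
      group
    have hV : V⁻¹ * A * V ∈ T := by
      have h1 : V⁻¹ * (A * B') * V ∈ T := by
        have := mul_mem (mul_mem hwT hg) (inv_mem hwT)
        convert this using 1
        simp only [B', hgV]
        group
      have h2 : V⁻¹ * B' * V ∈ P.subgroupOf S := by simpa using (D.normal_P).conj_mem _ hB' V⁻¹
      have h3 := mul_mem h1 (inv_mem (mem_sup_left (T := W₁.subgroupOf S) h2))
      convert h3 using 1
      group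
    obtain ⟨a', ha', w', hw', e''⟩ := D.mem_PW.1 hV
    have hU : v⁻¹ * (a * v * a⁻¹) ∈ U := U.mul_mem (U.inv_mem hv) ((mem_normalizer_iff.1 (D.mod.W_normU ha) v).1 hv)
    have eG : v⁻¹ * a * v = (a' : G) * w' := congrArg Subtype.val e''
    have e3 : (w' : G) * a⁻¹ = (a' : G)⁻¹ * (v⁻¹ * (a * v * a⁻¹)) := by
      rw [show v⁻¹ * (a * v * a⁻¹) = v⁻¹ * a * v * a⁻¹ by group, eG]
      group
    have hw'K : (w' : G) * a⁻¹ = 1 := D.left_not_P (W₁.mul_mem hw' (W₁.inv_mem ha))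
      (e3 ▸ K.mul_mem (K.inv_mem (D.P_le_K ha')) (D.U_le_K hU))
    have hfix : v⁻¹ * (a * v * a⁻¹) = 1 := by
      rw [hw'K, eq_comm, inv_mul_eq_one] at e3
      exact mem_bot.1 (D.compl.2.2.1 ▸ ⟨e3 ▸ ha', hU⟩)
    have hv1 : v = 1 := D.mod.W_free a ha hA1 v hv (mul_inv_eq_iff_eq_mul.1 (inv_mul_eq_one.1 hfix).symm)
    rw [hgV, show V = 1 from Subtype.ext hv1, mul_one]
    exact mul_mem hcT hwT
  have hsum : ∑ g : S, Cfsg.extendByZero T (fun _ => (1 : ℂ)) (g⁻¹ * (A * B) * g) = (Nat.card ↥T : ℂ) := by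
    rw [Finset.sum_congr rfl fun g _ => (show _ = if g ∈ T then (1 : ℂ) else 0 by
      rw [extendByZero_eq, hiff g]; split_ifs <;> rfl)]
    rw [Finset.sum_boole, Nat.card_eq_fintype_card, Fintype.card_subtype]
  rw [hsum, inv_mul_cancel₀ (Nat.cast_ne_zero.2 Nat.card_pos.ne')]

theorem bridgeChar_one : bridgeChar S P W₁ 1 = (Nat.card U : ℂ) := D.bridgeChar_of_mem P.one_mem

theorem bridgeChar_class : Cfsg.IsClassFunction S (bridgeChar S P W₁) := isClassFunction_indFun _ _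

theorem bridgeChar_gen : Cfsg.IsGeneralizedCharacter S (bridgeChar S P W₁) :=
  IsGeneralized.indFun (IsIrrCharacter.isGeneralized isIrrCharacter_one)

theorem bridgeChar_conj : Cfsg.conjFun (bridgeChar S P W₁) = bridgeChar S P W₁ := by
  funext x
  show conj _ = _
  rw [bridgeChar, indFun_def, map_mul, map_inv₀, map_natCast, map_sum]
  congr 1
  refine Finset.sum_congr rfl fun g _ => ?_
  by_cases h : g⁻¹ * x * g ∈ P.subgroupOf S ⊔ W₁.subgroupOf S
  · rw [extendByZero_of_mem _ h, map_one]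
  · rw [extendByZero_of_not_mem _ h, map_zero]

theorem bridgeChar_inner_one : Cfsg.classInner (bridgeChar S P W₁) (fun _ => 1) = 1 := by
  classical
  haveI := Fintype.ofFinite ↥(P.subgroupOf S ⊔ W₁.subgroupOf S)
  rw [bridgeChar, classInner_indFun (χ := fun _ : S => (1 : ℂ)) _ (fun _ _ => rfl)]
  exact classInner_one_one

theorem bridgeChar_norm : ∃ k : ℕ, k * q + 1 = Nat.card U ∧
    Cfsg.classInner (bridgeChar S P W₁) (bridgeChar S P W₁) = (k : ℂ) + 1 := by
  classical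
  haveI := D.normal_P
  have hk : Nat.card U / q * q + 1 = Nat.card U := by
    have h := Nat.div_add_mod (Nat.card U) q
    rw [D.u_mod, mul_comm] at h
    exact h
  refine ⟨_, hk, ?_⟩
  set k := Nat.card U / q
  set T := P.subgroupOf S ⊔ W₁.subgroupOf S
  haveI := Fintype.ofFinite ↥T
  conv_lhs => arg 1; rw [bridgeChar]
  rw [classInner_indFun _ D.bridgeChar_class, classInner_def,
    Finset.sum_congr rfl fun (t : T) _ => show (1 : ℂ) * conj (bridgeChar S P W₁ (t : S)) =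
      if ((t : S) : G) ∈ P then (Nat.card U : ℂ) else 1 from by
      rw [one_mul]
      split_ifs with h
      · rw [D.bridgeChar_of_mem h, map_natCast]
      · rw [D.bridgeChar_off_K fun hK => h ?_, map_one]
        obtain ⟨a, ha, w, hw, e⟩ := D.mem_PW.1 t.2
        have : (w : G) = 1 := D.left_not_P hw (by
          rw [show (w : G) = (a : G)⁻¹ * ((t : S) : G) by rw [e]; simp]
          exact K.mul_mem (K.inv_mem (D.P_le_K ha)) hK)
        rw [e, show w = 1 from Subtype.ext this, mul_one]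
        exact ha,
    Finset.sum_ite, Finset.sum_const, Finset.sum_const, nsmul_one, nsmul_eq_mul]
  have hP : (Finset.univ.filter fun t : T => ((t : S) : G) ∈ P).card = Nat.card P := by
    rw [← Fintype.card_subtype, ← Nat.card_eq_fintype_card, ← card_subgroupOf D.P_le]
    exact Nat.card_congr ⟨fun t => ⟨(t.1 : S), t.2⟩, fun a => ⟨⟨a.1, mem_sup_left a.2⟩, a.2⟩,
      fun t => rfl, fun a => rfl⟩
  have hT : Nat.card ↥T = Nat.card P * q := by
    have hdis : W₁.subgroupOf S ⊓ P.subgroupOf S = ⊥ := eq_bot_iff.2 fun y hy =>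
      mem_bot.2 (Subtype.ext (D.left_not_P hy.1 (D.P_le_K hy.2)))
    have h := CfsgLib.Solvable.card_sup_of_disjoint (A := W₁.subgroupOf S) (K := P.subgroupOf S)
      le_normalizer_of_normal hdis
    rw [sup_comm, card_subgroupOf D.P_le, card_subgroupOf D.W₁_le, D.mod.card_W, mul_comm] at h
    exact h
  have htot := Finset.card_filter_add_card_filter_not (s := (Finset.univ : Finset T))
    (p := fun t : T => ((t : S) : G) ∈ P)
  rw [Finset.card_univ, ← Nat.card_eq_fintype_card, hP, hT] at htot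
  have hrest := congrArg (Nat.cast : ℕ → ℂ) htot
  push_cast at hrest
  rw [hP, hT, ← hk]
  push_cast
  have h1 : (Nat.card P : ℂ) ≠ 0 := Nat.cast_ne_zero.2 Nat.card_pos.ne'
  have h2 : (q : ℂ) ≠ 0 := Nat.cast_ne_zero.2 D.mod.prime_q.ne_zero
  field_simp
  linear_combination hrest

variable [Fintype (Row W₁ W₂)] {χ : (↥(W₁ ⊔ W₂) →* ℂˣ) → G → ℂ}
  {μ : (↥(W₁ ⊔ W₂) →* ℂˣ) → S → ℂ} {δ : (↥(W₁ ⊔ W₂) →* ℂˣ) → ℂ} (hμ : IsMuG S K W₁ W₂ μ δ)
include hμ

theorem μ_inner [DecidableEq (Row W₁ W₂)] [DecidableEq (Col W₁ W₂)] (r r' : Row W₁ W₂) (l l' : Col W₁ W₂) :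
    Cfsg.classInner (μ (cell r l)) (μ (cell r' l')) = if r = r' ∧ l = l' then 1 else 0 := by
  split_ifs with h
  · rw [h.1, h.2, IsIrrCharacter.classInner_self (hμ.irr _)]
  · exact IsIrrCharacter.classInner_of_ne (hμ.irr _) (hμ.irr _) fun e => h (cell_injective (hμ.inj e))

/-- Every nontrivial column is induced from a free character of `P`. -/
theorem col_facts {l : Col W₁ W₂} (hl : l ≠ col₀) :
    ∃ φ : ↥(P.subgroupOf S) →* ℂˣ, FreeChar (U.subgroupOf S) φ ∧
      (haveI := D.normal_P; Nat.card (inertia (lin φ)) = Nat.card P * q) ∧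
      indP S P φ = colSum μ l ∧
      ∀ r : Row W₁ W₂, μ (cell r l) 1 = (Nat.card U : ℂ) ∧
        (∀ x : S, (x : G) ∈ K → (x : G) ∉ P → μ (cell r l) x = 0) ∧
        ∀ x : S, (x : G) ∈ P → (q : ℂ) * μ (cell r l) x = indP S P φ x := by
  haveI := D.normal_P
  obtain ⟨φ, hφ, hI⟩ := D.exists_inv
  obtain ⟨l₁, hl₁, hcol, hr⟩ := D.exists_col hμ hφ hI
  obtain ⟨σ, hσ⟩ := exists_col_galois D.primeDade.selfNorm (D.card_W₂.symm ▸ D.mod.prime_p) hl₁ hl
  have hind : indP S P (mapHom σ φ) = fun x => σ (indP S P φ x) := funext fun x => by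
    rw [indP, indP, indFun_map_ringEquiv]
    rfl
  have hμσ : ∀ r, μ (cell r l) = fun x => σ (μ (cell r l₁) x) := fun r => by
    rw [← hσ r, (hμ.map σ _).1]
  refine ⟨mapHom σ φ, fun v hv h => hφ v hv fun x y hy => Units.ext (σ.injective ?_), ?_, ?_, fun r => ⟨?_,
    fun x hx hx' => ?_, fun x hx => ?_⟩⟩
  · exact congrArg Units.val (h x y hy)
  · rw [← hI]
    congr 2
    ext g
    simp only [mem_inertia_iff, lin, mapHom_apply, σ.injective.eq_iff]
  · funext x
    rw [hind]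
    simp only [hcol, Finset.sum_apply, map_sum, colSum, hμσ]
  · rw [hμσ r]
    simp only [(hr r).1, map_natCast]
  · rw [hμσ r]
    simp only [(hr r).2.1 x hx hx', map_zero]
  · rw [hμσ r, hind]
    simp only [← (hr r).2.2 x hx, map_mul, map_natCast]

theorem colSum_zero {l : Col W₁ W₂} (hl : l ≠ col₀) {x : S} (hx : (x : G) ∉ P) : colSum μ l x = 0 := by
  obtain ⟨φ, -, -, hcol, -⟩ := D.col_facts hμ hl
  rw [← hcol]
  exact D.indP_off hx

theorem colSum_one {l : Col W₁ W₂} (hl : l ≠ col₀) : colSum μ l 1 = ((Nat.card U * q : ℕ) : ℂ) := by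
  obtain ⟨φ, -, -, hcol, -⟩ := D.col_facts hμ hl
  rw [← hcol]
  exact D.indP_one φ

/-- The sign of a nontrivial column. -/
theorem delta_one {l : Col W₁ W₂} (hl : l ≠ col₀) (r : Row W₁ W₂) : δ (cell r l) = 1 := by
  classical
  have hs : δ (cell r l) = δ (cell row₀ l) := hμ.sign_eq _ _ fun w hw => by
    rw [cell, cell, MonoidHom.mul_apply, MonoidHom.mul_apply, r.2 w hw, (row₀ : Row W₁ W₂).2 w hw]
  rw [hs]
  refine (hμ.sign _).resolve_right fun hneg => ?_
  obtain ⟨φ, -, -, -, hr⟩ := D.col_facts hμ hl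
  haveI := Fintype.ofFinite ↥(W₁.subgroupOf S)
  have hone := (hr row₀).1
  obtain ⟨n, hn⟩ := IsCharacter.exists_classInner_eq_natCast'
    (IsCharacter.restrict (IsIrrCharacter.isCharacter (hμ.irr (cell row₀ l))) (W₁.subgroupOf S))
    (IsIrrCharacter.isCharacter (isIrrCharacter_one (G := ↥(W₁.subgroupOf S))))
  have hterm : ∀ w : ↥(W₁.subgroupOf S), w ≠ 1 → μ (cell row₀ l) (w : S) * conj (1 : ℂ) = -1 := fun w hw => by
    have hw1 : ((w : S) : G) ≠ 1 := fun e => hw (Subtype.ext (Subtype.ext e))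
    rw [hμ.value (cell row₀ l) (w : S) (mem_sup_left w.2) (fun h2 => hw1 (mem_bot.1
        (D.primeDade.selfNorm.2.2.1 ▸ ⟨w.2, h2⟩))), hneg, cell, MonoidHom.mul_apply, l.2 ⟨((w : S) : G), mem_sup_left w.2⟩ w.2]
    simp [row₀]
  rw [classInner_def, ← Finset.add_sum_erase _ _ (Finset.mem_univ (1 : ↥(W₁.subgroupOf S))),
    Finset.sum_congr rfl (fun w hw => hterm w (Finset.ne_of_mem_erase hw)), Finset.sum_const,
    Finset.card_erase_of_mem (Finset.mem_univ _), Finset.card_univ, ← Nat.card_eq_fintype_card,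
    card_subgroupOf D.W₁_le, D.mod.card_W, nsmul_eq_mul, OneMemClass.coe_one, hone, map_one, mul_one,
    Nat.cast_sub D.mod.prime_q.one_le] at hn
  have hq0 : (q : ℂ) ≠ 0 := Nat.cast_ne_zero.2 D.mod.prime_q.ne_zero
  have h2 : (Nat.card U : ℂ) + 1 = (q : ℂ) * ((n : ℂ) + 1) := by
    field_simp at hn
    push_cast at hn
    linear_combination hn
  have h3 : Nat.card U + 1 = q * (n + 1) := by exact_mod_cast h2
  have h4 : (Nat.card U + 1) % q = 2 % q := by
    rw [Nat.add_mod, D.u_mod]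
    simp
  rw [h3, Nat.mul_mod_right, Nat.mod_eq_of_lt (by
    have := D.mod.prime_q.two_le
    have := D.mod.odd_q
    omega)] at h4
  exact absurd h4 (by norm_num)

/-- The differences in one row are supported on the bridge set, and their images are those of the family. -/
theorem col_pair (hχ : Cfsg.IsCyclicTIFamily W₁ W₂ χ) (r : Row W₁ W₂) {j k : Col W₁ W₂} (hj : j ≠ col₀)
    (hk : k ≠ col₀) :
    (∀ x : S, (x : G) ∉ bridgeSet S P W₁ W₂ → (μ (cell r j) - μ (cell r k)) x = 0) ∧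
      tiMap (bridgeSet S P W₁ W₂) S (μ (cell r j) - μ (cell r k)) = χ (cell r j) - χ (cell r k) := by
  by_cases hjk : j = k
  · subst hjk
    refine ⟨fun x _ => by simp, ?_⟩
    funext g
    by_cases hg : g ∈ conjSet (bridgeSet S P W₁ W₂)
    · obtain ⟨a, ha, x, hx⟩ := hg
      rw [tiMap_at D.dade (f := μ (cell r j) - μ (cell r j)) (fun _ _ => by simp)
        (a := ⟨a, D.dade.subset ha⟩) ha hx]
      simp
    · rw [tiMap_off D.dade hg]
      simp
  obtain ⟨φj, -, -, -, hrj⟩ := D.col_facts hμ hj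
  obtain ⟨φk, -, -, -, hrk⟩ := D.col_facts hμ hk
  obtain ⟨h1, h2⟩ := D.primeDade.pair hχ hμ hjk hj hk (r := r)
    (by rw [D.delta_one hμ hj, D.delta_one hμ hk]) fun x hxK hxA => by
      by_cases hx1 : x = 1
      · rw [hx1, (hrj r).1, (hrk r).1]
      · have hxP : (x : G) ∉ P := fun h => hxA (D.punctured_bridge h hx1)
        rw [(hrj r).2.1 x hxK hxP, (hrk r).2.1 x hxK hxP]
  refine ⟨h1, h2.trans ?_⟩
  rw [D.delta_one hμ hj, one_smul]

theorem colSum_class (l : Col W₁ W₂) : Cfsg.IsClassFunction S (colSum μ l) := fun x y => by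
  rw [colSum, Finset.sum_apply, Finset.sum_apply]
  exact Finset.sum_congr rfl fun r _ => IsIrrCharacter.isClassFunction (hμ.irr _) x y

/-- The image of a difference of two nontrivial columns. -/
theorem col_diff_image (hχ : Cfsg.IsCyclicTIFamily W₁ W₂ χ) {j k : Col W₁ W₂} (hj : j ≠ col₀)
    (hk : k ≠ col₀) :
    tiMap (bridgeSet S P W₁ W₂) S (colSum μ j - colSum μ k) = colSum χ j - colSum χ k := by
  rw [colSum, colSum, colSum, colSum, ← Finset.sum_sub_distrib, ← Finset.sum_sub_distrib,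
    tiMap_sum D.dade _ fun r _ x y => by
      rw [Pi.sub_apply, Pi.sub_apply, IsIrrCharacter.isClassFunction (hμ.irr _) x y,
        IsIrrCharacter.isClassFunction (hμ.irr _) x y]]
  exact Finset.sum_congr rfl fun r _ => (D.col_pair hμ hχ r hj hk).2

/-- The bridge before taking its image. -/
theorem bridge_support {l : Col W₁ W₂} (hl : l ≠ col₀) {x : S} (hx : (x : G) ∉ bridgeSet S P W₁ W₂) :
    (bridgeChar S P W₁ - μ (cell row₀ l)) x = 0 := by
  obtain ⟨φ, -, -, -, hr⟩ := D.col_facts hμ hl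
  rw [Pi.sub_apply, sub_eq_zero]
  by_cases hxK : (x : G) ∈ K
  · by_cases hx1 : x = 1
    · rw [hx1, D.bridgeChar_one, (hr row₀).1]
    · have hxP : (x : G) ∉ P := fun h => hx (D.punctured_bridge h hx1)
      rw [D.bridgeChar_zero hxK hxP, (hr row₀).2.1 x hxK hxP]
  · obtain ⟨g, hg, hg2⟩ := D.primeDade.exists_conj hxK
    have hg1 : ((g * x * g⁻¹ : S) : G) ∈ W₁ := by
      by_contra h
      exact hx (D.mem_bridge_of_conj hg h hg2)
    rw [D.bridgeChar_off_K hxK, ← IsIrrCharacter.isClassFunction (hμ.irr _) x g, hμ.value _ _ hg hg2,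
      D.delta_one hμ hl, cell, MonoidHom.mul_apply, l.2 ⟨_, hg⟩ hg1]
    simp [row₀]

/-- The bridge characters are orthogonal to the nontrivial columns. -/
theorem bridgeChar_inner_col (r : Row W₁ W₂) {l : Col W₁ W₂} (hl : l ≠ col₀) :
    Cfsg.classInner (bridgeChar S P W₁) (μ (cell r l)) = 0 := by
  classical
  haveI := D.normal_P
  obtain ⟨φ, hφ, -, -, hr⟩ := D.col_facts hμ hl
  set T := P.subgroupOf S ⊔ W₁.subgroupOf S
  haveI := Fintype.ofFinite ↥T
  haveI := Fintype.ofFinite ↥(P.subgroupOf S)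
  rw [bridgeChar, classInner_indFun _ (IsIrrCharacter.isClassFunction (hμ.irr _))]
  by_contra hne
  have hres := IsCharacter.restrict (IsIrrCharacter.isCharacter (hμ.irr (cell r l))) T
  have hc' : Cfsg.classInner (fun t : T => μ (cell r l) t) (fun _ => (1 : ℂ)) ≠ 0 := fun h0 => hne (by
    rw [← classInner_conj, h0, map_zero])
  have hg := IsCharacter.sub_irr hres isIrrCharacter_one hc'
  obtain ⟨n, hn⟩ := IsCharacter.exists_classInner_eq_natCast'
    (IsCharacter.comp hg (Subgroup.inclusion (le_sup_left : P.subgroupOf S ≤ T)))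
    (IsIrrCharacter.isCharacter (isIrrCharacter_one (G := ↥(P.subgroupOf S))))
  -- the restriction to `P` has no trivial constituent
  have hsum : ∑ x : ↥(P.subgroupOf S), μ (cell r l) (x : S) = 0 := by
    have hq0 : (q : ℂ) ≠ 0 := Nat.cast_ne_zero.2 D.mod.prime_q.ne_zero
    refine (mul_eq_zero.1 ?_).resolve_left hq0
    rw [Finset.mul_sum, Finset.sum_congr rfl fun (x : ↥(P.subgroupOf S)) _ => (hr r).2.2 (x : S) x.2]
    simp only [indP, indFun_apply_normal, ← Finset.mul_sum]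
    rw [Finset.sum_comm, Finset.sum_eq_zero fun g _ => ?_, mul_zero]
    have hne1 : φ ≠ 1 := fun e => (D.modS.U_ne) ((Subgroup.eq_bot_iff_forall _).2 fun v hv =>
      hφ v hv fun _ _ _ => by rw [e]; rfl)
    refine Eq.trans (Fintype.sum_equiv (MulAut.conjNormal (H := P.subgroupOf S) g).toEquiv _ (fun y => lin φ y)
      fun x => congrArg (lin φ) (Subtype.ext rfl)) ?_
    obtain ⟨a, ha⟩ : ∃ a, φ a ≠ 1 := by
      by_contra hh
      push Not at hh
      exact hne1 (MonoidHom.ext hh)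
    have h : (φ a : ℂ) * ∑ x, lin φ x = ∑ x, lin φ x := by
      rw [Finset.mul_sum]
      exact Fintype.sum_equiv (Equiv.mulLeft a) _ _ fun x => by simp [lin]
    by_contra h0
    exact ha (Units.ext (mul_right_cancel₀ h0 (h.trans (one_mul _).symm)))
  rw [classInner_def] at hn
  have hf : ∀ x : ↥(P.subgroupOf S), (((fun t : T => μ (cell r l) t) - fun _ => (1 : ℂ)) : T → ℂ)
      ((Subgroup.inclusion (le_sup_left : P.subgroupOf S ≤ T)) x) * conj (1 : ℂ) =
      μ (cell r l) (x : S) - 1 := fun x => by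
    rw [map_one, mul_one]
    rfl
  rw [Finset.sum_congr rfl fun x _ => hf x, Finset.sum_sub_distrib] at hn
  rw [hsum, Finset.sum_const, Finset.card_univ, nsmul_one, ← Nat.card_eq_fintype_card, zero_sub, mul_neg,
    inv_mul_cancel₀ (Nat.cast_ne_zero.2 Nat.card_pos.ne')] at hn
  have := congrArg Complex.re hn
  simp only [Complex.neg_re, Complex.one_re, Complex.natCast_re] at this
  linarith [(Nat.cast_nonneg n : (0 : ℝ) ≤ n)]

theorem bridge_inner_one {l : Col W₁ W₂} (hl : l ≠ col₀) :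
    Cfsg.classInner (bridgeChar S P W₁ - μ (cell row₀ l)) (fun _ => 1) = 1 := by
  rw [classInner_sub_left, D.bridgeChar_inner_one, IsIrrCharacter.classInner_of_ne (hμ.irr _) isIrrCharacter_one,
    sub_zero]
  intro e
  rw [← hμ.one.1] at e
  have h := hμ.inj e
  rw [show (1 : ↥(W₁ ⊔ W₂) →* ℂˣ) = cell row₀ col₀ from (cell_row₀ col₀).symm] at h
  exact hl (cell_injective h).2

theorem bridge_norm {l : Col W₁ W₂} (hl : l ≠ col₀) :
    ∃ k : ℕ, k * Nat.card W₁ + 1 = Nat.card U ∧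
      Cfsg.classInner (bridgeChar S P W₁ - μ (cell row₀ l)) (bridgeChar S P W₁ - μ (cell row₀ l)) =
        (k : ℂ) + 2 := by
  obtain ⟨k, hk, hn⟩ := D.bridgeChar_norm
  refine ⟨k, by rw [D.mod.card_W]; exact hk, ?_⟩
  have h0 := D.bridgeChar_inner_col hμ row₀ hl
  rw [classInner_sub_left, classInner_sub_right, classInner_sub_right, hn, h0,
    ← classInner_conj (bridgeChar S P W₁) (μ (cell row₀ l)), h0, map_zero,
    IsIrrCharacter.classInner_self (hμ.irr _)]
  ring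

end SideData

end CfsgLib.OddEnd
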