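import Cfsg.Agent.OddEnd.FourteenPartner
import Cfsg.Agent.OddEnd.FourteenRegion
import Cfsg.Agent.OddEnd.FourteenArithFinal

/-!
Peterfalvi section 14: when the subgroup over `N(U)` has index `|W₁| |W₂|` over its kernel, `U` has the
largest possible order.
-/

set_option autoImplicit false
set_option linter.unusedSectionVars false
set_option linter.style.haveILetI false

namespace CfsgLib.OddEnd

open Subgroup CfsgLib.Char CfsgLib.OddLocal

universe u

variable {G : Type u} [Group G] [Fintype G]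

namespace PairData

variable {S T W₁ W₂ U V : Subgroup G} (h : PairData S T W₁ W₂ U V)
variable (hG : Cfsg.IsMinSimpleOddOrder G) (h13 : UptoThirteen G)
variable (hlt : Nat.card W₁ < Nat.card W₂)
variable [Fintype (Row W₁ W₂)] [Fintype (Col W₁ W₂)] [Fintype (Row W₂ W₁)] [Fintype (Col W₂ W₁)]
variable {χ : (↥(W₁ ⊔ W₂) →* ℂˣ) → G → ℂ} (hχ : Cfsg.IsCyclicTIFamily W₁ W₂ χ)
variable {κ κ' : Type u} [Fintype κ] [Fintype κ']
variable (I : SideImages χ S (Cfsg.fittingHallOf S) U κ)
variable (J : SideImages (fun ω => χ (ω.comp (swapHom W₁ W₂))) T (Cfsg.fittingHallOf T) V κ')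
include h hG h13 hlt hχ I J

/-- If `U` is not of the largest order then `V` is. -/
theorem geo_V_of_ne_geo (hu : Nat.card U ≠ geoN (Nat.card W₂) (Nat.card W₁)) :
    Nonempty κ ∧ Nat.card V = geoN (Nat.card W₁) (Nat.card W₂) := by
  have pq := h.oddPq hG h13 hlt
  have hq3 := pq.three_le
  have h5 := pq.five_le
  obtain ⟨hfree, -, h53, h73⟩ := h.of_ne_geo hG h13 hlt hu
  obtain ⟨-, -, hu1⟩ := h.u_facts hG h13
  obtain ⟨-, -, hv1⟩ := h.symm.u_facts hG h13
  haveI hκ : Nonempty κ := I.nonempty_of_count hfree (by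
    have := Nat.mul_le_mul_right (Nat.card W₂ - 1) hq3
    omega)
  refine ⟨hκ, by_contra fun hv => ?_⟩
  have hfree' := h.of_ne_geo' hG h13 hlt hv
  haveI : Nonempty κ' := J.nonempty_of_count hfree' (by
    have := Nat.mul_le_mul_right (Nat.card W₁ - 1) (show 2 ≤ 2 * Nat.card W₂ + 1 by omega)
    omega)
  have hcnt := both_sides_count I J (h.sideData hG h13) (h.symm.sideData hG h13) hχ hlt
  have hu0 : (0 : ℝ) < Nat.card U := by exact_mod_cast Nat.card_pos
  have hv0 : (0 : ℝ) < Nat.card V := by exact_mod_cast Nat.card_pos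
  have ho : ((Nat.card W₁ : ℕ) : ℝ) * ((Nat.card W₂ : ℕ) - 1) ≤
      (nFree S (Cfsg.fittingHallOf S) U : ℝ) / Nat.card U := by
    have h1 := (Nat.cast_le (α := ℝ)).2 hfree
    push_cast [Nat.cast_sub (show 1 ≤ Nat.card W₂ by omega)] at h1
    rwa [le_div_iff₀ hu0]
  have ho' : (2 * ((Nat.card W₂ : ℕ) : ℝ) + 1) * ((Nat.card W₁ : ℕ) - 1) ≤
      (nFree T (Cfsg.fittingHallOf T) V : ℝ) / Nat.card V := by
    have h1 := (Nat.cast_le (α := ℝ)).2 hfree'
    push_cast [Nat.cast_sub (show 1 ≤ Nat.card W₁ by omega)] at h1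
    rwa [le_div_iff₀ hv0]
  have habs := pq.count_absurd hu1 hv1 h53 h73 ho ho'
  rw [div_div_eq_mul_div, div_div_eq_mul_div] at habs
  push_cast at hcnt
  rw [mul_comm (Nat.card U : ℝ) (Nat.card W₁ : ℝ), mul_comm (Nat.card V : ℝ) (Nat.card W₂ : ℝ)] at hcnt
  rw [mul_comm (Nat.card U : ℝ) (Nat.card W₁ : ℝ), mul_comm (Nat.card V : ℝ) (Nat.card W₂ : ℝ)] at habs
  linarith

variable {ι : Type u} [Fintype ι] {L : Subgroup G} {F : Family G ι} (hO : OverFamily T W₁ W₂ U L F)
include hO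

open scoped Classical in
/-- Case A: `|L : L_F| = |W₁| |W₂|` forces `|U| = (p ^ q - 1) / (p - 1)`. -/
theorem geo_U (he : F.e = Nat.card W₂ * Nat.card W₁) :
    Nat.card U = geoN (Nat.card W₂) (Nat.card W₁) := by
  by_contra hu
  obtain ⟨hκ, hvN⟩ := h.geo_V_of_ne_geo hG h13 hlt hχ I J hu
  haveI := hκ
  have pq := h.oddPq hG h13 hlt
  have hq3 := pq.three_le
  have h5 := pq.five_le
  obtain ⟨-, hqu, h53, -⟩ := h.of_ne_geo hG h13 hlt hu
  obtain ⟨hum, huo, hu1⟩ := h.u_facts hG h13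
  obtain ⟨hvm, -, hv1⟩ := h.symm.u_facts hG h13
  obtain ⟨hbig, hpu⟩ := pq.geo'_large h53 hqu
  rw [← hvN] at hbig hpu
  obtain ⟨a, hn, hcase⟩ := (h.sideData hG h13).cases_count
  have hm := I.count_le hn
  have hqodd : Odd (Nat.card W₁ : ℤ) :=
    (Int.odd_coe_nat _).2 (hG.1.of_dvd_nat W₁.card_subgroup_dvd_card)
  -- the numbers attached to `L`
  have hMI : Meets F I :=
    h.meets hG h13 hχ hO.coatom (h.not_conj_typeI hG h13 hO.coatom hO.typeI).1 hO.X_sub I
  have hMJ : Meets F J := h.symm.meets hG h13 (family_swap hχ) hO.coatom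
    (h.symm.not_conj_typeI hG h13 hO.coatom hO.typeI).1 hO.X_sub J
  have hsq0 := F.sq_pos
  obtain ⟨n, hn'⟩ : ∃ n : ℕ, F.sq = n := ⟨F.sq.toNat, (Int.toNat_of_nonneg (by omega)).symm⟩
  have hhodd : Odd (Nat.card (Cfsg.fittingHallOf L)) := hG.1.of_dvd_nat (card_subgroup_dvd_card _)
  have huh : Nat.card U ∣ Nat.card (Cfsg.fittingHallOf L) := card_dvd_of_le hO.U_le
  have hk : n * (Nat.card W₂ * Nat.card W₁) + 1 = Nat.card (Cfsg.fittingHallOf L) := by
    have h0 := hO.sq_eq
    rw [he, hn'] at h0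
    push_cast at h0
    have h1 : ((n * (Nat.card W₂ * Nat.card W₁) + 1 : ℕ) : ℤ) = Nat.card (Cfsg.fittingHallOf L) := by
      push_cast
      linarith
    exact_mod_cast h1
  -- a coefficient of a bridge of `S` on a family of large norm vanishes
  have hsmall : ∀ {ι₁ : Type u} [Fintype ι₁] {F₁ : Family G ι₁}, Meets F₁ I →
      ((Nat.card V : ℤ) - 1 ≤ F₁.sq * (Nat.card W₂ * Nat.card W₁)) →
      ∀ {t : Row W₁ W₂ → ℤ} {d : ℤ}, t row₀ = 1 → (∀ r l, Cfsg.classInner F₁.α (χ (cell r l)) =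
        ((t r + if l = col₀ then 0 else d - 1 : ℤ) : ℂ)) → Odd d := by
    intro ι₁ _ F₁ hM hle t d ht0 ht
    obtain ⟨l, hl⟩ := hM.exists_col
    obtain ⟨g, hg, hpar⟩ := hM.exists_parity ht0 ht hl
    obtain ⟨k, hk', hgk⟩ := hM.coeff_bound hl hg
    rcases eq_or_ne g 0 with rfl | hg0
    · rwa [add_zero] at hpar
    exfalso
    have h1 : F₁.sq ≤ g * g * F₁.sq :=
      le_mul_of_one_le_left (by have := F₁.sq_pos; omega) (one_le_mul_self hg0)
    have h2 : F₁.sq * ((Nat.card W₂ : ℤ) * Nat.card W₁) ≤ (k : ℤ) * ((Nat.card W₂ : ℤ) * Nat.card W₁) :=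
      mul_le_mul_of_nonneg_right (h1.trans hgk) (by positivity)
    have h3 : (k : ℤ) * Nat.card W₁ + 1 = Nat.card U := by exact_mod_cast hk'
    have h4 : (Nat.card W₂ : ℤ) * Nat.card U < (Nat.card V : ℤ) - 1 := by
      have : ((Nat.card W₂ * Nat.card U : ℕ) : ℤ) < ((Nat.card V - 1 : ℕ) : ℤ) := by exact_mod_cast hpu
      rw [Nat.cast_sub (by omega)] at this
      push_cast at this
      exact this
    have h5 : (k : ℤ) * ((Nat.card W₂ : ℤ) * Nat.card W₁) = (Nat.card W₂ : ℤ) * Nat.card U - Nat.card W₂ := by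
      rw [← h3]; ring
    omega
  rcases h.exists_partner_family hG h13 hχ I J hO with ⟨ι', _, F', hdis, hM', hle, hidx⟩ | ⟨g, hg⟩
  · obtain ⟨t', d', ht0', ht'⟩ := hM'.exists_array
    have hd' : Odd d' := by
      refine hsmall hM' (hle.trans (mul_le_mul_of_nonneg_left ?_ (by have := F'.sq_pos; omega))) ht0' ht'
      rcases hidx with e | ⟨e, -⟩ <;> rw [e]
      · exact le_mul_of_one_le_right (Nat.cast_nonneg _) (by exact_mod_cast Nat.card_pos)
      · push_cast; rfl
    rcases hidx with e | ⟨e, hM'J⟩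
    · exact hM'.absurd_of_prime_index e hd' ht0' ht'
    obtain ⟨a₀, b, ha₀, hb, hab⟩ := family_parity F F' hG.1 hdis.symm
    have ha0 : a₀ = 0 := by
      by_contra ha
      have h1 := F.cross_bound F' ha₀
      have h2 : F'.sq ≤ a₀ * a₀ * F'.sq :=
        le_mul_of_one_le_left (by have := F'.sq_pos; omega) (one_le_mul_self ha)
      have h3 : F'.sq * ((Nat.card W₂ : ℤ) * Nat.card W₁) ≤
          ((Nat.card W₂ : ℤ) * Nat.card W₁ + 1) * ((Nat.card W₂ : ℤ) * Nat.card W₁) := by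
        refine mul_le_mul_of_nonneg_right ?_ (by positivity)
        rw [he] at h1
        push_cast at h1
        omega
      have h4 : (Nat.card W₂ : ℤ) * Nat.card W₁ * ((Nat.card W₂ : ℤ) * Nat.card W₁ + 1) <
          (Nat.card V : ℤ) - 1 := by
        have : ((Nat.card W₂ * Nat.card W₁ * (Nat.card W₂ * Nat.card W₁ + 1) : ℕ) : ℤ) <
            ((Nat.card V - 1 : ℕ) : ℤ) := by exact_mod_cast hbig
        rw [Nat.cast_sub (by omega)] at this
        push_cast at this
        exact this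
      have h5 : ((Nat.card W₂ : ℤ) * Nat.card W₁ + 1) * ((Nat.card W₂ : ℤ) * Nat.card W₁) =
          (Nat.card W₂ : ℤ) * Nat.card W₁ * ((Nat.card W₂ : ℤ) * Nat.card W₁ + 1) := by ring
      rw [e] at hle
      push_cast at hle
      omega
    rw [ha0, zero_add] at hab
    obtain ⟨-, c', -, -, hc'⟩ := array_row_const hM'J ht'
    have hmf := hM'.master_family hMI hdis.symm hb ht0' hc' ht'
    rw [e] at hmf
    push_cast at hmf
    obtain ⟨-, hbd⟩ := array_bound_pq (p := (Nat.card W₂ : ℤ)) (q := (Nat.card W₁ : ℤ))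
      (m' := (Fintype.card κ : ℤ)) (R := b * b * F.sq) (by exact_mod_cast h5) (by exact_mod_cast hq3)
      hqodd hd' rfl (by exact_mod_cast Fintype.card_pos)
      (mul_nonneg (mul_self_nonneg b) (by omega)) hmf
    have h1 : F.sq ≤ b * b * F.sq :=
      le_mul_of_one_le_left (by omega) (one_le_mul_self fun e0 => by subst e0; simp at hab)
    have hbd' : n + Fintype.card κ ≤ Nat.card W₂ * (Nat.card W₁ - 1) := by
      have : ((n + Fintype.card κ : ℕ) : ℤ) ≤ ((Nat.card W₂ * (Nat.card W₁ - 1) : ℕ) : ℤ) := by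
        rw [Nat.cast_mul, Nat.cast_sub (by omega)]
        push_cast
        omega
      exact_mod_cast this
    rcases hcase with ⟨e1, -⟩ | ⟨e1, -⟩
    · exact pq.galois_absurd e1 hum (fun e2 => hu (by rw [← e1, e2, mul_one])) hm hbd' hk hhodd huh
    · exact pq.split_absurd e1 huo hum (by omega) hm hbd' hk hhodd huh
  · have hvh : Nat.card V ∣ Nat.card (Cfsg.fittingHallOf L) := by
      rw [Nat.card_congr (V.equivMapOfInjective (MulAut.conj g).toMonoidHom
        (MulAut.conj g).injective).toEquiv]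
      exact card_dvd_of_le hg
    obtain ⟨t, d, ht0, ht⟩ := hMI.exists_array
    have hd : Odd d := by
      refine hsmall hMI ?_ ht0 ht
      have h1 := Nat.le_of_dvd Nat.card_pos hvh
      rw [hn']
      have h2 : ((n * (Nat.card W₂ * Nat.card W₁) + 1 : ℕ) : ℤ) = Nat.card (Cfsg.fittingHallOf L) := by
        rw [hk]
      push_cast at h2
      omega
    obtain ⟨t₂, c, ht₂0, ht₂, hc⟩ := array_row_const hMJ ht
    have hmc := hMI.master_const ht0 hc ht
    rw [he] at hmc
    push_cast at hmc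
    obtain ⟨hceven, hbd⟩ := array_bound_pq (p := (Nat.card W₂ : ℤ)) (q := (Nat.card W₁ : ℤ))
      (m' := (Fintype.card κ : ℤ)) (R := 0) (by exact_mod_cast h5) (by exact_mod_cast hq3)
      hqodd hd rfl (by exact_mod_cast Fintype.card_pos) le_rfl (by rw [add_zero]; exact hmc)
    obtain ⟨l', hl'⟩ := hMJ.exists_col
    obtain ⟨g', hg', hpar⟩ := hMJ.exists_parity ht₂0 ht₂ hl'
    obtain ⟨k', hk', hgk⟩ := hMJ.coeff_bound hl' hg'
    have hg0 : g' ≠ 0 := fun e0 => by
      rw [e0, add_zero] at hpar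
      exact (Int.not_even_iff_odd.2 hpar) hceven
    have h1 : F.sq ≤ g' * g' * F.sq := le_mul_of_one_le_left (by omega) (one_le_mul_self hg0)
    have hnk : n ≤ k' := by
      have : (n : ℤ) ≤ k' := by omega
      exact_mod_cast this
    obtain ⟨r, hr⟩ := hvh
    have hq2 := pq.prime_q.two_le
    have hrp : r % Nat.card W₂ = 1 := by
      have h2 : Nat.card V * r % Nat.card W₂ = 1 := by
        rw [← hr, ← hk, show n * (Nat.card W₂ * Nat.card W₁) + 1 =
          Nat.card W₂ * (n * Nat.card W₁) + 1 by ring, Nat.mul_add_mod,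
          Nat.mod_eq_of_lt (by omega)]
      rwa [Nat.mul_mod, hvm, one_mul, Nat.mod_mod] at h2
    have hr1 : r = 1 := by
      have h2 : r < Nat.card W₁ := by
        by_contra hh
        have h3 : Nat.card V * Nat.card W₁ ≤ Nat.card V * r := Nat.mul_le_mul_left _ (by omega)
        have h4 : n * (Nat.card W₂ * Nat.card W₁) ≤ k' * (Nat.card W₂ * Nat.card W₁) :=
          Nat.mul_le_mul_right _ hnk
        have h6 : Nat.card V * Nat.card W₁ = k' * (Nat.card W₂ * Nat.card W₁) + Nat.card W₁ := by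
          rw [← hk']; ring
        omega
      rw [Nat.mod_eq_of_lt (by omega)] at hrp
      exact hrp
    rw [hr1, mul_one] at hr
    have hudvd : Nat.card U ∣ geoN (Nat.card W₁) (Nat.card W₂) := by rw [← hvN, ← hr]; exact huh
    have hmod : ∀ x, x ∣ Nat.card U → x % Nat.card W₂ = 1 := fun x hx =>
      pq.facts'.2.2 x (hx.trans hudvd)
    have hbd' : Fintype.card κ ≤ Nat.card W₂ * (Nat.card W₁ - 1) := by
      have : ((Fintype.card κ : ℕ) : ℤ) ≤ ((Nat.card W₂ * (Nat.card W₁ - 1) : ℕ) : ℤ) := by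
        rw [Nat.cast_mul, Nat.cast_sub (by omega)]
        push_cast
        omega
      exact_mod_cast this
    rcases hcase with ⟨e1, -⟩ | ⟨-, hprimes⟩
    · exact pq.galois_conj_absurd e1 hum (fun e2 => hu (by rw [← e1, e2, mul_one])) (hmod _ dvd_rfl)
        hm hbd'
    · obtain ⟨x, hx, hxu⟩ := Nat.exists_prime_and_dvd (show Nat.card U ≠ 1 by omega)
      have h2 := Nat.le_of_dvd (by omega) (hprimes x hx hxu)
      have h3 := hmod x hxu
      rw [Nat.mod_eq_of_lt (by omega)] at h3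
      exact hx.ne_one h3

end PairData

end CfsgLib.OddEnd
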