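import Cfsg.Agent.OddEnd.TenSetup

/-!
# The columns of `μ` when `|W₂|` is prime (Peterfalvi 10.2, 10.3)
-/

set_option autoImplicit false

namespace CfsgLib.OddEnd

open CfsgLib.Char
open scoped ComplexConjugate

universe u

variable {G : Type u} [Group G]

/-- Complex conjugation as a ring automorphism. -/
noncomputable def conjAut : ℂ ≃+* ℂ := Complex.conjAe.toRingEquiv

theorem conjAut_apply (z : ℂ) : conjAut z = conj z := rfl

/-- Shrinking the support of the Dade map. -/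
theorem dade_restrict [Finite G] {L : Subgroup G} {A B : Set G} {R : G → Subgroup G} (hAB : A ⊆ B)
    (hA : Cfsg.DadeHypothesis A L R) (hB : Cfsg.DadeHypothesis B L R) {α : L → ℂ}
    (hα : Cfsg.IsClassFunction L α) (hαA : ∀ x : L, (x : G) ∉ A → α x = 0) :
    Cfsg.dadeIsometry A L R α = Cfsg.dadeIsometry B L R α := by
  funext g
  by_cases hg : ∃ b ∈ B, ∃ u ∈ R b, ∃ x : G, x * g * x⁻¹ = b * u
  · obtain ⟨b, hb, u, hu, x, hx⟩ := hg
    rw [dadeIsometry_apply hB hα (a := ⟨b, hB.subset hb⟩) hb hu hx]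
    by_cases hbA : b ∈ A
    · rw [dadeIsometry_apply hA hα (a := ⟨b, hA.subset hbA⟩) hbA hu hx]
    · rw [hαA _ hbA, dadeIsometry_eq_zero hA]
      rintro ⟨a, ha, v, hv, y, hy⟩
      obtain ⟨l, hl, e⟩ := dade_conj_in_L hB (hAB ha) hb hv hu (g := x * y⁻¹) (by rw [← hy, ← hx]; group)
      exact hbA (e ▸ hA.conj_mem l hl a ha)
  · rw [dadeIsometry_eq_zero hB hg, dadeIsometry_eq_zero hA]
    rintro ⟨a, ha, v, hv, y, hy⟩
    exact hg ⟨a, hAB ha, v, hv, y, hy⟩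

variable {W₁ W₂ : Subgroup G}

/-- When `|W₂|` is prime an automorphism of `ℂ` moves one nontrivial column to another, fixing the rows. -/
theorem exists_col_galois [Finite G] (hW : Cfsg.IsSelfNormalizingCyclic W₁ W₂) (hp : (Nat.card W₂).Prime)
    {j k : Col W₁ W₂} (hj : j ≠ col₀) (hk : k ≠ col₀) :
    ∃ σ : ℂ ≃+* ℂ, ∀ r : Row W₁ W₂, mapHom σ (cell r j) = cell r k := by
  have := Fact.mk hp
  have hcop := coprime_of_cyclic_sup hW.2.2.1 hW.2.2.2.1 hW.2.2.2.2.1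
  obtain ⟨v, hv, hv1⟩ := (Subgroup.bot_or_exists_ne_one W₂).resolve_left hW.2.1
  have hgen : ∀ w ∈ W₂, ∃ i : ℕ, v ^ i = w := fun w hw => by
    have hz : Subgroup.zpowers (⟨v, hv⟩ : W₂) = ⊤ :=
      zpowers_eq_top_of_prime_card rfl fun e => hv1 (congrArg Subtype.val e)
    obtain ⟨i, hi⟩ := ((isOfFinOrder_of_finite (⟨v, hv⟩ : W₂)).mem_powers_iff_mem_zpowers).2
      (hz.symm ▸ Subgroup.mem_top (⟨w, hw⟩ : W₂) : (⟨w, hw⟩ : W₂) ∈ _)
    exact ⟨i, congrArg Subtype.val hi⟩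
  set V : ↥(W₁ ⊔ W₂) := ⟨v, Subgroup.mem_sup_right hv⟩ with hV
  have hvp : v ^ Nat.card W₂ = 1 := congrArg Subtype.val (pow_card_eq_one' (x := (⟨v, hv⟩ : W₂)))
  have hroot : ∀ l : Col W₁ W₂, ((l.1 V : ℂˣ) : ℂ) ^ Nat.card W₂ = 1 := fun l => by
    rw [← Units.val_pow_eq_pow_val, ← map_pow,
      show V ^ Nat.card W₂ = 1 from Subtype.ext hvp, map_one]
    rfl
  have hne : ∀ l : Col W₁ W₂, l ≠ col₀ → ((l.1 V : ℂˣ) : ℂ) ≠ 1 := fun l hl e => hl (Subtype.ext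
    (hom_ext_sup (fun w hw => by rw [l.2 w hw]; rfl) fun w hw => by
      obtain ⟨i, hi⟩ := hgen w hw
      rw [show w = V ^ i from Subtype.ext (by simp [hV, hi]), map_pow, map_pow]
      rw [show l.1 V = 1 from Units.ext e]
      rfl))
  have hprim : IsPrimitiveRoot ((j.1 V : ℂˣ) : ℂ) (Nat.card W₂) :=
    IsPrimitiveRoot.of_map_of_injective (f := MonoidHom.id ℂ) (by
      refine ⟨hroot j, fun l hl => ?_⟩
      rcases (Nat.dvd_prime hp).1 (Nat.gcd_dvd_left (Nat.card W₂) l) with h1 | h1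
      · exfalso
        refine hne j hj ?_
        have := pow_gcd_eq_one.2 ⟨hroot j, hl⟩
        rwa [h1, pow_one] at this
      · exact h1 ▸ Nat.gcd_dvd_right _ _) Function.injective_id
  obtain ⟨b, -, hb⟩ := hprim.eq_pow_of_pow_eq_one (hroot k)
  have hbp : ¬ Nat.card W₂ ∣ b := fun ⟨m, hm⟩ => hne k hk (by rw [← hb, hm, pow_mul, hroot j, one_pow])
  obtain ⟨t, ht1, ht2⟩ := Nat.chineseRemainder hcop 1 b
  have htc : t.Coprime (Nat.card W₁ * Nat.card W₂) := by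
    rw [Nat.coprime_mul_iff_right]
    refine ⟨?_, ?_⟩
    · rw [Nat.Coprime, Nat.ModEq.gcd_eq ht1]; exact Nat.gcd_one_left _
    · rw [Nat.Coprime, Nat.ModEq.gcd_eq ht2]
      exact ((hp.coprime_iff_not_dvd).2 hbp).symm
  obtain ⟨σ, hσ⟩ := exists_ringEquiv_pow (Nat.mul_pos Nat.card_pos Nat.card_pos) htc
  refine ⟨σ, fun r => ?_⟩
  refine hom_ext_sup (fun w hw => Units.ext ?_) fun w hw => Units.ext ?_
  · have hz : ((r.1 w : ℂˣ) : ℂ) ^ Nat.card W₁ = 1 := by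
      rw [← Units.val_pow_eq_pow_val, ← map_pow,
        show w ^ Nat.card W₁ = 1 from Subtype.ext (show (w : G) ^ Nat.card W₁ = 1 from
          congrArg Subtype.val (pow_card_eq_one' (x := (⟨(w : G), hw⟩ : W₁)))),
        map_one]
      rfl
    rw [mapHom_apply, cell, cell, MonoidHom.mul_apply, MonoidHom.mul_apply, j.2 w hw, k.2 w hw, mul_one,
      hσ _ (by rw [pow_mul, hz, one_pow]), pow_eq_pow_mod t hz,
      show t % Nat.card W₁ = 1 % Nat.card W₁ from ht1, ← pow_eq_pow_mod 1 hz, pow_one]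
  · obtain ⟨i, hi⟩ := hgen w hw
    rw [mapHom_apply, cell, cell, MonoidHom.mul_apply, MonoidHom.mul_apply, r.2 w hw, one_mul, one_mul,
      show w = V ^ i from Subtype.ext (by simp [hV, hi]), map_pow, map_pow, Units.val_pow_eq_pow_val,
      Units.val_pow_eq_pow_val, map_pow, hσ _ (by rw [mul_comm, pow_mul, hroot j, one_pow]),
      pow_eq_pow_mod t (hroot j), show t % Nat.card W₂ = b % Nat.card W₂ from ht2,
      ← pow_eq_pow_mod b (hroot j), hb]

variable [Fintype G] {L K : Subgroup G} {A : Set G} {R : G → Subgroup G}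

/-- Conjugation inverts linear characters. -/
theorem mapHom_conjAut (ω : ↥(W₁ ⊔ W₂) →* ℂˣ) : mapHom conjAut ω = ω⁻¹ := by
  refine MonoidHom.ext fun w => Units.ext ?_
  rw [mapHom_apply, conjAut_apply]
  have := IsCharacter.apply_inv (isCharacter_ofHom ω) w
  rw [← this, map_inv]
  rfl

namespace TenPair

open Cfsg CfsgLib.OddLocal CfsgLib.OddLocal.Kap

variable {M N K Ks V : Subgroup G} (P : TenPair M N K Ks V)
include P

theorem dade_A : Cfsg.DadeHypothesis (Cfsg.typeA M) M (Cfsg.supportR M) :=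
  (Cfsg.Agent.S1537.result P.hG M P.hM _ (Or.inr (Or.inl rfl))).2

omit P [Fintype G] in
theorem typeA_sub : Cfsg.typeA M ⊆ Cfsg.typeA0 M := Set.subset_union_left

theorem mem_A {x : G} (hx : x ∈ Cfsg.sigmaCore M) (hx1 : x ≠ 1) : x ∈ Cfsg.typeA M :=
  P.typeA_M.ge ⟨hx, hx1⟩

variable [Fintype M] {χ : (↥(K ⊔ Ks) →* ℂˣ) → G → ℂ}
  {μ : (↥(K ⊔ Ks) →* ℂˣ) → M → ℂ} {δ : (↥(K ⊔ Ks) →* ℂˣ) → ℂ}

omit [Fintype M] in
/-- All nontrivial columns have one degree and one sign. -/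
theorem col_const (hμ : IsMuG M (Cfsg.sigmaCore M) K Ks μ δ) {j k : Col K Ks} (hj : j ≠ col₀) (hk : k ≠ col₀)
    (r : Row K Ks) : μ (cell r j) 1 = μ (cell r k) 1 ∧ δ (cell r j) = δ (cell r k) := by
  obtain ⟨σ, hσ⟩ := exists_col_galois P.W_M P.Ks_prime hj hk
  obtain ⟨h1, h2⟩ := hμ.map σ (cell r j)
  rw [hσ] at h1 h2
  refine ⟨?_, h2.symm⟩
  obtain ⟨d, -, hd⟩ := IsIrrCharacter.exists_degree (hμ.irr (cell r j))
  rw [h1]
  simp only
  rw [hd, map_natCast]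

/-- The Dade image of a difference of two nontrivial cells in one row. -/
theorem pair_M (hχ : Cfsg.IsCyclicTIFamily K Ks χ) (hμ : IsMuG M (Cfsg.sigmaCore M) K Ks μ δ)
    {j k : Col K Ks} (hjk : j ≠ k) (hj : j ≠ col₀) (hk : k ≠ col₀) (r : Row K Ks) :
    (∀ x : M, (x : G) ∉ Cfsg.typeA0 M → (μ (cell r j) - μ (cell r k)) x = 0) ∧
      Cfsg.dadeIsometry (Cfsg.typeA0 M) M (Cfsg.supportR M) (μ (cell r j) - μ (cell r k)) =
        δ (cell r j) • (χ (cell r j) - χ (cell r k)) := by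
  refine P.primeDade_M.pair hχ hμ hjk hj hk (P.col_const hμ hj hk r).2 fun x hx hxA => ?_
  by_cases h1 : (x : G) = 1
  · rw [show x = 1 from Subtype.ext h1]
    exact (P.col_const hμ hj hk r).1
  · exact absurd (typeA_sub (P.mem_A hx h1)) hxA

/-- The Dade image of a difference of two nontrivial columns. -/
theorem col_diff (hχ : Cfsg.IsCyclicTIFamily K Ks χ) (hμ : IsMuG M (Cfsg.sigmaCore M) K Ks μ δ)
    [Fintype (Row K Ks)] {j k : Col K Ks} (hjk : j ≠ k) (hj : j ≠ col₀) (hk : k ≠ col₀) :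
    (∀ x : M, (x : G) ∉ Cfsg.typeA0 M → ((∑ r : Row K Ks, μ (cell r j)) - ∑ r : Row K Ks, μ (cell r k)) x = 0) ∧
      Cfsg.dadeIsometry (Cfsg.typeA0 M) M (Cfsg.supportR M)
          ((∑ r : Row K Ks, μ (cell r j)) - ∑ r : Row K Ks, μ (cell r k)) =
        δ j.1 • ∑ r : Row K Ks, (χ (cell r j) - χ (cell r k)) := by
  classical
  rw [← Finset.sum_sub_distrib]
  have hs : ∀ r : Row K Ks, δ (cell r j) = δ j.1 := fun r => hμ.sign_eq _ _ fun w hw => by
    rw [cell, MonoidHom.mul_apply, r.2 w hw, one_mul]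
  refine ⟨fun x hx => by
    rw [Finset.sum_apply]; exact Finset.sum_eq_zero fun r _ => (P.pair_M hχ hμ hjk hj hk r).1 x hx, ?_⟩
  have hd := P.dade_M
  funext g
  rw [Finset.smul_sum, Finset.sum_apply]
  have hcl : ∀ r : Row K Ks, Cfsg.IsClassFunction M (μ (cell r j) - μ (cell r k)) := fun r x y => by
    rw [Pi.sub_apply, Pi.sub_apply, IsIrrCharacter.isClassFunction (hμ.irr _) x y,
      IsIrrCharacter.isClassFunction (hμ.irr _) x y]
  by_cases hg : ∃ a ∈ Cfsg.typeA0 M, ∃ u ∈ Cfsg.supportR M a, ∃ x : G, x * g * x⁻¹ = a * u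
  · obtain ⟨a, ha, u, hu, x, hx⟩ := hg
    rw [dadeIsometry_apply hd (fun y z => by
      rw [Finset.sum_apply, Finset.sum_apply]; exact Finset.sum_congr rfl fun r _ => hcl r y z)
      (a := ⟨a, hd.subset ha⟩) ha hu hx, Finset.sum_apply]
    refine Finset.sum_congr rfl fun r _ => ?_
    rw [← dadeIsometry_apply hd (hcl r) (a := ⟨a, hd.subset ha⟩) ha hu hx,
      (P.pair_M hχ hμ hjk hj hk r).2, hs r]
  · rw [dadeIsometry_eq_zero hd hg]
    refine (Finset.sum_eq_zero fun r _ => ?_).symm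
    rw [← hs r, ← (P.pair_M hχ hμ hjk hj hk r).2, dadeIsometry_eq_zero hd hg]

end TenPair

end CfsgLib.OddEnd
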