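import Cfsg.Agent.OddEnd.FourteenSide
import Cfsg.Agent.OddEnd.FourteenField
import Cfsg.Agent.OddEnd.TenColumns
import Cfsg.Agent.Char.Clifford

/-!
Peterfalvi section 14: the characters of `S` over the characters of `P`.
-/

set_option autoImplicit false
set_option linter.unusedSectionVars false
set_option linter.style.haveILetI false

namespace CfsgLib.OddEnd

open Subgroup CfsgLib.Char
open scoped ComplexConjugate

universe u

variable {G : Type u} [Group G]

/-- A linear character of a subgroup as a function. -/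
def lin {H : Type u} [Group H] (φ : H →* ℂˣ) : H → ℂ := fun x => (φ x : ℂ)

theorem lin_injective {H : Type u} [Group H] : Function.Injective (lin (H := H)) :=
  fun _ _ e => MonoidHom.ext fun x => Units.ext (congrFun e x)

/-- The character of `S` induced from a linear character of `P`. -/
noncomputable def indP (S P : Subgroup G) [Fintype S] (φ : ↥(P.subgroupOf S) →* ℂˣ) : S → ℂ :=
  Cfsg.indFun (P.subgroupOf S) (lin φ)

variable [Finite G]

theorem card_subgroupOf {H S : Subgroup G} (h : H ≤ S) : Nat.card ↥(H.subgroupOf S) = Nat.card H :=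
  Nat.card_congr (subgroupOfEquivOfLe h).toEquiv

namespace SideData

variable {S K P U W₁ W₂ : Subgroup G} {p q : ℕ} (D : SideData S K P U W₁ W₂ p q)
include D

theorem P_le_K : P ≤ K := D.compl.1
theorem U_le_K : U ≤ K := D.compl.2.1
theorem W₁_le : W₁ ≤ S := D.compl'.2.1
theorem P_le : P ≤ S := D.P_le_K.trans D.K_le
theorem U_le : U ≤ S := D.U_le_K.trans D.K_le

theorem normal_P : (P.subgroupOf S).Normal :=
  ⟨fun k hk g => (mem_normalizer_iff.1 (D.P_norm g.2) k).1 hk⟩

theorem normal_K : (K.subgroupOf S).Normal :=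
  ⟨fun k hk g => (mem_normalizer_iff.1 (D.K_norm g.2) k).1 hk⟩

theorem card_K : Nat.card K = Nat.card P * Nat.card U := CfsgLib.OddLocal.FittingHall.card_complIn D.compl

theorem card_S : Nat.card S = Nat.card P * Nat.card U * q := by
  rw [CfsgLib.OddLocal.FittingHall.card_complIn D.compl', D.card_K, D.mod.card_W]

theorem index_P : (P.subgroupOf S).index = Nat.card U * q := by
  refine Nat.eq_of_mul_eq_mul_left (Nat.card_pos (α := ↥(P.subgroupOf S))) ?_
  rw [Subgroup.card_mul_index, card_subgroupOf D.P_le, D.card_S, mul_assoc]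

theorem index_K : (K.subgroupOf S).index = q := by
  refine Nat.eq_of_mul_eq_mul_left (Nat.card_pos (α := ↥(K.subgroupOf S))) ?_
  rw [Subgroup.card_mul_index, card_subgroupOf D.K_le, D.card_S, D.card_K]

/-- The module inside `S`. -/
theorem modS : ModuleHyp (P.subgroupOf S) (U.subgroupOf S) (W₁.subgroupOf S) p q where
  prime_p := D.mod.prime_p
  prime_q := D.mod.prime_q
  odd_p := D.mod.odd_p
  odd_q := D.mod.odd_q
  elem := by
    refine ⟨⟨⟨fun a b => Subtype.ext (Subtype.ext (D.mod.commP a.2 b.2))⟩⟩, fun a ha => Subtype.ext ?_⟩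
    exact D.mod.elem.2 a ha
  card_P := by rw [card_subgroupOf D.P_le, D.mod.card_P]
  comm := ⟨⟨fun a b => Subtype.ext (Subtype.ext (D.mod.commU a.2 b.2))⟩⟩
  U_ne := fun e => D.mod.U_ne (by rw [← Subgroup.card_eq_one, ← card_subgroupOf D.U_le, e, card_bot])
  U_odd := by rw [card_subgroupOf D.U_le]; exact D.mod.U_odd
  coprime := by rw [card_subgroupOf D.U_le]; exact D.mod.coprime
  U_norm := fun v hv => mem_normalizer_iff.2 fun x => mem_normalizer_iff.1 (D.mod.U_norm hv) x
  W_norm := fun v hv => mem_normalizer_iff.2 fun x => mem_normalizer_iff.1 (D.mod.W_norm hv) x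
  W_normU := fun v hv => mem_normalizer_iff.2 fun x => mem_normalizer_iff.1 (D.mod.W_normU hv) x
  card_W := by rw [card_subgroupOf D.W₁_le, D.mod.card_W]
  W_free := fun w hw hw1 v hv hc => Subtype.ext
    (D.mod.W_free w hw (fun e => hw1 (Subtype.ext e)) v hv (congrArg Subtype.val hc))
  faithful := eq_bot_iff.2 fun v hv => mem_bot.2 (Subtype.ext (mem_bot.1 (D.mod.faithful.le
    ⟨hv.1, mem_centralizer_iff.2 fun x hx => by
      exact congrArg Subtype.val (mem_centralizer_iff.1 hv.2 ⟨x, D.P_le hx⟩ hx)⟩)))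
  irr := fun N hN hn hN1 => by
    have hNP : N.map S.subtype ≤ P := by
      rintro _ ⟨x, hx, rfl⟩
      exact hN hx
    have hnorm : U ⊔ W₁ ≤ normalizer ((N.map S.subtype : Subgroup G) : Set G) := by
      intro g hg
      have hgS : g ∈ S := (sup_le D.U_le D.W₁_le) hg
      have hg' : (⟨g, hgS⟩ : S) ∈ normalizer (N : Set S) := hn (by
        rw [← Subgroup.subgroupOf_sup D.U_le D.W₁_le]
        exact hg)
      refine CfsgLib.OddLocal.Uniq.mem_normalizer_of_map_le ?_
      rintro _ ⟨_, ⟨x, hx, rfl⟩, rfl⟩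
      exact ⟨_, (mem_normalizer_iff.1 hg' x).1 hx, rfl⟩
    have := D.mod.irr _ hNP hnorm fun e => hN1 ((map_eq_bot_iff_of_injective _ S.subtype_injective).1 e)
    refine le_antisymm hN fun x hx => ?_
    obtain ⟨y, hy, e⟩ := this.ge (show (x : G) ∈ P from hx)
    rwa [← Subtype.ext (e : (y : G) = x)]

theorem p_ne_q : p ≠ q := fun e => by
  have h := coprime_of_cyclic_sup D.primeDade.selfNorm.2.2.1 D.primeDade.selfNorm.2.2.2.1
    D.primeDade.selfNorm.2.2.2.2.1
  rw [D.mod.card_W, D.card_W₂, e, Nat.coprime_self] at h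
  exact D.mod.prime_q.ne_one h

theorem eq_one_of_pow {a : ℂˣ} (h1 : a ^ p = 1) (h2 : a ^ q = 1) : a = 1 := by
  have hd := Nat.dvd_gcd (orderOf_dvd_of_pow_eq_one h1) (orderOf_dvd_of_pow_eq_one h2)
  rw [(Nat.coprime_primes D.mod.prime_p D.mod.prime_q).2 D.p_ne_q, Nat.dvd_one] at hd
  exact orderOf_eq_one_iff.1 hd

theorem U_ne_one : Nat.card U ≠ 1 := fun e => D.mod.U_ne (Subgroup.card_eq_one.1 e)

section Fin

variable [Fintype S]

theorem indP_off {φ : ↥(P.subgroupOf S) →* ℂˣ} {x : S} (hx : (x : G) ∉ P) : indP S P φ x = 0 :=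
  haveI := D.normal_P
  indFun_eq_zero_of_normal _ hx

theorem indP_one (φ : ↥(P.subgroupOf S) →* ℂˣ) : indP S P φ 1 = (Nat.card U * q : ℕ) := by
  rw [indP, indFun_one, D.index_P, lin, map_one, Units.val_one, mul_one]

theorem inertia_inf {φ : ↥(P.subgroupOf S) →* ℂˣ} (hφ : FreeChar (U.subgroupOf S) φ) :
    haveI := D.normal_P
    inertia (lin φ) ⊓ K.subgroupOf S = P.subgroupOf S := by
  haveI := D.normal_P
  have hP : P.subgroupOf S ≤ inertia (lin φ) :=
    le_inertia (IsIrrCharacter.isClassFunction (isIrrCharacter_ofHom φ))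
  refine le_antisymm (fun x hx => ?_) (le_inf hP fun x hx => D.P_le_K hx)
  obtain ⟨a, ha, b, hb, hab⟩ := D.compl.2.2.2 (x : G) hx.2
  set A : S := ⟨a, D.P_le ha⟩
  set B : S := ⟨b, D.U_le hb⟩
  have hxAB : x = A * B := Subtype.ext hab
  have hB : B ∈ inertia (lin φ) := by
    have h1 : A⁻¹ * x ∈ inertia (lin φ) := mul_mem (inv_mem (hP (show A ∈ P.subgroupOf S from ha))) hx.1
    rwa [hxAB, inv_mul_cancel_left] at h1
  have hb1 : B = 1 := hφ B hb fun z y hy => Units.ext (by
    rw [mem_inertia] at hB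
    have h2 := congrFun hB z
    rw [conjOn_apply] at h2
    rw [show y = (⟨B * (z : S) * B⁻¹, D.normal_P.conj_mem z z.2 B⟩ : ↥(P.subgroupOf S)) from Subtype.ext hy]
    exact h2)
  rw [hxAB, hb1, mul_one]
  exact ha

theorem card_inertia {φ : ↥(P.subgroupOf S) →* ℂˣ} (hφ : FreeChar (U.subgroupOf S) φ) :
    haveI := D.normal_P
    Nat.card (inertia (lin φ)) = Nat.card P ∨ Nat.card (inertia (lin φ)) = Nat.card P * q := by
  haveI := D.normal_P
  haveI := D.normal_K
  have h1 := D.inertia_inf hφ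
  have h2 := CfsgLib.InvariantHall.relIndex_mul_card
    (inf_le_left : inertia (lin φ) ⊓ K.subgroupOf S ≤ inertia (lin φ))
  rw [inf_relIndex_left, h1, card_subgroupOf D.P_le] at h2
  rcases (Nat.dvd_prime D.mod.prime_q).1
    (D.index_K ▸ Subgroup.relIndex_dvd_index_of_normal (K.subgroupOf S) (inertia (lin φ))) with h3 | h3
  · left; rw [← h2, h3, mul_one]
  · right; rw [← h2, h3]

theorem indP_self {φ : ↥(P.subgroupOf S) →* ℂˣ} :
    haveI := D.normal_P
    Cfsg.classInner (indP S P φ) (indP S P φ) = (Nat.card (inertia (lin φ)) : ℂ) / Nat.card P := by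
  haveI := D.normal_P
  haveI := Fintype.ofFinite ↥(P.subgroupOf S)
  rw [indP, classInner_indFun_self (N := P.subgroupOf S) (θ := lin φ) (isIrrCharacter_ofHom φ),
    card_subgroupOf D.P_le]

/-- A free character with the smallest inertia group induces irreducibly. -/
theorem indP_irr {φ : ↥(P.subgroupOf S) →* ℂˣ}
    (hI : haveI := D.normal_P; Nat.card (inertia (lin φ)) = Nat.card P) :
    Cfsg.IsIrrCharacter S (indP S P φ) := by
  refine IsCharacter.isIrrCharacter_of_classInner_self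
    (IsCharacter.indFun (isCharacter_ofHom φ)) ?_
  show Cfsg.classInner (indP S P φ) (indP S P φ) = 1
  rw [D.indP_self, hI, div_self (Nat.cast_ne_zero.2 Nat.card_pos.ne')]

section Columns

variable [Fintype G] [Fintype (Row W₁ W₂)]
  {μ : (↥(W₁ ⊔ W₂) →* ℂˣ) → S → ℂ} {δ : (↥(W₁ ⊔ W₂) →* ℂˣ) → ℂ} (hμ : IsMuG S K W₁ W₂ μ δ)
include hμ

/-- A free character with inertia group of order `|P| q` induces a column. -/
theorem exists_col {φ : ↥(P.subgroupOf S) →* ℂˣ} (hφ : FreeChar (U.subgroupOf S) φ)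
    (hI : haveI := D.normal_P; Nat.card (inertia (lin φ)) = Nat.card P * q) :
    ∃ l : Col W₁ W₂, l ≠ col₀ ∧ indP S P φ = ∑ r : Row W₁ W₂, μ (cell r l) ∧
      ∀ r : Row W₁ W₂, μ (cell r l) 1 = (Nat.card U : ℂ) ∧
        (∀ x : S, (x : G) ∈ K → (x : G) ∉ P → μ (cell r l) x = 0) ∧
        ∀ x : S, (x : G) ∈ P → (q : ℂ) * μ (cell r l) x = indP S P φ x := by
  classical
  haveI := D.normal_P
  haveI := D.normal_K
  haveI := Fintype.ofFinite ↥(K.subgroupOf S)
  haveI := Fintype.ofFinite ↥((P.subgroupOf S).subgroupOf (K.subgroupOf S))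
  set N' := (P.subgroupOf S).subgroupOf (K.subgroupOf S) with hN'
  let φ' : ↥N' →* ℂˣ := φ.comp
    (MonoidHom.mk' (fun x => ⟨((x : K.subgroupOf S) : S), x.2⟩) fun _ _ => rfl)
  have hle : P.subgroupOf S ≤ K.subgroupOf S := fun x hx => D.P_le_K hx
  set θ := Cfsg.indFun N' (lin φ') with hθdef
  have hθ : Cfsg.IsIrrCharacter ↥(K.subgroupOf S) θ := by
    refine isIrrCharacter_indFun_of_inertia_le (isIrrCharacter_ofHom φ') fun k hk => ?_
    have hk' : ((k : K.subgroupOf S) : S) ∈ inertia (lin φ) ⊓ K.subgroupOf S := by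
      refine ⟨(mem_inertia _ _).2 (funext fun z => ?_), k.2⟩
      have := congrFun ((mem_inertia _ _).1 hk) ⟨⟨z, hle z.2⟩, z.2⟩
      rw [conjOn_apply] at this ⊢
      exact this
    rw [D.inertia_inf hφ] at hk'
    exact hk'
  have hind : Cfsg.indFun (K.subgroupOf S) θ = indP S P φ := indFun_indFun hle (lin φ)
  rcases D.primeDade.ind_cases hμ hθ with hir | ⟨l, hl, hres⟩
  · exfalso
    have h1 := IsIrrCharacter.classInner_self hir
    rw [hind, D.indP_self, hI, Nat.cast_mul,
      mul_div_cancel_left₀ _ (Nat.cast_ne_zero.2 (Nat.card_pos (α := P)).ne')] at h1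
    exact D.mod.prime_q.ne_one (by exact_mod_cast h1)
  have hone : ∀ r : Row W₁ W₂, μ (cell r l) 1 = (Nat.card U : ℂ) := fun r => by
    have h1 := hres r 1
    rw [OneMemClass.coe_one] at h1
    rw [h1, hθdef, indFun_one, lin, map_one, Units.val_one, mul_one, Nat.cast_inj]
    refine Nat.eq_of_mul_eq_mul_left (Nat.card_pos (α := ↥N')) ?_
    rw [Subgroup.card_mul_index, card_subgroupOf hle, card_subgroupOf D.P_le, card_subgroupOf D.K_le,
      D.card_K]
  refine ⟨l, fun e => ?_, by rw [← hind]; exact hl, fun r => ⟨hone r, fun x hxK hxP => ?_, fun x hx => ?_⟩⟩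
  · have h1 := hone row₀
    rw [e, show cell (row₀ : Row W₁ W₂) col₀ = 1 from cell_row₀ col₀, hμ.one.1] at h1
    exact D.U_ne_one (Nat.cast_injective (R := ℂ) (h1.symm.trans Nat.cast_one.symm))
  · rw [show x = ((⟨x, hxK⟩ : K.subgroupOf S) : S) from rfl, hres r]
    exact indFun_eq_zero_of_normal _ hxP
  · have hxK : x ∈ K.subgroupOf S := D.P_le_K hx
    have hsum : indP S P φ x = ∑ r' : Row W₁ W₂, μ (cell r' l) x := by
      rw [← hind, hl, Finset.sum_apply]
    rw [hsum, Finset.sum_congr rfl fun r' _ =>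
      (show μ (cell r' l) x = μ (cell r l) x from (hres r' ⟨x, hxK⟩).trans (hres r ⟨x, hxK⟩).symm),
      Finset.sum_const, nsmul_eq_mul, Finset.card_univ, ← Nat.card_eq_fintype_card,
      (card_trivL D.primeDade.selfNorm).2, D.mod.card_W]

omit hμ in
/-- There is a free character fixed by `W₁`. -/
theorem exists_inv : ∃ φ : ↥(P.subgroupOf S) →* ℂˣ, FreeChar (U.subgroupOf S) φ ∧
    (haveI := D.normal_P; Nat.card (inertia (lin φ)) = Nat.card P * q) := by
  classical
  haveI := D.normal_P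
  haveI := Fintype.ofFinite ↥(W₁.subgroupOf S)
  letI : CommGroup ↥(P.subgroupOf S) :=
    { (inferInstance : Group ↥(P.subgroupOf S)) with
      mul_comm := fun a b => Subtype.ext (D.modS.commP a.2 b.2) }
  obtain ⟨z, hz, hz1⟩ := (Subgroup.bot_or_exists_ne_one W₂).resolve_left D.primeDade.selfNorm.2.1
  let Z : ↥(P.subgroupOf S) := ⟨⟨z, D.P_le (D.W₂_le hz)⟩, D.W₂_le hz⟩
  have hZ1 : Z ≠ 1 := fun e => hz1 (congrArg (fun x : ↥(P.subgroupOf S) => ((x : S) : G)) e)
  obtain ⟨ψ, hψ⟩ := CommGroup.exists_apply_ne_one_of_hasEnoughRootsOfUnity ↥(P.subgroupOf S) ℂ hZ1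
  let c : ↥(W₁.subgroupOf S) → ↥(P.subgroupOf S) →* ↥(P.subgroupOf S) := fun w =>
    MonoidHom.mk' (fun x => ⟨(w : S) * x * (w : S)⁻¹, D.normal_P.conj_mem x x.2 w⟩)
      fun x y => Subtype.ext (by simp [mul_assoc])
  let φ : ↥(P.subgroupOf S) →* ℂˣ := ∏ w, ψ.comp (c w)
  have hfix : ∀ v : ↥(W₁.subgroupOf S), ∀ x : ↥(P.subgroupOf S), φ (c v x) = φ x := fun v x => by
    simp only [φ, MonoidHom.finsetProd_apply, MonoidHom.comp_apply]
    refine Fintype.prod_equiv (Equiv.mulRight v) _ _ fun w => congrArg ψ (Subtype.ext ?_)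
    simp [c, mul_assoc]
  have hne : φ ≠ 1 := fun e => by
    have h1 := DFunLike.congr_fun e Z
    simp only [φ, MonoidHom.finsetProd_apply, MonoidHom.comp_apply, MonoidHom.one_apply] at h1
    rw [Finset.prod_eq_pow_card (b := ψ Z) fun w _ => congrArg ψ (Subtype.ext (Subtype.ext ?_)),
      Finset.card_univ, ← Nat.card_eq_fintype_card, D.modS.card_W] at h1
    · refine hψ (D.eq_one_of_pow ?_ h1)
      rw [← map_pow, show Z ^ p = 1 from Subtype.ext (D.modS.elem.2 Z Z.2), map_one]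
    · show ((w : S) : G) * z * ((w : S) : G)⁻¹ = z
      have hc : ((w : S) : G) * z = z * ((w : S) : G) := D.primeDade.selfNorm.2.2.2.1 _ w.2 z hz
      rw [hc, mul_inv_cancel_right]
  have hfree : FreeChar (U.subgroupOf S) φ := free_of_fixed D.modS φ hne fun w hw x y hy => by
    rw [show y = c ⟨w, hw⟩ x from Subtype.ext hy]
    exact hfix ⟨w, hw⟩ x
  refine ⟨φ, hfree, (D.card_inertia hfree).resolve_left fun hI => ?_⟩
  have hP : P.subgroupOf S = inertia (lin φ) :=
    eq_of_le_of_card_ge (le_inertia (IsIrrCharacter.isClassFunction (isIrrCharacter_ofHom φ)))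
      (by rw [hI, card_subgroupOf D.P_le])
  obtain ⟨w, hw, hw1⟩ := D.modS.exists_w
  have hwP : w ∈ P.subgroupOf S := hP ▸ (mem_inertia _ _).2 (funext fun x => by
    rw [conjOn_apply]
    exact congrArg Units.val (hfix ⟨w, hw⟩ x))
  have h2 : (w : G) ∈ K ⊓ W₁ := ⟨D.P_le_K hwP, hw⟩
  rw [D.compl'.2.2.1, mem_bot] at h2
  exact hw1 (Subtype.ext h2)

end Columns

end Fin

end SideData

end CfsgLib.OddEnd
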