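import Cfsg.Agent.Char.Dade
import Cfsg.Agent.Char.DadeMap
import Cfsg.Agent.Char.CyclicW
import Cfsg.Agent.Char.CyclicFamily
import Cfsg.Agent.Char.CosetSquare
import Cfsg.Agent.Char.GaloisTwist

/-!
Peterfalvi 14, counting: densities of TI conjugacy unions, mass of generalized characters, a Fourier lower
bound on an abelian group, and two non-vanishing facts for algebraic integers.
-/

set_option autoImplicit false
set_option linter.unusedSectionVars false

namespace CfsgLib.OddEnd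

open CfsgLib.Char
open scoped ComplexConjugate

universe u

section Density

variable {G : Type u} [Group G]

/-- The union of the conjugates of a set. -/
def conjSet (A : Set G) : Set G := {g | ∃ a ∈ A, ∃ x : G, x * g * x⁻¹ = a}

theorem conjSet_conj {A : Set G} (g x : G) : x * g * x⁻¹ ∈ conjSet A ↔ g ∈ conjSet A := by
  constructor
  · rintro ⟨a, ha, y, hy⟩
    exact ⟨a, ha, y * x, by rw [← hy]; group⟩
  · rintro ⟨a, ha, y, hy⟩
    exact ⟨a, ha, y * x⁻¹, by rw [← hy]; group⟩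

theorem pow_mem_conjSet {A : Set G} {t : ℕ} (hA : ∀ a ∈ A, a ^ t ∈ A) {g : G} (hg : g ∈ conjSet A) :
    g ^ t ∈ conjSet A := by
  obtain ⟨a, ha, x, hx⟩ := hg
  exact ⟨a ^ t, hA a ha, x, by rw [← conj_pow, hx]⟩

theorem density_conjSet [Fintype G] {A : Set G} {L : Subgroup G}
    (hD : Cfsg.DadeHypothesis A L (fun _ => ⊥)) :
    ((conjSet A).ncard : ℝ) / Nat.card G = (A.ncard : ℝ) / Nat.card L := by
  classical
  have : Fintype L := Fintype.ofFinite L
  have hs := dade_sum hD (R := ℝ) (F := fun g => if g ∈ conjSet A then (1 : ℝ) else 0)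
    (fun g x => by simp only [conjSet_conj])
    (fun g hg => if_neg fun ⟨a, ha, x, hx⟩ => hg ⟨a, ha, 1, one_mem _, x, by rw [hx, mul_one]⟩)
  rw [Finset.sum_boole] at hs
  have e1 : ((Finset.univ.filter fun g => g ∈ conjSet A).card : ℝ) = (conjSet A).ncard := by
    rw [← Set.ncard_coe_finset]
    congr 2
    ext g
    simp
  have e2 : ∀ a ∈ Finset.univ.filter (fun a : L => (a : G) ∈ A),
      (Nat.card (⊥ : Subgroup G) : ℝ)⁻¹ * ∑ᶠ u ∈ ((⊥ : Subgroup G) : Set G),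
        (if (a : G) * u ∈ conjSet A then (1 : ℝ) else 0) = 1 := by
    intro a ha
    rw [Subgroup.coe_bot, finsum_mem_singleton, Subgroup.card_bot, mul_one,
      if_pos ⟨(a : G), (Finset.mem_filter.1 ha).2, 1, by simp⟩]
    simp
  rw [e1, Finset.sum_congr rfl e2, Finset.sum_const, nsmul_eq_mul, mul_one] at hs
  have e3 : ((Finset.univ.filter fun a : L => (a : G) ∈ A).card : ℝ) = A.ncard := by
    rw [← Finset.card_map ⟨Subtype.val, Subtype.val_injective⟩, ← Set.ncard_coe_finset]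
    congr 2
    ext g
    simp only [Finset.coe_map, Function.Embedding.coeFn_mk, Finset.coe_filter, Finset.mem_univ, true_and,
      Set.mem_image, Set.mem_setOf_eq]
    exact ⟨fun ⟨a, ha, e⟩ => e ▸ ha, fun hg => ⟨⟨g, hD.subset hg⟩, hg, rfl⟩⟩
  rw [hs, e3]
  have hG : (Nat.card G : ℝ) ≠ 0 := Nat.cast_ne_zero.2 Nat.card_pos.ne'
  field_simp

variable {W₁ W₂ : Subgroup G}

theorem dade_mixed_TI [Finite G] (hW : Cfsg.IsSelfNormalizingCyclic W₁ W₂) :
    Cfsg.DadeHypothesis ((↑(W₁ ⊔ W₂) : Set G) \ (↑W₁ ∪ ↑W₂)) (W₁ ⊔ W₂) (fun _ => ⊥) := by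
  have hTI := selfNormalizing_TI hW
  obtain ⟨h1, h2, hdisj, -, -, hN⟩ := hW
  obtain ⟨a, ha, ha1⟩ := (Subgroup.bot_or_exists_ne_one W₁).resolve_left h1
  obtain ⟨b, hb, hb1⟩ := (Subgroup.bot_or_exists_ne_one W₂).resolve_left h2
  have hne : ((↑(W₁ ⊔ W₂) : Set G) \ (↑W₁ ∪ ↑W₂)).Nonempty := by
    refine ⟨a * b, Subgroup.mul_mem_sup ha hb, ?_⟩
    rintro (h | h)
    · exact hb1 (Subgroup.mem_bot.1 (hdisj ▸ ⟨(W₁.mul_mem_cancel_left ha).1 h, hb⟩))
    · exact ha1 (Subgroup.mem_bot.1 (hdisj ▸ ⟨ha, (W₂.mul_mem_cancel_right hb).1 h⟩))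
  refine (dade_bot_iff hne (fun h => h.2 (Or.inl W₁.one_mem)) _).1 ⟨?_, hN _ subset_rfl hne⟩
  intro g hg t ht hgt
  rw [hN _ subset_rfl hne] at hg
  exact hTI g hg t ht hgt

theorem card_mixed [Finite G] (hW : Cfsg.IsSelfNormalizingCyclic W₁ W₂) :
    (((↑(W₁ ⊔ W₂) : Set G) \ (↑W₁ ∪ ↑W₂)).ncard : ℝ) =
      ((Nat.card W₂ : ℝ) - 1) * ((Nat.card W₁ : ℝ) - 1) := by
  obtain ⟨-, -, hdisj, hcomm, -, -⟩ := hW
  have hsub : (↑W₁ ∪ ↑W₂ : Set G) ⊆ ↑(W₁ ⊔ W₂) :=
    Set.union_subset (SetLike.coe_subset_coe.2 le_sup_left) (SetLike.coe_subset_coe.2 le_sup_right)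
  have h1 : (↑W₁ ∩ ↑W₂ : Set G) = {1} := by
    rw [← Subgroup.coe_inf, hdisj, Subgroup.coe_bot]
  have h2 := Set.ncard_union_add_ncard_inter (W₁ : Set G) (W₂ : Set G) (Set.toFinite _) (Set.toFinite _)
  have h3 := Set.ncard_sdiff_add_ncard_of_subset hsub (Set.toFinite _)
  simp only [h1, Set.ncard_singleton] at h2
  have c : ∀ W : Subgroup G, (W : Set G).ncard = Nat.card W := fun W => (Nat.card_coe_set_eq _).symm
  simp only [c, card_sup_eq hdisj hcomm] at h2 h3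
  have h2' := congrArg (Nat.cast : ℕ → ℝ) h2
  have h3' := congrArg (Nat.cast : ℕ → ℝ) h3
  push_cast at h2' h3'
  linear_combination h3' - h2'

theorem density_mixed [Fintype G] (hW : Cfsg.IsSelfNormalizingCyclic W₁ W₂) :
    ((conjSet ((↑(W₁ ⊔ W₂) : Set G) \ (↑W₁ ∪ ↑W₂))).ncard : ℝ) / Nat.card G =
      ((Nat.card W₂ : ℝ) - 1) * ((Nat.card W₁ : ℝ) - 1) / ((Nat.card W₂ : ℝ) * Nat.card W₁) := by
  rw [density_conjSet (dade_mixed_TI hW), card_mixed hW, card_sup_eq hW.2.2.1 hW.2.2.2.1, Nat.cast_mul,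
    mul_comm (Nat.card W₁ : ℝ)]

theorem pow_mem_mixed [Finite G] {t : ℕ} (ht : t.Coprime (Nat.card G)) {a : G}
    (ha : a ∈ (↑(W₁ ⊔ W₂) : Set G) \ (↑W₁ ∪ ↑W₂)) :
    a ^ t ∈ (↑(W₁ ⊔ W₂) : Set G) \ (↑W₁ ∪ ↑W₂) := by
  obtain ⟨i, hi⟩ := exists_pow_eq_self_of_coprime (x := a) (n := t)
    (Nat.Coprime.coprime_dvd_right (orderOf_dvd_natCard a) ht)
  refine ⟨Subgroup.pow_mem _ ha.1 t, fun h => ha.2 ?_⟩
  rcases h with h | h
  · exact Or.inl (hi ▸ W₁.pow_mem h i)
  · exact Or.inr (hi ▸ W₂.pow_mem h i)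

theorem pow_mem_conjSet_mixed [Finite G] {t : ℕ} (ht : t.Coprime (Nat.card G)) {g : G}
    (hg : g ∈ conjSet ((↑(W₁ ⊔ W₂) : Set G) \ (↑W₁ ∪ ↑W₂))) :
    g ^ t ∈ conjSet ((↑(W₁ ⊔ W₂) : Set G) \ (↑W₁ ∪ ↑W₂)) :=
  pow_mem_conjSet (fun _ ha => pow_mem_mixed ht ha) hg

end Density

section Mass

variable {G : Type u} [Group G] [Fintype G]

/-- A generalized character has average energy at least one where it does not vanish on a stable set. -/
theorem card_le_mass {χ : G → ℂ} (hχ : Cfsg.IsGeneralizedCharacter G χ) (Y : Finset G)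
    (hY : ∀ t : ℕ, t.Coprime (Nat.card G) → ∀ g ∈ Y, g ^ t ∈ Y) :
    ((Y.filter (fun g => χ g ≠ 0)).card : ℝ) ≤ ∑ g ∈ Y, ‖χ g‖ ^ 2 := by
  classical
  obtain ⟨a, b, ha, hb, hab⟩ := id hχ
  have hmap : ∀ (σ : ℂ ≃+* ℂ) (t : ℕ), (∀ z : ℂ, z ^ Nat.card G = 1 → σ z = z ^ t) →
      ∀ g, σ (χ g) = χ (g ^ t) := fun σ t hσ g => by
    simp only [hab, Pi.sub_apply, map_sub, IsCharacter.map_eq_pow_card ha σ hσ,
      IsCharacter.map_eq_pow_card hb σ hσ]
  set s := Y.filter fun g => χ g ≠ 0 with hsdef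
  have hstable : ∀ t : ℕ, t.Coprime (Nat.card G) → ∀ g ∈ s, g ^ t ∈ s := by
    intro t ht g hg
    rw [hsdef, Finset.mem_filter] at hg ⊢
    obtain ⟨σ, hσ⟩ := exists_ringEquiv_pow (Nat.card_pos (α := G)) ht
    refine ⟨hY t ht g hg.1, fun h => hg.2 ?_⟩
    rw [← hmap σ t hσ g] at h
    exact σ.injective (h.trans (map_zero σ).symm)
  have hfix : ∀ σ : ℂ ≃+* ℂ, σ (∏ g ∈ s, χ g) = ∏ g ∈ s, χ g := by
    intro σ
    obtain ⟨t, ht, hσ⟩ := exists_pow_of_ringEquiv (Nat.card_pos (α := G)) σ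
    have hinj : Function.Injective fun g : G => g ^ t := (powCoprime (Nat.coprime_comm.1 ht)).injective
    have himg : s.image (fun g => g ^ t) = s :=
      Finset.eq_of_subset_of_card_le (Finset.image_subset_iff.2 (hstable t ht))
        (Finset.card_image_of_injective s hinj).ge
    rw [map_prod]
    simp only [hmap σ t hσ]
    conv_rhs => rw [← himg]
    rw [Finset.prod_image fun x _ y _ h => hinj h]
  refine (card_le_sum_norm_pow s χ 2 (fun g _ => IsGeneralized.isIntegral hχ g)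
    (fun g hg => (Finset.mem_filter.1 hg).2) hfix).trans ?_
  exact Finset.sum_le_sum_of_subset_of_nonneg (Finset.filter_subset _ _) fun g _ _ => by positivity

/-- Prescribed Fourier coefficients up to a constant force energy away from the identity. -/
theorem fourier_mass {P : Type u} [CommGroup P] [Fintype P] [DecidableEq P] (F s : Finset (P →* ℂˣ))
    [DecidablePred (· ∈ s)] (hs : s ⊆ F) (hF : F.Nonempty) {f : P → ℂ} {a : ℂ}
    (hc : ∀ φ ∈ F, Cfsg.classInner f (fun x => (φ x : ℂ)) = a + (if φ ∈ s then 1 else 0)) :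
    (s.card : ℝ) - (s.card : ℝ) ^ 2 / F.card ≤
      (Nat.card P : ℝ)⁻¹ * ∑ x ∈ Finset.univ.erase 1, ‖f x‖ ^ 2 := by
  classical
  have hF0 : (F.card : ℝ) ≠ 0 := Nat.cast_ne_zero.2 hF.card_pos.ne'
  set r : ℝ := (s.card : ℝ) / F.card with hr
  let c : (P →* ℂˣ) → ℝ := fun φ => (if φ ∈ s then 1 else 0) - r
  set ψ : P → ℂ := ∑ φ ∈ F, (c φ : ℂ) • homFun φ with hψ
  have hsum : ∑ φ ∈ F, (if φ ∈ s then (1 : ℝ) else 0) = s.card := by
    rw [Finset.sum_boole, Finset.filter_mem_eq_inter, Finset.inter_eq_right.2 hs]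
  have hc0 : ∑ φ ∈ F, c φ = 0 := by
    simp only [c, Finset.sum_sub_distrib, hsum, Finset.sum_const, nsmul_eq_mul, hr]
    rw [mul_div_cancel₀ _ hF0, sub_self]
  set B : ℝ := (s.card : ℝ) - (s.card : ℝ) ^ 2 / F.card with hB
  have hcs : ∑ φ ∈ F, c φ * (if φ ∈ s then (1 : ℝ) else 0) = B := by
    have : ∀ φ, c φ * (if φ ∈ s then (1 : ℝ) else 0) = (1 - r) * (if φ ∈ s then 1 else 0) := fun φ => by
      simp only [c]; split_ifs <;> ring
    rw [Finset.sum_congr rfl fun φ _ => this φ, ← Finset.mul_sum, hsum, hB, hr]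
    ring
  have hcc : ∑ φ ∈ F, c φ * c φ = B := by
    rw [← hcs]
    have : ∑ φ ∈ F, c φ * r = 0 := by rw [← Finset.sum_mul, hc0, zero_mul]
    conv_lhs => enter [2, φ]; rw [show c φ * c φ = c φ * (if φ ∈ s then 1 else 0) - c φ * r from by simp only [c]; ring]
    rw [Finset.sum_sub_distrib, this, sub_zero]
  have hψ1 : ψ 1 = 0 := by
    simp only [hψ, Finset.sum_apply, Pi.smul_apply, homFun, map_one, Units.val_one, smul_eq_mul, mul_one]
    rw [← Complex.ofReal_sum, hc0, Complex.ofReal_zero]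
  set g : P → ℂ := Function.update f 1 0 with hg
  have hgψ : Cfsg.classInner g ψ = (B : ℂ) := by
    have e : Cfsg.classInner g ψ = Cfsg.classInner f ψ := by
      simp only [classInner_def]
      congr 1
      refine Finset.sum_congr rfl fun x _ => ?_
      rcases eq_or_ne x 1 with rfl | hx
      · simp [hψ1]
      · rw [hg, Function.update_of_ne hx]
    rw [e, hψ, classInner_sum_right, ← hcs, Complex.ofReal_sum]
    have hterm : ∀ φ ∈ F, Cfsg.classInner f ((c φ : ℂ) • homFun φ) =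
        (c φ : ℂ) * a + ((c φ * (if φ ∈ s then (1 : ℝ) else 0) : ℝ) : ℂ) := fun φ hφ => by
      rw [classInner_smul_right, Complex.conj_ofReal, show homFun φ = fun x => (φ x : ℂ) from rfl, hc φ hφ]
      split_ifs <;> simp [mul_add]
    rw [Finset.sum_congr rfl hterm, Finset.sum_add_distrib, ← Finset.sum_mul, ← Complex.ofReal_sum, hc0,
      Complex.ofReal_zero, zero_mul, zero_add]
  have hψψ : Cfsg.classInner ψ ψ = (B : ℂ) := by
    rw [hψ, classInner_sum_left, ← hcc, Complex.ofReal_sum]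
    refine Finset.sum_congr rfl fun φ hφ => ?_
    rw [classInner_smul_left, classInner_sum_right, Finset.sum_eq_single φ]
    · rw [classInner_smul_right, classInner_homFun, if_pos rfl, Complex.conj_ofReal, mul_one,
        Complex.ofReal_mul]
    · intro η _ hne
      rw [classInner_smul_right, classInner_homFun, if_neg hne.symm, mul_zero]
    · exact fun h => absurd hφ h
  have hψg : Cfsg.classInner ψ g = (B : ℂ) := by rw [← classInner_conj, hgψ, Complex.conj_ofReal]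
  have h0 : 0 ≤ (Cfsg.classInner (g - ψ) (g - ψ)).re := by
    rw [CfsgLib.Char.classInner_self, Complex.ofReal_re]; positivity
  rw [classInner_sub_left, classInner_sub_right, classInner_sub_right, hgψ, hψψ, hψg, sub_self, sub_zero] at h0
  simp only [Complex.sub_re, Complex.ofReal_re] at h0
  have hgg : (Cfsg.classInner g g).re = (Nat.card P : ℝ)⁻¹ * ∑ x ∈ Finset.univ.erase 1, ‖f x‖ ^ 2 := by
    rw [CfsgLib.Char.classInner_self, Complex.ofReal_re, ← Finset.add_sum_erase _ _ (Finset.mem_univ (1 : P))]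
    rw [hg, Function.update_self, norm_zero, zero_pow two_ne_zero, zero_add]
    congr 1
    exact Finset.sum_congr rfl fun x hx => by rw [Function.update_of_ne (Finset.ne_of_mem_erase hx)]
  rw [hgg] at h0
  linarith

end Mass

section Integral

/-- No common zero of the two linear forms. -/
theorem no_common_zero {x y : ℂ} {p q : ℕ} (hp : p.Prime) (hq : q.Prime) (_hqp : q < p) (hx : IsIntegral ℤ x)
    (_hy : IsIntegral ℤ y) : ¬ ((q : ℂ) * y + ((q : ℂ) - 1) * (x - 1) = 0 ∧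
      (p : ℂ) * x + ((p : ℂ) - 1) * (y - 1) = 0) := by
  rintro ⟨h1, h2⟩
  have h3 : ((p : ℂ) + q - 1) * x = (p : ℂ) - 1 := by linear_combination (q : ℂ) * h2 - ((p : ℂ) - 1) * h1
  have hD0 : ((p : ℂ) + q - 1) ≠ 0 := by
    have hne : ((p : ℂ) + q - 1) = ((p + q - 1 : ℕ) : ℂ) := by
      rw [Nat.cast_sub (by have := hp.one_lt; omega)]; push_cast; ring
    rw [hne]
    exact Nat.cast_ne_zero.2 (by have := hp.one_lt; omega)
  have hxq : x = algebraMap ℚ ℂ (((p : ℚ) - 1) / ((p : ℚ) + q - 1)) := by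
    simp only [map_div₀, map_sub, map_add, map_natCast, map_one]
    rw [eq_div_iff hD0, mul_comm, h3]
  rw [hxq, isIntegral_algebraMap_iff (algebraMap ℚ ℂ).injective] at hx
  obtain ⟨k, hk⟩ := IsIntegrallyClosed.isIntegral_iff.1 hx
  rw [eq_intCast] at hk
  have hp2 : (2 : ℚ) ≤ p := by exact_mod_cast hp.two_le
  have hq2 : (2 : ℚ) ≤ q := by exact_mod_cast hq.two_le
  have hk0 : (0 : ℚ) < (k : ℚ) := by rw [hk]; exact div_pos (by linarith) (by linarith)
  have hk1 : (k : ℚ) < 1 := by rw [hk, div_lt_one (by linarith)]; linarith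
  have a0 : (0 : ℤ) < k := by exact_mod_cast hk0
  have a1 : k < (1 : ℤ) := by exact_mod_cast hk1
  omega

theorem one_add_mul_ne_zero {x : ℂ} {q : ℕ} (hq : 3 ≤ q) (hx : IsIntegral ℤ x) :
    (1 : ℂ) + ((q : ℂ) - 1) * x ≠ 0 := by
  intro h
  have hq0 : ((q : ℂ) - 1) ≠ 0 := by
    rw [sub_ne_zero]; exact_mod_cast (by omega : q ≠ 1)
  have hxq : x = algebraMap ℚ ℂ (-1 / ((q : ℚ) - 1)) := by
    simp only [map_div₀, map_sub, map_neg, map_natCast, map_one]
    rw [eq_div_iff hq0]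
    linear_combination h
  rw [hxq, isIntegral_algebraMap_iff (algebraMap ℚ ℂ).injective] at hx
  obtain ⟨k, hk⟩ := IsIntegrallyClosed.isIntegral_iff.1 hx
  rw [eq_intCast] at hk
  have hq3 : (3 : ℚ) ≤ q := by exact_mod_cast hq
  have hk0 : (k : ℚ) < 0 := by rw [hk]; exact div_neg_of_neg_of_pos (by norm_num) (by linarith)
  have hk1 : (-1 : ℚ) < k := by rw [hk, lt_div_iff₀ (by linarith)]; linarith
  have a0 : k < (0 : ℤ) := by exact_mod_cast hk0
  have a1 : (-1 : ℤ) < k := by exact_mod_cast hk1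
  omega

end Integral

end CfsgLib.OddEnd
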