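import Cfsg.Agent.OddEnd.Defs
import Cfsg.Agent.OddLocal.KappaDade
import Cfsg.Agent.S1379

/-!
The Dade hypothesis on the support of a maximal subgroup with empty `κ`.

`hat M` is the set of non-identity elements of `M` that commute with a non-identity element of `M_σ`.
-/

set_option autoImplicit false
set_option linter.unusedSectionVars false

namespace CfsgLib.OddEnd

open Subgroup Cfsg CfsgLib.OddLocal CfsgLib.OddLocal.Kap
open scoped commutatorElement Pointwise

universe u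

variable {G : Type u} [Group G] [Finite G]

/-- The support of `M`. -/
def hat (M : Subgroup G) : Set G := Cfsg.sigmaHat M \ {1}

/-- The non-identity elements of `M_σ`. -/
def core1 (M : Subgroup G) : Set G := (Cfsg.sigmaCore M : Set G) \ {1}

theorem core1_subset_hat (M : Subgroup G) : core1 M ⊆ hat M := fun a ha =>
  ⟨⟨map_subtype_le _ ha.1, a, ha.1, ha.2, rfl⟩, ha.2⟩

theorem hat_subset (M : Subgroup G) : hat M ⊆ (M : Set G) \ {1} := fun _ ha => ⟨ha.1.1, ha.2⟩

theorem core1_conj {M : Subgroup G} : ∀ m ∈ M, ∀ a ∈ core1 M, m * a * m⁻¹ ∈ core1 M := fun _ hm a ha =>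
  ⟨conj_mem_of_le_normalizer (TH.le_normalizer_core M) hm ha.1, fun h => ha.2 (conj_eq_one_iff.1 h)⟩

theorem hat_conj {M : Subgroup G} : ∀ m ∈ M, ∀ a ∈ hat M, m * a * m⁻¹ ∈ hat M := by
  rintro m hm a ⟨⟨haM, y, hy, hy1, hay⟩, ha1⟩
  exact ⟨⟨M.mul_mem (M.mul_mem hm haM) (M.inv_mem hm), m * y * m⁻¹,
    conj_mem_of_le_normalizer (TH.le_normalizer_core M) hm hy, fun h => hy1 (conj_eq_one_iff.1 h),
    ((show Commute a y from hay).map (MulAut.conj m).toMonoidHom).eq⟩, fun h => ha1 (conj_eq_one_iff.1 h)⟩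

variable (hG : Cfsg.IsMinSimpleOddOrder G)
include hG

variable {M : Subgroup G} (hM : IsCoatom M) (hκ : Cfsg.kappa M = ∅)
include hM hκ

/-- A standard factorisation with trivial `κ`-part. -/
theorem exists_decomp_bot : ∃ U : Subgroup G, Cfsg.IsSigmaDecomposition M ⊥ U ∧ U ⊔ Cfsg.sigmaCore M = M := by
  obtain ⟨K, U, hKU⟩ := exists_decomp_any hG hM
  have hK : K = ⊥ := by
    by_contra h
    have hne := (kappa_nonempty_iff hG hM hKU).2 h
    rw [hκ] at hne
    exact Set.not_nonempty_empty hne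
  subst hK
  refine ⟨U, hKU, le_antisymm (sup_le hKU.compl.1 (map_subtype_le _)) fun m hm => ?_⟩
  obtain ⟨a, ha, b, hb, rfl⟩ := hKU.compl.2.2.2 m hm
  rw [bot_sup_eq] at hb
  exact mul_mem (mem_sup_left ha) (mem_sup_right hb)

theorem hat_cases {a : G} (ha : a ∈ hat M) :
    a ∈ Cfsg.sigmaCore M ∨ ((∀ g : G, g * a * g⁻¹ ∈ hat M → g ∈ M) ∧ centralizer ({a} : Set G) ≤ M) := by
  by_cases haS : a ∈ Cfsg.sigmaCore M
  · exact Or.inl haS
  obtain ⟨U, hKU, hUM⟩ := exists_decomp_bot hG hM hκ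
  have hhat : ∀ z ∈ Cfsg.sigmaHat M, z ∈ Cfsg.sigmaA M U := fun z hz => ⟨hz, hUM.ge hz.1⟩
  have has : a ∈ Cfsg.sigmaA M U \ (Cfsg.sigmaCore M : Set G) := ⟨hhat a ha.1, haS⟩
  obtain ⟨b, c, hb, hc, -, e, hbσ, hcσ⟩ := exists_pi_parts (Cfsg.sigma M) a
  refine Or.inr ⟨fun g hg => ?_, fun z hz => ?_⟩
  · have hgS : g * a * g⁻¹ ∉ Cfsg.sigmaCore M := fun h => haS (by
      have := mem_core_of_conj hG hM (g := g⁻¹) h (by rw [conj_back]; exact ha.1.1)
      rwa [conj_back] at this)
    by_contra hgM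
    refine ha.2 (sigmaA_diff_ti hG hM hKU g ?_ a has ⟨hhat _ hg.1, hgS⟩)
    have hn : normalizer (Cfsg.sigmaA M U \ (Cfsg.sigmaCore M : Set G)) = M := by
      refine set_normalizer_eq hG hM (fun z hz => ⟨hz.1.1.1, fun h => hz.2 ?_⟩) ⟨a, has⟩ fun n hn z hz => ?_
      · rw [Set.mem_singleton_iff] at h; subst h; exact Subgroup.one_mem _
      · have hzh : z ∈ hat M := ⟨hz.1.1, fun h => hz.2 (by
          rw [Set.mem_singleton_iff] at h; subst h; exact Subgroup.one_mem _)⟩
        exact ⟨hhat _ (hat_conj n hn z hzh).1, fun h => hz.2 (by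
          have := conj_mem_of_le_normalizer (TH.le_normalizer_core M) (M.inv_mem hn) h
          rwa [conj_back] at this)⟩
    rwa [hn]
  · refine (part_unique_max hG hM hKU has hb hc e hbσ hcσ).1 (mem_centralizer_singleton_iff.2 ?_)
    obtain ⟨i, rfl⟩ := mem_zpowers_iff.1 hc
    exact ((show Commute z a from mem_centralizer_singleton_iff.1 hz).zpow_right i).eq

/-- Off `M_σ` the support has trivial support subgroups. -/
theorem supportR_off {a : G} (ha : a ∈ hat M) (haS : a ∉ Cfsg.sigmaCore M) : Cfsg.supportR M a = ⊥ :=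
  supportR_eq_bot hG ((hat_cases hG hM hκ ha).resolve_left haS).2

/-- The Dade hypothesis for every invariant subset of the support. -/
theorem dade_hat {A : Set G} (hA : A ⊆ hat M) (hinv : ∀ m ∈ M, ∀ a ∈ A, m * a * m⁻¹ ∈ A) :
    Cfsg.DadeHypothesis A M (Cfsg.supportR M) where
  one_not_mem h := (hA h).2 rfl
  subset a ha := (hA ha).1.1
  conj_mem := hinv
  fusion a ha g hg := by
    rcases hat_cases hG hM hκ (hA ha) with h | ⟨h, -⟩
    · exact core_fusion hG hM h (hA hg).1.1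
    · exact ⟨g, h g (hA hg), rfl⟩
  le_centralizer a _ := supportR_le_centralizer hG hM a
  conj_mem_H a _ c hc u hu := supportR_centralizer_conj hG hM a hc hu
  inf_eq_bot a ha := by
    rcases hat_cases hG hM hκ (hA ha) with h | ⟨-, h⟩
    · refine le_bot_iff.1 ((le_inf inf_le_left (inf_le_right.trans inf_le_left)).trans
        (supportR_covers hG hM h (hA ha).2).1.le)
    · rw [supportR_eq_bot hG h, bot_inf_eq]
  sup_eq a ha := by
    refine le_antisymm (sup_le (supportR_le_centralizer hG hM a) inf_le_right) fun c hc => ?_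
    have haM : a ∈ M := (hA ha).1.1
    by_cases haC : centralizer ({a} : Set G) ≤ M
    · exact mem_sup_right ⟨haC hc, hc⟩
    have haS := (hat_cases hG hM hκ (hA ha)).resolve_right fun h => haC h.2
    obtain ⟨r, hr, hrc⟩ := (supportR_covers hG hM haS (hA ha).2).2 c (by
      rw [mul_assoc, (mem_centralizer_singleton_iff.1 hc).symm, inv_mul_cancel_left]; exact haM)
    rw [show c = r * (r⁻¹ * c) by group]
    exact mul_mem (mem_sup_left hr)
      (mem_sup_right ⟨hrc, (centralizer ({a} : Set G)).mul_mem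
        ((centralizer ({a} : Set G)).inv_mem (supportR_le_centralizer hG hM a hr)) hc⟩)
  coprime a ha b hb := by
    by_cases haC : centralizer ({a} : Set G) ≤ M
    · rw [supportR_eq_bot hG haC, card_bot]; exact Nat.coprime_one_left _
    obtain haS := (hat_cases hG hM hκ (hA ha)).resolve_right fun h => haC h.2
    obtain ⟨N, hN, hCN, hu, hnc, -, hnil, -⟩ := exists_over hG hM haS (hA ha).2 haC
    rw [supportR_eq hG haC hN hCN hu hnil]
    refine Nat.coprime_of_dvd fun r hr h1 h2 => ?_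
    haveI := Fact.mk hr
    have hrN : r ∈ Cfsg.sigma N := (Sig.sigma_core hG hN).1.2.1 r hr (h1.trans (card_dvd_of_le inf_le_left))
    have hrM : r ∉ Cfsg.sigma M := fun h => by
      obtain ⟨g, hg⟩ := conj_of_common hG hM hN h hrN
      exact hnc g hg
    obtain ⟨-, hτ⟩ := (Cfsg.Agent.S1436.result hG M hM a haS (hA ha).2 haC N hN hCN).1
      ⟨r, hrN, h2.trans (card_dvd_of_le inf_le_left)⟩
    -- every element of `M` centralizing a non-trivial element of `M_σ` is a `σ(M)`-element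
    have hσ : ∀ (c y : G) (q : ℕ), q.Prime → q ∣ orderOf c → c ∈ M → y ∈ Cfsg.sigmaCore M → y ≠ 1 →
        Commute c y → q ∈ Cfsg.sigma M := by
      intro c y q hq hd hc hy hy1 hcy
      by_contra hqσ
      haveI := Fact.mk hq
      rcases mem_kappa_or_tau_two hG hM (M.pow_mem hc (orderOf c / q))
        (orderOf_pow_orderOf_div (orderOf_pos c).ne' hd) hqσ hy hy1 (hcy.pow_left _) with h | h
      · rw [hκ] at h; exact h
      · rw [hτ] at h; exact h
    obtain ⟨⟨hbM, y, hy, hy1, hby⟩, hb1⟩ := hA hb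
    have hbS : b ∈ Cfsg.sigmaCore M := Excep.le_sigmaCore hG hM (zpowers_le.2 hbM) (fun q hq hd => by
        rw [Nat.card_zpowers] at hd
        exact hσ b y q hq hd hbM hy hy1 hby) (mem_zpowers b)
    obtain ⟨z, hz⟩ := exists_prime_orderOf_dvd_card' (G := ↥(M ⊓ centralizer ({b} : Set G))) r h2
    exact hrM (hσ (z : G) b r hr (by rw [Subgroup.orderOf_coe, hz]) z.2.1 hbS hb1
      (mem_centralizer_singleton_iff.1 z.2.2))

theorem dade_core : Cfsg.DadeHypothesis (core1 M) M (Cfsg.supportR M) :=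
  dade_hat hG hM hκ (core1_subset_hat M) core1_conj

theorem dade_full : Cfsg.DadeHypothesis (hat M) M (Cfsg.supportR M) :=
  dade_hat hG hM hκ le_rfl hat_conj

/-- For a Frobenius group the support is the kernel. -/
theorem hat_eq_core1 (hF : KernelFrobenius M) : hat M = core1 M := by
  refine Set.Subset.antisymm ?_ (core1_subset_hat M)
  rintro a ⟨⟨haM, y, hy, hy1, hay⟩, ha1⟩
  exact ⟨hF y hy hy1 ⟨haM, mem_centralizer_singleton_iff.2 hay⟩, ha1⟩

omit hκ in
/-- The kernel supports of non-conjugate maximal subgroups do not meet. -/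
theorem kernel_supports_disjoint {L : Subgroup G} (hL : IsCoatom L)
    (hnc : ∀ g : G, L ≠ M.map (MulAut.conj g).toMonoidHom) :
    ∀ g : G, ¬ ((∃ a ∈ core1 M, ∃ u ∈ Cfsg.supportR M a, ∃ x : G, x * g * x⁻¹ = a * u) ∧
      ∃ b ∈ core1 L, ∃ u ∈ Cfsg.supportR L b, ∃ x : G, x * g * x⁻¹ = b * u) := by
  rintro g ⟨⟨a, ha, u, hu, x, hx⟩, ⟨b, hb, v, hv, y, hy⟩⟩
  have h := (Cfsg.Agent.S1379.result hG).1 M L hM hL hnc
  have hgM : g ∈ Cfsg.tildeOf M (core1 M) := ⟨a, ha, u, hu, x⁻¹, by rw [← hx]; group⟩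
  have hgL : g ∈ Cfsg.tildeOf L (core1 L) := ⟨b, hb, v, hv, y⁻¹, by rw [← hy]; group⟩
  exact (h.le ⟨hgM, hgL⟩ : g ∈ (∅ : Set G))

end CfsgLib.OddEnd
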