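import Cfsg.Agent.OddEnd.LocalRowsBasic
import Cfsg.Agent.OddLocal.SigmaAction

/-!
Maximal subgroups of type I and maximal subgroups with a Fitting subgroup which is no TI-subgroup, once every
maximal subgroup with empty `κ` is a Frobenius group.
-/

set_option autoImplicit false
set_option linter.style.haveILetI false
set_option linter.unusedSectionVars false

namespace CfsgLib.OddEnd.Rows

open Subgroup CfsgLib.OddLocal
open scoped commutatorElement

universe u

variable {G : Type u} [Group G] [Finite G] (hG : Cfsg.IsMinSimpleOddOrder G)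
include hG

section Fused

variable {M : Subgroup G} (hM : IsCoatom M) (hnil : Group.IsNilpotent (Cfsg.sigmaCore M))
  {p : ℕ} [hp : Fact p.Prime] {g : G} (hg : g ∉ M) {z : G} (hz : z ∈ Cfsg.sigmaCore M) (hzo : orderOf z = p)
  (hzg : g⁻¹ * z * g ∈ Cfsg.sigmaCore M)
include hM hnil hg hz hzo hzg

/-- An abelian `M_σ` with a fused element has rank exactly two. -/
theorem abelian_rank_two (hab : IsMulCommutative (Cfsg.sigmaCore M)) :
    Cfsg.RankLE 2 (Cfsg.sigmaCore M) ∧ ¬ Cfsg.RankLE 1 (Cfsg.sigmaCore M) := by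
  obtain ⟨N, hN, hCN, hc, -⟩ := Kap.meet_over hG hM hnil hg hz hzo hzg
  have hle : Cfsg.sigmaCore M ≤ M ⊓ N := (le_inf le_rfl fun x hx => mem_centralizer_singleton_iff.2
    (congrArg Subtype.val (hab.is_comm.comm (⟨x, hx⟩ : Cfsg.sigmaCore M) ⟨z, hz⟩))).trans
    (Kap.fixed_le_meet hG hM hnil hz hCN)
  refine ⟨fun q hq => ?_, fun h => ?_⟩
  · haveI := Fact.mk hq
    exact Uniq.rankLE_mono hle (Compl.rank_le_two hG hN hc q hq)
  · have hp2 : p ≠ 2 := CfsgLib.CN.MinSimple.p_ne_two hG (hzo ▸ orderOf_dvd_natCard z)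
    exact Kap.part_not_cyclic hG hM hnil hg hz hzo hzg (Compl.cyclic_of_rank_one hp2 (Bender.isPGroup_qc _)
      (Uniq.rankLE_mono (Bender.qc_le p _) (h p hp.out)))

theorem part_noncomm (hab : ¬ IsMulCommutative (Cfsg.sigmaCore M)) :
    ¬ IsMulCommutative (Bender.qc p (Cfsg.sigmaCore M)) := fun h =>
  hab (Kap.nilpotent_commutative_of_qc hnil fun r _ => by
    by_cases hr : r = p
    · subst hr; exact h
    · exact Kap.qc_commutative hG hM hnil hg hz hzo hzg hr)

/-- With a nonabelian part every prime of `M_σ` has a line normalized by `M`. -/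
theorem exists_normal_line (hnab : ¬ IsMulCommutative (Bender.qc p (Cfsg.sigmaCore M))) {q : ℕ} [Fact q.Prime]
    (hq : q ∣ Nat.card (Cfsg.sigmaCore M)) :
    ∃ c ∈ Bender.qc q (Cfsg.sigmaCore M), orderOf c = q ∧ M ≤ normalizer (zpowers c : Set G) := by
  set S := Cfsg.sigmaCore M
  have hMQ : ∀ (r : ℕ) [Fact r.Prime], M ≤ normalizer (Bender.qc r S : Set G) := fun r _ =>
    (TH.le_normalizer_core M).trans (UTool.normalizer_le_normalizer_map _ _ (PLenZ.characteristic_pCore r))
  by_cases hqp : q = p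
  · subst hqp
    set P := Bender.qc q S
    have hPp : IsPGroup q P := Bender.isPGroup_qc _
    set C := P ⊓ centralizer (P : Set G)
    obtain ⟨c₀, hc₀, hc₀1, hc₀c⟩ := CfsgLib.CN.exists_central hPp.isNilpotent
      (fun e => hnab (by rw [e]; infer_instance))
    have hCd : q ∣ Nat.card C := Excep.isPGroup_ne_bot_dvd (hPp.to_le inf_le_left) fun e =>
      hc₀1 (Subgroup.mem_bot.1 (e.le ⟨hc₀, mem_centralizer_iff.2 fun h hh => (hc₀c h hh).eq⟩))
    obtain ⟨c, hc, hco, hcn⟩ := exists_line (Kap.part_center_cyclic hG hM hnil hg hz hzo hzg hnab)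
      ((le_inf (hMQ q) ((hMQ q).trans (TH.normalizer_le_normalizer_centralizer P))).trans
        inf_normalizer_le_normalizer_inf) hCd
    exact ⟨c, hc.1, hco, hcn⟩
  · have hQd : q ∣ Nat.card (Bender.qc q S) := Excep.isPGroup_ne_bot_dvd (Bender.isPGroup_qc _)
      (Bender.qc_ne_bot (hq.trans (card_dvd_of_le (Bender.le_fitting le_rfl le_normalizer hnil))))
    exact exists_line (Kap.qc_cyclic hG hM hnil hg hz hzo hzg hnab hqp) (hMQ q) hQd

variable (hFM : KernelFrobenius M) {E : Subgroup G} (hE : Cfsg.IsComplIn E (Cfsg.sigmaCore M) M)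
include hFM hE

theorem compl_card_dvd_pred (hnab : ¬ IsMulCommutative (Bender.qc p (Cfsg.sigmaCore M))) {q : ℕ}
    (hq : q.Prime) (hd : q ∣ Nat.card (Cfsg.sigmaCore M)) : Nat.card E ∣ q - 1 := by
  haveI := Fact.mk hq
  obtain ⟨c, hc, hco, hcn⟩ := exists_normal_line hG hM hnil hg hz hzo hzg hnab hd
  exact card_dvd_pred_of_line hco (hE.1.trans hcn) fun e he h =>
    compl_fpf hFM hE he (Bender.qc_le _ _ hc) (fun e1 => hq.ne_one (by rw [← hco, e1, orderOf_one])) h

/-- The complement is abelian. -/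
theorem compl_commutative : IsMulCommutative E := by
  have hz1 : z ≠ 1 := fun e => hp.out.ne_one (by rw [← hzo, e, orderOf_one])
  by_cases hab : IsMulCommutative (Cfsg.sigmaCore M)
  · set P := Bender.qc p (Cfsg.sigmaCore M)
    have hp2 : p ≠ 2 := CfsgLib.CN.MinSimple.p_ne_two hG (hzo ▸ orderOf_dvd_natCard z)
    have hr : Cfsg.PRankLE p 2 P :=
      Uniq.rankLE_mono (Bender.qc_le p _) ((abelian_rank_two hG hM hnil hg hz hzo hzg hab).1 p hp.out)
    have hEP : E ≤ normalizer (P : Set G) := (hE.1.trans (TH.le_normalizer_core M)).trans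
      (UTool.normalizer_le_normalizer_map _ _ (PLenZ.characteristic_pCore p))
    have hpE : ¬ p ∣ Nat.card E := fun h =>
      (Compl.card_eq hG hM hE).2.2 p hp.out h (Kap.mem_sigma_of_mem_core hG hM hp.out hz hzo)
    have hbot : ⁅E, E⁆ = ⊥ := (eq_bot_iff_forall _).2 fun y hy => by
      have hyE : y ∈ E := Kap.commutator_le_self' E hy
      have hyo : (orderOf y).Coprime p :=
        ((hp.out.coprime_iff_not_dvd.2 hpE).symm).coprime_dvd_left (E.orderOf_dvd_natCard hyE)
      have hyc := Excep.derived_centralizes hp2 (Bender.isPGroup_qc _) hr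
        (hG.1.of_dvd_nat E.card_subgroup_dvd_card) hEP hy hyo
      exact compl_fpf hFM hE hyE hz hz1 (mem_centralizer_iff.1 hyc z (Kap.mem_part hnil hz hzo)).symm
    exact ⟨⟨fun a b => Subtype.ext (mem_centralizer_iff.1 (commutator_eq_bot_iff_le_centralizer.1 hbot b.2) a a.2)⟩⟩
  · obtain ⟨c, hc, hco, hcn⟩ := exists_normal_line hG hM hnil hg hz hzo hzg
      (part_noncomm hG hM hnil hg hz hzo hzg hab) (Kap.dvd_of_mem hz hzo)
    exact commute_of_line (hE.1.trans hcn) fun e he h =>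
      compl_fpf hFM hE he (Bender.qc_le _ _ hc) (fun e1 => hp.out.ne_one (by rw [← hco, e1, orderOf_one])) h

/-- `O_{p'}(M)` lies in `O_{p'}(M_σ)`. -/
theorem prime_core_cyclic_top (hnab : ¬ IsMulCommutative (Bender.qc p (Cfsg.sigmaCore M))) :
    IsCyclic (Cfsg.pPrimeCore p ↥M) := by
  set S := Cfsg.sigmaCore M
  set P := Bender.qc p S
  set R : Subgroup G := Excep.opc p M with hR
  have hz1 : z ≠ 1 := fun e => hp.out.ne_one (by rw [← hzo, e, orderOf_one])
  have hRM : R ≤ M := map_subtype_le _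
  have hMR : M ≤ normalizer (R : Set G) := Excep.le_normalizer_opc p M
  have hcop : (Nat.card R).Coprime p := Excep.opc_coprime p M
  have hPM : P ≤ M := (Bender.qc_le p S).trans (map_subtype_le _)
  have hMP : M ≤ normalizer (P : Set G) :=
    (TH.le_normalizer_core M).trans (UTool.normalizer_le_normalizer_map _ _ (PLenZ.characteristic_pCore p))
  have hRP : R ≤ centralizer (P : Set G) := Kap.centralizes_of_disjoint (hPM.trans hMR) (hRM.trans hMP) (by
    obtain ⟨k, hk⟩ := IsPGroup.iff_card.1 (Bender.isPGroup_qc (s := p) S)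
    rw [hk]; exact hcop.pow_right k)
  have hRS : R ≤ S := fun r hr => hFM z hz hz1
    ⟨hRM hr, mem_centralizer_singleton_iff.2 (mem_centralizer_iff.1 (hRP hr) z (Kap.mem_part hnil hz hzo)).symm⟩
  haveI := Kap.prime_core_cyclic hG hM hnil hg hz hzo hzg hnab
  have hle : R.subgroupOf S ≤ Cfsg.pPrimeCore p ↥S := le_sSup
    ⟨(normal_subgroupOf_iff_le_normalizer hRS).2 ((map_subtype_le _).trans hMR), by
      rw [Nat.card_congr (subgroupOfEquivOfLe hRS).toEquiv]; exact hcop⟩
  haveI : IsCyclic (R.subgroupOf S) := isCyclic_of_injective _ (inclusion_injective hle)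
  haveI : IsCyclic R := isCyclic_of_surjective _ (subgroupOfEquivOfLe hRS).surjective
  haveI : IsCyclic ↥((Cfsg.pPrimeCore p ↥M).map M.subtype) := ‹IsCyclic R›
  exact isCyclic_of_surjective _ ((Cfsg.pPrimeCore p ↥M).equivMapOfInjective _ M.subtype_injective).symm.surjective

end Fused

variable (hF : EmptyKappaFrobenius G) {M : Subgroup G} (hM : IsCoatom M)
include hF hM

/-- A maximal subgroup with empty `κ` is of type I. -/
theorem typeI_of_empty (hκ : Cfsg.kappa M = ∅) : Cfsg.IsOfTypeI M := by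
  obtain ⟨K, U, hKU⟩ := Kap.exists_decomp_any hG hM
  have hK := (kappa_empty_iff hG hM hKU).1 hκ
  refine ⟨Kap.typeF_of_bot hG hM hKU hK, or_iff_not_imp_left.2 fun hTI => ?_⟩
  obtain ⟨p, hp, g, z, hg, hz, hzo, hzg⟩ := Kap.exists_meet_of_not_ti hG hTI
  haveI := Fact.mk hp
  have hexp : Monoid.exponent (↥M ⧸ Cfsg.fittingHall ↥M) ∣ (Cfsg.fittingHallOf M).relIndex M :=
    exponent_quotient_dvd M
  have hFS := fittingHallOf_of_empty hG hM hκ
  have hnil := nilpotent_of_empty hG hM hκ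
  rw [hFS] at hz hzg hexp ⊢
  by_cases hab : IsMulCommutative (Cfsg.sigmaCore M)
  · exact Or.inl ⟨hab, abelian_rank_two hG hM hnil hg hz hzo hzg hab⟩
  refine Or.inr ?_
  obtain ⟨E, hE⟩ := exists_compl hG hM
  have hnab := part_noncomm hG hM hnil hg hz hzo hzg hab
  have hFM := hF M hM hκ
  refine ⟨fun q hq hd => hexp.trans ?_, p, hp, Kap.dvd_of_mem hz hzo,
    prime_core_cyclic_top hG hM hnil hg hz hzo hzg hFM hE hnab⟩
  rw [← (Compl.card_eq hG hM hE).1]
  exact compl_card_dvd_pred hG hM hnil hg hz hzo hzg hFM hE hnab hq hd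

omit hM

/-- S1540. -/
theorem typeOne_is_frobenius_of_frobenius (M : Subgroup G) (hM : IsCoatom M) (hI : Cfsg.IsOfTypeI M) :
    ∀ x ∈ Cfsg.fittingHallOf M, x ≠ 1 →
      M ⊓ centralizer ({x} : Set G) ≤ Cfsg.fittingHallOf M := by
  have hκ := kappa_empty_of_typeI hG hM hI
  rw [fittingHallOf_of_empty hG hM hκ]
  exact hF M hM hκ

/-- S1380. -/
theorem typeOne_iff_of_frobenius (M : Subgroup G) (hM : IsCoatom M) (K U : Subgroup G)
    (hKU : Cfsg.IsSigmaDecomposition M K U) : Cfsg.IsOfTypeI M ↔ (K = ⊥ ∧ U ≠ ⊥) := by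
  refine ⟨fun hI => ?_, fun h => typeI_of_empty hG hF hM ((kappa_empty_iff hG hM hKU).2 h.1)⟩
  have hK := Kap.bot_of_typeF hG hM hKU hI.1
  exact ⟨hK, Kap.outer_ne_bot hG hM hKU hK⟩

end CfsgLib.OddEnd.Rows
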