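import Cfsg.Agent.OddEnd.Fourier
import Cfsg.Agent.Char.DadeApps

/-!
Sums of squares for Peterfalvi 13: over the Dade support, and along abelian groups.
-/

set_option autoImplicit false
set_option linter.unusedSectionVars false

namespace CfsgLib.OddEnd

open CfsgLib.Char
open scoped ComplexConjugate

universe u v

section Supp

variable {G : Type u} [Group G]

/-- The support of a Dade map. -/
def dadeSupp (A : Set G) (R : G → Subgroup G) : Set G :=
  {g | ∃ a ∈ A, ∃ u ∈ R a, ∃ x : G, x * g * x⁻¹ = a * u}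

theorem dadeSupp_conj {A : Set G} {R : G → Subgroup G} (g x : G) :
    x * g * x⁻¹ ∈ dadeSupp A R ↔ g ∈ dadeSupp A R := by
  constructor
  · rintro ⟨a, ha, u, hu, y, hy⟩
    exact ⟨a, ha, u, hu, y * x, by rw [← hy]; group⟩
  · rintro ⟨a, ha, u, hu, y, hy⟩
    exact ⟨a, ha, u, hu, y * x⁻¹, by rw [← hy]; group⟩

variable [Fintype G] {A : Set G} {L : Subgroup G} [Fintype L] {R : G → Subgroup G}
  [DecidablePred fun a : L => (a : G) ∈ A] [DecidablePred fun g => g ∈ dadeSupp A R]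

/-- The sum of a class function over the Dade support. -/
theorem sum_dadeSupp (hD : Cfsg.DadeHypothesis A L R) {F : G → ℝ} (hF : ∀ g x : G, F (x * g * x⁻¹) = F g) :
    (Nat.card G : ℝ)⁻¹ * ∑ g ∈ Finset.univ.filter (fun g => g ∈ dadeSupp A R), F g =
      (Nat.card L : ℝ)⁻¹ * ∑ a ∈ Finset.univ.filter (fun a : L => (a : G) ∈ A),
        (Nat.card (R (a : G)) : ℝ)⁻¹ * ∑ᶠ u ∈ (R (a : G) : Set G), F ((a : G) * u) := by
  classical
  have hs := dade_sum hD (R := ℝ) (F := fun g => if g ∈ dadeSupp A R then F g else 0)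
    (fun g x => by simp only [dadeSupp_conj, hF g x]) (fun g hg => if_neg hg)
  rw [Finset.sum_filter, hs]
  have hG : (Nat.card G : ℝ) ≠ 0 := Nat.cast_ne_zero.2 Nat.card_pos.ne'
  rw [← mul_assoc, ← mul_div_assoc, inv_mul_cancel₀ hG, one_div]
  congr 1
  refine Finset.sum_congr rfl fun a ha => ?_
  congr 1
  exact finsum_mem_congr rfl fun u hu =>
    if_pos ⟨(a : G), (Finset.mem_filter.1 ha).2, u, hu, 1, by group⟩

/-- The size of the Dade support. -/
theorem card_dadeSupp (hD : Cfsg.DadeHypothesis A L R) :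
    (Nat.card G : ℝ)⁻¹ * (Finset.univ.filter (fun g => g ∈ dadeSupp A R)).card =
      (Nat.card L : ℝ)⁻¹ * (Finset.univ.filter (fun a : L => (a : G) ∈ A)).card := by
  have h := sum_dadeSupp hD (F := fun _ => (1 : ℝ)) fun _ _ => rfl
  simp only [Finset.sum_const, nsmul_eq_mul, mul_one] at h
  rw [h]
  congr 1
  rw [Finset.sum_congr rfl (g := fun _ => (1 : ℝ)) fun a _ => ?_]
  · simp
  rw [finsum_mem_eq_finite_toFinset_sum _ (Set.toFinite _), Finset.sum_const, nsmul_eq_mul, mul_one,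
    ← Set.ncard_eq_toFinset_card, ← Nat.card_coe_set_eq]
  exact inv_mul_cancel₀ (Nat.cast_ne_zero.2 Nat.card_pos.ne')

end Supp

section Linear

variable {K : Type u} [Group K] [Fintype K]

/-- The coefficient of a linear character. -/
noncomputable def coef (f : K → ℂ) (l : K →* ℂˣ) : ℂ := Cfsg.classInner f fun x => (l x : ℂ)

theorem conj_hom_mul (l : K →* ℂˣ) (x y : K) : (l x : ℂ) * conj (l y : ℂ) = (l (x * y⁻¹) : ℂ) := by
  have h : conj (l y : ℂ) = (l y⁻¹ : ℂ) := by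
    rw [map_inv, Units.val_inv_eq_inv_val, Complex.inv_eq_conj]
    refine Complex.norm_eq_one_of_pow_eq_one (n := Nat.card K) ?_ Nat.card_pos.ne'
    rw [← Units.val_pow_eq_pow_val, ← map_pow, pow_card_eq_one', map_one, Units.val_one]
  rw [map_mul, Units.val_mul, h]

variable [Fintype (K →* ℂˣ)] (hK : ∀ a b : K, a * b = b * a)
include hK

theorem sum_hom [DecidableEq K] (y : K) :
    ∑ l : K →* ℂˣ, (l y : ℂ) = if y = 1 then (Nat.card K : ℂ) else 0 := by
  classical
  have hc : commutator K = ⊥ := le_bot_iff.1 (Subgroup.commutator_le.2 fun a _ b _ => by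
    rw [commutatorElement_def, Subgroup.mem_bot, hK a b]; group)
  rw [sum_linear, hc, Subgroup.index_bot]
  exact if_congr Subgroup.mem_bot rfl rfl

/-- Parseval. -/
theorem sum_coef_sq (f : K → ℂ) :
    ∑ l : K →* ℂˣ, ‖coef f l‖ ^ 2 = (Nat.card K : ℝ)⁻¹ * ∑ x, ‖f x‖ ^ 2 := by
  classical
  have h0 : (Nat.card K : ℂ) ≠ 0 := Nat.cast_ne_zero.2 Nat.card_pos.ne'
  apply Complex.ofReal_injective
  push_cast
  simp_rw [← Complex.mul_conj', coef, classInner_def, map_mul, map_sum, map_inv₀, map_natCast, map_mul,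
    Complex.conj_conj, Finset.mul_sum, Finset.sum_mul]
  rw [Finset.sum_comm]
  refine Finset.sum_congr rfl fun x _ => ?_
  rw [Finset.sum_comm, Finset.sum_eq_single x]
  · calc _ = ∑ l : K →* ℂˣ, (Nat.card K : ℂ)⁻¹ * ((Nat.card K : ℂ)⁻¹ * (f x * conj (f x))) * (l 1 : ℂ) :=
          Finset.sum_congr rfl fun l _ => by
            rw [← mul_inv_cancel x, ← conj_hom_mul]; ring
      _ = _ := by
        rw [← Finset.mul_sum, sum_hom hK, if_pos rfl]
        field_simp
  · intro y _ hy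
    calc _ = ∑ l : K →* ℂˣ, (Nat.card K : ℂ)⁻¹ * ((Nat.card K : ℂ)⁻¹ * (f y * conj (f x))) *
          (l (x * y⁻¹) : ℂ) := Finset.sum_congr rfl fun l _ => by rw [← conj_hom_mul]; ring
      _ = 0 := by rw [← Finset.mul_sum, sum_hom hK, if_neg fun e => hy (mul_inv_eq_one.1 e).symm, mul_zero]
  · exact fun h => absurd (Finset.mem_univ x) h

/-- Inversion at the identity. -/
theorem sum_coef (f : K → ℂ) : ∑ l : K →* ℂˣ, coef f l = f 1 := by
  classical
  have h0 : (Nat.card K : ℂ) ≠ 0 := Nat.cast_ne_zero.2 Nat.card_pos.ne'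
  simp_rw [coef, classInner_def]
  rw [← Finset.mul_sum, Finset.sum_comm, Finset.sum_eq_single 1]
  · have : ∀ l : K →* ℂˣ, f 1 * conj (l 1 : ℂ) = f 1 * (l 1 : ℂ) := fun l => by simp
    rw [Finset.sum_congr rfl fun l _ => this l, ← Finset.mul_sum, sum_hom hK, if_pos rfl, mul_comm (f 1),
      inv_mul_cancel_left₀ h0]
  · intro x _ hx
    calc _ = ∑ l : K →* ℂˣ, f x * (l x⁻¹ : ℂ) := Finset.sum_congr rfl fun l _ => by
          rw [show (l x⁻¹ : ℂ) = (l 1 : ℂ) * conj (l x : ℂ) by rw [conj_hom_mul, one_mul]]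
          simp
      _ = 0 := by rw [← Finset.mul_sum, sum_hom hK, if_neg fun e => hx (inv_eq_one.1 e), mul_zero]
  · exact fun h => absurd (Finset.mem_univ 1) h

end Linear

/-- `r Σ a² - (Σ a)² ≥ r - 1` when `r` integers have a sum prime to `r`. -/
theorem sq_excess {ι : Type*} (s : Finset ι) (a : ι → ℤ) (hs : ¬ (s.card : ℤ) ∣ ∑ i ∈ s, a i) :
    (s.card : ℤ) - 1 ≤ (s.card : ℤ) * ∑ i ∈ s, a i ^ 2 - (∑ i ∈ s, a i) ^ 2 := by
  set r : ℤ := (s.card : ℤ) with hr
  set A := ∑ i ∈ s, a i with hA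
  have hr0 : 0 < r := by
    rcases Nat.eq_zero_or_pos s.card with h | h
    · exact absurd (by rw [hr, h, hA, Finset.card_eq_zero.1 h]; simp) hs
    · exact Int.natCast_pos.2 h
  set k := A / r
  set m := A % r with hm
  have hm1 : 1 ≤ m := by
    have := Int.emod_nonneg A hr0.ne'
    have : m ≠ 0 := fun h => hs (Int.dvd_of_emod_eq_zero h)
    omega
  have hm2 : m ≤ r - 1 := by have := Int.emod_lt_of_pos A hr0; omega
  have hb : m ≤ ∑ i ∈ s, (a i - k) ^ 2 := by
    calc m = ∑ i ∈ s, (a i - k) := by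
          rw [Finset.sum_sub_distrib, Finset.sum_const, nsmul_eq_mul, ← hA, ← hr]
          have := Int.emod_add_ediv_mul A r
          linarith
      _ ≤ _ := Finset.sum_le_sum fun i _ => Int.le_self_sq _
  have e : r * ∑ i ∈ s, a i ^ 2 - A ^ 2 = r * ∑ i ∈ s, (a i - k) ^ 2 - m ^ 2 := by
    have h1 : ∑ i ∈ s, (a i - k) ^ 2 = ∑ i ∈ s, a i ^ 2 - 2 * k * A + r * k ^ 2 := by
      rw [hA, Finset.mul_sum, ← Finset.sum_sub_distrib, hr, ← nsmul_eq_mul, ← Finset.sum_const,
        ← Finset.sum_add_distrib]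
      exact Finset.sum_congr rfl fun i _ => by ring
    have h2 : A = m + k * r := (Int.emod_add_ediv_mul A r).symm
    rw [h1]
    linear_combination (r * k - A + -m) * h2
  rw [e]
  nlinarith [mul_le_mul_of_nonneg_left hb hr0.le, mul_nonneg (sub_nonneg.2 hm1) (sub_nonneg.2 hm2)]

/-- Twice the spread of two of `h` numbers. -/
theorem spread_le {ι : Type*} [Fintype ι] (A : ι → ℝ) {i j : ι} (hij : i ≠ j) :
    (Fintype.card ι : ℝ) * (A i - A j) ^ 2 / 2 ≤
      (Fintype.card ι : ℝ) * ∑ l, A l ^ 2 - (∑ l, A l) ^ 2 := by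
  classical
  set h : ℝ := (Fintype.card ι : ℝ)
  have hh : 0 < h := Nat.cast_pos.2 (Fintype.card_pos_iff.2 ⟨i⟩)
  set m := (∑ l, A l) / h with hm
  have e : h * ∑ l, (A l - m) ^ 2 = h * ∑ l, A l ^ 2 - (∑ l, A l) ^ 2 := by
    have hs : ∑ l, A l = h * m := by rw [hm, mul_div_cancel₀ _ hh.ne']
    simp only [sub_sq, Finset.sum_add_distrib, Finset.sum_sub_distrib, Finset.sum_const, Finset.card_univ,
      nsmul_eq_mul, ← Finset.sum_mul, ← Finset.mul_sum]
    rw [hs]; ring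
  have hle := Finset.sum_le_sum_of_subset_of_nonneg (Finset.subset_univ {i, j})
    (fun l _ _ => sq_nonneg (A l - m))
  rw [Finset.sum_pair hij] at hle
  rw [← e, mul_div_assoc]
  exact mul_le_mul_of_nonneg_left (by nlinarith [sq_nonneg (A i + A j - 2 * m)]) hh.le

section Slices

variable {H : Type u} {Z : Type v} [Group H] [Group Z] [Fintype H] [Fintype Z]
  [Fintype (Z →* ℂˣ)] (hZ : ∀ a b : Z, a * b = b * a)
include hZ

/-- The coefficient of `l` along the slices of a generalized character of `H × Z`. -/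
theorem slice_int {f : H × Z → ℂ} (hf : Cfsg.IsGeneralizedCharacter (H × Z) f) (l : H →* ℂˣ)
    [DecidableEq Z] :
    ∃ A : ℤ, coef (fun x => f (x, 1)) l = (A : ℂ) ∧ (¬ (Nat.card Z : ℤ) ∣ A →
      (Nat.card Z : ℝ) - 1 ≤ ∑ z ∈ Finset.univ.erase (1 : Z), ‖coef (fun x => f (x, z)) l‖ ^ 2) := by
  set s : Z → ℂ := fun z => coef (fun x => f (x, z)) l
  have hint : ∀ m : Z →* ℂˣ, ∃ n : ℤ, coef s m = (n : ℂ) := fun m => by
    obtain ⟨n, hn⟩ := IsGeneralized.exists_classInner_eq_int hf (IsIrrCharacter.isGeneralized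
      (isIrrCharacter_ofHom ((l.comp (MonoidHom.fst H Z)) * (m.comp (MonoidHom.snd H Z)))))
    refine ⟨n, Eq.trans ?_ hn⟩
    simp only [s, coef, classInner_def, Nat.card_prod, Nat.cast_mul, mul_inv, MonoidHom.mul_apply,
      MonoidHom.comp_apply, MonoidHom.coe_fst, MonoidHom.coe_snd, Units.val_mul, map_mul]
    rw [Fintype.sum_prod_type_right, Finset.mul_sum, Finset.mul_sum]
    refine Finset.sum_congr rfl fun z _ => ?_
    rw [Finset.mul_sum, Finset.mul_sum, Finset.sum_mul, Finset.mul_sum]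
    exact Finset.sum_congr rfl fun x _ => by ring
  choose a ha using hint
  refine ⟨∑ m, a m, ?_, fun hA => ?_⟩
  · show s 1 = _
    rw [← sum_coef hZ s, Int.cast_sum]
    exact Finset.sum_congr rfl fun m _ => ha m
  have hcard : (Finset.univ : Finset (Z →* ℂˣ)).card = Nat.card Z := by
    rw [Finset.card_univ, ← Nat.card_eq_fintype_card, card_hom_eq_index_commutator,
      show commutator Z = ⊥ from le_bot_iff.1 (Subgroup.commutator_le.2 fun a _ b _ => by
        rw [commutatorElement_def, Subgroup.mem_bot, hZ a b]; group), Subgroup.index_bot]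
  have h1 := sq_excess Finset.univ a (by rwa [hcard])
  rw [hcard] at h1
  have h2 : ((∑ m, a m ^ 2 : ℤ) : ℝ) = (Nat.card Z : ℝ)⁻¹ * ∑ z, ‖s z‖ ^ 2 := by
    rw [← sum_coef_sq hZ s, Int.cast_sum]
    exact Finset.sum_congr rfl fun m _ => by rw [ha, Complex.norm_intCast, sq_abs, Int.cast_pow]
  have h3 : ‖s 1‖ ^ 2 = ((∑ m, a m : ℤ) : ℝ) ^ 2 := by
    rw [← sum_coef hZ s, Finset.sum_congr rfl fun m _ => ha m, ← Int.cast_sum, Complex.norm_intCast, sq_abs]
  have h4 : ((Nat.card Z : ℤ) : ℝ) - 1 ≤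
      ((Nat.card Z : ℤ) : ℝ) * ((∑ m, a m ^ 2 : ℤ) : ℝ) - ((∑ m, a m : ℤ) : ℝ) ^ 2 := by exact_mod_cast h1
  have h0 : (Nat.card Z : ℝ) ≠ 0 := Nat.cast_ne_zero.2 Nat.card_pos.ne'
  rw [h2, Int.cast_natCast, mul_inv_cancel_left₀ h0, ← h3] at h4
  rw [Finset.sum_erase_eq_sub (Finset.mem_univ _)]
  exact h4

end Slices

end CfsgLib.OddEnd
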