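import Cfsg.Agent.OddEnd.ThirteenBasic
import Cfsg.Agent.OddEnd.NoSupportedP
import Cfsg.Agent.OddLocal.KappaCosets
import Cfsg.Agent.S1497
import Cfsg.Agent.S1537
import Cfsg.Agent.S1538

/-!
Peterfalvi 13.1: the structure of `S` (S1543).
-/

set_option autoImplicit false
set_option linter.unusedSectionVars false
set_option linter.style.haveILetI false

namespace CfsgLib.OddEnd

open Subgroup CfsgLib.OddLocal
open scoped commutatorElement

universe u

variable {G : Type u} [Group G] [Finite G]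

/-- The cyclic complement needed in part 12E. -/
theorem Upto12.cyclic_compl (hU : Upto12 G) : ∀ M : Subgroup G, IsCoatom M →
    Cfsg.IsOfTypeIII M ∨ Cfsg.IsOfTypeIV M →
      ∃ U : Subgroup G, Cfsg.IsComplIn (Cfsg.fittingHallOf M) U ⁅M, M⁆ ∧ IsCyclic U := fun M hM h34 => by
  obtain ⟨W₁, U, W₂, hP⟩ : ∃ W₁ U W₂, Cfsg.IsTypePWith M W₁ U W₂ := by
    rcases h34 with ⟨a, b, c, hP, -⟩ | ⟨a, b, c, hP, -⟩ <;> exact ⟨a, b, c, hP⟩
  exact ⟨U, hP.U_compl, (hU.three M W₁ U W₂ hM h34 hP).cyclic⟩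

/-- Mixed elements of a type P group are centralized only inside it. -/
theorem centralizer_mixed_le {M W₁ U W₂ : Subgroup G} (hP : Cfsg.IsTypePWith M W₁ U W₂) {m w : G}
    (hm : m ∈ M) (hw : w ∈ W₁ ⊔ W₂) (h1 : w ∉ W₁) (h2 : w ∉ W₂) :
    centralizer ({m * w * m⁻¹} : Set G) ≤ M := by
  intro c hc
  have hW : W₁ ⊔ W₂ ≤ M := sup_le hP.W₁_compl.2.1
    ((hP.W₂_le.trans inf_le_left).trans (FittingHall.of_le M))
  have hN := hP.selfNormalizing.2.2.2.2.2 {w}
    (Set.singleton_subset_iff.2 ⟨hw, fun e => e.elim h1 h2⟩) (Set.singleton_nonempty w)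
  have hc' : m⁻¹ * c * m ∈ W₁ ⊔ W₂ := hN ▸ centralizer_le_normalizer _ (mem_centralizer_singleton_iff.2 (by
    have e : c * (m * w * m⁻¹) = m * w * m⁻¹ * c := mem_centralizer_singleton_iff.1 hc
    calc m⁻¹ * c * m * w = m⁻¹ * (c * (m * w * m⁻¹)) * m := by group
      _ = m⁻¹ * (m * w * m⁻¹ * c) * m := by rw [e]
      _ = w * (m⁻¹ * c * m) := by group))
  simpa [mul_assoc] using M.mul_mem (M.mul_mem hm (hW hc')) (M.inv_mem hm)

namespace PairData

variable {S T W₁ W₂ U V : Subgroup G} (h : PairData S T W₁ W₂ U V)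
variable (hG : Cfsg.IsMinSimpleOddOrder G) (hU : Upto12 G)
include h hG hU

theorem not_typeI : ¬ Cfsg.IsOfTypeI S := fun hI => by
  obtain ⟨U₀, hd, -, -, -⟩ := h.decomp hG hU
  exact h.typeP_S.W₁_ne (Kap.bot_of_typeF hG h.coatom_S hd hI.1)

theorem kappa_nonempty : (Cfsg.kappa S).Nonempty := by
  obtain ⟨U₀, hd, -, -, -⟩ := h.decomp hG hU
  exact (Kap.kappa_nonempty_iff hG h.coatom_S hd).2 h.typeP_S.W₁_ne

/-- `C(x) ≤ S` for nonidentity `x ∈ S_σ`. -/
theorem centralizer_core {x : G} (hx : x ∈ Cfsg.sigmaCore S) (hx1 : x ≠ 1) :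
    centralizer ({x} : Set G) ≤ S :=
  centralizer_le_of_kappa_nonempty hG hU.noV hU.cyclic_compl h.coatom_S (h.kappa_nonempty hG hU) hx hx1

theorem typeA0_ti : Cfsg.IsTISubset (Cfsg.typeA0 S) ∧ normalizer (Cfsg.typeA0 S) = S := by
  rcases h.types hG hU with h2 | h3
  · exact (Cfsg.Agent.S1538.result hG S h.coatom_S h2).1
  have hnI := h.not_typeI hG hU
  have hT : Three S W₁ U W₂ := ⟨h.coatom_S, h.typeP_S, Or.inl h3⟩
  have hcore : Cfsg.typeCore S = Cfsg.sigmaCore S := by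
    rw [Cfsg.typeCore, if_pos (Or.inl h3), (hT.decomp hG).2.1]
  have hloc : ∀ a ∈ Cfsg.typeA0 S, centralizer ({a} : Set G) ≤ S := by
    rintro a (ha | ⟨-, A, B, C, hP, m, hm, w, hw, hw1, hw2, rfl⟩)
    · rw [Cfsg.typeA, if_neg hnI] at ha
      exact h.centralizer_core hG hU ((hT.decomp hG).2.1.le ha.1) ha.2.1
    · exact centralizer_mixed_le hP hm hw hw1 hw2
  obtain ⟨hN, hD⟩ := Cfsg.Agent.S1537.result hG S h.coatom_S (Cfsg.typeA0 S) (Or.inr (Or.inr rfl))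
  have hD' : Cfsg.DadeHypothesis (Cfsg.typeA0 S) S (fun _ => ⊥) :=
    { one_not_mem := hD.one_not_mem
      subset := hD.subset
      conj_mem := hD.conj_mem
      fusion := hD.fusion
      le_centralizer := fun _ _ => bot_le
      conj_mem_H := fun _ _ _ _ u hu => by
        rw [mem_bot.1 hu, mul_one, mul_inv_cancel]
        exact Subgroup.one_mem _
      inf_eq_bot := fun _ _ => bot_inf_eq _
      sup_eq := fun a ha => by rw [bot_sup_eq, inf_eq_right.2 (hloc a ha)]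
      coprime := fun _ _ _ _ => by rw [Subgroup.card_bot]; exact Nat.coprime_one_left _ }
  have hne : (Cfsg.typeA0 S).Nonempty := by
    obtain ⟨u, hu, hu1⟩ := (Subgroup.bot_or_exists_ne_one U).resolve_left (h.U_ne hG hU)
    refine ⟨u, Or.inl ?_⟩
    rw [Cfsg.typeA, if_neg hnI]
    exact ⟨h.U_le hu, hu1, u, hcore.ge ((hT.decomp hG).2.1.le (h.U_le hu)), hu1, rfl⟩
  exact (Cfsg.Agent.S1497.result _ hne hD.one_not_mem S).2 hD'

/-- Peterfalvi 13.1, in the form of S1543. -/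
theorem facts : (Cfsg.IsOfTypeII S ∨ Cfsg.IsOfTypeIII S) ∧ (Nat.card W₁ < Nat.card W₂ → Cfsg.IsOfTypeII S) ∧
    Cfsg.IsElementaryAbelian (Nat.card W₂) (Cfsg.fittingHallOf S) ∧
    Nat.card (Cfsg.fittingHallOf S) = Nat.card W₂ ^ Nat.card W₁ ∧
    Cfsg.IsTISubset (Cfsg.typeA0 S) ∧ normalizer (Cfsg.typeA0 S) = S :=
  ⟨h.types hG hU, h.type_II_of_lt hG hU, h.elem hG hU, h.card_H hG hU, (h.typeA0_ti hG hU).1,
    (h.typeA0_ti hG hU).2⟩

end PairData

end CfsgLib.OddEnd
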