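import Cfsg.Agent.OddEnd.FourteenAlg
import Cfsg.Agent.OddEnd.ThirteenEnergy
import Cfsg.Agent.OddEnd.ThirteenFacts
import Cfsg.Agent.OddEnd.DadeAux
import Cfsg.Agent.OddEnd.HatDade
import Cfsg.Agent.OddEnd.LocalRowsTypeOne
import Cfsg.Agent.Char.CoherenceExt
import Cfsg.Agent.Char.InducedAbove
import Cfsg.Agent.Char.GaloisConjugateDegrees
import Cfsg.Agent.S1542

/-!
Peterfalvi section 14: the families of coherent images attached to a maximal subgroup of type I and to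
a maximal subgroup of type III.
-/

set_option autoImplicit false
set_option linter.unusedSectionVars false
set_option linter.style.haveILetI false

namespace CfsgLib.OddEnd

open Subgroup CfsgLib.Char CfsgLib.OddLocal
open scoped ComplexConjugate

universe u

variable {G : Type u} [Group G]

section General

/-- The Dade map commutes with complex conjugation. -/
theorem conjFun_dade {A : Set G} {L : Subgroup G} {R : G → Subgroup G} (α : L → ℂ) :
    Cfsg.conjFun (Cfsg.dadeIsometry A L R α) = Cfsg.dadeIsometry A L R (Cfsg.conjFun α) := by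
  funext g
  simp only [Cfsg.conjFun, Cfsg.dadeIsometry]
  split_ifs <;> simp

/-- A Dade hypothesis restricts to an invariant subset. -/
theorem dadeHyp_restrict {A B : Set G} {L : Subgroup G} {R : G → Subgroup G}
    (hD : Cfsg.DadeHypothesis A L R) (hBA : B ⊆ A) (hB : ∀ x ∈ L, ∀ b ∈ B, x * b * x⁻¹ ∈ B) :
    Cfsg.DadeHypothesis B L R where
  one_not_mem h := hD.one_not_mem (hBA h)
  subset := hBA.trans hD.subset
  conj_mem := hB
  fusion a ha g hg := hD.fusion a (hBA ha) g (hBA hg)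
  le_centralizer a ha := hD.le_centralizer a (hBA ha)
  conj_mem_H a ha := hD.conj_mem_H a (hBA ha)
  inf_eq_bot a ha := hD.inf_eq_bot a (hBA ha)
  sup_eq a ha := hD.sup_eq a (hBA ha)
  coprime a ha b hb := hD.coprime a (hBA ha) b (hBA hb)

/-- The coherent images of two conjugate characters are conjugate. -/
theorem conjFun_eq_of_pair [Fintype G] {ψ ψ' : G → ℂ} (hψ : IsSignedIrr ψ) (hψ' : IsSignedIrr ψ')
    (horth : Cfsg.classInner ψ ψ' = 0)
    (h : Cfsg.conjFun ψ - Cfsg.conjFun ψ' = ψ' - ψ) : Cfsg.conjFun ψ = ψ' := by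
  have hconj : ∀ {φ : G → ℂ}, IsSignedIrr φ → IsSignedIrr (Cfsg.conjFun φ) := fun {φ} hφ => by
    rcases hφ with h | h
    · exact Or.inl (IsIrrCharacter.conj h)
    · refine Or.inr ?_
      have := IsIrrCharacter.conj h
      convert this using 1
      funext g
      simp [Cfsg.conjFun]
  have hneg : ∀ {φ θ : G → ℂ}, IsSignedIrr φ → φ 1 = θ 1 → ∀ s : ℂ, θ = s • φ → θ = φ := by
    intro φ θ hφ h1 s hs
    have h2 := congrFun hs 1
    rw [Pi.smul_apply, smul_eq_mul, ← h1] at h2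
    have hs1 : s = 1 := (mul_eq_right₀ (IsSignedIrr.apply_one_ne_zero hφ)).1 h2.symm
    rw [hs, hs1, one_smul]
  have h1 : ∀ {φ : G → ℂ}, IsSignedIrr φ → Cfsg.conjFun φ 1 = φ 1 := fun {φ} hφ => by
    obtain ⟨k, hk⟩ := IsGeneralized.exists_apply_one (IsSignedIrr.isGeneralized hφ)
    simp [Cfsg.conjFun, hk]
  have e := congrArg (fun θ => Cfsg.classInner θ ψ') h
  simp only [classInner_sub_left, IsSignedIrr.classInner_self hψ', horth, sub_zero] at e
  by_cases h2 : Cfsg.classInner (Cfsg.conjFun ψ') ψ' = 0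
  · rw [h2, sub_zero] at e
    obtain ⟨s, -, he, hv⟩ := IsSignedIrr.eq_smul_of_classInner_ne (hconj hψ) hψ'
      (e ▸ one_ne_zero)
    rw [e] at hv
    rw [he, ← hv, one_smul]
  · obtain ⟨s, -, he, -⟩ := IsSignedIrr.eq_smul_of_classInner_ne hψ' (hconj hψ')
      (fun h0 => h2 (by rw [← classInner_conj, h0, map_zero]))
    rw [hneg hψ' (h1 hψ').symm s he, IsSignedIrr.classInner_self hψ', sub_eq_iff_eq_add,
      one_add_one_eq_two] at e
    exfalso
    obtain ⟨s', hs', -, hv⟩ := IsSignedIrr.eq_smul_of_classInner_ne (hconj hψ) hψ'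
      (by rw [e]; norm_num)
    rw [e] at hv
    rcases hs' with rfl | rfl <;> norm_num at hv

variable [Fintype G]

/-- The family of a coherent set of irreducible characters induced from a normal subgroup. -/
theorem exists_family {A : Set G} {L : Subgroup G} [Fintype L] {R : G → Subgroup G}
    (hD : Cfsg.DadeHypothesis A L R) (hodd : Odd (Nat.card L)) (K N : Subgroup L) [K.Normal]
    [N.Normal] (hsolv : Group.IsSolvable K) (hNK : N < K)
    (hKA : ∀ x : L, x ∈ K → x ≠ 1 → (x : G) ∈ A)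
    (hirr : ∀ χ ∈ Cfsg.inducedIrrAbove K N, Cfsg.IsIrrCharacter L χ)
    (hcoh : Cfsg.IsCoherent (Cfsg.inducedIrrAbove K N) {1}ᶜ (Cfsg.dadeIsometry A L R)) :
    ∃ (ι : Type u) (_ : Fintype ι) (F : Family G ι), F.e = K.index ∧
      F.sq * F.e = (N.relIndex K : ℤ) - 1 ∧
      F.X = dadeSupp ((K.map L.subtype : Set G) \ {1}) R := by
  classical
  haveI : Fintype K := Fintype.ofFinite _
  obtain ⟨-, τ₁, hτ₁, hag⟩ := hcoh
  set S := Cfsg.inducedIrrAbove K N with hS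
  set τ := Cfsg.dadeIsometry A L R with hτ
  set B : Set G := (K.map L.subtype : Set G) \ {1} with hB
  set e := K.index with he
  have heC : (e : ℂ) ≠ 0 := Nat.cast_ne_zero.2 K.index_ne_zero_of_finite
  -- members
  have hn' : ∀ χ ∈ S, ∃ n : ℕ, χ 1 = (n : ℂ) * e := fun χ hχ => by
    obtain ⟨θ, h1, -, -, rfl⟩ := id hχ
    exact ⟨cdeg θ, by rw [indFun_one, irr_apply_one_eq_cdeg h1, mul_comm]⟩
  choose! n hn using hn'
  have hoff : ∀ χ ∈ S, ∀ x : L, x ∉ K → χ x = 0 := fun χ hχ x hx => by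
    obtain ⟨θ, -, -, -, rfl⟩ := id hχ
    exact indFun_eq_zero_of_normal θ hx
  have hconjS : ∀ χ ∈ S, Cfsg.conjFun χ ∈ S ∧ Cfsg.classInner (Cfsg.conjFun χ) χ = 0 := fun χ hχ => by
    refine ⟨conjFun_mem_inducedIrrAbove hχ, ?_⟩
    obtain ⟨θ, h1, h2, -, rfl⟩ := id hχ
    exact classInner_conj_indFun_eq_zero hodd h1 h2
  have hne : ∀ χ ∈ S, Cfsg.conjFun χ ≠ χ := fun χ hχ h => by
    have h0 := (hconjS χ hχ).2
    rw [h, IsIrrCharacter.classInner_self (hirr χ hχ)] at h0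
    exact one_ne_zero h0
  have hnconj : ∀ χ ∈ S, n (Cfsg.conjFun χ) = n χ := fun χ hχ => by
    have h1 := hn _ (hconjS χ hχ).1
    rw [show Cfsg.conjFun χ 1 = conj (χ 1) from rfl, hn χ hχ, map_mul, map_natCast, map_natCast] at h1
    exact_mod_cast (mul_right_cancel₀ heC h1).symm
  obtain ⟨ζ, hζm, hζd⟩ := exists_linear_aboveInd (L := L) (K := K) (A := N) hsolv hNK
  have hζ : ζ ∈ S := mem_aboveInd.1 hζm
  have hζ1 : ζ 1 = (e : ℂ) := by rw [irr_apply_one_eq_cdeg (hirr ζ hζ), hζd]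
  have hnζ : n ζ = 1 := by
    have h1 := hn ζ hζ
    rw [hζ1] at h1
    nth_rewrite 1 [← one_mul (e : ℂ)] at h1
    exact_mod_cast (mul_right_cancel₀ heC h1).symm
  -- differences
  set d : (L → ℂ) → (L → ℂ) := fun χ => χ - (n χ : ℤ) • ζ with hd
  have hdz : ∀ χ ∈ S, d χ ∈ Cfsg.zspanOn S ({1}ᶜ : Set L) := fun χ hχ =>
    mem_zspanOn_one.2 ⟨Submodule.sub_mem _ (subset_zspan hχ) (zsmul_mem_zspan (subset_zspan hζ) _), by
      show (χ - (n χ : ℤ) • ζ) 1 = 0
      rw [Pi.sub_apply, Pi.smul_apply, zsmul_eq_mul, hζ1, hn χ hχ]; push_cast; ring⟩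
  have hsuppB : ∀ φ : L → ℂ, φ 1 = 0 → (∀ x, x ∉ K → φ x = 0) →
      ∀ x : L, (x : G) ∉ B → φ x = 0 := fun φ h1 h0 x hx => by
    by_cases hx1 : x = 1
    · rw [hx1, h1]
    · exact h0 x fun hK => hx ⟨⟨x, hK, rfl⟩, fun e' => hx1 (Subtype.ext e')⟩
  have hBA : B ⊆ A := by
    rintro _ ⟨⟨x, hx, rfl⟩, hx1⟩
    exact hKA x hx fun e' => hx1 (by rw [e']; rfl)
  have hsuppA : ∀ φ : L → ℂ, (∀ x : L, (x : G) ∉ B → φ x = 0) → ∀ x : L, (x : G) ∉ A → φ x = 0 :=
    fun φ h x hx => h x fun hb => hx (hBA hb)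
  have hdB : ∀ χ ∈ S, ∀ x : L, (x : G) ∉ B → d χ x = 0 := fun χ hχ =>
    hsuppB _ (mem_zspanOn_one.1 (hdz χ hχ)).2 fun x hx => by
      simp [hd, hoff χ hχ x hx, hoff ζ hζ x hx]
  have hdgen : ∀ χ ∈ S, Cfsg.IsGeneralizedCharacter L (d χ) := fun χ hχ =>
    IsGeneralized.sub (IsIrrCharacter.isGeneralized (hirr χ hχ))
      (IsGeneralized.zsmul (IsIrrCharacter.isGeneralized (hirr ζ hζ)) _)
  have hτd : ∀ χ ∈ S, τ (d χ) = τ₁ χ - (n χ : ℂ) • τ₁ ζ := fun χ hχ => by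
    rw [← hag _ (hdz χ hχ), hd, isometry_map_sub (M := Submodule.span ℤ S) hτ₁ (subset_zspan hχ)
      (zsmul_mem_zspan (subset_zspan hζ) _), hτ₁.2.1 ζ (subset_zspan hζ),
      ← Int.cast_smul_eq_zsmul ℂ, Int.cast_natCast]
  have hiso : ∀ χ ∈ S, ∀ φ ∈ S, Cfsg.classInner (τ₁ χ) (τ₁ φ) = if χ = φ then 1 else 0 :=
    fun χ hχ φ hφ => by
      rw [hτ₁.2.2.1 χ (subset_zspan hχ) φ (subset_zspan hφ)]
      exact IsIrrCharacter.classInner_eq (hirr χ hχ) (hirr φ hφ)
  have hsigned : ∀ χ ∈ S, IsSignedIrr (τ₁ χ) := fun χ hχ =>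
    IsGeneralized.isIrr_or_neg (hτ₁.2.2.2 χ (subset_zspan hχ)) (by rw [hiso χ hχ χ hχ, if_pos rfl])
  have hpair : ∀ χ ∈ S, τ (χ - Cfsg.conjFun χ) = τ₁ χ - τ₁ (Cfsg.conjFun χ) := fun χ hχ => by
    have hc := (hconjS χ hχ).1
    rw [← hag _ (mem_zspanOn_one.2 ⟨Submodule.sub_mem _ (subset_zspan hχ) (subset_zspan hc), by
      simp [Cfsg.conjFun, hn χ hχ]⟩),
      isometry_map_sub (M := Submodule.span ℤ S) hτ₁ (subset_zspan hχ) (subset_zspan hc)]
  have hconjz : ∀ χ ∈ S, Cfsg.conjFun (τ₁ χ) = τ₁ (Cfsg.conjFun χ) := fun χ hχ => by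
    have hc := (hconjS χ hχ).1
    refine conjFun_eq_of_pair (hsigned χ hχ) (hsigned _ hc)
      (by rw [hiso χ hχ _ hc, if_neg (hne χ hχ).symm]) ?_
    rw [show Cfsg.conjFun (τ₁ χ) - Cfsg.conjFun (τ₁ (Cfsg.conjFun χ)) =
        Cfsg.conjFun (τ₁ χ - τ₁ (Cfsg.conjFun χ)) from funext fun g => by simp [Cfsg.conjFun],
      ← hpair χ hχ, hτ, conjFun_dade,
      show Cfsg.conjFun (χ - Cfsg.conjFun χ) = Cfsg.conjFun χ - Cfsg.conjFun (Cfsg.conjFun χ) from
        funext fun g => by simp [Cfsg.conjFun], ← hτ, hpair _ hc, CfsgLib.Char.conjFun_conjFun]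
  -- the bridge
  set P := Cfsg.indFun K (fun _ => (1 : ℂ)) with hP
  set β := P - ζ with hβ
  have hone : Cfsg.IsGeneralizedCharacter K (fun _ => (1 : ℂ)) := isGeneralized_one
  have hβgen : Cfsg.IsGeneralizedCharacter L β :=
    IsGeneralized.sub (IsGeneralized.indFun hone) (IsIrrCharacter.isGeneralized (hirr ζ hζ))
  have hβcl := IsGeneralized.isClassFunction hβgen
  have hβB : ∀ x : L, (x : G) ∉ B → β x = 0 := hsuppB β
    (by simp [hβ, hP, indFun_one, hζ1, he]) fun x hx => by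
      simp [hβ, hP, indFun_eq_zero_of_normal _ hx, hoff ζ hζ x hx]
  have hPχ : ∀ χ ∈ S, Cfsg.classInner P χ = 0 := fun χ hχ => by
    obtain ⟨θ, h1, h2, -, rfl⟩ := id hχ
    rw [hP, classInner_indFun_indFun isIrrCharacter_one h1, if_neg]
    rw [mem_conjOrbit]
    rintro ⟨g, hg⟩
    refine h2 ?_
    rw [← conjOn_one (N := K) θ, ← mul_inv_cancel g, ← conjOn_conjOn, ← hg]
    rfl
  have hβχ : ∀ χ ∈ S, Cfsg.classInner β χ = -(if ζ = χ then 1 else 0) := fun χ hχ => by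
    rw [hβ, classInner_sub_left, hPχ χ hχ, IsIrrCharacter.classInner_eq (hirr ζ hζ) (hirr χ hχ),
      zero_sub]
  have hP1 : Cfsg.classInner P (fun _ => 1) = 1 := by
    rw [hP, classInner_indFun _ (IsIrrCharacter.isClassFunction isIrrCharacter_one)]
    exact classInner_one_one
  have hζone : Cfsg.classInner ζ (fun _ => 1) = 0 := by
    refine IsIrrCharacter.classInner_of_ne (hirr ζ hζ) isIrrCharacter_one fun h => ?_
    refine hne ζ hζ ?_
    rw [h]; funext g; simp [Cfsg.conjFun]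
  have hPP : Cfsg.classInner P P = (e : ℂ) := by
    rw [hP]
    refine classInner_indFun_self_of_invariant isIrrCharacter_one (eq_top_iff.2 fun g _ => ?_)
    rw [mem_inertia]; rfl
  set s := aboveInd K N with hs
  have hmem : ∀ {χ}, χ ∈ s → χ ∈ S := fun h => mem_aboveInd.1 h
  have hsq : (∑ χ ∈ s, (n χ : ℤ) * n χ) * (e : ℤ) = (N.relIndex K : ℤ) - 1 := by
    have hw := sum_weight_aboveInd (K := K) N
    rw [← hs, ← he] at hw
    have hval : ∀ χ ∈ s, ((cdeg χ : ℝ) ^ 2 / (cnorm χ : ℝ)) =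
        (e : ℝ) ^ 2 * ((n χ : ℝ) * n χ) := by
      intro χ hχ
      have h1 : cnorm χ = 1 := by
        rw [cnorm, IsIrrCharacter.classInner_self (hirr χ (hmem hχ)), Complex.one_re, Nat.floor_one]
      have h2 : cdeg χ = n χ * e := by
        exact_mod_cast (irr_apply_one_eq_cdeg (hirr χ (hmem hχ))).symm.trans (hn χ (hmem hχ))
      rw [h1, h2]
      push_cast
      ring
    rw [Finset.sum_congr rfl hval, ← Finset.mul_sum] at hw
    have heR : (e : ℝ) ≠ 0 := Nat.cast_ne_zero.2 K.index_ne_zero_of_finite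
    have h3 : (((∑ χ ∈ s, (n χ : ℤ) * n χ) * (e : ℤ) : ℤ) : ℝ) =
        (((N.relIndex K : ℤ) - 1 : ℤ) : ℝ) := by
      push_cast
      apply mul_left_cancel₀ heR
      linear_combination hw
    exact_mod_cast h3
  refine ⟨{χ : L → ℂ // χ ∈ s}, inferInstance,
    { e := e
      z := fun i => τ₁ i.1
      r := fun i => n i.1
      bar := fun i => ⟨Cfsg.conjFun i.1, mem_aboveInd.2 (hconjS _ (hmem i.2)).1⟩
      i₀ := ⟨ζ, hζm⟩
      X := dadeSupp B R
      α := τ β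
      signed := fun i => hsigned _ (hmem i.2)
      orth := fun i j hij => by
        rw [hiso _ (hmem i.2) _ (hmem j.2), if_neg fun h => hij (Subtype.ext h)]
      r_i₀ := by simp [hnζ]
      bar_ne := fun i h => hne _ (hmem i.2) (congrArg Subtype.val h)
      r_bar := fun i => by simp [hnconj _ (hmem i.2)]
      conj_z := fun i => hconjz _ (hmem i.2)
      z_off := fun i g hg => ?_
      α_gen := isGeneralized_dadeIsometry hD hβgen (hsuppA β hβB)
      α_off := fun g hg => dade_apply_eq_zero hD hβcl hβB hg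
      α_one := ?_
      α_norm := ?_
      α_diff := fun i hi => ?_
      α_conj := ?_ }, rfl, ?_, rfl⟩
  · have h1 : τ (d i.1) g = 0 := dade_apply_eq_zero hD
      (IsGeneralized.isClassFunction (hdgen _ (hmem i.2))) (hdB _ (hmem i.2)) hg
    rw [hτd _ (hmem i.2), Pi.sub_apply, Pi.smul_apply, smul_eq_mul, sub_eq_zero] at h1
    simpa using h1
  · rw [hτ, classInner_dade_rho hD hβcl (hsuppA β hβB)
      (IsIrrCharacter.isClassFunction isIrrCharacter_one)]
    have h1 : rho L R (fun _ => (1 : ℂ)) = fun _ => (1 : ℂ) := funext fun a => by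
      rw [rho, finsum_mem_eq_finite_toFinset_sum _ (Set.toFinite _), Finset.sum_const,
        nsmul_eq_mul, mul_one, ← Set.ncard_eq_toFinset_card, ← Nat.card_coe_set_eq]
      exact inv_mul_cancel₀ (Nat.cast_ne_zero.2 Nat.card_pos.ne')
    rw [h1, hβ, classInner_sub_left, hP1, hζone, sub_zero]
  · rw [hτ, classInner_dadeIsometry_dadeIsometry hD hβcl (hsuppA β hβB) hβcl]
    have hζP : Cfsg.classInner ζ P = 0 := by rw [← classInner_conj, hPχ ζ hζ, map_zero]
    rw [hβ, classInner_sub_left, classInner_sub_right, classInner_sub_right, hPP, hPχ ζ hζ, hζP,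
      IsIrrCharacter.classInner_self (hirr ζ hζ)]
    ring
  · have hi' : ζ ≠ i.1 := fun h => hi (Subtype.ext h.symm)
    show Cfsg.classInner (τ β) (τ₁ i.1 - ((n i.1 : ℤ) : ℂ) • τ₁ ζ) = ((n i.1 : ℤ) : ℂ)
    rw [Int.cast_natCast, ← hτd _ (hmem i.2), hτ,
      classInner_dadeIsometry_dadeIsometry hD hβcl (hsuppA β hβB)
        (IsGeneralized.isClassFunction (hdgen _ (hmem i.2))),
      hd, classInner_sub_right, ← Int.cast_smul_eq_zsmul ℂ, classInner_smul_right,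
      hβχ _ (hmem i.2), hβχ ζ hζ, if_neg hi', if_pos rfl, Int.cast_natCast, map_natCast]
    ring
  · show Cfsg.conjFun (τ β) = τ β + τ₁ ζ - τ₁ (Cfsg.conjFun ζ)
    rw [add_sub_assoc, ← hpair ζ hζ, hτ, conjFun_dade]
    have h1 : Cfsg.conjFun β = β + (ζ - Cfsg.conjFun ζ) := by
      have hPc : Cfsg.conjFun P = P := by
        rw [hP, conjFun_indFun]
        congr 1
        funext x
        simp
      rw [hβ, show Cfsg.conjFun (P - ζ) = Cfsg.conjFun P - Cfsg.conjFun ζ from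
        funext fun g => by simp [Cfsg.conjFun], hPc]
      abel
    rw [h1]
    funext g
    simp only [Cfsg.dadeIsometry, Pi.add_apply]
    split_ifs <;> simp
  · show (∑ i : {χ : L → ℂ // χ ∈ s}, ((n i.1 : ℕ) : ℤ) * n i.1) * (e : ℤ) = _
    rw [Finset.sum_coe_sort s (fun χ => (n χ : ℤ) * n χ), hsq]

end General

variable [Fintype G] (hG : Cfsg.IsMinSimpleOddOrder G)
include hG

omit hG in
theorem supportR_pow_card {L : Subgroup G} {a : G} {t : ℕ} (ht : t.Coprime (Nat.card G)) :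
    Cfsg.supportR L (a ^ t) = Cfsg.supportR L a := by
  classical
  have hc : centralizer ({a ^ t} : Set G) = centralizer ({a} : Set G) := by
    obtain ⟨m, hm⟩ := exists_pow_eq_self_of_coprime (ht.coprime_dvd_right (orderOf_dvd_natCard a))
    ext z
    rw [mem_centralizer_singleton_iff, mem_centralizer_singleton_iff]
    refine ⟨fun h => ?_, fun h => ((show Commute z a from h).pow_right t).eq⟩
    have := (show Commute z (a ^ t) from h).pow_right m
    rwa [hm] at this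
  let f : Subgroup G → Subgroup G := fun C =>
    if h : ¬ C ≤ L ∧ ∃! M : Subgroup G, IsCoatom M ∧ C ≤ M then
      Cfsg.fittingHallOf (Classical.choose h.2.exists) ⊓ C
    else ⊥
  have key : ∀ x : G, Cfsg.supportR L x = f (centralizer ({x} : Set G)) := fun x => rfl
  rw [key, key, hc]

/-- The family of a maximal subgroup that is a Frobenius group with kernel `L_F`. -/
theorem family_typeI {L : Subgroup G} (hF : EmptyKappaFrobenius G) (hL : IsCoatom L)
    (hfrob : ∀ x ∈ Cfsg.fittingHallOf L, x ≠ 1 →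
      L ⊓ centralizer ({x} : Set G) ≤ Cfsg.fittingHallOf L) :
    Cfsg.IsOfTypeI L ∧ ∃ (ι : Type u) (_ : Fintype ι) (F : Family G ι),
      F.e = (Cfsg.fittingHallOf L).relIndex L ∧
      F.sq * F.e = (Nat.card (Cfsg.fittingHallOf L) : ℤ) - 1 ∧
      F.X ⊆ Cfsg.tildeOf L (core1 L) ∧
      (∀ g ∈ F.X, ∀ t : ℕ, t.Coprime (Nat.card G) → g ^ t ∈ F.X) ∧
      (F.X.ncard : ℝ) / Nat.card G ≤
        ((Nat.card (Cfsg.fittingHallOf L) : ℝ) - 1) / Nat.card L := by
  classical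
  have hκ : Cfsg.kappa L = ∅ := by
    obtain ⟨K, U, hKU⟩ := Kap.exists_decomp_any hG hL
    refine (Rows.kappa_empty_iff hG hL hKU).2 (by_contra fun hK => ?_)
    obtain ⟨⟨V, hP⟩, -⟩ := typeP_of_decomp hG hL hKU hK
    obtain ⟨a, ha, ha1⟩ := (Subgroup.bot_or_exists_ne_one K).resolve_left hK
    obtain ⟨x, hx, hx1⟩ := (Subgroup.bot_or_exists_ne_one (Kap.star L K)).resolve_left
      hP.selfNormalizing.2.1
    have hxF : x ∈ Cfsg.fittingHallOf L := (hP.W₂_le.trans inf_le_left) hx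
    have haF := hfrob x hxF hx1 ⟨hP.W₁_compl.2.1 ha,
      mem_centralizer_singleton_iff.2 (hP.selfNormalizing.2.2.2.1 a ha x hx)⟩
    exact ha1 (mem_bot.1 (hP.W₁_compl.2.2.1 ▸ ⟨hP.U_compl.1 haF, ha⟩))
  have hI := Rows.typeI_of_empty hG hF hL hκ
  refine ⟨hI, ?_⟩
  letI : Fintype L := Fintype.ofFinite L
  set H := Cfsg.fittingHallOf L with hH
  set K := Cfsg.fittingHall L with hKdef
  have hHK : H.subgroupOf L = K :=
    Subgroup.comap_map_eq_self_of_injective (Subgroup.subtype_injective L) K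
  haveI : K.Normal := inferInstance
  obtain ⟨hirr, hcoh⟩ := Cfsg.Agent.S1542.result hG L hL hI hfrob
  obtain ⟨hsolv, hodd, hK1, -⟩ := id hI.1
  haveI := hsolv
  have hmemA : ∀ x : L, x ∈ K → x ≠ 1 → (x : G) ∈ Cfsg.typeA L := fun x hx hx1 => by
    rw [Cfsg.typeA, if_pos hI]
    exact ⟨x.2, fun e => hx1 (Subtype.ext e), x, mem_map_of_mem _ hx, fun e => hx1 (Subtype.ext e), rfl⟩
  have hinv : ∀ m ∈ L, ∀ a ∈ Cfsg.typeA L, m * a * m⁻¹ ∈ Cfsg.typeA L := by
    intro m hm a ha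
    rw [Cfsg.typeA, if_pos hI] at ha ⊢
    obtain ⟨haL, ha1, x, hx, hx1, hax⟩ := ha
    exact ⟨L.mul_mem (L.mul_mem hm haL) (L.inv_mem hm), fun h => ha1 (conj_eq_one_iff.1 h),
      m * x * m⁻¹, (mem_normalizer_iff.1 (FittingHall.le_normalizer_of L hm) x).1 hx,
      fun h => hx1 (conj_eq_one_iff.1 h), ((show Commute a x from hax).map (MulAut.conj m).toMonoidHom).eq⟩
  have hD : Cfsg.DadeHypothesis (Cfsg.typeA L) L (Cfsg.supportR L) :=
    Kap.dade_of_subset hG hL Set.subset_union_left hinv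
  haveI : (⊥ : Subgroup L).Normal := inferInstance
  obtain ⟨ι, iι, F, he, hsq, hX⟩ := exists_family hD hodd K ⊥ inferInstance
    (bot_lt_iff_ne_bot.2 hK1) hmemA hirr hcoh
  set B : Set G := (K.map L.subtype : Set G) \ {1} with hB
  have hBH : B = (H : Set G) \ {1} := rfl
  have hcore : core1 L = B := by
    rw [hBH, hH, Rows.fittingHallOf_of_empty hG hL hκ]; rfl
  have hBinv : ∀ x ∈ L, ∀ b ∈ B, x * b * x⁻¹ ∈ B := fun x hx b hb =>
    ⟨(mem_normalizer_iff.1 (FittingHall.le_normalizer_of L hx) b).1 hb.1,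
      fun h => hb.2 (conj_eq_one_iff.1 h)⟩
  have hBA : B ⊆ Cfsg.typeA L := by
    rintro _ ⟨⟨x, hx, rfl⟩, hx1⟩
    exact hmemA x hx fun e => hx1 (by rw [e]; rfl)
  have hDB := dadeHyp_restrict hD hBA hBinv
  refine ⟨ι, iι, F, ?_, ?_, ?_, ?_, ?_⟩
  · rw [he, Subgroup.relIndex, hHK]
  · rw [hsq, relIndex_bot_left]
    congr 2
    exact Nat.card_congr (K.equivMapOfInjective _ L.subtype_injective).toEquiv
  · rw [hX]
    rintro g ⟨a, ha, u, hu, x, hx⟩
    exact ⟨a, hcore.symm ▸ ha, u, hu, x⁻¹, by rw [← hx]; group⟩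
  · intro g hg t ht
    rw [hX] at hg ⊢
    obtain ⟨a, ha, u, hu, x, hx⟩ := hg
    have hat : a ^ t ∈ B := by
      refine ⟨Subgroup.pow_mem _ ha.1 t, fun h => ha.2 ?_⟩
      obtain ⟨m, hm⟩ := exists_pow_eq_self_of_coprime (ht.coprime_dvd_right (orderOf_dvd_natCard a))
      rw [Set.mem_singleton_iff] at h ⊢
      rw [← hm, h, one_pow]
    refine ⟨a ^ t, hat, u ^ t, (supportR_pow_card ht).ge (Subgroup.pow_mem _ hu t), x, ?_⟩
    rw [← conj_pow, hx, (CfsgLib.Char.dade_commute hDB ha hu).mul_pow]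
  · rw [hX]
    have hc := card_dadeSupp hDB
    have h1 : (dadeSupp B (Cfsg.supportR L)).ncard =
        (Finset.univ.filter fun g => g ∈ dadeSupp B (Cfsg.supportR L)).card := by
      rw [← Set.ncard_coe_finset, Finset.coe_filter_univ]
      rfl
    have h2 : ((Finset.univ.filter fun a : L => (a : G) ∈ B).card : ℝ) = (Nat.card H : ℝ) - 1 := by
      have e1 : (Finset.univ.filter fun a : L => (a : G) ∈ B).image (fun a : L => (a : G)) = B.toFinset := by
        ext g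
        simp only [Finset.mem_image, Finset.mem_filter, Finset.mem_univ, true_and, Set.mem_toFinset]
        exact ⟨fun ⟨a, ha, e⟩ => e ▸ ha, fun hg => ⟨⟨g, hD.subset (hBA hg)⟩, hg, rfl⟩⟩
      rw [← Finset.card_image_of_injective _ Subtype.val_injective, e1, ← Set.ncard_eq_toFinset_card',
        hBH, Set.ncard_sdiff (Set.singleton_subset_iff.2 H.one_mem) (Set.toFinite _),
        Set.ncard_singleton, ← Nat.card_coe_set_eq, Nat.cast_sub Nat.card_pos, Nat.cast_one]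
      rfl
    rw [h1, div_eq_inv_mul, hc, h2, div_eq_inv_mul]

/-- The family of a maximal subgroup of type III of a pair. -/
theorem family_typeIII (hU : Upto12 G) {S T W₁ W₂ U V : Subgroup G}
    (h : PairData S T W₁ W₂ U V) (h3 : Cfsg.IsOfTypeIII T) :
    ∃ (ι : Type u) (_ : Fintype ι) (F : Family G ι), F.e = Nat.card W₂ ∧
      F.sq * F.e = (Nat.card V : ℤ) - 1 ∧ F.X ⊆ Cfsg.tildeOf T (core1 T) ∧
      (∀ g ∈ F.X, orderOf g ∣ Nat.card ↥⁅T, T⁆) := by
  classical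
  have hs := h.symm
  have hT : Three T W₂ V W₁ := ⟨hs.coatom_S, hs.typeP_S, Or.inl h3⟩
  have hnI := hs.not_typeI hG hU
  letI : Fintype T := Fintype.ofFinite T
  obtain ⟨hTI, hN⟩ := hs.typeA0_ti hG hU
  have hσ : ⁅T, T⁆ = Cfsg.sigmaCore T := (hT.decomp hG).2.1
  have hcore : Cfsg.typeCore T = Cfsg.sigmaCore T := by
    rw [Cfsg.typeCore, if_pos (Or.inl h3), hσ]
  have hTD : ⁅T, T⁆ ≤ T := commutator_le_self T
  set K := (⁅T, T⁆).subgroupOf T with hK
  set H := Cfsg.fittingHallOf T with hH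
  set N := H.subgroupOf T with hNdef
  haveI hKn : K.Normal := (normal_subgroupOf_iff_le_normalizer hTD).2
    (le_normalizer_commutator_self Subgroup.le_normalizer)
  haveI hNn : N.Normal := (normal_subgroupOf_iff_le_normalizer (FittingHall.of_le T)).2
    (FittingHall.le_normalizer_of T)
  have hmemA : ∀ x : T, x ∈ K → x ≠ 1 → (x : G) ∈ Cfsg.typeA0 T := fun x hx hx1 => by
    refine Or.inl ?_
    rw [Cfsg.typeA, if_neg hnI]
    exact ⟨hx, fun e => hx1 (Subtype.ext e), x, hcore.ge (hσ.le hx), fun e => hx1 (Subtype.ext e), rfl⟩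
  have hVK : V ≤ ⁅T, T⁆ := hs.U_le
  have hVne : V ≠ ⊥ := hs.U_ne hG hU
  haveI hVc : IsMulCommutative V := hs.U_comm hG hU
  obtain ⟨v₀, hv₀, hv₀1⟩ := (Subgroup.bot_or_exists_ne_one V).resolve_left hVne
  have hA0ne : (Cfsg.typeA0 T).Nonempty :=
    ⟨v₀, hmemA ⟨v₀, hTD (hVK hv₀)⟩ (hVK hv₀) fun e => hv₀1 (congrArg Subtype.val e)⟩
  have hD : Cfsg.DadeHypothesis (Cfsg.typeA0 T) T (fun _ => ⊥) := by
    refine (Cfsg.Agent.S1497.result _ hA0ne ?_ T).1 ⟨hTI, hN⟩
    exact fun h1 => (Kap.typeA0_subset T h1).2 rfl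
  have hNK : N < K := by
    refine lt_of_le_of_ne (fun x hx => hs.H_le hx) fun e => hv₀1 ?_
    have : (⟨v₀, hTD (hVK hv₀)⟩ : T) ∈ N := e ▸ (hVK hv₀ : (⟨v₀, hTD (hVK hv₀)⟩ : T) ∈ K)
    exact mem_bot.1 (hs.H_inf_U ▸ ⟨this, hv₀⟩)
  have hsolvK : Group.IsSolvable K := by
    haveI : Group.IsSolvable T := Kap.solvable_le hG hs.coatom_S le_rfl
    infer_instance
  -- every element of `K` is a product from `H` and `V`
  have hsplit : ∀ x : K, ∃ a ∈ H, ∃ v ∈ V, ((x : T) : G) = a * v := fun x =>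
    (fun ⟨a, ha, v, hv, e⟩ => ⟨a, ha, v, hv, e⟩)
      (hs.typeP_S.U_compl.2.2.2 ((x : T) : G) x.2)
  -- the characters above `N` are linear
  have hlin : ∀ θ : K → ℂ, Cfsg.IsIrrCharacter K θ → (∀ a : K, (a : T) ∈ N → θ a = θ 1) → θ 1 = 1 := by
    intro θ hθ hθN
    refine IsIrrCharacter.apply_one_eq_one_of_commutators hθ fun x y => hθN _ ?_
    let f : T →* T ⧸ N := QuotientGroup.mk' N
    have himg : ∀ z : K, ∃ v : V, f (z : T) = f ⟨(v : G), hTD (hVK v.2)⟩ := fun z => by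
      obtain ⟨a, ha, v, hv, e⟩ := hsplit z
      refine ⟨⟨v, hv⟩, ?_⟩
      have : (z : T) = ⟨a, FittingHall.of_le T ha⟩ * ⟨v, hTD (hVK hv)⟩ := Subtype.ext e
      rw [this, map_mul, show f ⟨a, FittingHall.of_le T ha⟩ = 1 from
        (QuotientGroup.eq_one_iff _).2 ha, one_mul]
    obtain ⟨v, hv⟩ := himg x
    obtain ⟨w, hw⟩ := himg y
    refine (QuotientGroup.eq_one_iff _).1 ?_
    show f ((x : T) * (y : T) * (x : T)⁻¹ * (y : T)⁻¹) = 1
    rw [map_mul, map_mul, map_mul, map_inv, map_inv, hv, hw, ← map_mul, ← map_inv, ← map_mul,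
      ← map_inv, ← map_mul]
    rw [show (⟨(v : G), hTD (hVK v.2)⟩ : T) * ⟨(w : G), hTD (hVK w.2)⟩ * (⟨(v : G), hTD (hVK v.2)⟩ : T)⁻¹ *
        (⟨(w : G), hTD (hVK w.2)⟩ : T)⁻¹ = 1 from Subtype.ext ?_, map_one]
    show (v : G) * w * (v : G)⁻¹ * (w : G)⁻¹ = 1
    rw [show (v : G) * w = w * v from congrArg Subtype.val (mul_comm' v w)]
    group
  -- their inertia groups are `K`
  have hirr : ∀ χ ∈ Cfsg.inducedIrrAbove K N, Cfsg.IsIrrCharacter T χ := by
    rintro _ ⟨θ, hθ, hθ1, hθN, rfl⟩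
    refine isIrrCharacter_indFun_of_inertia_le hθ fun g hg => ?_
    obtain ⟨lam, hlam⟩ := IsCharacter.exists_hom (IsIrrCharacter.isCharacter hθ) (hlin θ hθ hθN)
    obtain ⟨d, hd, w, hw, hdw⟩ := hs.typeP_S.W₁_compl.2.2.2 (g : G) g.2
    by_contra hgK
    have hw1 : w ≠ 1 := fun e => hgK (by
      show (g : G) ∈ ⁅T, T⁆
      rw [hdw, e, mul_one]; exact hd)
    have hwI : (⟨w, hs.left_le hw⟩ : T) ∈ inertia θ := by
      have hdI : (⟨d, hTD hd⟩ : T) ∈ inertia θ :=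
        le_inertia (IsIrrCharacter.isClassFunction hθ) hd
      have e : g = ⟨d, hTD hd⟩ * ⟨w, hs.left_le hw⟩ := Subtype.ext hdw
      have := (inertia θ).mul_mem ((inertia θ).inv_mem hdI) hg
      rwa [e, inv_mul_cancel_left] at this
    rw [mem_inertia_iff] at hwI
    have hwV : ∀ v ∈ V, w * v * w⁻¹ ∈ V := fun v hv =>
      (mem_normalizer_iff.1 (hs.typeP_S.U_normal hw) v).1 hv
    let δ : V → V := fun v => ⟨w * v * w⁻¹ * (v : G)⁻¹, V.mul_mem (hwV v v.2) (V.inv_mem v.2)⟩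
    have hδ : Function.Injective δ := fun a b e => by
      have e' : w * (a : G) * w⁻¹ * (a : G)⁻¹ = w * (b : G) * w⁻¹ * (b : G)⁻¹ := congrArg Subtype.val e
      have hc : w * ((b : G)⁻¹ * a) * w⁻¹ = (b : G)⁻¹ * a := by
        calc w * ((b : G)⁻¹ * a) * w⁻¹ = (w * (b : G) * w⁻¹)⁻¹ * (w * (a : G) * w⁻¹ * (a : G)⁻¹) * a := by group
          _ = (b : G)⁻¹ * a := by rw [e']; group
      exact Subtype.ext (inv_mul_eq_one.1
        (hs.U_fixed (V.mul_mem (V.inv_mem b.2) a.2) hw hw1 (mul_inv_eq_iff_eq_mul.1 hc))).symm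
    have hsurj := Finite.injective_iff_surjective.1 hδ
    have hV1 : ∀ v : V, lam ⟨⟨v, hTD (hVK v.2)⟩, hVK v.2⟩ = 1 := fun v => by
      obtain ⟨v', rfl⟩ := hsurj v
      have h1 := hwI ⟨⟨(v' : G), hTD (hVK v'.2)⟩, hVK v'.2⟩
      rw [hlam] at h1
      have h2 : lam ⟨⟨w * v' * w⁻¹, hTD (hVK (hwV _ v'.2))⟩, hVK (hwV _ v'.2)⟩ =
          lam ⟨⟨(v' : G), hTD (hVK v'.2)⟩, hVK v'.2⟩ := Units.ext h1
      have e : (⟨⟨((δ v' : V) : G), hTD (hVK (δ v').2)⟩, hVK (δ v').2⟩ : K) =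
          ⟨⟨w * v' * w⁻¹, hTD (hVK (hwV _ v'.2))⟩, hVK (hwV _ v'.2)⟩ *
            (⟨⟨(v' : G), hTD (hVK v'.2)⟩, hVK v'.2⟩ : K)⁻¹ := Subtype.ext (Subtype.ext rfl)
      rw [e, map_mul, map_inv, h2, mul_inv_cancel]
    refine hθ1 (funext fun x => ?_)
    obtain ⟨a, ha, v, hv, e⟩ := hsplit x
    have hx : x = ⟨⟨a, FittingHall.of_le T ha⟩, hs.H_le ha⟩ * ⟨⟨v, hTD (hVK hv)⟩, hVK hv⟩ :=
      Subtype.ext (Subtype.ext e)
    have hla : lam (⟨⟨a, FittingHall.of_le T ha⟩, hs.H_le ha⟩ : K) = 1 := Units.ext (by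
      have := hθN ⟨⟨a, FittingHall.of_le T ha⟩, hs.H_le ha⟩ ha
      rw [hlam] at this
      simpa using this)
    rw [hlam]
    simp only
    rw [hx, map_mul, hla, hV1 ⟨v, hv⟩, mul_one, Units.val_one]
  -- coherence
  set τ := Cfsg.dadeIsometry (Cfsg.typeA0 T) T (fun _ => (⊥ : Subgroup G)) with hτdef
  set S' := Cfsg.inducedIrrAbove K N with hS'
  have hspan : ∀ α ∈ Cfsg.zspanOn S' ({1}ᶜ : Set T),
      Cfsg.IsGeneralizedCharacter T α ∧ ∀ x : T, (x : G) ∉ Cfsg.typeA0 T → α x = 0 := by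
    intro α hα
    have hgen : Cfsg.IsGeneralizedCharacter T α ∧ ∀ x : T, x ∉ K → α x = 0 := by
      obtain ⟨hα, -⟩ := hα
      induction hα using Submodule.span_induction with
      | mem φ hφ =>
        refine ⟨IsIrrCharacter.isGeneralized (hirr φ hφ), ?_⟩
        obtain ⟨θ, -, -, -, rfl⟩ := hφ
        exact fun x hx => indFun_eq_zero_of_normal θ hx
      | zero => exact ⟨isGeneralized_zero, fun _ _ => rfl⟩
      | add a b _ _ h1 h2 => exact ⟨IsGeneralized.add h1.1 h2.1, fun x hx => by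
          rw [Pi.add_apply, h1.2 x hx, h2.2 x hx, add_zero]⟩
      | smul n a _ h => exact ⟨IsGeneralized.zsmul h.1 n, fun x hx => by
          rw [Pi.smul_apply, h.2 x hx, smul_zero]⟩
    refine ⟨hgen.1, fun x hx => ?_⟩
    rcases eq_or_ne x 1 with rfl | hx1
    · exact (mem_zspanOn_one.1 hα).2
    · exact hgen.2 x fun hk => hx (hmemA x hk hx1)
  have hcl : ∀ α ∈ Cfsg.zspanOn S' ({1}ᶜ : Set T), Cfsg.IsClassFunction T α := fun α hα =>
    IsGeneralized.isClassFunction (hspan α hα).1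
  have hτ : Cfsg.IsLinearIsometryOn (Cfsg.zspanOn S' ({1}ᶜ : Set T)) τ := by
    refine ⟨fun α _ β _ => ?_, fun α _ n => ?_, fun α hα β hβ =>
      classInner_dadeIsometry_dadeIsometry hD (hcl α hα) (hspan α hα).2 (hcl β hβ),
      fun α hα => isGeneralized_dadeIsometry hD (hspan α hα).1 (hspan α hα).2⟩
    all_goals
      funext g
      simp only [hτdef, Cfsg.dadeIsometry, Pi.add_apply, Pi.smul_apply]
      split_ifs <;> simp
  have hodd : Odd (Nat.card T) := hG.1.of_dvd_nat T.card_subgroup_dvd_card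
  have hconj : ∀ χ ∈ S', Cfsg.conjFun χ ∈ S' ∧ Cfsg.conjFun χ ≠ χ := fun χ hχ => by
    refine ⟨conjFun_mem_inducedIrrAbove hχ, fun e => ?_⟩
    obtain ⟨θ, h1, h2, -, rfl⟩ := id hχ
    have h0 : Cfsg.classInner (Cfsg.conjFun (Cfsg.indFun K θ)) (Cfsg.indFun K θ) = 0 :=
      classInner_conj_indFun_eq_zero hodd h1 h2
    rw [e, IsIrrCharacter.classInner_self (hirr _ hχ)] at h0
    exact one_ne_zero h0
  obtain ⟨ψ, hψ, -⟩ := exists_linear_aboveInd (L := T) (K := K) (A := N) hsolvK hNK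
  obtain ⟨R', hsys⟩ := exists_coherenceSystem S' ⟨ψ, mem_aboveInd.1 hψ⟩ hirr hconj hτ
    fun α _ => dadeIsometry_apply_one hD
  have hcoh := isCoherent_of_equal_degree hsys fun φ hφ φ' hφ' => by
    obtain ⟨θ, h1, -, h2, rfl⟩ := hφ
    obtain ⟨θ', h1', -, h2', rfl⟩ := hφ'
    rw [indFun_one, indFun_one, hlin θ h1 h2, hlin θ' h1' h2']
  obtain ⟨ι, iι, F, he, hsq, hX⟩ := exists_family hD hodd K N hsolvK hNK hmemA hirr hcoh
  refine ⟨ι, iι, F, ?_, ?_, ?_, ?_⟩
  · rw [he]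
    refine Nat.eq_of_mul_eq_mul_left (Nat.card_pos (α := K)) ?_
    rw [K.card_mul_index, Nat.card_congr (subgroupOfEquivOfLe hTD).toEquiv, hs.card_S]
  · rw [hsq, hNdef, hK, relIndex_subgroupOf hTD]
    congr 2
    have h1 := CfsgLib.InvariantHall.relIndex_mul_card hs.H_le
    rw [hs.card_derived] at h1
    exact Nat.eq_of_mul_eq_mul_left (Nat.card_pos (α := H)) (by rw [← h1, mul_comm])
  all_goals
    rw [hX, show K.map T.subtype = ⁅T, T⁆ from map_subgroupOf_eq_of_le hTD]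
  · rintro g ⟨a, ha, u, hu, x, hx⟩
    rw [mem_bot.1 hu, mul_one] at hx
    refine ⟨a, ⟨hσ.le ha.1, ha.2⟩, 1, Subgroup.one_mem _, x⁻¹, ?_⟩
    rw [mul_one, ← hx]; group
  · rintro g ⟨a, ha, u, hu, x, hx⟩
    rw [mem_bot.1 hu, mul_one] at hx
    have : orderOf g = orderOf a := by
      rw [← hx]
      exact (orderOf_injective (MulAut.conj x).toMonoidHom (MulAut.conj x).injective g).symm
    rw [this]
    exact orderOf_dvd_natCard _ ha.1

end CfsgLib.OddEnd
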