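import Cfsg.Agent.OddEnd.FourteenOrb
import Cfsg.Agent.OddEnd.FourteenImages
import Cfsg.Agent.Char.Linear

/-!
Peterfalvi section 14: the characters of `P` with trivial stabiliser in `U`, counted by what they induce, and
the mass on the conjugates of `P#` of a character orthogonal to the other orbits.
-/

set_option autoImplicit false
set_option linter.unusedSectionVars false
set_option linter.style.haveILetI false

namespace CfsgLib.OddEnd

open Subgroup CfsgLib.Char
open scoped ComplexConjugate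

universe u

variable {G : Type u} [Group G] [Fintype G]

namespace SideData

variable {S K P U W₁ W₂ : Subgroup G} {p q : ℕ} (D : SideData S K P U W₁ W₂ p q)
include D

theorem finite_dualP : Finite (↥(P.subgroupOf S) →* ℂˣ) :=
  Nat.finite_of_card_ne_zero (by rw [card_hom_eq_index_commutator]; exact index_ne_zero_of_finite)

variable [Fintype S]

/-- An irreducible induced character comes from a free character with the smallest inertia group. -/
theorem orb_data {φ : ↥(P.subgroupOf S) →* ℂˣ} (h : Cfsg.IsIrrCharacter S (indP S P φ)) :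
    FreeChar (U.subgroupOf S) φ ∧ (haveI := D.normal_P; Nat.card (inertia (lin φ)) = Nat.card P) := by
  haveI := D.normal_P
  have hI : Nat.card (inertia (lin φ)) = Nat.card P := by
    have h1 := IsIrrCharacter.classInner_self h
    rw [D.indP_self, div_eq_one_iff_eq (Nat.cast_ne_zero.2 Nat.card_pos.ne'), Nat.cast_inj] at h1
    exact h1
  refine ⟨fun v hv hfix => ?_, hI⟩
  have heq : P.subgroupOf S = inertia (lin φ) :=
    eq_of_le_of_card_ge (le_inertia (IsIrrCharacter.isClassFunction (isIrrCharacter_ofHom φ)))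
      (by rw [hI, card_subgroupOf D.P_le])
  have hvI : v ∈ inertia (lin φ) := (mem_inertia_iff _ _).2 fun x =>
    congrArg Units.val (hfix x ⟨v * x * v⁻¹, D.normal_P.conj_mem x x.2 v⟩ rfl)
  rw [← heq] at hvI
  refine Subtype.ext (mem_bot.1 (D.compl.2.2.1 ▸ ⟨hvI, hv⟩ : (v : G) ∈ (⊥ : Subgroup G)))

/-- Characters of `P` inducing the same character are conjugate, and conversely. -/
theorem card_fibre [Fintype (↥(P.subgroupOf S) →* ℂˣ)] [DecidableEq (S → ℂ)] (φ : ↥(P.subgroupOf S) →* ℂˣ) :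
    (haveI := D.normal_P;
    (Finset.univ.filter fun ψ => indP S P ψ = indP S P φ).card = (inertia (lin φ)).index) := by
  classical
  haveI := D.normal_P
  haveI := Fintype.ofFinite ↥(P.subgroupOf S)
  rw [← card_conjOrbit, ← Finset.card_image_of_injective _ (lin_injective (H := ↥(P.subgroupOf S)))]
  congr 1
  ext θ
  simp only [Finset.mem_image, Finset.mem_filter, Finset.mem_univ, true_and, mem_conjOrbit]
  constructor
  · rintro ⟨ψ, hψ, rfl⟩
    have hin := classInner_indFun_indFun (G := S) (N := P.subgroupOf S) (θ := lin ψ) (φ := lin φ)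
      (isIrrCharacter_ofHom ψ) (isIrrCharacter_ofHom φ)
    refine mem_conjOrbit.1 (by_contra fun hn => ?_)
    rw [if_neg hn] at hin
    have e : Cfsg.classInner (indP S P ψ) (indP S P φ) = 0 := hin
    rw [hψ, D.indP_self, div_eq_zero_iff] at e
    rcases e with e | e <;> exact absurd e (Nat.cast_ne_zero.2 Nat.card_pos.ne')
  · rintro ⟨g, rfl⟩
    refine ⟨φ.comp (MulAut.conjNormal (H := P.subgroupOf S) g).toMonoidHom, ?_, ?_⟩
    · have e : lin (φ.comp (MulAut.conjNormal (H := P.subgroupOf S) g).toMonoidHom) = conjOn g (lin φ) := by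
        rw [conjOn_eq_comp]
        rfl
      rw [indP, indP, e, indFun_conjOn]
    · rw [conjOn_eq_comp]
      rfl

theorem index_small {φ : ↥(P.subgroupOf S) →* ℂˣ} (h : Cfsg.IsIrrCharacter S (indP S P φ)) :
    haveI := D.normal_P
    (inertia (lin φ)).index = Nat.card U * q := by
  haveI := D.normal_P
  refine Nat.eq_of_mul_eq_mul_left (Nat.card_pos (α := ↥(inertia (lin φ)))) ?_
  rw [Subgroup.card_mul_index, (D.orb_data h).2, D.card_S, mul_assoc]

theorem index_big {φ : ↥(P.subgroupOf S) →* ℂˣ}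
    (hI : haveI := D.normal_P; Nat.card (inertia (lin φ)) = Nat.card P * q) :
    haveI := D.normal_P
    (inertia (lin φ)).index = Nat.card U := by
  haveI := D.normal_P
  refine Nat.eq_of_mul_eq_mul_left (Nat.card_pos (α := ↥(inertia (lin φ)))) ?_
  rw [Subgroup.card_mul_index, hI, D.card_S]
  ring

theorem irr_or_big {φ : ↥(P.subgroupOf S) →* ℂˣ} (hφ : FreeChar (U.subgroupOf S) φ) :
    Cfsg.IsIrrCharacter S (indP S P φ) ∨
      (haveI := D.normal_P; Nat.card (inertia (lin φ)) = Nat.card P * q) :=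
  (D.card_inertia hφ).imp_left fun h => D.indP_irr h

variable [Fintype (Row W₁ W₂)] {μ : (↥(W₁ ⊔ W₂) →* ℂˣ) → S → ℂ} {δ : (↥(W₁ ⊔ W₂) →* ℂˣ) → ℂ}
  (hμ : IsMuG S K W₁ W₂ μ δ)
include hμ

/-- The free characters are covered by the orbits inducing irreducibly and the `p - 1` columns. -/
theorem nFree_le [Fintype {f : S → ℂ // IsOrb S P f}] :
    nFree S P U ≤ Nat.card U * (Fintype.card {f : S → ℂ // IsOrb S P f} * Nat.card W₁ + (Nat.card W₂ - 1)) := by
  classical
  haveI := D.normal_P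
  haveI := D.finite_dualP
  haveI := Fintype.ofFinite (↥(P.subgroupOf S) →* ℂˣ)
  haveI := Fintype.ofFinite (Col W₁ W₂)
  set F := Finset.univ.filter fun ψ : ↥(P.subgroupOf S) →* ℂˣ => FreeChar (U.subgroupOf S) ψ with hF
  have hn : nFree S P U = F.card := by rw [nFree, Nat.card_eq_fintype_card, Fintype.card_subtype]
  set Fs := F.filter fun ψ => Cfsg.IsIrrCharacter S (indP S P ψ) with hFs
  set Fb := F.filter fun ψ => ¬ Cfsg.IsIrrCharacter S (indP S P ψ) with hFb
  have hsplit : Fs.card + Fb.card = F.card := Finset.card_filter_add_card_filter_not _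
  have hs : Fs.card ≤ Nat.card U * q * Fintype.card {f : S → ℂ // IsOrb S P f} := by
    have hsub : Fs.image (indP S P) ⊆ (Finset.univ : Finset {f : S → ℂ // IsOrb S P f}).image Subtype.val := by
      intro f hf
      obtain ⟨ψ, hψ, rfl⟩ := Finset.mem_image.1 hf
      exact Finset.mem_image.2 ⟨⟨_, (Finset.mem_filter.1 hψ).2, ψ, rfl⟩, Finset.mem_univ _, rfl⟩
    refine (Finset.card_le_mul_card_image Fs (Nat.card U * q) fun f hf => ?_).trans
      (Nat.mul_le_mul_left _ ((Finset.card_le_card hsub).trans Finset.card_image_le))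
    obtain ⟨ψ, hψ, rfl⟩ := Finset.mem_image.1 hf
    rw [← D.index_small (Finset.mem_filter.1 hψ).2, ← D.card_fibre ψ]
    exact Finset.card_le_card fun x hx => Finset.mem_filter.2 ⟨Finset.mem_univ _, (Finset.mem_filter.1 hx).2⟩
  have hbig : ∀ ψ ∈ Fb, Nat.card (inertia (lin ψ)) = Nat.card P * q := fun ψ hψ => by
    obtain ⟨h1, h2⟩ := Finset.mem_filter.1 hψ
    exact (D.irr_or_big (Finset.mem_filter.1 h1).2).resolve_left h2
  have hb : Fb.card ≤ Nat.card U * (Nat.card W₂ - 1) := by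
    have hsub : Fb.image (indP S P) ⊆ ((Finset.univ : Finset (Col W₁ W₂)).erase col₀).image (colSum μ) := by
      intro f hf
      obtain ⟨ψ, hψ, rfl⟩ := Finset.mem_image.1 hf
      obtain ⟨l, hl, hcol, -⟩ :=
        D.exists_col hμ (Finset.mem_filter.1 (Finset.mem_filter.1 hψ).1).2 (hbig ψ hψ)
      exact Finset.mem_image.2 ⟨l, Finset.mem_erase.2 ⟨hl, Finset.mem_univ _⟩, hcol.symm⟩
    refine (Finset.card_le_mul_card_image Fb (Nat.card U) fun f hf => ?_).trans
      (Nat.mul_le_mul_left _ (((Finset.card_le_card hsub).trans Finset.card_image_le).trans_eq ?_))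
    · obtain ⟨ψ, hψ, rfl⟩ := Finset.mem_image.1 hf
      rw [← D.index_big (hbig ψ hψ), ← D.card_fibre ψ]
      exact Finset.card_le_card fun x hx => Finset.mem_filter.2 ⟨Finset.mem_univ _, (Finset.mem_filter.1 hx).2⟩
    · rw [Finset.card_erase_of_mem (Finset.mem_univ _), Finset.card_univ, ← Nat.card_eq_fintype_card,
        (card_trivL D.primeDade.selfNorm).1]
  rw [hn, ← hsplit, D.mod.card_W, mul_add]
  calc Fs.card + Fb.card ≤ Nat.card U * q * Fintype.card {f : S → ℂ // IsOrb S P f} +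
        Nat.card U * (Nat.card W₂ - 1) := Nat.add_le_add hs hb
    _ = _ := by ring

omit hμ in
/-- A class function whose images of orbit differences single out one orbit has mass there. -/
theorem mass_bound {f₀ : S → ℂ} (hf₀ : IsOrb S P f₀) {η : G → ℂ} (hη : Cfsg.IsClassFunction G η)
    {φ₁ : ↥(P.subgroupOf S) →* ℂˣ}
    (hkey : ∀ ψ : ↥(P.subgroupOf S) →* ℂˣ, FreeChar (U.subgroupOf S) ψ → ∀ [Decidable (indP S P ψ = f₀)],
      Cfsg.classInner (tiMap (bridgeSet S P W₁ W₂) S (indP S P ψ - indP S P φ₁)) η =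
        if indP S P ψ = f₀ then 1 else 0)
    (Z : Finset G) (hZ : ∀ g, g ∈ Z ↔ g ∈ conjSet ((P : Set G) \ {1})) :
    1 - ((Nat.card U * Nat.card W₁ : ℕ) : ℝ) / nFree S P U ≤
      (Nat.card G : ℝ)⁻¹ * ∑ g ∈ Z, ‖η g‖ ^ 2 := by
  classical
  haveI := D.normal_P
  haveI := D.finite_dualP
  haveI := Fintype.ofFinite ↥(P.subgroupOf S)
  letI : CommGroup ↥(P.subgroupOf S) :=
    { (inferInstance : Group ↥(P.subgroupOf S)) with
      mul_comm := fun a b => Subtype.ext (D.modS.commP a.2 b.2) }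
  haveI := Fintype.ofFinite (↥(P.subgroupOf S) →* ℂˣ)
  obtain ⟨φ₀, hφ₀⟩ := hf₀.2
  have hirr : Cfsg.IsIrrCharacter S (indP S P φ₀) := hφ₀ ▸ hf₀.1
  set F := Finset.univ.filter fun ψ : ↥(P.subgroupOf S) →* ℂˣ => FreeChar (U.subgroupOf S) ψ with hF
  set s := Finset.univ.filter fun ψ : ↥(P.subgroupOf S) →* ℂˣ => indP S P ψ = indP S P φ₀ with hs
  have hsF : s ⊆ F := fun ψ hψ => Finset.mem_filter.2 ⟨Finset.mem_univ _,
    (D.orb_data ((Finset.mem_filter.1 hψ).2.symm ▸ hirr)).1⟩
  have hscard : s.card = Nat.card U * q := by rw [hs, D.card_fibre φ₀, D.index_small hirr]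
  have hn : nFree S P U = F.card := by rw [nFree, Nat.card_eq_fintype_card, Fintype.card_subtype]
  have hFne : F.Nonempty := ⟨φ₀, hsF (Finset.mem_filter.2 ⟨Finset.mem_univ _, rfl⟩)⟩
  set fP : ↥(P.subgroupOf S) → ℂ := fun x => η ((x : S) : G) with hfP
  have hcl : Cfsg.IsClassFunction S (fun x : S => η x) := fun a b => hη (a : G) (b : G)
  have hrec : ∀ ψ : ↥(P.subgroupOf S) →* ℂˣ,
      Cfsg.classInner fP (fun x => (ψ x : ℂ)) = Cfsg.classInner (fun x : S => η x) (indP S P ψ) := fun ψ =>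
    (classInner_indFun_right hcl (lin ψ)).symm
  have hcoef : ∀ ψ ∈ F, Cfsg.classInner fP (fun x => (ψ x : ℂ)) =
      Cfsg.classInner (fun x : S => η x) (indP S P φ₁) + (if ψ ∈ s then 1 else 0) := by
    intro ψ hψ
    have hA : ∀ x : S, (x : G) ∉ bridgeSet S P W₁ W₂ → (indP S P ψ - indP S P φ₁) x = 0 := fun x hx => by
      rw [Pi.sub_apply, sub_eq_zero]
      by_cases hx1 : x = 1
      · rw [hx1, D.indP_one, D.indP_one]
      · have hxP : (x : G) ∉ P := fun hP => hx (D.punctured_bridge hP hx1)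
        rw [D.indP_off hxP, D.indP_off hxP]
    have h1 := hkey ψ (Finset.mem_filter.1 hψ).2
    rw [tiMap_inner_restrict D.dade (fun a b => by
      rw [Pi.sub_apply, Pi.sub_apply, indP, indP, isClassFunction_indFun _ _ a b, isClassFunction_indFun _ _ a b])
      hA hη, ← classInner_conj, classInner_sub_right] at h1
    have h2 := congrArg conj h1
    rw [Complex.conj_conj] at h2
    rw [hrec, eq_comm, ← eq_sub_iff_add_eq', h2, hφ₀]
    simp only [hs, Finset.mem_filter, Finset.mem_univ, true_and]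
    split_ifs <;> simp
  have hfm := fourier_mass F s hsF hFne hcoef
  have hsum : ∑ g ∈ Z, ‖η g‖ ^ 2 = (Nat.card G : ℝ) / Nat.card S *
      ∑ x ∈ (Finset.univ : Finset ↥(P.subgroupOf S)).erase 1, ‖fP x‖ ^ 2 := by
    set Fn : G → ℝ := fun g => if g ∈ Z then ‖η g‖ ^ 2 else 0 with hFn
    have hd := dade_sum D.dade (F := Fn)
      (fun g x => by
        have hiff : x * g * x⁻¹ ∈ Z ↔ g ∈ Z := by rw [hZ, hZ, conjSet_conj]
        simp only [hFn, hiff, hη g x])
      (fun g hg => if_neg fun hgZ => hg (by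
        obtain ⟨a, ha, x, hx⟩ := (hZ g).1 hgZ
        exact ⟨a, Or.inl ha, 1, one_mem _, x, by rw [hx, mul_one]⟩))
    rw [Finset.sum_ite_mem, Finset.univ_inter] at hd
    rw [hd]
    congr 1
    have hterm : ∀ a : S, (Nat.card (⊥ : Subgroup G) : ℝ)⁻¹ *
        ∑ᶠ u ∈ ((⊥ : Subgroup G) : Set G), Fn ((a : G) * u) = Fn a := fun a => by
      rw [Subgroup.coe_bot, finsum_mem_singleton, Subgroup.card_bot, mul_one]
      simp
    rw [Finset.sum_congr rfl fun a _ => hterm a, hFn]
    simp only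
    rw [← Finset.sum_filter, Finset.filter_filter]
    refine Finset.sum_bij' (fun a ha => (⟨a, ?_⟩ : ↥(P.subgroupOf S))) (fun x _ => (x : S)) ?_ ?_
      (fun a _ => rfl) (fun x _ => rfl) (fun a _ => rfl)
    · obtain ⟨-, ha1, ha2⟩ := Finset.mem_filter.1 ha
      rcases ha1 with ⟨h, -⟩ | ⟨m, hm, w, hw, hw1, hw2, e⟩
      · exact h
      · exfalso
        obtain ⟨b, ⟨hb, hb1⟩, y, hy⟩ := (hZ _).1 ha2
        obtain ⟨l, hl, hlb⟩ := dade_conj_in_L D.dade (a := (a : G)) (b := b) (u := 1) (v := 1)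
          (Or.inr ⟨m, hm, w, hw, hw1, hw2, e⟩) (Or.inl ⟨hb, hb1⟩) (one_mem _) (one_mem _) (g := y)
          (by simpa using hy)
        have hwP : w ∈ P := by
          have h1 : (a : G) ∈ P := by
            have := (mem_normalizer_iff''.1 (D.P_norm hl) b).1 hb
            rwa [← hlb, show l⁻¹ * (l * (a : G) * l⁻¹) * l = (a : G) by group] at this
          have h2 := (mem_normalizer_iff''.1 (D.P_norm hm) (a : G)).1 h1
          rwa [e, show m⁻¹ * (m * w * m⁻¹) * m = w by group] at h2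
        exact hw2 (D.W_inf_K hw (D.P_le_K hwP))
    · intro a ha
      obtain ⟨-, -, ha2⟩ := Finset.mem_filter.1 ha
      refine Finset.mem_erase.2 ⟨fun e => ?_, Finset.mem_univ _⟩
      obtain ⟨b, ⟨-, hb1⟩, y, hy⟩ := (hZ _).1 ha2
      have : (a : G) = 1 := congrArg (fun z : ↥(P.subgroupOf S) => ((z : S) : G)) e
      rw [this, mul_one, mul_inv_cancel] at hy
      exact hb1 hy.symm
    · intro x hx
      have hx1 : ((x : S) : G) ≠ 1 := fun e => Finset.ne_of_mem_erase hx (Subtype.ext (Subtype.ext e))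
      exact Finset.mem_filter.2 ⟨Finset.mem_univ _, Or.inl ⟨x.2, hx1⟩,
        (hZ _).2 ⟨_, ⟨x.2, hx1⟩, 1, by simp⟩⟩
  rw [hsum, hn, D.mod.card_W, ← mul_assoc, ← mul_div_assoc, inv_mul_cancel₀ (Nat.cast_ne_zero.2 Nat.card_pos.ne'),
    one_div]
  rw [hscard, card_subgroupOf D.P_le] at hfm
  have hm0 : (0 : ℝ) < ((Nat.card U * q : ℕ) : ℝ) :=
    Nat.cast_pos.2 (Nat.mul_pos Nat.card_pos D.mod.prime_q.pos)
  have hP0 : (0 : ℝ) < (Nat.card P : ℝ) := Nat.cast_pos.2 Nat.card_pos
  have hS : (Nat.card S : ℝ) = (Nat.card P : ℝ) * ((Nat.card U * q : ℕ) : ℝ) := by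
    rw [D.card_S]
    push_cast
    ring
  rw [hS, mul_inv, mul_comm (Nat.card P : ℝ)⁻¹, mul_assoc]
  refine le_trans (le_of_eq ?_) (mul_le_mul_of_nonneg_left hfm (inv_pos.2 hm0).le)
  field_simp

end SideData

end CfsgLib.OddEnd
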