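import Cfsg.Agent.OddEnd.FourteenSwap

/-!
Peterfalvi section 14: the inequality between the array of a bridge and the inner products with the orthonormal
characters off the grid, and the case of equality.
-/

set_option autoImplicit false
set_option linter.unusedSectionVars false

namespace CfsgLib.OddEnd

open Subgroup CfsgLib.Char
open scoped ComplexConjugate

universe u

variable {G : Type u} [Group G] [Fintype G] {W₁ W₂ : Subgroup G}
variable {χ : (↥(W₁ ⊔ W₂) →* ℂˣ) → G → ℂ}

/-- Equality in Bessel's inequality. -/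
theorem grid_eq_of_norm [Fintype (Row W₁ W₂)] [Fintype (Col W₁ W₂)]
    (hχ : Cfsg.IsCyclicTIFamily W₁ W₂ χ) {A : Type*} [Fintype A] {θ : G → ℂ} {N : ℤ}
    (x : Row W₁ W₂ → Col W₁ W₂ → ℤ) (hx : ∀ r l, Cfsg.classInner θ (χ (cell r l)) = (x r l : ℂ))
    (f : A → G → ℂ) (hf1 : ∀ a, IsSignedIrr (f a)) (hf : ∀ a b, a ≠ b → Cfsg.classInner (f a) (f b) = 0)
    (hfχ : ∀ a ω, Cfsg.classInner (f a) (χ ω) = 0)
    (m : A → ℤ) (hm : ∀ a, Cfsg.classInner θ (f a) = (m a : ℂ)) (hN : Cfsg.classInner θ θ = (N : ℂ))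
    (hle : N ≤ ∑ l, ∑ r, x r l * x r l + ∑ a, m a * m a) (g : G) :
    θ g = ∑ l, ∑ r, (x r l : ℂ) * χ (cell r l) g + ∑ a, (m a : ℂ) * f a g := by
  classical
  let F : (Col W₁ W₂ × Row W₁ W₂) ⊕ A → G → ℂ := Sum.elim (fun c => χ (cell c.2 c.1)) f
  have horth : ∀ a b, Cfsg.classInner (F a) (F b) = if a = b then 1 else 0 := by
    rintro (⟨l, r⟩ | a) (⟨l', r'⟩ | b)
    · show Cfsg.classInner (χ (cell r l)) (χ (cell r' l')) = _
      rw [hχ.orthonormal]
      by_cases e : cell r l = cell r' l'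
      · rw [if_pos e, if_pos (by rw [(cell_injective e).1, (cell_injective e).2])]
      · rw [if_neg e, if_neg fun e' => e (by cases e'; rfl)]
    · show Cfsg.classInner (χ (cell r l)) (f b) = _
      rw [← classInner_conj, hfχ, map_zero, if_neg Sum.inl_ne_inr]
    · show Cfsg.classInner (f a) (χ (cell r' l')) = _
      rw [hfχ, if_neg Sum.inr_ne_inl]
    · show Cfsg.classInner (f a) (f b) = _
      by_cases e : a = b
      · subst e
        rw [IsSignedIrr.classInner_self (hf1 a), if_pos rfl]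
      · rw [hf a b e, if_neg fun e' => e (Sum.inr_injective e')]
  have hinj : Function.Injective F := fun a b e => by
    by_contra h
    have := horth a b
    rw [if_neg h, e, horth, if_pos rfl] at this
    exact one_ne_zero this
  let c : (Col W₁ W₂ × Row W₁ W₂) ⊕ A → ℤ := Sum.elim (fun d => x d.2 d.1) m
  have hc : ∀ a, Cfsg.classInner θ (F a) = (c a : ℂ) := by
    rintro (⟨l, r⟩ | a)
    · exact hx r l
    · exact hm a
  have heq := eq_sum_of_bessel_eq (Finset.univ.image F)
    (fun α hα β hβ => by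
      obtain ⟨a, -, rfl⟩ := Finset.mem_image.1 hα
      obtain ⟨b, -, rfl⟩ := Finset.mem_image.1 hβ
      rw [horth]
      by_cases e : a = b
      · rw [if_pos e, if_pos (congrArg F e)]
      · rw [if_neg e, if_neg fun e' => e (hinj e')]) θ ?_
  · conv_lhs => rw [heq]
    rw [Finset.sum_image fun a _ b _ e => hinj e, Finset.sum_apply, Fintype.sum_sum_type,
      Fintype.sum_prod_type]
    simp only [Pi.smul_apply, smul_eq_mul, F, Sum.elim_inl, Sum.elim_inr, hx, hm]
  · rw [Finset.sum_image fun a _ b _ e => hinj e, hN, Complex.intCast_re]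
    simp only [norm_classInner_int (hc _)]
    rw [← Int.cast_sum, Int.cast_le, Fintype.sum_sum_type, Fintype.sum_prod_type]
    simpa only [c, Sum.elim_inl, Sum.elim_inr] using hle

/-- The sum of the squares of an array with constant columns. -/
theorem array_sum [Fintype (Row W₁ W₂)] [Fintype (Col W₁ W₂)] [DecidableEq (Col W₁ W₂)]
    (hW : Cfsg.IsSelfNormalizingCyclic W₁ W₂) (t : Row W₁ W₂ → ℤ) (d : ℤ) :
    ∑ l : Col W₁ W₂, ∑ r, (t r + if l = col₀ then 0 else d - 1) * (t r + if l = col₀ then 0 else d - 1) =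
      ∑ r, (t r * t r + ((Nat.card W₂ : ℤ) - 1) * ((t r + d - 1) * (t r + d - 1))) := by
  rw [Finset.sum_comm]
  refine Finset.sum_congr rfl fun r _ => ?_
  rw [← Finset.add_sum_erase _ _ (Finset.mem_univ (col₀ : Col W₁ W₂)), if_pos rfl, add_zero,
    Finset.sum_congr rfl fun l hl => by rw [if_neg (Finset.ne_of_mem_erase hl)], Finset.sum_const,
    Finset.card_erase_of_mem (Finset.mem_univ _), Finset.card_univ, nsmul_eq_mul,
    ← Nat.card_eq_fintype_card, show Nat.card (Col W₁ W₂) = Nat.card W₂ from (card_trivL hW).1,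
    Nat.cast_sub Nat.card_pos, Nat.cast_one]
  ring

theorem sum_rows [Fintype (Row W₁ W₂)] [DecidableEq (Row W₁ W₂)]
    (hW : Cfsg.IsSelfNormalizingCyclic W₁ W₂) {t : Row W₁ W₂ → ℤ} {c : ℤ} (ht : ∀ r, r ≠ row₀ → t r = c)
    (F : ℤ → ℤ) : ∑ r, F (t r) = F (t row₀) + ((Nat.card W₁ : ℤ) - 1) * F c := by
  rw [← Finset.add_sum_erase _ _ (Finset.mem_univ (row₀ : Row W₁ W₂)),
    Finset.sum_congr rfl fun r hr => by rw [ht r (Finset.ne_of_mem_erase hr)], Finset.sum_const,
    Finset.card_erase_of_mem (Finset.mem_univ _), Finset.card_univ, nsmul_eq_mul,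
    ← Nat.card_eq_fintype_card, show Nat.card (Row W₁ W₂) = Nat.card W₁ from (card_trivL hW).2,
    Nat.cast_sub Nat.card_pos, Nat.cast_one]

/-- The own coefficients of a bridge are a unit when they have norm at most one. -/
theorem Family.own_unit {ι : Type u} [Fintype ι] (F : Family G ι) {m : ι → ℤ}
    (hm : ∀ i, Cfsg.classInner F.α (F.z i) = (m i : ℂ)) (h1 : ∑ i, m i * m i ≤ 1) :
    ∑ i, m i * F.r i = 1 ∨ ∑ i, m i * F.r i = -1 := by
  classical
  obtain ⟨m', hm', hpos⟩ := F.exists_self_coeff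
  have hmm : ∀ i, m' i = m i := fun i => by exact_mod_cast (hm' i).symm.trans (hm i)
  simp only [hmm] at hpos
  obtain ⟨j, hj⟩ : ∃ j, m j ≠ 0 := by
    by_contra hh
    push Not at hh
    simp [hh] at hpos
  have hone : ∀ i, i ≠ j → m i = 0 := fun i hi => by
    by_contra h
    have h2 := Finset.sum_le_sum_of_subset_of_nonneg (Finset.subset_univ {i, j})
      (fun a _ _ => mul_self_nonneg (m a))
    rw [Finset.sum_pair hi] at h2
    have := one_le_mul_self h
    have := one_le_mul_self hj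
    omega
  rw [Finset.sum_eq_single j (fun i _ hi => by rw [hone i hi, mul_zero]) (by simp)] at h1
  rw [Finset.sum_eq_single j (fun i _ hi => by rw [hone i hi, zero_mul]) (by simp)]
  have hjj1 : m j * m j = 1 := by have := one_le_mul_self hj; omega
  have hjj : m j = 1 ∨ m j = -1 := Int.eq_one_or_neg_one_of_mul_eq_one hjj1
  by_cases hji : j = F.i₀
  · rw [hji, F.r_i₀, mul_one]
    exact hji ▸ hjj
  · have h3 := F.α_diff j hji
    rw [classInner_sub_right, classInner_smul_right, hm, hm, hone F.i₀ (Ne.symm hji), Int.cast_zero,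
      mul_zero, sub_zero] at h3
    have h4 : m j = F.r j := by exact_mod_cast h3
    rw [← h4]
    left
    rcases hjj with e | e <;> rw [e] <;> norm_num

variable [Fintype (Row W₁ W₂)] [Fintype (Col W₁ W₂)]
variable {ι : Type u} [Fintype ι] {κ : Type u} [Fintype κ] {S P U : Subgroup G}

namespace Meets

variable {F : Family G ι} {I : SideImages χ S P U κ} (hM : Meets F I)
include hM

open scoped Classical in
/-- The basic inequality. -/
theorem master {A : Type u} [Fintype A] (f : A → G → ℂ) (hf1 : ∀ a, IsSignedIrr (f a))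
    (hf : ∀ a b, a ≠ b → Cfsg.classInner (f a) (f b) = 0) (hfχ : ∀ a ω, Cfsg.classInner (f a) (χ ω) = 0)
    (hfz : ∀ a i, Cfsg.classInner (f a) (F.z i) = 0) (hfl : ∀ a s, Cfsg.classInner (f a) (I.lam s) = 0)
    (b : A → ℤ) (hb : ∀ a, Cfsg.classInner F.α (f a) = (b a : ℂ))
    {t : Row W₁ W₂ → ℤ} {d : ℤ} (ht : ∀ r l, Cfsg.classInner F.α (χ (cell r l)) =
      ((t r + if l = col₀ then 0 else d - 1 : ℤ) : ℂ)) :
    ∃ m : ι → ℤ, (∀ i, Cfsg.classInner F.α (F.z i) = (m i : ℂ)) ∧ 1 ≤ ∑ i, m i * m i ∧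
      ∑ r, (t r * t r + ((Nat.card W₂ : ℤ) - 1) * ((t r + d - 1) * (t r + d - 1))) + ∑ i, m i * m i +
        (Fintype.card κ : ℤ) * ((∑ r, (t r + (d - 1))) * (∑ r, (t r + (d - 1)))) + ∑ a, b a * b a ≤
          (F.e : ℤ) + 1 := by
  obtain ⟨m, hm, hm1⟩ := F.exists_self_coeff
  refine ⟨m, hm, hm1, ?_⟩
  set M := ∑ r, (t r + (d - 1)) with hMdef
  have h := grid_bessel_index hM.family (fun r l => t r + if l = col₀ then 0 else d - 1) ht
    (Sum.elim (Sum.elim F.z I.lam) f)
    (by rintro ((i | s) | a) <;> [exact F.signed i; exact I.lam_signed s; exact hf1 a])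
    (by
      rintro ((i | s) | a) ((j | t') | b') hne <;> simp only [Sum.elim_inl, Sum.elim_inr]
      · exact F.orth i j fun e => hne (by rw [e])
      · exact hM.z_lam i t'
      · rw [← classInner_conj, hfz, map_zero]
      · rw [← classInner_conj, hM.z_lam, map_zero]
      · exact I.lam_orth s t' fun e => hne (by rw [e])
      · rw [← classInner_conj, hfl, map_zero]
      · exact hfz a j
      · exact hfl a t'
      · exact hf a b' fun e => hne (by rw [e]))
    (by
      rintro ((i | s) | a) ω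
      · exact hM.z_grid i ω
      · exact I.lam_grid s ω
      · exact hfχ a ω)
    (Sum.elim (Sum.elim m fun _ => M) b)
    (by rintro ((i | s) | a) <;> [exact hm i; exact hM.inner_lam ht s; exact hb a])
    (N := (F.e : ℤ) + 1) (by rw [F.α_norm]; push_cast; rfl)
  rw [array_sum hM.self, Fintype.sum_sum_type, Fintype.sum_sum_type] at h
  simp only [Sum.elim_inl, Sum.elim_inr, Finset.sum_const, Finset.card_univ, nsmul_eq_mul] at h
  omega

open scoped Classical in
/-- The inequality with an auxiliary family, for an array constant off the first row. -/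
theorem master_family {ι' : Type u} [Fintype ι'] {F' : Family G ι'} (hM' : Meets F' I)
    (hdis : Disjoint F'.X F.X) {a : ℤ}
    (ha : ∀ i, Cfsg.classInner F.α (F'.z i) = ((a * F'.r i : ℤ) : ℂ))
    {t : Row W₁ W₂ → ℤ} {c d : ℤ} (ht0 : t row₀ = 1) (hc : ∀ r, r ≠ row₀ → t r = c)
    (ht : ∀ r l, Cfsg.classInner F.α (χ (cell r l)) = ((t r + if l = col₀ then 0 else d - 1 : ℤ) : ℂ)) :
    ((Nat.card W₁ : ℤ) - 1) * (c * c) + ((Nat.card W₂ : ℤ) - 1) * (d * d) +
        ((Nat.card W₁ : ℤ) - 1) * ((Nat.card W₂ : ℤ) - 1) * ((c + d - 1) * (c + d - 1)) +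
        (Fintype.card κ : ℤ) * ((d + ((Nat.card W₁ : ℤ) - 1) * (c + d - 1)) *
          (d + ((Nat.card W₁ : ℤ) - 1) * (c + d - 1))) + a * a * F'.sq ≤ (F.e : ℤ) - 1 := by
  obtain ⟨m, -, hm1, h⟩ := hM.master F'.z F'.signed F'.orth hM'.z_grid
    (F.orth_family F' hdis) hM'.z_lam _ ha ht
  rw [sum_rows hM.self hc (fun x => x * x + ((Nat.card W₂ : ℤ) - 1) * ((x + d - 1) * (x + d - 1))),
    sum_rows hM.self hc (fun x => x + (d - 1)), ht0] at h
  have e : ∑ i, a * F'.r i * (a * F'.r i) = a * a * F'.sq := by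
    rw [Family.sq, Finset.mul_sum]
    exact Finset.sum_congr rfl fun i _ => by ring
  rw [e] at h
  linear_combination h + hm1

open scoped Classical in
/-- The inequality alone, for an array constant off the first row. -/
theorem master_const {t : Row W₁ W₂ → ℤ} {c d : ℤ} (ht0 : t row₀ = 1) (hc : ∀ r, r ≠ row₀ → t r = c)
    (ht : ∀ r l, Cfsg.classInner F.α (χ (cell r l)) = ((t r + if l = col₀ then 0 else d - 1 : ℤ) : ℂ)) :
    ((Nat.card W₁ : ℤ) - 1) * (c * c) + ((Nat.card W₂ : ℤ) - 1) * (d * d) +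
        ((Nat.card W₁ : ℤ) - 1) * ((Nat.card W₂ : ℤ) - 1) * ((c + d - 1) * (c + d - 1)) +
        (Fintype.card κ : ℤ) * ((d + ((Nat.card W₁ : ℤ) - 1) * (c + d - 1)) *
          (d + ((Nat.card W₁ : ℤ) - 1) * (c + d - 1))) ≤ (F.e : ℤ) - 1 := by
  obtain ⟨m, -, hm1, h⟩ := hM.master (A := PEmpty) PEmpty.elim nofun nofun nofun nofun nofun
    PEmpty.elim nofun ht
  rw [sum_rows hM.self hc (fun x => x * x + ((Nat.card W₂ : ℤ) - 1) * ((x + d - 1) * (x + d - 1))),
    sum_rows hM.self hc (fun x => x + (d - 1)), ht0] at h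
  simp only [Finset.univ_eq_empty, Finset.sum_empty, add_zero] at h
  linear_combination h + hm1

open scoped Classical in
/-- No array with odd column value when the index is `|W₂|` and images exist. -/
theorem absurd_of_prime_index [Nonempty κ] (he : F.e = Nat.card W₂) {t : Row W₁ W₂ → ℤ} {d : ℤ}
    (hd : Odd d) (ht0 : t row₀ = 1) (ht : ∀ r l, Cfsg.classInner F.α (χ (cell r l)) =
      ((t r + if l = col₀ then 0 else d - 1 : ℤ) : ℂ)) : False := by
  obtain ⟨m, -, hm1, h⟩ := hM.master (A := PEmpty) PEmpty.elim nofun nofun nofun nofun nofun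
    PEmpty.elim nofun ht
  simp only [Finset.univ_eq_empty (α := PEmpty), Finset.sum_empty, add_zero] at h
  rw [← Finset.add_sum_erase _ _ (Finset.mem_univ (row₀ : Row W₁ W₂)), ht0, he] at h
  refine array_absurd_prime (Finset.univ.erase (row₀ : Row W₁ W₂)) (p := (Nat.card W₂ : ℤ))
    (m' := (Fintype.card κ : ℤ)) (by have := hM.right; omega) hd t ?_
    (by exact_mod_cast Fintype.card_pos) (m := ∑ r, (t r + (d - 1))) ?_
  · rw [← Finset.add_sum_erase _ _ (Finset.mem_univ (row₀ : Row W₁ W₂)), ht0]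
    ring_nf
  · linear_combination h + hm1

open scoped Classical in
/-- A bridge of norm exhausted by the grid is, off the support, the array plus a unit multiple of the
distinguished member. -/
theorem eq_off_support {t : Row W₁ W₂ → ℤ} {d : ℤ}
    (ht : ∀ r l, Cfsg.classInner F.α (χ (cell r l)) = ((t r + if l = col₀ then 0 else d - 1 : ℤ) : ℂ))
    (hsum : (F.e : ℤ) ≤
      ∑ r, (t r * t r + ((Nat.card W₂ : ℤ) - 1) * ((t r + d - 1) * (t r + d - 1)))) :
    ∃ ε : ℂ, (ε = 1 ∨ ε = -1) ∧ ∀ g, g ∉ F.X →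
      ∑ l, ∑ r, ((t r + if l = col₀ then 0 else d - 1 : ℤ) : ℂ) * χ (cell r l) g = ε * F.z F.i₀ g := by
  obtain ⟨m, hm, hm1⟩ := F.exists_self_coeff
  have hx := fun r l => ht r l
  have hb := grid_bessel_index hM.family (fun r l => t r + if l = col₀ then 0 else d - 1) hx F.z
    F.signed F.orth hM.z_grid m hm (N := (F.e : ℤ) + 1) (by rw [F.α_norm]; push_cast; rfl)
  rw [array_sum hM.self] at hb
  have hm2 : ∑ i, m i * m i ≤ 1 := by omega
  have heq := grid_eq_of_norm hM.family (fun r l => t r + if l = col₀ then 0 else d - 1) hx F.z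
    F.signed F.orth hM.z_grid m hm (N := (F.e : ℤ) + 1) (by rw [F.α_norm]; push_cast; rfl)
    (by rw [array_sum hM.self]; omega)
  refine ⟨-((∑ i, m i * F.r i : ℤ) : ℂ), ?_, fun g hg => ?_⟩
  · rcases F.own_unit hm hm2 with e | e <;> rw [e] <;> simp
  · have h := heq g
    rw [F.α_off g hg, Finset.sum_congr rfl (g := fun i => ((m i * F.r i : ℤ) : ℂ) * F.z F.i₀ g)
      (fun i _ => by rw [F.z_off i g hg]; push_cast; ring), ← Finset.sum_mul, ← Int.cast_sum] at h
    linear_combination -h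

/-- A bridge of the side whose coefficient on the family exhausts its norm. -/
theorem β_eq_off_support {l : Col W₁ W₂} (hl : l ≠ col₀) {g₀ : ℤ}
    (hg : ∀ i, Cfsg.classInner (I.β l) (F.z i) = ((g₀ * F.r i : ℤ) : ℂ)) {k : ℕ}
    (hk : k * Nat.card W₁ + 1 = Nat.card U) (hsq : (k : ℤ) ≤ g₀ * g₀ * F.sq) {g : G} (hX : g ∉ F.X) :
    I.β l g = 1 - χ (cell row₀ l) g + ((g₀ * F.sq : ℤ) : ℂ) * F.z F.i₀ g := by
  classical
  obtain ⟨k', hk', hnorm⟩ := I.β_norm l hl
  have hkk : k' = k := by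
    have hpos : 0 < Nat.card W₁ := Nat.card_pos
    have := hk'.trans hk.symm
    exact Nat.eq_of_mul_eq_mul_right hpos (by omega)
  subst hkk
  obtain ⟨x, hx, h2, hex⟩ := hM.β_array hl
  have hN : Cfsg.classInner (I.β l) (I.β l) = (((k' : ℤ) + 2 : ℤ) : ℂ) := by rw [hnorm]; push_cast; rfl
  have e : ∑ i, g₀ * F.r i * (g₀ * F.r i) = g₀ * g₀ * F.sq := by
    rw [Family.sq, Finset.mul_sum]
    exact Finset.sum_congr rfl fun i _ => by ring
  have hb := grid_bessel_index hM.family x hx F.z F.signed F.orth hM.z_grid _ hg hN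
  rw [e] at hb
  obtain ⟨h00, h0l, h0⟩ := hex (by omega)
  have heq := grid_eq_of_norm hM.family x hx F.z F.signed F.orth hM.z_grid _ hg hN (by rw [e]; omega) g
  rw [heq, Finset.sum_congr rfl (g := fun i => ((g₀ * (F.r i * F.r i) : ℤ) : ℂ) * F.z F.i₀ g)
      (fun i _ => by rw [F.z_off i g hX]; push_cast; ring), ← Finset.sum_mul, ← Int.cast_sum,
    ← Finset.mul_sum, Finset.sum_comm, Finset.sum_eq_single (row₀ : Row W₁ W₂)
      (fun r _ hr => Finset.sum_eq_zero fun c _ => by rw [h0 r c fun e => hr e.1, Int.cast_zero, zero_mul])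
      (by simp), Finset.sum_eq_add (col₀ : Col W₁ W₂) l (Ne.symm hl)
      (fun c _ hc => by rw [h0 row₀ c fun e => e.2.elim hc.1 hc.2, Int.cast_zero, zero_mul])
      (by simp) (by simp), h00, h0l, cell_row₀ (col₀ : Col W₁ W₂),
    show ((col₀ : Col W₁ W₂).1 : ↥(W₁ ⊔ W₂) →* ℂˣ) = 1 from rfl, hM.family.map_one, Family.sq]
  push_cast
  ring

end Meets

end CfsgLib.OddEnd
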