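import Cfsg.Agent.OddEnd.FourteenBridge
import Cfsg.Agent.Char.Coherence
import Cfsg.Agent.Char.BrauerPerm

/-!
Peterfalvi section 14: the irreducible characters induced from `P`, the images of their differences with the
columns, and the array of such an image on the grid.
-/

set_option autoImplicit false
set_option linter.unusedSectionVars false
set_option linter.style.haveILetI false

namespace CfsgLib.OddEnd

open Subgroup CfsgLib.Char
open scoped ComplexConjugate

universe u

/-- An array with one marked column, of norm at most one more than the number of rows. -/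
theorem orb_rigid {R C : Type*} [Fintype R] [Fintype C] [DecidableEq R] [DecidableEq C] (r₀ : R) (c₀ l : C)
    (t : R → ℤ) (c : ℤ) (bar : R → R) (hbar : ∀ r, t (bar r) = t r) (hne : ∀ r, r ≠ r₀ → bar r ≠ r)
    (ht : t r₀ = 0) (hl : l ≠ c₀) (hC : 3 ≤ Fintype.card C) (hR : 2 ≤ Fintype.card R)
    (h : ∑ j, ∑ r, (t r + if j = c₀ then 0 else if j = l then c - 1 else c) *
      (t r + if j = c₀ then 0 else if j = l then c - 1 else c) ≤ (Fintype.card R : ℤ) + 1) :
    (∀ r, t r = 0) ∧ (c = 0 ∨ (c = 1 ∧ Fintype.card C = 3)) := by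
  set x : R → C → ℤ := fun r j => t r + if j = c₀ then 0 else if j = l then c - 1 else c with hx
  set g : R → ℤ := fun r => ∑ j, x r j * x r j with hg
  have hG : ∑ r, g r ≤ (Fintype.card R : ℤ) + 1 := by
    simp only [hg]
    rw [Finset.sum_comm]
    exact h
  set rest := ((Finset.univ : Finset C).erase c₀).erase l with hrest
  have hrc : rest.card = Fintype.card C - 2 := by
    rw [hrest, Finset.card_erase_of_mem (Finset.mem_erase.2 ⟨hl, Finset.mem_univ _⟩),
      Finset.card_erase_of_mem (Finset.mem_univ _), Finset.card_univ]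
    omega
  have hgr : ∀ r, g r = t r * t r + (t r + (c - 1)) * (t r + (c - 1)) +
      ((Fintype.card C - 2 : ℕ) : ℤ) * ((t r + c) * (t r + c)) := fun r => by
    simp only [hg]
    rw [← Finset.add_sum_erase _ _ (Finset.mem_univ c₀),
      ← Finset.add_sum_erase _ _ (Finset.mem_erase.2 ⟨hl, Finset.mem_univ l⟩), ← hrest,
      Finset.sum_congr rfl fun j hj => show x r j * x r j = (t r + c) * (t r + c) by
        simp only [hx, if_neg (Finset.ne_of_mem_erase hj),
          if_neg (Finset.ne_of_mem_erase (Finset.mem_of_mem_erase hj))],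
      Finset.sum_const, hrc, nsmul_eq_mul]
    simp only [hx, if_neg hl, if_true, add_zero]
    ring
  have hm : (1 : ℤ) ≤ ((Fintype.card C - 2 : ℕ) : ℤ) := by
    have : 1 ≤ Fintype.card C - 2 := by omega
    exact_mod_cast this
  set m : ℤ := ((Fintype.card C - 2 : ℕ) : ℤ)
  have hlow : ∀ r, 1 ≤ g r ∧ (t r ≠ 0 → 2 ≤ g r) := fun r => by
    have hb : 1 ≤ (t r + (c - 1)) * (t r + (c - 1)) + m * ((t r + c) * (t r + c)) := by
      by_cases h1 : t r + c = 0
      · rw [show t r + (c - 1) = -1 by omega, h1]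
        norm_num
      · have := one_le_mul_self h1
        nlinarith [mul_self_nonneg (t r + (c - 1))]
    rw [hgr r]
    exact ⟨by nlinarith [mul_self_nonneg (t r)], fun h0 => by have := one_le_mul_self h0; linarith⟩
  have ht0 : ∀ r, t r = 0 := by
    by_contra hh
    push Not at hh
    obtain ⟨r, hr⟩ := hh
    have hr0 : r ≠ r₀ := fun e => hr (e ▸ ht)
    have hpair : ({r, bar r} : Finset R).card = 2 := Finset.card_pair (hne r hr0).symm
    have h1 : ∑ s, ((1 : ℤ) + if s ∈ ({r, bar r} : Finset R) then 1 else 0) ≤ ∑ s, g s :=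
      Finset.sum_le_sum fun s _ => by
        split_ifs with hs
        · refine ((hlow s).2 ?_)
          rcases Finset.mem_insert.1 hs with rfl | hs
          · exact hr
          · rw [Finset.mem_singleton.1 hs, hbar]; exact hr
        · simpa using (hlow s).1
    rw [Finset.sum_add_distrib, Finset.sum_const, Finset.card_univ, nsmul_one, Finset.sum_boole,
      Finset.filter_mem_eq_inter, Finset.univ_inter, hpair] at h1
    push_cast at h1
    linarith
  refine ⟨ht0, ?_⟩
  simp only [hgr, ht0, zero_add, mul_zero, Finset.sum_const, Finset.card_univ, nsmul_eq_mul] at hG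
  have hR' : (2 : ℤ) ≤ Fintype.card R := by exact_mod_cast hR
  have h1 : (c - 1) * (c - 1) + m * (c * c) ≤ 1 := by
    by_contra hlt
    have h2 : 2 ≤ (c - 1) * (c - 1) + m * (c * c) := by omega
    nlinarith
  have hc : c = 0 ∨ c = 1 := by
    have : 0 ≤ (m - 1) * (c * c) := mul_nonneg (by linarith) (mul_self_nonneg c)
    have h2 : (c - 1) * (c - 1) + c * c ≤ 1 := by linarith
    have : c ≤ 1 := by nlinarith
    have : 0 ≤ c := by nlinarith
    omega
  refine hc.imp_right fun e => ⟨e, ?_⟩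
  subst e
  simp at h1
  have : Fintype.card C - 2 ≤ 1 := by simp only [m] at h1; exact_mod_cast h1
  omega

variable {G : Type u} [Group G]

/-- A column with the inverse character. -/
noncomputable def colInv {W₁ W₂ : Subgroup G} (l : Col W₁ W₂) : Col W₁ W₂ :=
  ⟨l.1⁻¹, fun w hw => by rw [MonoidHom.inv_apply, l.2 w hw, inv_one]⟩

/-- A row with the inverse character. -/
noncomputable def rowInv {W₁ W₂ : Subgroup G} (r : Row W₁ W₂) : Row W₁ W₂ :=
  ⟨r.1⁻¹, fun w hw => by rw [MonoidHom.inv_apply, r.2 w hw, inv_one]⟩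

theorem cell_rowInv_colInv {W₁ W₂ : Subgroup G} (r : Row W₁ W₂) (l : Col W₁ W₂) :
    cell (rowInv r) (colInv l) = (cell r l)⁻¹ := by
  refine MonoidHom.ext fun w => ?_
  simp only [cell, rowInv, colInv, MonoidHom.mul_apply, MonoidHom.inv_apply, mul_inv]

theorem colInv_colInv {W₁ W₂ : Subgroup G} (l : Col W₁ W₂) : colInv (colInv l) = l :=
  Subtype.ext (inv_inv l.1)

theorem rowInv_rowInv {W₁ W₂ : Subgroup G} (r : Row W₁ W₂) : rowInv (rowInv r) = r :=
  Subtype.ext (inv_inv r.1)

theorem colInv_col₀ {W₁ W₂ : Subgroup G} : colInv (col₀ : Col W₁ W₂) = col₀ :=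
  Subtype.ext (MonoidHom.ext fun w => by simp [colInv, col₀])

theorem colInv_ne {W₁ W₂ : Subgroup G} {l : Col W₁ W₂} (hl : l ≠ col₀) : colInv l ≠ col₀ := fun e =>
  hl (by rw [← colInv_colInv l, e, colInv_col₀])

/-- A character of odd order group with values in units, equal to its inverse, is trivial. -/
theorem hom_eq_one_of_inv_eq {H : Type u} [Group H] [Finite H] (hodd : Odd (Nat.card H)) {f : H →* ℂˣ}
    (h : f⁻¹ = f) : f = 1 := by
  refine MonoidHom.ext fun x => ?_
  obtain ⟨m, hm⟩ := hodd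
  have h2 : f x * f x = 1 := by
    conv_lhs => arg 1; rw [← h, MonoidHom.inv_apply]
    exact inv_mul_cancel _
  have h1 : f x ^ Nat.card H = 1 := by rw [← map_pow, pow_card_eq_one', map_one]
  rw [hm, pow_succ, pow_mul, sq, h2, one_pow, one_mul] at h1
  rw [MonoidHom.one_apply]
  exact h1

/-- An irreducible character of `S` induced from a linear character of `P`. -/
def IsOrb (S P : Subgroup G) [Fintype S] (f : S → ℂ) : Prop :=
  Cfsg.IsIrrCharacter S f ∧ ∃ φ : ↥(P.subgroupOf S) →* ℂˣ, f = indP S P φ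

/-- The image of an induced irreducible character minus a column. -/
noncomputable def orbImage {W₁ W₂ : Subgroup G} [Fintype G] (S P : Subgroup G) [Fintype S] [Fintype (Row W₁ W₂)]
    (μ : (↥(W₁ ⊔ W₂) →* ℂˣ) → S → ℂ) (l : Col W₁ W₂) (f : S → ℂ) : G → ℂ :=
  tiMap (bridgeSet S P W₁ W₂) S (f - colSum μ l)

theorem indP_inv {S P : Subgroup G} [Fintype S] (φ : ↥(P.subgroupOf S) →* ℂˣ) :
    Cfsg.conjFun (indP S P φ) = indP S P φ⁻¹ := by
  funext x
  show conj (indP S P φ x) = _
  rw [indP, ← conjAut_apply, indFun_map_ringEquiv]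
  congr 1
  funext y
  rw [lin, lin, conjAut_apply, MonoidHom.inv_apply]
  have := IsCharacter.apply_inv (isCharacter_ofHom φ) y
  rw [← this, map_inv]

theorem rowInv_ne [Finite G] {W₁ W₂ : Subgroup G} (hodd : Odd (Nat.card ↥(W₁ ⊔ W₂))) {r : Row W₁ W₂}
    (hr : r ≠ row₀) : rowInv r ≠ r := fun e =>
  hr (Subtype.ext (hom_eq_one_of_inv_eq hodd (congrArg Subtype.val e)))

theorem colInv_self_ne [Finite G] {W₁ W₂ : Subgroup G} (hodd : Odd (Nat.card ↥(W₁ ⊔ W₂))) {l : Col W₁ W₂}
    (hl : l ≠ col₀) : colInv l ≠ l := fun e =>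
  hl (Subtype.ext (hom_eq_one_of_inv_eq hodd (congrArg Subtype.val e)))

variable [Fintype G]

namespace SideData

variable {S K P U W₁ W₂ : Subgroup G} {p q : ℕ} (D : SideData S K P U W₁ W₂ p q) [Fintype S]
include D

theorem orb_off {f : S → ℂ} (hf : IsOrb S P f) {x : S} (hx : (x : G) ∉ P) : f x = 0 := by
  obtain ⟨φ, rfl⟩ := hf.2
  exact D.indP_off hx

theorem orb_one {f : S → ℂ} (hf : IsOrb S P f) : f 1 = ((Nat.card U * q : ℕ) : ℂ) := by
  obtain ⟨φ, rfl⟩ := hf.2
  exact D.indP_one φ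

theorem orb_conj {f : S → ℂ} (hf : IsOrb S P f) : IsOrb S P (Cfsg.conjFun f) := by
  refine ⟨IsIrrCharacter.conj hf.1, ?_⟩
  obtain ⟨φ, rfl⟩ := hf.2
  exact ⟨φ⁻¹, indP_inv φ⟩

theorem orb_conj_ne {f : S → ℂ} (hf : IsOrb S P f) : Cfsg.conjFun f ≠ f := fun e => by
  have h1 := eq_one_of_real_of_odd D.odd hf.1 fun g => Complex.conj_eq_iff_im.1 (congrFun e g)
  have h2 := D.orb_one hf
  rw [h1] at h2
  have : Nat.card U * q = 1 := by
    simp only at h2
    exact_mod_cast h2.symm
  exact D.mod.prime_q.ne_one (Nat.eq_one_of_mul_eq_one_left this)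

variable [Fintype (Row W₁ W₂)] {χ : (↥(W₁ ⊔ W₂) →* ℂˣ) → G → ℂ}
  {μ : (↥(W₁ ⊔ W₂) →* ℂˣ) → S → ℂ} {δ : (↥(W₁ ⊔ W₂) →* ℂˣ) → ℂ} (hμ : IsMuG S K W₁ W₂ μ δ)
include hμ

theorem orb_inner_μ {f : S → ℂ} (hf : IsOrb S P f) (ω : ↥(W₁ ⊔ W₂) →* ℂˣ) :
    Cfsg.classInner f (μ ω) = 0 := by
  refine IsIrrCharacter.classInner_of_ne hf.1 (hμ.irr ω) fun e => ?_
  obtain ⟨a, ha, ha1⟩ := (Subgroup.bot_or_exists_ne_one W₁).resolve_left D.primeDade.selfNorm.1
  have h1 := hμ.value ω ⟨a, D.W₁_le ha⟩ (mem_sup_left ha) fun h2 =>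
    ha1 (mem_bot.1 (D.primeDade.selfNorm.2.2.1 ▸ ⟨ha, h2⟩))
  rw [← e, D.orb_off hf fun hP => ha1 (D.left_not_P ha (D.P_le_K hP))] at h1
  refine mul_ne_zero ?_ (Units.ne_zero _) h1.symm
  rcases hμ.sign ω with h | h <;> rw [h] <;> norm_num

theorem orb_inner_colSum {f : S → ℂ} (hf : IsOrb S P f) (l : Col W₁ W₂) :
    Cfsg.classInner f (colSum μ l) = 0 := by
  rw [colSum, classInner_sum_right]
  exact Finset.sum_eq_zero fun r _ => D.orb_inner_μ hμ hf _

theorem μ_inner_colSum [DecidableEq (Col W₁ W₂)] (r : Row W₁ W₂) (j l : Col W₁ W₂) :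
    Cfsg.classInner (μ (cell r j)) (colSum μ l) = if j = l then 1 else 0 := by
  classical
  rw [colSum, classInner_sum_right, Finset.sum_congr rfl fun r' _ => D.μ_inner hμ r r' j l]
  by_cases h : j = l
  · simp [h]
  · simp [h]

theorem colSum_inner [DecidableEq (Col W₁ W₂)] (j l : Col W₁ W₂) :
    Cfsg.classInner (colSum μ j) (colSum μ l) = if j = l then (q : ℂ) else 0 := by
  conv_lhs => arg 1; rw [colSum]
  rw [classInner_sum_left, Finset.sum_congr rfl fun r _ => D.μ_inner_colSum hμ r j l]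
  split_ifs with h
  · rw [Finset.sum_const, Finset.card_univ, ← Nat.card_eq_fintype_card, (card_trivL D.primeDade.selfNorm).2,
      D.mod.card_W, nsmul_one]
  · simp

theorem conj_colSum (l : Col W₁ W₂) : Cfsg.conjFun (colSum μ l) = colSum μ (colInv l) := by
  funext x
  show conj _ = _
  simp only [colSum, Finset.sum_apply, map_sum]
  refine Fintype.sum_equiv ⟨rowInv, rowInv, rowInv_rowInv, rowInv_rowInv⟩ _ _ fun r => ?_
  show conj (μ (cell r l) x) = μ (cell (rowInv r) (colInv l)) x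
  rw [cell_rowInv_colInv, ← mapHom_conjAut, (hμ.map conjAut _).1]
  rfl

theorem orbSub_support {f : S → ℂ} (hf : IsOrb S P f) {l : Col W₁ W₂} (hl : l ≠ col₀) {x : S}
    (hx : (x : G) ∉ (P : Set G) \ {1}) : (f - colSum μ l) x = 0 := by
  rw [Pi.sub_apply, sub_eq_zero]
  by_cases hP : (x : G) ∈ P
  · have hx1 : x = 1 := Subtype.ext (by_contra fun h => hx ⟨hP, h⟩)
    rw [hx1, D.orb_one hf, D.colSum_one hμ hl]
  · rw [D.orb_off hf hP, D.colSum_zero hμ hl hP]

theorem orbSub_bridge {f : S → ℂ} (hf : IsOrb S P f) {l : Col W₁ W₂} (hl : l ≠ col₀) {x : S}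
    (hx : (x : G) ∉ bridgeSet S P W₁ W₂) : (f - colSum μ l) x = 0 :=
  D.orbSub_support hμ hf hl fun h => hx (Or.inl h)

theorem orbSub_class {f : S → ℂ} (hf : IsOrb S P f) (l : Col W₁ W₂) :
    Cfsg.IsClassFunction S (f - colSum μ l) := fun x y => by
  rw [Pi.sub_apply, Pi.sub_apply, IsIrrCharacter.isClassFunction hf.1 x y, D.colSum_class hμ l x y]

theorem orbImage_gen {f : S → ℂ} (hf : IsOrb S P f) {l : Col W₁ W₂} (hl : l ≠ col₀) :
    Cfsg.IsGeneralizedCharacter G (orbImage S P μ l f) :=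
  isGeneralized_tiMap D.dade (IsGeneralized.sub (IsIrrCharacter.isGeneralized hf.1)
    (isGeneralized_sum _ fun r _ => IsIrrCharacter.isGeneralized (hμ.irr _)))
    fun _ hx => D.orbSub_bridge hμ hf hl hx

theorem orbImage_off {f : S → ℂ} (hf : IsOrb S P f) {l : Col W₁ W₂} (hl : l ≠ col₀) {g : G}
    (hg : g ∉ conjSet ((P : Set G) \ {1})) : orbImage S P μ l f g = 0 :=
  tiMap_off_sub D.dade (D.orbSub_class hμ hf l) (fun _ hx => D.orbSub_support hμ hf hl hx) hg

theorem orbImage_inner [DecidableEq (S → ℂ)] {f f' : S → ℂ} (hf : IsOrb S P f) (hf' : IsOrb S P f')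
    {l : Col W₁ W₂} (hl : l ≠ col₀) :
    Cfsg.classInner (orbImage S P μ l f) (orbImage S P μ l f') = (if f = f' then 1 else 0) + (q : ℂ) := by
  classical
  rw [orbImage, orbImage, tiMap_inner D.dade (D.orbSub_class hμ hf l) (fun _ hx => D.orbSub_bridge hμ hf hl hx)
    (D.orbSub_class hμ hf' l), classInner_sub_left, classInner_sub_right, classInner_sub_right,
    D.orb_inner_colSum hμ hf l, D.colSum_inner hμ l l, if_pos rfl,
    ← classInner_conj f' (colSum μ l), D.orb_inner_colSum hμ hf' l, map_zero]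
  split_ifs with h
  · rw [h, IsIrrCharacter.classInner_self hf'.1]; ring
  · rw [IsIrrCharacter.classInner_of_ne hf.1 hf'.1 h]; ring

theorem orbImage_inner_one {f : S → ℂ} (hf : IsOrb S P f) {l : Col W₁ W₂} (hl : l ≠ col₀) :
    Cfsg.classInner (orbImage S P μ l f) (fun _ => (1 : ℂ)) = 0 := by
  classical
  rw [orbImage, tiMap_inner_one D.dade (D.orbSub_class hμ hf l) (fun _ hx => D.orbSub_bridge hμ hf hl hx),
    ← hμ.one.1, classInner_sub_left, D.orb_inner_μ hμ hf,
    show (1 : ↥(W₁ ⊔ W₂) →* ℂˣ) = cell row₀ col₀ from (cell_row₀ col₀).symm,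
    ← classInner_conj (μ (cell row₀ col₀)) (colSum μ l), D.μ_inner_colSum hμ, if_neg hl.symm, map_zero,
    sub_zero]

theorem orbImage_conj {f : S → ℂ} (hf : IsOrb S P f) (l : Col W₁ W₂) :
    Cfsg.conjFun (orbImage S P μ l f) = orbImage S P μ (colInv l) (Cfsg.conjFun f) := by
  rw [orbImage, orbImage, tiMap_conjFun D.dade (D.orbSub_class hμ hf l), ← D.conj_colSum hμ l]
  congr 1
  funext x
  simp [Cfsg.conjFun]

theorem orbImage_change (hχ : Cfsg.IsCyclicTIFamily W₁ W₂ χ) {f : S → ℂ} (hf : IsOrb S P f)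
    {j l : Col W₁ W₂} (hj : j ≠ col₀) (hl : l ≠ col₀) :
    orbImage S P μ j f = orbImage S P μ l f + (colSum χ l - colSum χ j) := by
  rw [← D.col_diff_image hμ hχ hl hj, orbImage, orbImage, eq_comm, ← eq_sub_iff_add_eq',
    ← tiMap_sub D.dade (D.orbSub_class hμ hf j) (D.orbSub_class hμ hf l)]
  congr 1
  funext x
  simp only [Pi.sub_apply]
  ring

omit D hμ in
theorem colSum_inner_cell (hχ : Cfsg.IsCyclicTIFamily W₁ W₂ χ) [DecidableEq (Col W₁ W₂)]
    (r : Row W₁ W₂) (j l : Col W₁ W₂) :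
    Cfsg.classInner (colSum χ l) (χ (cell r j)) = if j = l then 1 else 0 := by
  classical
  rw [colSum, classInner_sum_left, Finset.sum_congr rfl fun r' _ => hχ.orthonormal (cell r' l) (cell r j)]
  by_cases h : j = l
  · subst h
    rw [if_pos rfl]
    refine (Finset.sum_eq_single r (fun r' _ hr' => ?_) (fun h => absurd (Finset.mem_univ r) h)).trans (if_pos rfl)
    exact if_neg fun e => hr' (cell_injective e).1
  · rw [if_neg h]
    exact Finset.sum_eq_zero fun r' _ => if_neg fun e => h (cell_injective e).2.symm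

theorem family_conj (hχ : Cfsg.IsCyclicTIFamily W₁ W₂ χ) (ω : ↥(W₁ ⊔ W₂) →* ℂˣ) :
    Cfsg.conjFun (χ ω) = χ ω⁻¹ := funext fun g => by
  rw [← mapHom_conjAut, ← cyclicTI_map D.primeDade.selfNorm D.primeDade.odd hχ]
  rfl

theorem colSum_conj (hχ : Cfsg.IsCyclicTIFamily W₁ W₂ χ) (l : Col W₁ W₂) :
    Cfsg.conjFun (colSum χ l) = colSum χ (colInv l) := by
  funext x
  show conj _ = _
  simp only [colSum, Finset.sum_apply, map_sum]
  refine Fintype.sum_equiv ⟨rowInv, rowInv, rowInv_rowInv, rowInv_rowInv⟩ _ _ fun r => ?_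
  show conj (χ (cell r l) x) = χ (cell (rowInv r) (colInv l)) x
  rw [cell_rowInv_colInv, ← D.family_conj hμ hχ]
  rfl

/-- The array of an image: additive, and fixed up to a constant by the differences in one row. -/
theorem orb_array (hχ : Cfsg.IsCyclicTIFamily W₁ W₂ χ) [DecidableEq (Col W₁ W₂)] {f : S → ℂ}
    (hf : IsOrb S P f) {l : Col W₁ W₂} (hl : l ≠ col₀) :
    ∃ (t : Row W₁ W₂ → ℤ) (c : ℤ), t row₀ = 0 ∧ ∀ r j, Cfsg.classInner (orbImage S P μ l f) (χ (cell r j)) =
      ((t r + if j = col₀ then 0 else if j = l then c - 1 else c : ℤ) : ℂ) := by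
  classical
  obtain ⟨n, t, v, hn, ht, hv, hadd⟩ := grid_additive hχ (D.orbImage_gen hμ hf hl) fun w h1 h2 => by
    rw [orbImage, tiMap_self D.dade (D.orbSub_class hμ hf l) (a := ⟨w, D.primeDade.sup_le' w.2⟩)
      (D.primeDade.mixed w w.2 h1 h2)]
    exact D.orbSub_support hμ hf hl fun hm => h2 (D.W_inf_K w.2 (D.P_le_K hm.1))
  have hn0 : n = 0 := by
    rw [hχ.map_one, D.orbImage_inner_one hμ hf hl] at hn
    exact_mod_cast hn.symm
  subst hn0
  refine ⟨t, v l + 1, ht, fun r j => ?_⟩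
  rw [hadd]
  congr 2
  by_cases hj : j = col₀
  · rw [if_pos hj, hj, hv]
  rw [if_neg hj]
  by_cases hjl : j = l
  · rw [if_pos hjl, hjl, add_sub_cancel_right]
  rw [if_neg hjl]
  obtain ⟨hsup, him⟩ := D.col_pair hμ hχ row₀ hj hl
  have h1 : Cfsg.classInner (orbImage S P μ l f) (χ (cell row₀ j) - χ (cell row₀ l)) = 1 := by
    rw [← him, orbImage, tiMap_inner D.dade (D.orbSub_class hμ hf l) (fun _ hx => D.orbSub_bridge hμ hf hl hx)
      (fun x y => by rw [Pi.sub_apply, Pi.sub_apply, IsIrrCharacter.isClassFunction (hμ.irr _) x y,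
        IsIrrCharacter.isClassFunction (hμ.irr _) x y]),
      classInner_sub_left, classInner_sub_right, classInner_sub_right, D.orb_inner_μ hμ hf, D.orb_inner_μ hμ hf,
      ← classInner_conj (μ (cell row₀ j)) (colSum μ l), ← classInner_conj (μ (cell row₀ l)) (colSum μ l),
      D.μ_inner_colSum hμ, D.μ_inner_colSum hμ, if_neg hjl, if_pos rfl]
    simp
  rw [classInner_sub_right, hadd, hadd] at h1
  have h2 : t row₀ + v j - (t row₀ + v l) = 1 := by exact_mod_cast h1
  linarith

/-- The array of an image is minus the marked column, or, with three columns only, plus the other one. -/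
theorem orb_form (hχ : Cfsg.IsCyclicTIFamily W₁ W₂ χ) [DecidableEq (Col W₁ W₂)] {f : S → ℂ}
    (hf : IsOrb S P f) {l : Col W₁ W₂} (hl : l ≠ col₀) :
    (∀ r j, Cfsg.classInner (orbImage S P μ l f) (χ (cell r j)) = if j = l then -1 else 0) ∨
      (∀ r j, Cfsg.classInner (orbImage S P μ l f) (χ (cell r j)) = if j = colInv l then 1 else 0) := by
  classical
  haveI := Fintype.ofFinite (Col W₁ W₂)
  have hW := D.primeDade.selfNorm
  obtain ⟨t, c, ht, hx⟩ := D.orb_array hμ hχ hf hl
  have hf' := D.orb_conj hf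
  obtain ⟨t', c', -, hx'⟩ := D.orb_array hμ hχ hf' hl
  have htt : ∀ r, t' (rowInv r) = t r := fun r => by
    have h1 : Cfsg.classInner (Cfsg.conjFun (orbImage S P μ l f)) (χ (cell (rowInv r) col₀)) = (t r : ℂ) := by
      rw [show χ (cell (rowInv r) col₀) = Cfsg.conjFun (χ (cell r col₀)) by
        rw [D.family_conj hμ hχ, ← cell_rowInv_colInv, colInv_col₀], classInner_conjFun_conjFun, ← classInner_conj,
        hx, if_pos rfl, add_zero, map_intCast]
    rw [D.orbImage_conj hμ hf, D.orbImage_change hμ hχ hf' (colInv_ne hl) hl, classInner_add_left,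
      classInner_sub_left, colSum_inner_cell hχ, colSum_inner_cell hχ, if_neg hl.symm, if_neg (colInv_ne hl).symm,
      sub_zero, add_zero, hx', if_pos rfl, add_zero] at h1
    exact_mod_cast h1
  have hne : Cfsg.conjFun f ≠ f := D.orb_conj_ne hf
  set x : Row W₁ W₂ → Col W₁ W₂ → ℤ := fun r j =>
    (t r + if j = col₀ then 0 else if j = l then c - 1 else c) -
      (t' r + if j = col₀ then 0 else if j = l then c' - 1 else c') with hxdef
  have hb := grid_bessel' hχ (θ := orbImage S P μ l f - orbImage S P μ l (Cfsg.conjFun f)) (N := 2) x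
    (fun r j => by rw [classInner_sub_left, hx, hx', hxdef]; push_cast; ring) (by
      rw [classInner_sub_left, classInner_sub_right, classInner_sub_right, D.orbImage_inner hμ hf hf hl,
        D.orbImage_inner hμ hf hf' hl, D.orbImage_inner hμ hf' hf hl, D.orbImage_inner hμ hf' hf' hl,
        if_pos rfl, if_pos rfl, if_neg hne.symm, if_neg hne]
      push_cast
      ring)
  have hbar : ∀ r, t (rowInv r) = t r := fun r => by
    by_contra hr
    have hr0 : r ≠ row₀ := fun e => hr (by
      rw [e, show rowInv (row₀ : Row W₁ W₂) = row₀ from Subtype.ext (MonoidHom.ext fun w => by simp [rowInv, row₀])])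
    have hrne : rowInv r ≠ r := rowInv_ne D.primeDade.odd hr0
    have e1 : t' r = t (rowInv r) := by rw [← htt (rowInv r), rowInv_rowInv]
    have e2 : t' (rowInv r) = t r := htt r
    have hsub : ∀ j, x r j * x r j + x (rowInv r) j * x (rowInv r) j ≤ ∑ s, x s j * x s j := fun j => by
      rw [← Finset.sum_pair (f := fun s => x s j * x s j) hrne.symm]
      exact Finset.sum_le_sum_of_subset_of_nonneg (Finset.subset_univ _) fun _ _ _ => mul_self_nonneg _
    have h2 : ∑ s, x s col₀ * x s col₀ + ∑ s, x s l * x s l ≤ ∑ j, ∑ s, x s j * x s j := by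
      rw [← Finset.sum_pair (f := fun j => ∑ s, x s j * x s j) hl.symm]
      exact Finset.sum_le_sum_of_subset_of_nonneg (Finset.subset_univ _)
        fun _ _ _ => Finset.sum_nonneg fun _ _ => mul_self_nonneg _
    have h3 := hsub col₀
    have h4 := hsub l
    simp only [hxdef, if_true, if_neg hl, e1, e2, add_zero] at h3 h4 hb h2
    have hd : t (rowInv r) - t r ≠ 0 := sub_ne_zero.2 hr
    have h5 := one_le_mul_self hd
    nlinarith [mul_self_nonneg (c - c'), h5]
  have hR : Fintype.card (Row W₁ W₂) = q := by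
    rw [← Nat.card_eq_fintype_card, (card_trivL hW).2, D.mod.card_W]
  have hC : Fintype.card (Col W₁ W₂) = p := by
    rw [← Nat.card_eq_fintype_card, (card_trivL hW).1, D.card_W₂]
  have hp3 : 3 ≤ p := by
    rcases D.mod.prime_p.eq_two_or_odd with h | h
    · have := D.mod.odd_p; omega
    · have := D.mod.prime_p.two_le; omega
  have hnorm := D.orbImage_inner hμ hf hf hl
  rw [if_pos rfl] at hnorm
  obtain ⟨ht0, hc⟩ := orb_rigid row₀ col₀ l t c rowInv hbar (fun r hr => rowInv_ne D.primeDade.odd hr) ht hl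
    (by omega) (by rw [hR]; exact D.mod.prime_q.two_le)
    (grid_bessel' hχ _ hx (by rw [hnorm, hR]; push_cast; ring))
  rcases hc with rfl | ⟨rfl, hC3⟩
  · left
    intro r j
    rw [hx, ht0]
    by_cases hjl : j = l
    · subst hjl
      simp [hl]
    · by_cases hj : j = col₀ <;> simp [hjl, hj, hl.symm]
  · right
    intro r j
    rw [hx, ht0]
    have hall : ∀ j : Col W₁ W₂, j ≠ col₀ → j ≠ l → j = colInv l := fun j hj hjl => by
      by_contra hne'
      have h4 : 4 ≤ Fintype.card (Col W₁ W₂) := by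
        have := Finset.card_le_univ ({col₀, l, colInv l, j} : Finset (Col W₁ W₂))
        rw [Finset.card_insert_of_notMem (by simp [hl.symm, (colInv_ne hl).symm, Ne.symm hj]),
          Finset.card_insert_of_notMem (by simp [(colInv_self_ne D.primeDade.odd hl).symm, Ne.symm hjl]),
          Finset.card_pair (Ne.symm hne')] at this
        exact this
      omega
    by_cases hj : j = col₀
    · subst hj
      simp [(colInv_ne hl).symm]
    by_cases hjl : j = l
    · subst hjl
      simp [hj, (colInv_self_ne D.primeDade.odd hl).symm]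
    · simp [hj, hjl, hall j hj hjl, colInv_ne hl, colInv_self_ne D.primeDade.odd hl]

end SideData

end CfsgLib.OddEnd
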