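import Cfsg.Agent.OddEnd.Defs
import Cfsg.Agent.OddLocal.KappaScalar
import Cfsg.Agent.Solvable.CoprimeAbelian

/-!
Group-theoretic lemmas for the existence of the configuration of Peterfalvi 12.8: a fixed-point-free
group on a line or a plane, and the size of a moved abelian quotient.
-/

set_option autoImplicit false
set_option linter.style.haveILetI false
set_option linter.unusedSectionVars false

namespace CfsgLib.OddEnd

open Subgroup CfsgLib.OddLocal
open scoped commutatorElement

universe u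

variable {G : Type u} [Group G] [Finite G]

/-- A group normalizing a line of order `p` without fixing a point of it has order dividing `p - 1`. -/
theorem card_dvd_pred_of_line {p : ℕ} [hp : Fact p.Prime] {E : Subgroup G} {c : G} (hc : orderOf c = p)
    (hEc : E ≤ normalizer (zpowers c : Set G)) (hfpf : ∀ e ∈ E, Commute e c → e = 1) :
    Nat.card E ∣ p - 1 := by
  let φ : E →* MulAut ↥(zpowers c) := (normalizerMonoidHom (zpowers c)).comp (inclusion hEc)
  have hinj : Function.Injective φ := by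
    rw [← MonoidHom.ker_eq_bot_iff, eq_bot_iff_forall]
    intro e he
    have h := congrArg Subtype.val (DFunLike.congr_fun (MonoidHom.mem_ker.1 he) (⟨c, mem_zpowers c⟩ : zpowers c))
    exact Subtype.ext (hfpf e e.2 (mul_inv_eq_iff_eq_mul.1 h))
  have h := card_range_dvd φ
  have h' : Nat.card φ.range = Nat.card E := Nat.card_congr (Equiv.ofInjective φ hinj).symm
  have hd := φ.range.card_subgroup_dvd_card
  rw [h', IsCyclic.card_mulAut, Nat.card_zpowers, hc, Nat.totient_prime hp.out] at hd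
  exact hd

/-- A commutative group acting freely on a plane of order `p ^ 2`, no element but `1` normalizing the line
of `x`, has order dividing `p - 1` or `p + 1`. -/
theorem card_dvd_of_plane {p : ℕ} [hp : Fact p.Prime] {E A : Subgroup G} (hA : Cfsg.IsElementaryAbelian p A)
    (hA2 : Nat.card A = p ^ 2) (hEA : E ≤ normalizer (A : Set G)) (hEc : ∀ a ∈ E, ∀ b ∈ E, Commute a b)
    (hfpf : ∀ e ∈ E, ∀ a ∈ A, a ≠ 1 → Commute e a → e = 1) {x : G} (hxA : x ∈ A)
    (hx : ∀ e ∈ E, e * x * e⁻¹ ∈ zpowers x → e = 1) :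
    Nat.card E ∣ p - 1 ∨ Nat.card E ∣ p + 1 := by
  classical
  have hpow : ∀ a ∈ A, a ^ p = 1 := hA.2
  have hord : ∀ a ∈ A, a ≠ 1 → orderOf a = p := fun a ha ha1 => orderOf_eq_prime (hpow a ha) ha1
  have hcomm : ∀ a ∈ A, ∀ b ∈ A, Commute a b := fun a ha b hb =>
    congrArg Subtype.val (hA.1.is_comm.comm (⟨a, ha⟩ : A) ⟨b, hb⟩)
  by_cases hfix : ∃ e ∈ E, e ≠ 1 ∧ ∃ a ∈ A, a ≠ 1 ∧ e * a * e⁻¹ ∈ zpowers a
  · obtain ⟨e, he, he1, a, ha, ha1, hea⟩ := hfix
    by_cases hall : ∀ d ∈ E, d * a * d⁻¹ ∈ zpowers a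
    · refine Or.inl (card_dvd_pred_of_line (hord a ha ha1) (fun d hd => Uniq.mem_normalizer_of_map_le ?_)
        fun d hd h => hfpf d hd a ha ha1 h)
      rw [MonoidHom.map_zpowers, zpowers_le]
      exact hall d hd
    exfalso
    push Not at hall
    obtain ⟨d, hd, hda⟩ := hall
    obtain ⟨c, hc⟩ := Kap.exists_conj_pow hea
    set b := d * a * d⁻¹ with hb
    have hbA : b ∈ A := (mem_normalizer_iff.1 (hEA hd) a).1 ha
    have hbo : orderOf b = p := by rw [hb, ← hord a ha ha1]; exact (MulAut.conj d).orderOf_eq a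
    have hbc : e * b * e⁻¹ = b ^ c := by
      have hed : e * d = d * e := (hEc e he d hd).eq
      calc e * b * e⁻¹ = (e * d) * a * (e * d)⁻¹ := by rw [hb]; group
        _ = d * (e * a * e⁻¹) * d⁻¹ := by rw [hed]; group
        _ = b ^ c := by rw [hc]; exact map_pow (MulAut.conj d) a c
    have hsup : zpowers a ⊔ zpowers b = A := by
      have hle : zpowers a ⊔ zpowers b ≤ A := sup_le (zpowers_le.2 ha) (zpowers_le.2 hbA)
      refine eq_of_le_of_card_ge hle ?_
      obtain ⟨k, hk2, hk⟩ := (Nat.dvd_prime_pow hp.out).1 (hA2 ▸ card_dvd_of_le hle)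
      have hlt : zpowers a < zpowers a ⊔ zpowers b := lt_of_le_of_ne le_sup_left fun h =>
        hda (h ▸ mem_sup_right (mem_zpowers b))
      have h1 : p < p ^ k := by
        rw [← hk]
        calc p = Nat.card (zpowers a) := by rw [Nat.card_zpowers, hord a ha ha1]
          _ < _ := CfsgLib.Solvable.card_lt_of_lt hlt
      rw [hA2, hk]
      refine Nat.pow_le_pow_right hp.out.pos ?_
      by_contra hlt'
      exact absurd (Nat.pow_le_pow_right hp.out.pos (show k ≤ 1 by omega)) (by rw [pow_one]; omega)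
    obtain ⟨i, hi, j, hj, hij⟩ := (CfsgLib.Solvable.mem_sup_of_le_normalizer
      (fun z hz => centralizer_le_normalizer _ (mem_centralizer_iff.2 fun w hw =>
        (hcomm z (zpowers_le.2 ha hz) w (zpowers_le.2 hbA hw)).eq.symm))).1 (hsup.ge hxA)
    have hpc : ∀ {w z : G}, e * w * e⁻¹ = w ^ c → z ∈ zpowers w → e * z * e⁻¹ = z ^ c := by
      intro w z hw hz
      obtain ⟨n, rfl⟩ := mem_zpowers_iff.1 hz
      rw [show e * w ^ n * e⁻¹ = (e * w * e⁻¹) ^ n from map_zpow (MulAut.conj e) w n, hw, ← zpow_natCast,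
        ← zpow_mul, mul_comm, zpow_mul, zpow_natCast]
    refine he1 (hx e he ?_)
    have h : e * x * e⁻¹ = x ^ c := by
      rw [← hij, (hcomm i (zpowers_le.2 ha hi) j (zpowers_le.2 hbA hj)).mul_pow, ← hpc hc hi, ← hpc hbc hj]
      group
    rw [h]
    exact pow_mem (mem_zpowers x) c
  · push Not at hfix
    refine Or.inr ?_
    set T := {a : A // a ≠ 1}
    have hval : ∀ c : (ZMod p)ˣ, (c : ZMod p).val < p := fun c => ZMod.val_lt _
    have hv0 : ∀ c : (ZMod p)ˣ, (c : ZMod p).val ≠ 0 := fun c h => c.ne_zero ((ZMod.val_eq_zero _).1 h)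
    let f : E × (ZMod p)ˣ → A → A := fun g a =>
      ⟨(g.1 : G) * (a : G) ^ (g.2 : ZMod p).val * (g.1 : G)⁻¹,
        (mem_normalizer_iff.1 (hEA g.1.2) _).1 (pow_mem a.2 _)⟩
    have hne : ∀ (g : E × (ZMod p)ˣ) (a : A), a ≠ 1 → f g a ≠ 1 := by
      intro g a ha h
      have h1 : (a : G) ^ (g.2 : ZMod p).val = 1 := conj_eq_one_iff.1 (congrArg Subtype.val h)
      have h2 := hord a a.2 fun e => ha (Subtype.ext e)
      rw [← orderOf_dvd_iff_pow_eq_one, h2] at h1
      exact absurd (Nat.le_of_dvd (Nat.pos_of_ne_zero (hv0 g.2)) h1) (not_le.2 (hval g.2))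
    have hf1 : ∀ a : A, f 1 a = a := fun a => Subtype.ext (by
      show ((1 : E) : G) * (a : G) ^ ((1 : (ZMod p)ˣ) : ZMod p).val * ((1 : E) : G)⁻¹ = a
      rw [OneMemClass.coe_one, Units.val_one, ZMod.val_one, pow_one, one_mul, inv_one, mul_one])
    have hfm : ∀ (g g' : E × (ZMod p)ˣ) (a : A), f (g * g') a = f g (f g' a) := fun g g' a => Subtype.ext (by
      show ((g.1 * g'.1 : E) : G) * (a : G) ^ ((g.2 * g'.2 : (ZMod p)ˣ) : ZMod p).val * ((g.1 * g'.1 : E) : G)⁻¹ =
        (g.1 : G) * ((g'.1 : G) * (a : G) ^ (g'.2 : ZMod p).val * (g'.1 : G)⁻¹) ^ (g.2 : ZMod p).val * (g.1 : G)⁻¹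
      rw [show ((g'.1 : G) * (a : G) ^ (g'.2 : ZMod p).val * (g'.1 : G)⁻¹) ^ (g.2 : ZMod p).val =
        (g'.1 : G) * ((a : G) ^ (g'.2 : ZMod p).val) ^ (g.2 : ZMod p).val * (g'.1 : G)⁻¹
        from (map_pow (MulAut.conj (g'.1 : G)) _ _).symm, ← pow_mul, Units.val_mul, ZMod.val_mul, mul_comm
          (g'.2 : ZMod p).val, ← pow_eq_pow_mod _ (hpow a a.2), Subgroup.coe_mul]
      group)
    letI : MulAction (E × (ZMod p)ˣ) T :=
      { smul := fun g t => ⟨f g t.1, hne g t.1 t.2⟩
        one_smul := fun t => Subtype.ext (hf1 t.1)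
        mul_smul := fun g g' t => Subtype.ext (hfm g g' t.1) }
    have hfree : ∀ (g : E × (ZMod p)ˣ) (t : T), g • t = t → g = 1 := by
      intro g t ht
      have h : (g.1 : G) * (t.1 : G) ^ (g.2 : ZMod p).val * (g.1 : G)⁻¹ = (t.1 : G) :=
        congrArg (fun s : T => ((s.1 : A) : G)) ht
      set a : G := (t.1 : G)
      set k := (g.2 : ZMod p).val
      have ha1 : a ≠ 1 := fun e => t.2 (Subtype.ext e)
      have hao := hord a t.1.2 ha1
      have hkA : a ^ k ∈ A := pow_mem t.1.2 k
      have hk1 : a ^ k ≠ 1 := fun e => ha1 (by rw [← h, e, mul_one, mul_inv_cancel])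
      have hg1 : (g.1 : G) = 1 := by
        by_contra hne'
        refine hfix g.1 g.1.2 hne' (a ^ k) hkA hk1 ?_
        rw [h]
        have hz : zpowers (a ^ k) = zpowers a := eq_of_le_of_card_ge (zpowers_le.2 (pow_mem (mem_zpowers a) k))
          (by rw [Nat.card_zpowers, Nat.card_zpowers, hord _ hkA hk1, hao])
        rw [hz]
        exact mem_zpowers a
      rw [hg1, one_mul, inv_one, mul_one] at h
      refine Prod.ext (Subtype.ext hg1) (Units.ext (ZMod.val_injective p ?_))
      show k = ((1 : (ZMod p)ˣ) : ZMod p).val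
      rw [Units.val_one, ZMod.val_one]
      have h2 := pow_eq_pow_iff_modEq.1 (show a ^ k = a ^ 1 by rw [h, pow_one])
      rw [hao] at h2
      exact Nat.ModEq.eq_of_lt_of_lt h2 (hval g.2) hp.out.one_lt
    have hd : Nat.card (E × (ZMod p)ˣ) ∣ Nat.card T := by
      rw [Nat.card_congr (MulAction.selfEquivOrbitsQuotientProd (fun t => (eq_bot_iff_forall _).2
        fun g hg => hfree g t hg)), Nat.card_prod (Quotient _)]
      exact Dvd.intro_left _ rfl
    have hT : Nat.card T = (p + 1) * (p - 1) := by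
      haveI := Fintype.ofFinite A
      rw [Nat.card_eq_fintype_card, Fintype.card_subtype_compl, Fintype.card_subtype_eq,
        ← Nat.card_eq_fintype_card, hA2, ← Nat.sq_sub_sq, one_pow]
    rw [Nat.card_prod, hT, Nat.card_eq_fintype_card (α := (ZMod p)ˣ), ZMod.card_units] at hd
    exact (Nat.mul_dvd_mul_iff_right (by have := hp.out.two_le; omega)).1 hd

/-- An element of order `p` moving a point of `K / K'` forces `|K : K'| ≥ p + 1`. -/
theorem succ_le_derived_relIndex {p : ℕ} [hp : Fact p.Prime] {K : Subgroup G} {b : G}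
    (hb : b ∈ normalizer (K : Set G)) (hbp : b ^ p = 1) (hpK : ¬ p ∣ Nat.card K) {k : G} (hk : k ∈ K)
    (hmove : k⁻¹ * (b * k * b⁻¹) ∉ ⁅K, K⁆) : p + 1 ≤ ⁅K, K⁆.relIndex K := by
  let F : MulAut K →* Equiv.Perm (Abelianization K) :=
    { toFun := fun f => (MulEquiv.abelianizationCongr f).toEquiv
      map_one' := Equiv.ext fun x => by
        induction x using QuotientGroup.induction_on with | H z => rfl
      map_mul' := fun f g => Equiv.ext fun x => by
        induction x using QuotientGroup.induction_on with | H z => rfl }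
  set φ := F (normalizerMonoidHom K ⟨b, hb⟩) with hφ
  have hφp : φ ^ p = 1 := by
    rw [hφ, ← map_pow, ← map_pow, show (⟨b, hb⟩ : normalizer (K : Set G)) ^ p = 1 from Subtype.ext (by
      rw [SubmonoidClass.coe_pow]; exact hbp), map_one, map_one]
  have hφ1 : φ ≠ 1 := fun h => hmove (by
    have hbk : b * k * b⁻¹ ∈ K := (mem_normalizer_iff.1 hb k).1 hk
    have h1 : (QuotientGroup.mk (⟨b * k * b⁻¹, hbk⟩ : K) : K ⧸ commutator K) = QuotientGroup.mk ⟨k, hk⟩ :=
      Equiv.ext_iff.1 h (Abelianization.of ⟨k, hk⟩)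
    have h2 : (⟨k, hk⟩ : K)⁻¹ * ⟨b * k * b⁻¹, hbk⟩ ∈ commutator K := QuotientGroup.eq.1 h1.symm
    rw [← map_subtype_commutator]
    exact ⟨_, h2, rfl⟩)
  have hn : ⁅K, K⁆.relIndex K = Nat.card (Abelianization K) := by
    rw [relIndex, ← map_subtype_commutator, ← comap_subtype, comap_map_eq_self_of_injective K.subtype_injective]
    exact index_eq_card _
  rw [hn]
  have hd : p ∣ (Nat.card (Abelianization K)).factorial := by
    rw [← Nat.card_perm, ← orderOf_eq_prime hφp hφ1]
    exact orderOf_dvd_natCard φ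
  have hle := (Nat.Prime.dvd_factorial hp.out).1 hd
  have hne : p ≠ Nat.card (Abelianization K) := fun e => hpK (by
    rw [e]; exact (commutator K).card_quotient_dvd_card)
  omega

end CfsgLib.OddEnd
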