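import Cfsg.Agent.OddEnd.Defs
import Cfsg.Agent.OddEnd.WitnessExistsBasic
import Cfsg.Agent.OddLocal.KappaTypeFive
import Cfsg.Agent.OddLocal.KappaTypeCore
import Cfsg.Agent.OddLocal.KappaDade
import Cfsg.Agent.S1357
import Cfsg.Agent.S1382

/-!
Common facts for the local rows of the odd order theorem once every maximal subgroup with empty `κ` is known
to be a Frobenius group.
-/

set_option autoImplicit false
set_option linter.style.haveILetI false
set_option linter.unusedSectionVars false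

namespace CfsgLib.OddEnd.Rows

open Subgroup CfsgLib.OddLocal
open scoped commutatorElement

universe u

variable {G : Type u} [Group G] [Finite G]

theorem complIn_swap {A B M : Subgroup G} (h : Cfsg.IsComplIn A B M) (hn : A ≤ normalizer (B : Set G)) :
    Cfsg.IsComplIn B A M := by
  obtain ⟨hA, hB, hd, hm⟩ := h
  refine ⟨hB, hA, by rw [inf_comm, hd], fun m hmM => ?_⟩
  obtain ⟨a, ha, b, hb, rfl⟩ := hm m hmM
  exact ⟨a * b * a⁻¹, (mem_normalizer_iff.1 (hn ha) b).1 hb, a, ha, by group⟩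

theorem fittingHall_index (M : Subgroup G) :
    (Cfsg.fittingHallOf M).relIndex M = (Cfsg.fittingHall ↥M).index := by
  rw [Cfsg.fittingHallOf, Subgroup.relIndex, Subgroup.subgroupOf,
    comap_map_eq_self_of_injective M.subtype_injective]

theorem exponent_quotient_dvd (M : Subgroup G) :
    Monoid.exponent (↥M ⧸ Cfsg.fittingHall ↥M) ∣ (Cfsg.fittingHallOf M).relIndex M := by
  rw [fittingHall_index]
  exact Group.exponent_dvd_nat_card

/-- An element of a cyclic group normalized by `M` gives a line normalized by `M`. -/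
theorem exists_line {M C : Subgroup G} {q : ℕ} [Fact q.Prime] (hC : IsCyclic C)
    (hn : M ≤ normalizer (C : Set G)) (hq : q ∣ Nat.card C) :
    ∃ c ∈ C, orderOf c = q ∧ M ≤ normalizer (zpowers c : Set G) := by
  obtain ⟨c, hc⟩ := exists_prime_orderOf_dvd_card' (G := C) q hq
  exact ⟨c, c.2, by rw [Subgroup.orderOf_coe, hc], hn.trans (UTool.normalizer_le_normalizer_zpowers hC c.2)⟩

/-- A group acting freely on a line is commutative. -/
theorem commute_of_line {E : Subgroup G} {c : G} (hEc : E ≤ normalizer (zpowers c : Set G))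
    (hfpf : ∀ e ∈ E, Commute e c → e = 1) : IsMulCommutative E := by
  have hpow : ∀ e ∈ E, ∃ k : ℕ, e * c * e⁻¹ = c ^ k := fun e he =>
    Kap.exists_conj_pow ((mem_normalizer_iff.1 (hEc he) c).1 (mem_zpowers c))
  refine ⟨⟨fun a b => Subtype.ext ?_⟩⟩
  obtain ⟨i, hi⟩ := hpow a a.2
  obtain ⟨j, hj⟩ := hpow b b.2
  have h1 : (a : G) * b * c * ((a : G) * b)⁻¹ = c ^ (i * j) := by
    calc (a : G) * b * c * ((a : G) * b)⁻¹ = (a : G) * ((b : G) * c * (b : G)⁻¹) * (a : G)⁻¹ := by group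
      _ = ((a : G) * c * (a : G)⁻¹) ^ j := by rw [hj]; exact map_pow (MulAut.conj (a : G)) c j
      _ = c ^ (i * j) := by rw [hi, pow_mul]
  have h2 : (b : G) * a * c * ((b : G) * a)⁻¹ = c ^ (i * j) := by
    calc (b : G) * a * c * ((b : G) * a)⁻¹ = (b : G) * ((a : G) * c * (a : G)⁻¹) * (b : G)⁻¹ := by group
      _ = ((b : G) * c * (b : G)⁻¹) ^ i := by rw [hi]; exact map_pow (MulAut.conj (b : G)) c i
      _ = c ^ (i * j) := by rw [hj, ← pow_mul, mul_comm]
  have h3 := hfpf (((b : G) * a)⁻¹ * ((a : G) * b)) (E.mul_mem (E.inv_mem (E.mul_mem b.2 a.2)) (E.mul_mem a.2 b.2))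
    (by
      show ((b : G) * a)⁻¹ * ((a : G) * b) * c = c * (((b : G) * a)⁻¹ * ((a : G) * b))
      calc ((b : G) * a)⁻¹ * ((a : G) * b) * c =
          ((b : G) * a)⁻¹ * ((a : G) * b * c * ((a : G) * b)⁻¹) * ((a : G) * b) := by group
        _ = ((b : G) * a)⁻¹ * ((b : G) * a * c * ((b : G) * a)⁻¹) * ((a : G) * b) := by rw [h1, h2]
        _ = c * (((b : G) * a)⁻¹ * ((a : G) * b)) := by group)
  exact (inv_mul_eq_one.1 h3).symm

variable (hG : Cfsg.IsMinSimpleOddOrder G)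
include hG

theorem exists_compl {M : Subgroup G} (hM : IsCoatom M) :
    ∃ E : Subgroup G, Cfsg.IsComplIn E (Cfsg.sigmaCore M) M := by
  obtain ⟨E, hE, -⟩ := Tau.exists_complement_of hG hM (X := ⊥) bot_le fun q hq h => by
    rw [card_bot, Nat.dvd_one] at h; exact absurd h hq.ne_one
  exact ⟨E, hE⟩

theorem sigma_disjoint {S T : Subgroup G} (hS : IsCoatom S) (hT : IsCoatom T)
    (hnc : ∀ g : G, T.map (MulAut.conj g).toMonoidHom ≠ S) {p : ℕ} [Fact p.Prime] (hp : p ∈ Cfsg.sigma S) :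
    p ∉ Cfsg.sigma T := fun h => by
  obtain ⟨g, hg⟩ := Kap.conj_of_common hG hT hS h hp
  exact hnc g hg.symm

theorem kappa_empty_iff {M K U : Subgroup G} (hM : IsCoatom M) (hKU : Cfsg.IsSigmaDecomposition M K U) :
    Cfsg.kappa M = ∅ ↔ K = ⊥ := by
  have h := Kap.kappa_nonempty_iff hG hM hKU
  rw [Set.nonempty_iff_ne_empty] at h
  exact not_iff_not.1 h

theorem fittingHallOf_of_empty {M : Subgroup G} (hM : IsCoatom M) (hκ : Cfsg.kappa M = ∅) :
    Cfsg.fittingHallOf M = Cfsg.sigmaCore M := by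
  obtain ⟨K, U, hKU⟩ := Kap.exists_decomp_any hG hM
  exact Kap.fittingHallOf_eq_of_bot hG hM hKU ((kappa_empty_iff hG hM hKU).1 hκ)

theorem nilpotent_of_empty {M : Subgroup G} (hM : IsCoatom M) (hκ : Cfsg.kappa M = ∅) :
    Group.IsNilpotent (Cfsg.sigmaCore M) :=
  fittingHallOf_of_empty hG hM hκ ▸ FittingHall.nilpotent_of M

theorem kappa_empty_of_typeI {M : Subgroup G} (hM : IsCoatom M) (hI : Cfsg.IsOfTypeI M) :
    Cfsg.kappa M = ∅ := by
  obtain ⟨K, U, hKU⟩ := Kap.exists_decomp_any hG hM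
  exact (kappa_empty_iff hG hM hKU).2 (Kap.bot_of_typeF hG hM hKU hI.1)

omit hG in
/-- Only the identity of a complement commutes with a nontrivial element of the kernel. -/
theorem compl_fpf {M E : Subgroup G} (hFM : KernelFrobenius M) (hE : Cfsg.IsComplIn E (Cfsg.sigmaCore M) M) {e y : G}
    (he : e ∈ E) (hy : y ∈ Cfsg.sigmaCore M) (hy1 : y ≠ 1) (hey : Commute e y) : e = 1 :=
  Subgroup.mem_bot.1 (hE.2.2.1.le ⟨he, hFM y hy hy1 ⟨hE.1 he, mem_centralizer_singleton_iff.2 hey.eq⟩⟩)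

theorem typeCore_eq {M : Subgroup G} (hM : IsCoatom M) : Cfsg.typeCore M = Cfsg.sigmaCore M := by
  refine le_antisymm (Kap.typeCore_hall hG hM).1 ?_
  unfold Cfsg.typeCore
  split_ifs with h
  · exact (Sig.sigma_core hG hM).2.2
  · obtain ⟨K, U, hKU⟩ := Kap.exists_decomp_any hG hM
    by_contra hle
    have hne : Cfsg.fittingHallOf M ≠ Cfsg.sigmaCore M := fun e => hle e.ge
    exact h ((Cfsg.Agent.S1382.result hG M hM K U hKU).2
      ⟨fun e => hne (Kap.fittingHallOf_eq_of_bot hG hM hKU e),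
        (Cfsg.Agent.S1357.result hG M hM K U hKU hne).1, hne⟩)

theorem typeA1_eq {M : Subgroup G} (hM : IsCoatom M) :
    Cfsg.typeA1 M = (Cfsg.sigmaCore M : Set G) \ {1} := by rw [Cfsg.typeA1, typeCore_eq hG hM]

/-- `A(M)` without a case distinction on the type. -/
theorem mem_typeA_iff (hF : EmptyKappaFrobenius G) {M : Subgroup G} (hM : IsCoatom M) {a : G} :
    a ∈ Cfsg.typeA M ↔
      a ∈ ⁅M, M⁆ ∧ a ≠ 1 ∧ ∃ x ∈ Cfsg.sigmaCore M, x ≠ 1 ∧ a * x = x * a := by
  by_cases hI : Cfsg.IsOfTypeI M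
  · have hκ := kappa_empty_of_typeI hG hM hI
    simp only [Cfsg.typeA, if_pos hI, fittingHallOf_of_empty hG hM hκ, Set.mem_ofPred_eq]
    constructor
    · rintro ⟨haM, ha1, x, hx, hx1, he⟩
      exact ⟨(Sig.sigma_core hG hM).2.2 (hF M hM hκ x hx hx1 ⟨haM, mem_centralizer_singleton_iff.2 he⟩), ha1,
        x, hx, hx1, he⟩
    · rintro ⟨ha, h⟩
      exact ⟨Kap.commutator_le_self' M ha, h⟩
  · simp only [Cfsg.typeA, if_neg hI, typeCore_eq hG hM, Set.mem_ofPred_eq]

/-- `A(M)` moves with `M`. -/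
theorem typeA_map (hF : EmptyKappaFrobenius G) {M : Subgroup G} (hM : IsCoatom M) {a : G}
    (ha : a ∈ Cfsg.typeA M) (g : G) :
    g * a * g⁻¹ ∈ Cfsg.typeA (M.map (MulAut.conj g).toMonoidHom) := by
  obtain ⟨haD, ha1, x, hx, hx1, he⟩ := (mem_typeA_iff hG hF hM).1 ha
  refine (mem_typeA_iff hG hF (Uniq.coatom_conj hM g)).2
    ⟨?_, fun h => ha1 (conj_eq_one_iff.1 h), g * x * g⁻¹, Kap.mem_sigmaCore_conj hG hM hx g,
      fun h => hx1 (conj_eq_one_iff.1 h), ((show Commute a x from he).map (MulAut.conj g).toMonoidHom).eq⟩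
  rw [← map_commutator]
  exact mem_map_of_mem (MulAut.conj g).toMonoidHom haD

end CfsgLib.OddEnd.Rows
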