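import Cfsg.Agent.OddEnd.FourteenSide
import Cfsg.Agent.OddEnd.FourteenCount
import Cfsg.Agent.OddEnd.HatDade
import Cfsg.Agent.OddEnd.LocalRowsBasic

/-!
Peterfalvi 14: separation of the two sides of a pair from the subgroups of type I, and the subgroup over `N(U)`.
-/

set_option autoImplicit false
set_option linter.unusedSectionVars false

namespace CfsgLib.OddEnd

open Subgroup Cfsg CfsgLib.OddLocal

universe u

variable {G : Type u} [Group G] [Finite G]

/-- `M_F` is carried along by conjugation, one inclusion. -/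
theorem fittingHallOf_conj_le (M : Subgroup G) (g : G) :
    (Cfsg.fittingHallOf M).map (MulAut.conj g).toMonoidHom ≤
      Cfsg.fittingHallOf (M.map (MulAut.conj g).toMonoidHom) := by
  have hinj : Function.Injective (MulAut.conj g).toMonoidHom := (MulAut.conj g).injective
  refine FittingHall.le_of (map_mono (FittingHall.of_le M)) ?_
    (CfsgLib.CN.nilpotent_map (FittingHall.nilpotent_of M) _) ?_
  · exact (map_mono (FittingHall.le_normalizer_of M)).trans (le_normalizer_map _)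
  · rw [card_map_of_injective hinj, relIndex_map_map_of_injective _ _ hinj]
    exact FittingHall.coprime_relIndex M

theorem card_fittingHallOf_conj (M : Subgroup G) (g : G) :
    Nat.card (Cfsg.fittingHallOf (M.map (MulAut.conj g).toMonoidHom)) = Nat.card (Cfsg.fittingHallOf M) := by
  refine le_antisymm ?_ ?_
  · have h := fittingHallOf_conj_le (M.map (MulAut.conj g).toMonoidHom) g⁻¹
    rw [Uniq.map_conj_inv] at h
    have := Nat.le_of_dvd Nat.card_pos (card_dvd_of_le h)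
    rwa [card_map_of_injective (MulAut.conj g⁻¹).injective] at this
  · have := Nat.le_of_dvd Nat.card_pos (card_dvd_of_le (fittingHallOf_conj_le M g))
    rwa [card_map_of_injective (MulAut.conj g).injective] at this

theorem not_conj_symm {M N : Subgroup G} (h : ∀ g : G, N ≠ M.map (MulAut.conj g).toMonoidHom) :
    ∀ g : G, M ≠ N.map (MulAut.conj g).toMonoidHom := fun g e =>
  h g⁻¹ (by rw [e, Uniq.map_conj_inv])

theorem pow_mem_bridgeSet {S P W₁ W₂ : Subgroup G} {t : ℕ} (ht : t.Coprime (Nat.card G)) {a : G}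
    (ha : a ∈ bridgeSet S P W₁ W₂) : a ^ t ∈ bridgeSet S P W₁ W₂ := by
  rcases ha with ⟨haP, ha1⟩ | ⟨m, hm, w, hw, hw1, hw2, rfl⟩
  · exact Or.inl ⟨pow_mem haP t, fun e => ha1 ((powCoprime (Nat.coprime_comm.1 ht)).injective
      (show a ^ t = (1 : G) ^ t by rw [Set.mem_singleton_iff.1 e, one_pow]))⟩
  · have hwt : w ^ t ∈ (↑(W₁ ⊔ W₂) : Set G) \ (↑W₁ ∪ ↑W₂) :=
      pow_mem_mixed ht ⟨hw, fun h => h.elim hw1 hw2⟩
    exact Or.inr ⟨m, hm, w ^ t, hwt.1, fun h => hwt.2 (Or.inl h), fun h => hwt.2 (Or.inr h), conj_pow⟩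

theorem pow_mem_punctured {P : Subgroup G} {t : ℕ} (ht : t.Coprime (Nat.card G)) {a : G}
    (ha : a ∈ (P : Set G) \ {1}) : a ^ t ∈ (P : Set G) \ {1} :=
  ⟨pow_mem ha.1 t, fun e => ha.2 ((powCoprime (Nat.coprime_comm.1 ht)).injective
    (show a ^ t = (1 : G) ^ t by rw [Set.mem_singleton_iff.1 e, one_pow]))⟩

namespace PairData

variable {S T W₁ W₂ U V : Subgroup G} (h : PairData S T W₁ W₂ U V)
variable (hG : Cfsg.IsMinSimpleOddOrder G) (h13 : UptoThirteen G)
include h hG h13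

theorem not_conj_typeI {L : Subgroup G} (hL : IsCoatom L) (hI : Cfsg.IsOfTypeI L) :
    (∀ g : G, L ≠ S.map (MulAut.conj g).toMonoidHom) ∧ ∀ g : G, S ≠ L.map (MulAut.conj g).toMonoidHom := by
  have key : ∀ g : G, L ≠ S.map (MulAut.conj g).toMonoidHom := by
    intro g e
    have hfr := h13.upto12.frob L hL (Rows.kappa_empty_of_typeI hG hL hI)
    obtain ⟨U₀, hd, -, -, -⟩ := h.decomp hG h13.upto12
    obtain ⟨w, hw, hw1⟩ := h.exists_left
    obtain ⟨y, hy, hy1⟩ := (Subgroup.bot_or_exists_ne_one W₂).resolve_left h.typeP_S.selfNormalizing.2.1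
    have hy' : g * y * g⁻¹ ∈ Cfsg.sigmaCore L :=
      e ▸ Kap.mem_sigmaCore_conj hG h.coatom_S (Kap.fittingHallOf_le_sigmaCore hG h.coatom_S (h.right_le_H hy)) g
    have hw' : g * w * g⁻¹ ∈ Cfsg.sigmaCore L :=
      hfr _ hy' (fun e1 => hy1 (conj_eq_one_iff.1 e1)) ⟨e ▸ ⟨w, h.left_le hw, rfl⟩,
        mem_centralizer_singleton_iff.2 (by
          calc g * w * g⁻¹ * (g * y * g⁻¹) = g * (w * y) * g⁻¹ := by group
            _ = g * y * g⁻¹ * (g * w * g⁻¹) := by rw [h.left_centralizes hw hy]; group)⟩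
    have hwS := Kap.mem_sigmaCore_conj hG hL hw' g⁻¹
    rw [e, Uniq.map_conj_inv, show g⁻¹ * (g * w * g⁻¹) * g⁻¹⁻¹ = w by group] at hwS
    obtain ⟨r, hr, hrd⟩ := Nat.exists_prime_and_dvd (fun e1 : orderOf w = 1 => hw1 (orderOf_eq_one_iff.1 e1))
    exact (hd.hall.2.1 r hr (hrd.trans (W₁.orderOf_dvd_natCard hw))).2.2.1
      (Kap.sigma_of_order hG h.coatom_S hwS r hr hrd)
  exact ⟨key, not_conj_symm key⟩

theorem not_conj_partner :
    (∀ g : G, T ≠ S.map (MulAut.conj g).toMonoidHom) ∧ ∀ g : G, S ≠ T.map (MulAut.conj g).toMonoidHom := by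
  have key : ∀ g : G, T ≠ S.map (MulAut.conj g).toMonoidHom := by
    intro g e
    have h1 := h.symm.card_H hG h13.upto12
    rw [e, card_fittingHallOf_conj, h.card_H hG h13.upto12] at h1
    refine h.card_ne hG h13.upto12 ((Nat.prime_dvd_prime_iff_eq (h.prime_right hG h13.upto12)
      (h.prime_left hG h13.upto12)).1 ((h.prime_right hG h13.upto12).dvd_of_dvd_pow (h1 ▸ dvd_pow_self _ ?_)))
    exact (h.prime_left hG h13.upto12).ne_zero
  exact ⟨key, not_conj_symm key⟩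

theorem bridge_tilde_disjoint {L : Subgroup G} (hL : IsCoatom L)
    (hne : ∀ g : G, L ≠ S.map (MulAut.conj g).toMonoidHom) :
    Disjoint (Cfsg.tildeOf L (core1 L)) (conjSet (bridgeSet S (Cfsg.fittingHallOf S) W₁ W₂)) := by
  rw [Set.disjoint_left]
  rintro x hx ⟨a, ha, c, hc⟩
  have hax : x = c⁻¹ * (a * 1) * c⁻¹⁻¹ := by rw [← hc]; group
  have h79 := Cfsg.Agent.S1379.result hG
  rcases ha with ⟨haP, ha1⟩ | ⟨m, hm, w, hw, hw1, hw2, rfl⟩
  · have hxS : x ∈ Cfsg.tildeOf S (core1 S) :=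
      ⟨a, ⟨Kap.fittingHallOf_le_sigmaCore hG h.coatom_S haP, ha1⟩, 1, one_mem _, c⁻¹, hax⟩
    exact Set.eq_empty_iff_forall_notMem.1 (h79.1 S L h.coatom_S hL hne) x ⟨hxS, hx⟩
  · obtain ⟨U₀, hd, hstar, -, -⟩ := h.decomp hG h13.upto12
    have hz : w ∈ (↑(W₁ ⊔ (Cfsg.sigmaCore S ⊓ centralizer (W₁ : Set G))) : Set G) \
        ((W₁ : Set G) ∪ ↑(Cfsg.sigmaCore S ⊓ centralizer (W₁ : Set G))) := by
      show w ∈ (↑(W₁ ⊔ Kap.star S W₁) : Set G) \ ((W₁ : Set G) ∪ ↑(Kap.star S W₁))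
      rw [← hstar]
      exact ⟨hw, fun h' => h'.elim hw1 hw2⟩
    refine (h79.2.2 S W₁ U₀ h.coatom_S hd h.typeP_S.W₁_ne).2 L hL (c⁻¹ * m) w hz ?_
    rw [show c⁻¹ * m * w * (c⁻¹ * m)⁻¹ = x by rw [hax]; group]
    exact hx

theorem exists_over_U : ∃ L : Subgroup G, IsCoatom L ∧ normalizer (U : Set G) ≤ L := by
  refine (eq_top_or_exists_le_coatom (normalizer (U : Set G))).resolve_left fun e => ?_
  haveI := hG.2.1
  rcases (IsSimpleGroup.eq_bot_or_eq_top_of_normal U (normalizer_eq_top_iff.1 e)) with h1 | h1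
  · exact h.U_ne hG h13.upto12 h1
  · exact h.coatom_S.1 (top_le_iff.1 (h1 ▸ h.U_le_S))

theorem kernel_index {L : Subgroup G} (hII : Cfsg.IsOfTypeII S) (hL : IsCoatom L)
    (hNU : normalizer (U : Set G) ≤ L) :
    (Cfsg.fittingHallOf L).relIndex L = Nat.card W₁ ∨
      ((Cfsg.fittingHallOf L).relIndex L = Nat.card W₂ * Nat.card W₁ ∧
        ∃ y ∈ Cfsg.fittingHallOf T, W₂.map (MulAut.conj y).toMonoidHom ≤ L) := by
  obtain ⟨-, -, hcase⟩ := h13.normalizer_U S T W₁ W₂ U V h hII L hL hNU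
  have hidx : ∀ E : Subgroup G, Cfsg.fittingHallOf L ⊓ E = ⊥ → Cfsg.fittingHallOf L ⊔ E = L →
      (Cfsg.fittingHallOf L).relIndex L = Nat.card E := by
    intro E h1 h2
    have e := CfsgLib.InvariantHall.relIndex_mul_card (FittingHall.of_le L)
    have hE : E ≤ normalizer (Cfsg.fittingHallOf L : Set G) :=
      ((le_sup_right : E ≤ Cfsg.fittingHallOf L ⊔ E).trans h2.le).trans (FittingHall.le_normalizer_of L)
    have e2 := CfsgLib.Solvable.card_sup_of_disjoint hE (by rw [inf_comm]; exact h1)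
    rw [sup_comm, h2] at e2
    rw [e2, mul_comm (Nat.card E)] at e
    exact Nat.eq_of_mul_eq_mul_left Nat.card_pos e
  rcases hcase with ⟨h1, h2⟩ | ⟨y, hy, h1, h2⟩
  · exact Or.inl (hidx _ h1 h2)
  · refine Or.inr ⟨?_, y, hy, (le_sup_right.trans le_sup_right).trans h2.le⟩
    rw [hidx _ h1 h2]
    have hyW : ∀ a ∈ W₁, y * a * y⁻¹ = a := fun a ha => by
      haveI := (h.symm.elem hG h13.upto12).1
      rw [show y * a = a * y from congrArg Subtype.val
        (IsMulCommutative.is_comm.comm (⟨y, hy⟩ : Cfsg.fittingHallOf T) ⟨a, h.symm.right_le_H ha⟩),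
        mul_inv_cancel_right]
    have hcomm : ∀ a ∈ W₁, ∀ b ∈ W₂.map (MulAut.conj y).toMonoidHom, a * b = b * a := by
      rintro a ha _ ⟨b, hb, rfl⟩
      show a * (y * b * y⁻¹) = y * b * y⁻¹ * a
      rw [← hyW a ha]
      calc y * a * y⁻¹ * (y * b * y⁻¹) = y * (a * b) * y⁻¹ := by group
        _ = y * b * y⁻¹ * (y * a * y⁻¹) := by rw [h.left_centralizes ha hb]; group
    have hdis : W₁ ⊓ W₂.map (MulAut.conj y).toMonoidHom = ⊥ := by
      rw [eq_bot_iff]
      rintro a ⟨ha, b, hb, hab⟩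
      have hb' : b = a := by
        have h' : y * b * y⁻¹ = y * a * y⁻¹ := (show y * b * y⁻¹ = a from hab).trans (hyW a ha).symm
        exact mul_left_cancel (mul_right_cancel h')
      exact h.typeP_S.selfNormalizing.2.2.1 ▸ ⟨ha, hb' ▸ hb⟩
    rw [CfsgLib.Char.card_sup_eq hdis hcomm, card_map_of_injective (MulAut.conj y).injective, mul_comm]

end PairData

end CfsgLib.OddEnd
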