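import Cfsg.Agent.OddEnd.FourteenMaster
import Cfsg.Agent.OddEnd.FourteenSep
import Cfsg.Agent.OddEnd.FourteenFamilyMk
import Cfsg.Agent.OddEnd.FourteenArith
import Cfsg.Agent.OddEnd.FourteenChars
import Cfsg.Agent.OddEnd.FourteenField

/-!
Peterfalvi section 14: the numerical facts on a pair and the family of the subgroup over the normaliser of `U`.
-/

set_option autoImplicit false
set_option linter.unusedSectionVars false

namespace CfsgLib.OddEnd

open Subgroup CfsgLib.Char CfsgLib.OddLocal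

universe u

variable {G : Type u} [Group G]

/-- The free characters are numerous: `u a (p - 1)` of them, `u a` the norm one group order in the
irreducible case and `(p - 1) ^ (q - 1)` in the split case. -/
theorem SideData.cases_count [Finite G] {S K P U W₁ W₂ : Subgroup G} {p q : ℕ}
    (D : SideData S K P U W₁ W₂ p q) : ∃ a : ℕ, a * Nat.card U * (p - 1) ≤ nFree S P U ∧
    ((Nat.card U * a = geoN p q ∧ IsCyclic U) ∨
      (Nat.card U * a = (p - 1) ^ (q - 1) ∧ ∀ r : ℕ, r.Prime → r ∣ Nat.card U → r ∣ p - 1)) := by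
  have hS := D.modS
  rcases module_cases D.mod with ⟨hc, hfree, hd⟩ | ⟨-, hd⟩
  · refine ⟨geoN p q / Nat.card U, le_of_eq ?_, Or.inl ⟨Nat.mul_div_cancel' hd, hc⟩⟩
    have h := card_free_of_free hS fun v hv hv1 x hx e => Subtype.ext
      (hfree v hv (fun e1 => hv1 (Subtype.ext e1)) x hx (congrArg Subtype.val e))
    rw [nFree, h, geoN, Nat.div_mul_cancel hd,
      Nat.div_mul_cancel (by simpa using Nat.sub_dvd_pow_sub_pow p 1 q)]
  · refine ⟨(p - 1) ^ (q - 1) / Nat.card U, ?_, Or.inr ⟨Nat.mul_div_cancel' hd, fun r hr hru => ?_⟩⟩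
    · rw [Nat.div_mul_cancel hd, ← pow_succ,
        Nat.sub_add_cancel D.mod.prime_q.one_le]
      exact card_free hS
    · exact hr.dvd_of_dvd_pow (hru.trans hd)

namespace SideImages

variable [Fintype G] {S P U W₁ W₂ : Subgroup G} [Fintype (Row W₁ W₂)]
  {χ : (↥(W₁ ⊔ W₂) →* ℂˣ) → G → ℂ} {κ : Type u} [Fintype κ] (I : SideImages χ S P U κ)
include I

/-- The number of images, from a number of free characters. -/
theorem count_le {a : ℕ} (h : a * Nat.card U * (Nat.card W₂ - 1) ≤ nFree S P U) :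
    a * (Nat.card W₂ - 1) ≤ Fintype.card κ * Nat.card W₁ + (Nat.card W₂ - 1) := by
  refine Nat.le_of_mul_le_mul_left ?_ (Nat.card_pos (α := U))
  calc Nat.card U * (a * (Nat.card W₂ - 1)) = a * Nat.card U * (Nat.card W₂ - 1) := by ring
    _ ≤ nFree S P U := h
    _ ≤ _ := I.lam_count

theorem nonempty_of_count {m : ℕ} (hm : m * Nat.card U ≤ nFree S P U) (hm' : Nat.card W₂ ≤ m) :
    Nonempty κ := by
  rw [← Fintype.card_pos_iff]
  by_contra h0
  push Not at h0
  have h := hm.trans I.lam_count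
  rw [Nat.le_zero.1 h0, zero_mul, zero_add, mul_comm (Nat.card U)] at h
  have h1 := Nat.le_of_mul_le_mul_right h Nat.card_pos
  have : 0 < Nat.card W₂ := Nat.card_pos
  omega

end SideImages

namespace PairData

variable [Finite G] {S T W₁ W₂ U V : Subgroup G} (h : PairData S T W₁ W₂ U V)
variable (hG : Cfsg.IsMinSimpleOddOrder G) (h13 : UptoThirteen G)
include h hG h13

theorem u_facts : Nat.card U % Nat.card W₁ = 1 ∧ Odd (Nat.card U) ∧
    2 * Nat.card W₁ + 1 ≤ Nat.card U := by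
  have hD := h.sideData hG h13
  have hodd : Odd (Nat.card U) := hD.mod.U_odd
  have h1 : Nat.card U ≠ 1 := hD.U_ne_one
  have h3 := h.left_odd hG h13.upto12
  have hq : Odd (Nat.card W₁) := hG.1.of_dvd_nat W₁.card_subgroup_dvd_card
  refine ⟨hD.u_mod, hodd, ?_⟩
  have hdm := Nat.div_add_mod (Nat.card U) (Nat.card W₁)
  rw [hD.u_mod] at hdm
  have hk : Even (Nat.card U / Nat.card W₁) := by
    rw [← hdm] at hodd
    by_contra hk
    rw [Nat.not_even_iff_odd] at hk
    exact (Nat.not_odd_iff_even.2 ((hq.mul hk).add_odd odd_one)) hodd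
  obtain ⟨k, hk⟩ := hk
  rcases Nat.eq_zero_or_pos k with hk0 | hk0
  · subst hk0
    rw [hk] at hdm
    omega
  · rw [hk] at hdm
    nlinarith

variable (hlt : Nat.card W₁ < Nat.card W₂)
include hlt

theorem oddPq : OddPq (Nat.card W₂) (Nat.card W₁) :=
  ⟨h.prime_right hG h13.upto12, h.prime_left hG h13.upto12, h.left_odd hG h13.upto12, hlt⟩

/-- The case of the largest order of `U`. -/
theorem of_eq_geo (hu : Nat.card U = geoN (Nat.card W₂) (Nat.card W₁)) :
    Nat.card W₂ % Nat.card W₁ ≠ 1 ∧ IsCyclic U ∧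
      ∀ v ∈ U, v ≠ 1 → ∀ x ∈ Cfsg.fittingHallOf S, v * x = x * v → x = 1 := by
  have pq := h.oddPq hG h13 hlt
  obtain ⟨hum, -, hu1⟩ := h.u_facts hG h13
  have hne : Nat.card W₂ % Nat.card W₁ ≠ 1 := fun e => by
    have := Nat.mod_eq_zero_of_dvd (pq.facts.2.1 e)
    rw [← hu, hum] at this
    exact one_ne_zero this
  refine ⟨hne, ?_⟩
  rcases module_cases (h.moduleHyp hG h13) with ⟨hc, hfree, -⟩ | ⟨-, hd⟩
  · exact ⟨hc, hfree⟩
  · have hco := ((pq.facts.2.2 hne).1.pow_right (Nat.card W₁ - 1))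
    rw [← hu] at hco
    have := Nat.eq_one_of_dvd_coprimes hco dvd_rfl hd
    have := pq.three_le
    omega

/-- The case of a smaller `U`. -/
theorem of_ne_geo (hu : Nat.card U ≠ geoN (Nat.card W₂) (Nat.card W₁)) :
    Nat.card W₁ * (Nat.card W₂ - 1) * Nat.card U ≤ nFree S (Cfsg.fittingHallOf S) U ∧
      Nat.card W₁ * Nat.card U ≤ geoN (Nat.card W₂) (Nat.card W₁) ∧
      ¬ (Nat.card W₂ = 5 ∧ Nat.card W₁ = 3) ∧
      (Nat.card W₂ = 7 → Nat.card W₁ = 3 → 19 ≤ Nat.card U) := by
  have pq := h.oddPq hG h13 hlt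
  obtain ⟨hum, huo, hu1⟩ := h.u_facts hG h13
  obtain ⟨a, hn, hcase⟩ := (h.sideData hG h13).cases_count
  have h5 := pq.five_le
  have haq : Nat.card W₁ ≤ a ∧ Nat.card U * a ≤ geoN (Nat.card W₂) (Nat.card W₁) := by
    rcases hcase with ⟨e, -⟩ | ⟨e, -⟩
    · refine ⟨(pq.quot_facts e hum fun e1 => hu (by rw [← e, e1, mul_one])).1, e.le⟩
    · refine ⟨?_, e.le.trans ((Nat.pow_le_pow_left (Nat.sub_le _ 1) _).trans pq.pow_le_geo)⟩
      have h2 : 2 ^ (Nat.card W₁ - 1) ∣ (Nat.card W₂ - 1) ^ (Nat.card W₁ - 1) :=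
        pow_dvd_pow_of_dvd (even_iff_two_dvd.1 (by
          have := (hG.1.of_dvd_nat W₂.card_subgroup_dvd_card)
          obtain ⟨k, hk⟩ := this
          exact ⟨k, by omega⟩)) _
      rw [← e] at h2
      have h2' := Nat.Coprime.dvd_of_dvd_mul_left
        (Nat.Coprime.pow_left _ ((Nat.coprime_two_left).2 huo)) h2
      have hpow : ∀ n : ℕ, 2 ≤ n → n + 1 ≤ 2 ^ n := fun n _ => Nat.lt_two_pow_self
      have ha0 : a ≠ 0 := fun e0 => by
        rw [e0, mul_zero] at e
        exact absurd e.symm (pow_ne_zero _ (by omega))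
      have := hpow (Nat.card W₁ - 1) (by have := pq.three_le; omega)
      have := Nat.le_of_dvd (Nat.pos_of_ne_zero ha0) h2'
      omega
  refine ⟨le_trans ?_ hn, le_trans ?_ haq.2, ?_, ?_⟩
  · calc Nat.card W₁ * (Nat.card W₂ - 1) * Nat.card U ≤ a * (Nat.card W₂ - 1) * Nat.card U :=
        Nat.mul_le_mul_right _ (Nat.mul_le_mul_right _ haq.1)
      _ = _ := by ring
  · rw [mul_comm (Nat.card W₁)]
    exact Nat.mul_le_mul_left _ haq.1
  · rintro ⟨hp, hq⟩
    rw [hp, hq] at hu
    have hN : geoN 5 3 = 31 := rfl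
    rcases hcase with ⟨e, -⟩ | ⟨e, -⟩ <;> rw [hp, hq] at e
    · rw [hN] at e hu
      rcases (Nat.dvd_prime (by norm_num : Nat.Prime 31)).1 (Dvd.intro _ e) with e1 | e1
      · omega
      · exact hu e1
    · have := Nat.eq_one_of_dvd_coprimes (((Nat.coprime_two_right).2 huo).pow_right 4) dvd_rfl
        (show Nat.card U ∣ 2 ^ 4 from Dvd.intro _ (e.trans (by norm_num)))
      omega
  · intro hp hq
    rw [hp, hq] at hu
    rw [hq] at hum hu1
    have hN : geoN 7 3 = 57 := rfl
    rcases hcase with ⟨e, -⟩ | ⟨e, -⟩ <;> rw [hp, hq] at e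
    · rw [hN] at e hu
      by_contra hu'
      have hd : Nat.card U ∣ 57 := Dvd.intro _ e
      have hU : Nat.card U < 19 := by omega
      revert hd hum hu1
      generalize Nat.card U = n at hU
      interval_cases n <;> omega
    · exfalso
      have hd : Nat.card U ∣ 36 := Dvd.intro _ (e.trans (by norm_num))
      have hU : Nat.card U ≤ 36 := Nat.le_of_dvd (by norm_num) hd
      revert hd hum hu1 huo
      generalize Nat.card U = n at hU
      interval_cases n <;> simp [Nat.odd_iff]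

/-- The other side when `V` is smaller than possible. -/
theorem of_ne_geo' (hv : Nat.card V ≠ geoN (Nat.card W₁) (Nat.card W₂)) :
    (2 * Nat.card W₂ + 1) * (Nat.card W₁ - 1) * Nat.card V ≤ nFree T (Cfsg.fittingHallOf T) V := by
  have pq := h.oddPq hG h13 hlt
  obtain ⟨hvm, hvo, hv1⟩ := h.symm.u_facts hG h13
  obtain ⟨a, hn, hcase⟩ := (h.symm.sideData hG h13).cases_count
  have ha : 2 * Nat.card W₂ + 1 ≤ a := by
    rcases hcase with ⟨e, -⟩ | ⟨e, -⟩
    · have hm := pq.facts'.2.2 a (e ▸ Dvd.intro_left _ rfl)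
      have ha1 : a ≠ 1 := fun e1 => hv (by rw [← e, e1, mul_one])
      have hao : Odd a := pq.facts'.1.of_dvd_nat (e ▸ Dvd.intro_left _ rfl)
      have hdm := Nat.div_add_mod a (Nat.card W₂)
      rw [hm] at hdm
      obtain ⟨k, hk⟩ := hao
      obtain ⟨j, hj⟩ := hG.1.of_dvd_nat W₂.card_subgroup_dvd_card
      rcases Nat.lt_or_ge (a / Nat.card W₂) 2 with h2 | h2
      · interval_cases hc : a / Nat.card W₂ <;> omega
      · have := Nat.mul_le_mul_left (Nat.card W₂) h2
        omega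
    · have h2 : 2 ^ (Nat.card W₂ - 1) ∣ (Nat.card W₁ - 1) ^ (Nat.card W₂ - 1) :=
        pow_dvd_pow_of_dvd (even_iff_two_dvd.1 (by
          have := (hG.1.of_dvd_nat W₁.card_subgroup_dvd_card)
          obtain ⟨k, hk⟩ := this
          exact ⟨k, by omega⟩)) _
      rw [← e] at h2
      have h2' := Nat.Coprime.dvd_of_dvd_mul_left
        (Nat.Coprime.pow_left _ ((Nat.coprime_two_left).2 hvo)) h2
      have ha0 : a ≠ 0 := fun e0 => by
        rw [e0, mul_zero] at e
        exact absurd e.symm (pow_ne_zero _ (by have := pq.three_le; omega))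
      refine le_trans ?_ (Nat.le_of_dvd (Nat.pos_of_ne_zero ha0) h2')
      have key : ∀ n : ℕ, 4 ≤ n → 2 * (n + 1) + 1 ≤ 2 ^ n := fun n hn => by
        induction n, hn using Nat.le_induction with
        | base => norm_num
        | succ m hm ih => rw [pow_succ]; omega
      have h5 := pq.five_le
      have := key (Nat.card W₂ - 1) (by omega)
      rwa [Nat.sub_add_cancel (by omega)] at this
  calc (2 * Nat.card W₂ + 1) * (Nat.card W₁ - 1) * Nat.card V ≤ a * (Nat.card W₁ - 1) * Nat.card V :=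
      Nat.mul_le_mul_right _ (Nat.mul_le_mul_right _ ha)
    _ = _ := by ring
    _ ≤ _ := hn

end PairData

/-- A maximal subgroup over the normaliser of `U`, with its family. -/
structure OverFamily [Fintype G] {ι : Type u} [Fintype ι] (T W₁ W₂ U L : Subgroup G) (F : Family G ι) :
    Prop where
  coatom : IsCoatom L
  typeI : Cfsg.IsOfTypeI L
  U_le : U ≤ Cfsg.fittingHallOf L
  e_eq : F.e = (Cfsg.fittingHallOf L).relIndex L
  sq_eq : F.sq * F.e = (Nat.card (Cfsg.fittingHallOf L) : ℤ) - 1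
  X_sub : F.X ⊆ Cfsg.tildeOf L (core1 L)
  X_pow : ∀ g ∈ F.X, ∀ t : ℕ, t.Coprime (Nat.card G) → g ^ t ∈ F.X
  X_density : (F.X.ncard : ℝ) / Nat.card G ≤ ((Nat.card (Cfsg.fittingHallOf L) : ℝ) - 1) / Nat.card L
  index : F.e = Nat.card W₁ ∨ (F.e = Nat.card W₂ * Nat.card W₁ ∧
    ∃ y ∈ Cfsg.fittingHallOf T, W₂.map (MulAut.conj y).toMonoidHom ≤ L)

section Fam

variable [Fintype G] {ι : Type u} [Fintype ι]

/-- The order of the maximal subgroup over `U`. -/
theorem OverFamily.card_L {T W₁ W₂ U L : Subgroup G} {F : Family G ι} (hO : OverFamily T W₁ W₂ U L F) :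
    Nat.card L = Nat.card (Cfsg.fittingHallOf L) * F.e := by
  rw [hO.e_eq]
  exact (CfsgLib.InvariantHall.relIndex_mul_card (FittingHall.of_le L)).symm

/-- The coefficient of a bridge of one family on another one is small. -/
theorem Family.cross_bound {ι' : Type u} [Fintype ι'] (F : Family G ι) (F' : Family G ι') {a : ℤ}
    (ha : ∀ i, Cfsg.classInner F.α (F'.z i) = ((a * F'.r i : ℤ) : ℂ)) :
    a * a * F'.sq ≤ (F.e : ℤ) + 1 := by
  classical
  have h := bessel (Finset.univ.image F'.z) (fun α hα β hβ => by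
    obtain ⟨i, -, rfl⟩ := Finset.mem_image.1 hα
    obtain ⟨j, -, rfl⟩ := Finset.mem_image.1 hβ
    by_cases e : i = j
    · subst e; rw [if_pos rfl, F'.z_self]
    · rw [if_neg fun e' => e (F'.z_injective e'), F'.orth i j e]) F.α
  rw [Finset.sum_image fun i _ j _ e => F'.z_injective e, F.α_norm] at h
  simp only [norm_classInner_int (ha _)] at h
  have e : ∑ i, a * F'.r i * (a * F'.r i) = a * a * F'.sq := by
    rw [Family.sq, Finset.mul_sum]
    exact Finset.sum_congr rfl fun i _ => by ring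
  rw [← Int.cast_sum, e] at h
  have h' : ((a * a * F'.sq : ℤ) : ℝ) ≤ (((F.e : ℤ) + 1 : ℤ) : ℝ) := by simpa using h
  exact_mod_cast h'

theorem Family.sq_pos (F : Family G ι) : 1 ≤ F.sq := by
  refine le_trans ?_ (Finset.single_le_sum (fun i _ => mul_self_nonneg (F.r i)) (Finset.mem_univ F.i₀))
  rw [F.r_i₀, one_mul]

namespace PairData

variable {S T W₁ W₂ U V : Subgroup G} (h : PairData S T W₁ W₂ U V)
variable (hG : Cfsg.IsMinSimpleOddOrder G) (h13 : UptoThirteen G)
include h hG h13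

theorem exists_overFamily (hII : Cfsg.IsOfTypeII S) :
    ∃ (L : Subgroup G) (ι' : Type u) (_ : Fintype ι') (F : Family G ι'), OverFamily T W₁ W₂ U L F := by
  obtain ⟨L, hL, hNU⟩ := h.exists_over_U hG h13
  obtain ⟨hfr, hUL, -⟩ := h13.normalizer_U S T W₁ W₂ U V h hII L hL hNU
  obtain ⟨hI, ι', _, F, he, hsq, hX, hpow, hdens⟩ := family_typeI hG h13.upto12.frob hL hfr
  refine ⟨L, ι', inferInstance, F, hL, hI, hUL, he, hsq, hX, hpow, hdens, ?_⟩
  rw [he]
  exact h.kernel_index hG h13 hII hL hNU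

variable [Fintype (Row W₁ W₂)] {χ : (↥(W₁ ⊔ W₂) →* ℂˣ) → G → ℂ} {κ : Type u} [Fintype κ]

/-- A family under a maximal subgroup not conjugate to `S` meets the side of `S`. -/
theorem meets (hχ : Cfsg.IsCyclicTIFamily W₁ W₂ χ) {L : Subgroup G} (hL : IsCoatom L)
    (hne : ∀ g : G, L ≠ S.map (MulAut.conj g).toMonoidHom) {F : Family G ι}
    (hX : F.X ⊆ Cfsg.tildeOf L (core1 L)) (I : SideImages χ S (Cfsg.fittingHallOf S) U κ) :
    Meets F I where
  family := hχ
  self := h.typeP_S.selfNormalizing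
  left := h.left_odd hG h13.upto12
  right := h.symm.left_odd hG h13.upto12
  odd := hG.1
  disjoint := (h.bridge_tilde_disjoint hG h13 hL hne).mono_left hX

end PairData

end Fam

end CfsgLib.OddEnd
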