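import Cfsg.Agent.OddEnd.FourteenImages
import Cfsg.Agent.OddEnd.FourteenArrays

/-!
Peterfalvi section 14: the grid read with the factors exchanged.
-/

set_option autoImplicit false
set_option linter.unusedSectionVars false

namespace CfsgLib.OddEnd

open Subgroup CfsgLib.Char

universe u

variable {G : Type u} [Group G] {W₁ W₂ : Subgroup G}

/-- A column of the exchanged grid, from a row. -/
noncomputable def rowSwap (r : Row W₁ W₂) : Col W₂ W₁ :=
  ⟨r.1.comp (swapHom W₂ W₁), fun w hw => r.2 (swapHom W₂ W₁ w) hw⟩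

/-- A row of the exchanged grid, from a column. -/
noncomputable def colSwap (l : Col W₁ W₂) : Row W₂ W₁ :=
  ⟨l.1.comp (swapHom W₂ W₁), fun w hw => l.2 (swapHom W₂ W₁ w) hw⟩

theorem rowSwap_row₀ : rowSwap (row₀ : Row W₁ W₂) = col₀ := Subtype.ext (MonoidHom.ext fun _ => rfl)

theorem colSwap_col₀ : colSwap (col₀ : Col W₁ W₂) = row₀ := Subtype.ext (MonoidHom.ext fun _ => rfl)

theorem swap_swap_hom (ω : ↥(W₁ ⊔ W₂) →* ℂˣ) :
    (ω.comp (swapHom W₂ W₁)).comp (swapHom W₁ W₂) = ω := MonoidHom.ext fun _ => rfl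

theorem rowSwap_injective : Function.Injective (rowSwap (W₁ := W₁) (W₂ := W₂)) := fun a b e =>
  Subtype.ext (by
    have h := congrArg (fun x : Col W₂ W₁ => x.1.comp (swapHom W₁ W₂)) e
    simpa only [rowSwap, swap_swap_hom] using h)

theorem colSwap_injective : Function.Injective (colSwap (W₁ := W₁) (W₂ := W₂)) := fun a b e =>
  Subtype.ext (by
    have h := congrArg (fun x : Row W₂ W₁ => x.1.comp (swapHom W₁ W₂)) e
    simpa only [colSwap, swap_swap_hom] using h)

theorem rowSwap_ne {r : Row W₁ W₂} (h : r ≠ row₀) : rowSwap r ≠ col₀ := fun e =>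
  h (rowSwap_injective (e.trans rowSwap_row₀.symm))

theorem colSwap_ne {l : Col W₁ W₂} (h : l ≠ col₀) : colSwap l ≠ row₀ := fun e =>
  h (colSwap_injective (e.trans colSwap_col₀.symm))

theorem colSwap_bijective : Function.Bijective (colSwap (W₁ := W₁) (W₂ := W₂)) := by
  refine ⟨colSwap_injective, fun r => ⟨rowSwap r, Subtype.ext ?_⟩⟩
  exact MonoidHom.ext fun _ => rfl

theorem cell_swap (r : Row W₁ W₂) (l : Col W₁ W₂) :
    (cell (colSwap l) (rowSwap r)).comp (swapHom W₁ W₂) = cell r l :=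
  MonoidHom.ext fun w => by
    show l.1 (swapHom W₂ W₁ (swapHom W₁ W₂ w)) * r.1 (swapHom W₂ W₁ (swapHom W₁ W₂ w)) = r.1 w * l.1 w
    rw [show swapHom W₂ W₁ (swapHom W₁ W₂ w) = w from rfl, mul_comm]

theorem conjSet_bridge_swap [Finite G] (T Q : Subgroup G) {w : ↥(W₁ ⊔ W₂)} (h1 : (w : G) ∉ W₁)
    (h2 : (w : G) ∉ W₂) : (w : G) ∈ conjSet (bridgeSet T Q W₂ W₁) :=
  ⟨w, Or.inr ⟨1, T.one_mem, w, (sup_comm W₁ W₂).le w.2, h2, h1, by group⟩, 1, by group⟩

variable [Fintype G] [Fintype (Row W₂ W₁)] {χ : (↥(W₁ ⊔ W₂) →* ℂˣ) → G → ℂ} {T Q V : Subgroup G}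
  {κ : Type u} [Fintype κ]

/-- Off the other bridge set the first column of the grid is constant along the rows. -/
theorem row_pair_off (J : SideImages (fun ω => χ (ω.comp (swapHom W₁ W₂))) T Q V κ) {r r' : Row W₁ W₂}
    (hr : r ≠ row₀) (hr' : r' ≠ row₀) (l : Col W₁ W₂) {g : G}
    (hg : g ∉ conjSet (bridgeSet T Q W₂ W₁)) : χ (cell r l) g = χ (cell r' l) g := by
  have h := J.pair_off (colSwap l) _ _ (rowSwap_ne hr) (rowSwap_ne hr') g hg
  simpa only [cell_swap] using h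

variable [Fintype (Row W₁ W₂)] {ι : Type u} [Fintype ι]

open scoped Classical in
/-- The rows' value of an array is the column value of the exchanged array. -/
theorem array_row_const {F : Family G ι} {J : SideImages (fun ω => χ (ω.comp (swapHom W₁ W₂))) T Q V κ}
    (hM : Meets F J) {t : Row W₁ W₂ → ℤ} {d : ℤ}
    (ht : ∀ r l, Cfsg.classInner F.α (χ (cell r l)) = ((t r + if l = col₀ then 0 else d - 1 : ℤ) : ℂ)) :
    ∃ (t' : Row W₂ W₁ → ℤ) (c : ℤ), t' row₀ = 1 ∧ (∀ r l, Cfsg.classInner F.α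
      (χ ((cell r l).comp (swapHom W₁ W₂))) = ((t' r + if l = col₀ then 0 else c - 1 : ℤ) : ℂ)) ∧
      ∀ r, r ≠ row₀ → t r = c := by
  obtain ⟨t', c, h0, ht'⟩ := hM.exists_array
  refine ⟨t', c, h0, ht', fun r hr => ?_⟩
  have h := ht' (colSwap col₀) (rowSwap r)
  rw [if_neg (rowSwap_ne hr), colSwap_col₀, h0] at h
  have h2 := ht r col₀
  have he := cell_swap (W₁ := W₁) (W₂ := W₂) r col₀
  rw [colSwap_col₀] at he

  rw [he, h2, if_pos rfl] at h
  have : t r + 0 = 1 + (c - 1) := by exact_mod_cast h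
  omega

end CfsgLib.OddEnd
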