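import Cfsg.Agent.OddEnd.HatDade
import Cfsg.Agent.OddLocal.KappaNonTI
import Cfsg.Agent.Char.DadeIntegral
import Cfsg.Agent.Char.DadeMap
import Cfsg.Agent.Char.OddFrobeniusCoherence
import Cfsg.Agent.Char.FeitCoherence

/-!
Coherence of the characters induced from the kernel of a Frobenius maximal subgroup that is not a
trivial intersection subgroup (Peterfalvi 12.6, the part used in 12.11).
-/

set_option autoImplicit false
set_option linter.style.haveILetI false

namespace CfsgLib.OddEnd

open Subgroup Cfsg CfsgLib.OddLocal CfsgLib.OddLocal.Kap CfsgLib.Char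

universe u

/-- In a Frobenius group whose kernel has cyclic centre, the index of the kernel divides `q - 1` for
the prime `q` of that centre. -/
theorem index_dvd_of_cyclic_center {L : Type u} [Group L] [Finite L] {K : Subgroup L} [K.Normal]
    (hC : ∀ a ∈ K, a ≠ 1 → centralizer ({a} : Set L) ≤ K) {q : ℕ} (hq : q.Prime)
    (hcyc : IsCyclic (center K)) (hdvd : q ∣ Nat.card (center K)) : K.index ∣ q - 1 := by
  haveI := Fact.mk hq
  obtain ⟨z, hz⟩ := exists_prime_orderOf_dvd_card' (G := center K) q hdvd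
  set Z := (center K).map K.subtype with hZ
  haveI : Z.Normal := ConjAct.normal_of_characteristic_of_normal
  haveI : IsCyclic Z := by
    haveI := hcyc
    exact isCyclic_of_surjective _ ((center K).equivMapOfInjective K.subtype K.subtype_injective).surjective
  let z' : Z := ⟨((z : K) : L), mem_map_of_mem K.subtype z.2⟩
  have hz' : orderOf z' = q := by
    rw [← Subgroup.orderOf_coe]
    show orderOf ((z : K) : L) = q
    rw [Subgroup.orderOf_coe, Subgroup.orderOf_coe, hz]
  set W := (zpowers z').map Z.subtype with hW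
  have hWcard : Nat.card W = q := by
    rw [card_map_of_injective Z.subtype_injective, Nat.card_zpowers, hz']
  haveI hWn : W.Normal := by
    refine ⟨?_⟩
    rintro _ ⟨w, hw, rfl⟩ g
    obtain ⟨m, hm⟩ := MonoidHom.map_cyclic (MulAut.conjNormal g : Z ≃* Z).toMonoidHom
    have h1 : (g * (Z.subtype w) * g⁻¹) = ((MulAut.conjNormal g w : Z) : L) := by simp
    rw [h1]
    refine ⟨_, (show MulAut.conjNormal g w ∈ zpowers z' from ?_), rfl⟩
    rw [show MulAut.conjNormal g w = w ^ m from hm w]
    exact zpow_mem hw m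
  haveI : IsCyclic W := isCyclic_of_prime_card hWcard
  have hker : (MulAut.conjNormal : L →* MulAut W).ker = K := by
    ext g
    rw [MonoidHom.mem_ker]
    constructor
    · intro h
      have hzW : ((z : K) : L) ∈ W := ⟨z', mem_zpowers z', rfl⟩
      have h1 := congrArg Subtype.val (DFunLike.congr_fun h (⟨_, hzW⟩ : W))
      rw [MulAut.conjNormal_apply] at h1
      refine hC _ (z : K).2 (fun e => hq.ne_one ?_) (mem_centralizer_singleton_iff.2 ?_)
      · rw [← hz, ← Subgroup.orderOf_coe, ← Subgroup.orderOf_coe, e, orderOf_one]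
      · exact mul_inv_eq_iff_eq_mul.1 h1
    · intro hg
      refine MulEquiv.ext fun w => Subtype.ext ?_
      obtain ⟨w', -, hw'⟩ := w.2
      obtain ⟨k, hk, hk'⟩ := w'.2
      have hwk : (w : L) = (k : L) := by rw [← hw']; exact hk'.symm
      rw [MulAut.conjNormal_apply]
      show g * (w : L) * g⁻¹ = (w : L)
      rw [hwk, show g * (k : L) = (k : L) * g from congrArg Subtype.val
        (mem_center_iff.1 hk ⟨g, hg⟩), mul_inv_cancel_right]
  have h := Subgroup.card_subgroup_dvd_card (MulAut.conjNormal : L →* MulAut W).range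
  rwa [← index_ker, hker, IsCyclic.card_mulAut, hWcard, Nat.totient_prime hq] at h

variable {G : Type u} [Group G]

theorem comap_core (M : Subgroup G) :
    (Cfsg.sigmaCore M).subgroupOf M = Cfsg.piCore (Cfsg.sigma M) M :=
  comap_map_eq_self_of_injective M.subtype_injective _

/-- In a Frobenius `M` the centralizers of non-identity kernel elements lie in the kernel. -/
theorem kernel_centralizer_le {M : Subgroup G} (hF : KernelFrobenius M) :
    ∀ a ∈ (Cfsg.sigmaCore M).subgroupOf M, a ≠ 1 →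
      centralizer ({a} : Set M) ≤ (Cfsg.sigmaCore M).subgroupOf M := fun a ha ha1 y hy => by
  rw [mem_subgroupOf] at ha ⊢
  exact hF a ha (fun h => ha1 (Subtype.ext h)) ⟨y.2, mem_centralizer_singleton_iff.2
    (congrArg Subtype.val (mem_centralizer_singleton_iff.1 hy))⟩

variable [Fintype G] (hG : Cfsg.IsMinSimpleOddOrder G)
include hG

theorem kernel_index_dvd {M : Subgroup G} (hM : IsCoatom M) (hF : KernelFrobenius M)
    (hnil : Group.IsNilpotent (Cfsg.sigmaCore M)) {p : ℕ} (hp : p.Prime) {z : G}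
    (hz : z ∈ Cfsg.sigmaCore M) (hzo : orderOf z = p) (hzC : ¬ centralizer ({z} : Set G) ≤ M)
    {k : ℕ} (hk : Nat.card (Cfsg.sigmaCore M) = p ^ k)
    (hnab : ¬ IsMulCommutative (Cfsg.sigmaCore M)) :
    ((Cfsg.sigmaCore M).subgroupOf M).index ∣ p - 1 := by
  haveI := Fact.mk hp
  haveI : ((Cfsg.sigmaCore M).subgroupOf M).Normal := by rw [comap_core]; infer_instance
  set H := Cfsg.sigmaCore M with hH
  obtain ⟨g, hgC, hgM⟩ := SetLike.not_le_iff_exists.1 hzC
  have hzg : g⁻¹ * z * g ∈ H := by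
    rwa [mul_assoc, (mem_centralizer_singleton_iff.1 hgC).symm, inv_mul_cancel_left]
  have hHp : IsPGroup p H := IsPGroup.of_card hk
  have hqc : Bender.qc p H = H := by
    have h1 : Cfsg.pCore p H = ⊤ :=
      top_le_iff.1 (CfsgLib.Solvable.le_pCore p inferInstance (hHp.to_subgroup ⊤))
    rw [Bender.qc, h1, ← MonoidHom.range_eq_map, range_subtype]
  have hcyc := part_center_cyclic hG hM hnil hgM hz hzo hzg (by rw [hqc]; exact hnab)
  rw [hqc] at hcyc
  set K := H.subgroupOf M
  let e : K ≃* H := subgroupOfEquivOfLe (map_subtype_le _)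
  have hK1 : 1 < Nat.card H := by
    haveI : Nontrivial H := ⟨⟨⟨z, hz⟩, 1, fun h => hp.ne_one (by
      rw [← hzo, show z = 1 from congrArg Subtype.val h, orderOf_one])⟩⟩
    exact Finite.one_lt_card
  have hKp : IsPGroup p K := hHp.of_equiv e.symm
  haveI : Nontrivial K := by
    haveI : Nontrivial H := Finite.one_lt_card_iff_nontrivial.1 hK1
    exact e.toEquiv.nontrivial
  refine index_dvd_of_cyclic_center (kernel_centralizer_le hF) hp ?_ ?_
  · haveI := hcyc
    refine isCyclic_of_injective ((H.subtype.comp (e.toMonoidHom.comp (center K).subtype)).codRestrict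
      (H ⊓ centralizer (H : Set G)) fun c => ⟨(e c).2, mem_centralizer_iff.2 fun b hb => ?_⟩) ?_
    · have := congrArg (fun w : H => (w : G))
        (congrArg e (mem_center_iff.1 c.2 (e.symm ⟨b, hb⟩)))
      simpa using this
    · intro a b h
      exact Subtype.ext (e.injective (Subtype.ext
        (congrArg (fun w : ↥(H ⊓ centralizer (H : Set G)) => (w : G)) h :)))
  · haveI := hKp.center_nontrivial
    obtain ⟨j, hj⟩ := IsPGroup.iff_card.1 (hKp.to_subgroup (center K))
    rcases j with _ | j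
    · exact absurd hj (by simpa using (Finite.one_lt_card (α := center K)).ne')
    · rw [hj]; exact dvd_pow_self p j.succ_ne_zero

variable {M : Subgroup G} [Fintype M] (hM : IsCoatom M) (hκ : Cfsg.kappa M = ∅)
  (hF : KernelFrobenius M)
include hM hκ hF

/-- Peterfalvi 12.6: the characters induced from `M_σ` are coherent for the Dade map. -/
theorem kernel_coherent {p : ℕ} (hp : p.Prime) {z : G} (hz : z ∈ Cfsg.sigmaCore M)
    (hzo : orderOf z = p) (hzC : ¬ centralizer ({z} : Set G) ≤ M) :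
    Cfsg.IsCoherent (Cfsg.inducedIrrAbove ((Cfsg.sigmaCore M).subgroupOf M) ⊥) {1}ᶜ
      (Cfsg.dadeIsometry (core1 M) M (Cfsg.supportR M)) := by
  classical
  haveI hsolvM : Group.IsSolvable M := hG.2.2.2 M hM.1
  set K := (Cfsg.sigmaCore M).subgroupOf M with hKdef
  haveI hKn : K.Normal := by rw [hKdef, comap_core]; infer_instance
  have hC : ∀ a ∈ K, a ≠ 1 → centralizer ({a} : Set M) ≤ K := kernel_centralizer_le hF
  have hD := dade_core hG hM hκ
  set τ := Cfsg.dadeIsometry (core1 M) M (Cfsg.supportR M) with hτdef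
  set S := Cfsg.inducedIrrAbove K ⊥ with hSdef
  have hSeq := CfsgLib.Char.inducedIrrAbove_bot_eq (A := K) hC
  have hirr : ∀ χ ∈ S, Cfsg.IsIrrCharacter M χ := fun χ hχ => by
    rw [hSdef, hSeq] at hχ; exact hχ.1
  have hspan : ∀ α ∈ Cfsg.zspanOn S ({1}ᶜ : Set M),
      Cfsg.IsGeneralizedCharacter M α ∧ ∀ y : M, (y : G) ∉ core1 M → α y = 0 := by
    intro α hα
    have hgen : Cfsg.IsGeneralizedCharacter M α ∧ ∀ y : M, y ∉ K → α y = 0 := by
      obtain ⟨hα, -⟩ := hα
      induction hα using Submodule.span_induction with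
      | mem φ hφ =>
        obtain ⟨θ, h1, -, -, rfl⟩ := hφ
        exact ⟨IsGeneralized.indFun (IsIrrCharacter.isGeneralized h1),
          fun y hy => indFun_eq_zero_of_normal θ hy⟩
      | zero => exact ⟨isGeneralized_zero, fun _ _ => rfl⟩
      | add a b _ _ h1 h2 => exact ⟨IsGeneralized.add h1.1 h2.1, fun y hy => by
          rw [Pi.add_apply, h1.2 y hy, h2.2 y hy, add_zero]⟩
      | smul n a _ h => exact ⟨IsGeneralized.zsmul h.1 n, fun y hy => by
          rw [Pi.smul_apply, h.2 y hy, smul_zero]⟩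
    refine ⟨hgen.1, fun y hy => ?_⟩
    rcases eq_or_ne y 1 with rfl | hy1
    · exact (mem_zspanOn_one.1 hα).2
    · exact hgen.2 y fun h => hy ⟨h, fun e => hy1 (Subtype.ext e)⟩
  have hcl : ∀ α ∈ Cfsg.zspanOn S ({1}ᶜ : Set M), Cfsg.IsClassFunction M α := fun α hα =>
    IsGeneralized.isClassFunction (hspan α hα).1
  have hτ1 : ∀ α ∈ Cfsg.zspanOn S ({1}ᶜ : Set M), τ α 1 = 0 := fun α _ =>
    dadeIsometry_apply_one hD
  have hτ : Cfsg.IsLinearIsometryOn (Cfsg.zspanOn S ({1}ᶜ : Set M)) τ := by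
    refine ⟨fun α _ β _ => ?_, fun α _ n => ?_, fun α hα β hβ =>
      classInner_dadeIsometry_dadeIsometry hD (hcl α hα) (hspan α hα).2 (hcl β hβ),
      fun α hα => isGeneralized_dadeIsometry hD (hspan α hα).1 (hspan α hα).2⟩
    all_goals
      funext g
      simp only [hτdef, Cfsg.dadeIsometry, Pi.add_apply, Pi.smul_apply]
      split_ifs <;> simp
  have hK1 : K ≠ ⊥ := fun h => hp.ne_one (by
    have h2 : (⟨z, map_subtype_le _ hz⟩ : M) ∈ K := hz
    rw [h, mem_bot] at h2
    rw [← hzo, show z = 1 from congrArg Subtype.val h2, orderOf_one])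
  haveI : Nontrivial K := (Subgroup.nontrivial_iff_ne_bot K).2 hK1
  haveI : Nontrivial M := nontrivial_of_ne _ _ fun h : (⟨z, map_subtype_le _ hz⟩ : M) = 1 =>
    hp.ne_one (by rw [← hzo, show z = 1 from congrArg Subtype.val h, orderOf_one])
  have hK2 : K ≠ ⊤ := by
    intro h
    have hle : M ≤ ⁅M, M⁆ := (subgroupOf_eq_top.1 h).trans (Sig.sigma_core hG hM).2.2
    refine (Group.IsSolvable.commutator_lt_top_of_nontrivial M).ne
      (map_injective M.subtype_injective ?_)
    rw [commutator_def, map_commutator, ← MonoidHom.range_eq_map, range_subtype]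
    exact le_antisymm (Subgroup.commutator_le_self M) hle
  have hKnil : Group.IsNilpotent K := frob_kernel_nilpotent hK2 hC
  have hoddM : Odd (Nat.card M) := hG.1.of_dvd_nat M.card_subgroup_dvd_card
  have hne : Nat.card K ≠ K.index + 1 := fun h => by
    have h1 : Odd (Nat.card K) := hoddM.of_dvd_nat K.card_subgroup_dvd_card
    have h2 : Odd K.index := hoddM.of_dvd_nat K.index_dvd_card
    rw [h] at h1
    exact Nat.not_even_iff_odd.2 h1 (h2.add_odd odd_one)
  have hτS : Cfsg.IsLinearIsometryOn (Cfsg.zspanOn {χ : M → ℂ | Cfsg.IsIrrCharacter M χ ∧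
      ∃ h ∈ K, χ h ≠ χ 1} ({1}ᶜ : Set M)) τ := by rw [← hSeq]; exact hτ
  rcases feit_coherence hK1 hK2 hC hne τ hτS (by rw [← hSeq]; exact hτ1) with
    h | ⟨q, hq, ⟨m, hm⟩, hna, -⟩
  · rw [hSdef, hSeq]; exact h
  let e : K ≃* Cfsg.sigmaCore M := subgroupOfEquivOfLe (map_subtype_le _)
  have hHcard : Nat.card (Cfsg.sigmaCore M) = q ^ m := (Nat.card_congr e.toEquiv).symm.trans hm
  have hqp : q = p := by
    have h1 : p ∣ q ^ m := hHcard ▸ hzo ▸ Subgroup.orderOf_dvd_natCard _ hz
    exact ((Nat.prime_dvd_prime_iff_eq hp hq).1 (hp.dvd_of_dvd_pow h1)).symm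
  subst hqp
  have hidx : K.index ∣ q - 1 :=
    kernel_index_dvd hG hM hF (Group.nilpotent_of_mulEquiv e) hq hz hzo hzC hHcard fun hab => hna
      ⟨⟨fun a b => e.injective (by rw [map_mul, map_mul]; exact hab.is_comm.comm _ _)⟩⟩
  have hfr := frob_mod_commutator hC
  have hsolvK : Group.IsSolvable K := inferInstance
  have hDK : ⁅K, K⁆ < K := by
    have hmapD : (commutator K).map K.subtype = ⁅K, K⁆ := by
      rw [commutator_def, map_commutator, ← MonoidHom.range_eq_map, range_subtype]
    rw [← hmapD]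
    refine lt_of_le_of_ne (map_subtype_le _) fun h => ?_
    refine (Group.IsSolvable.commutator_lt_top_of_nontrivial K).ne ?_
    refine map_injective K.subtype_injective ?_
    rw [h, ← MonoidHom.range_eq_map, range_subtype]
  have hneS : ∀ χ ∈ S, Cfsg.conjFun χ ∈ S ∧ Cfsg.conjFun χ ≠ χ := fun χ hχ => by
    refine ⟨conjFun_mem_inducedIrrAbove hχ, fun h => ?_⟩
    obtain ⟨θ, h1, h2, -, rfl⟩ := id hχ
    have h0 : Cfsg.classInner (Cfsg.conjFun (Cfsg.indFun K θ)) (Cfsg.indFun K θ) = 0 :=
      classInner_conj_indFun_eq_zero hoddM h1 h2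
    rw [h, IsIrrCharacter.classInner_self (hirr _ hχ)] at h0
    exact one_ne_zero h0
  obtain ⟨ψ, hψ, -⟩ := exists_linear_aboveInd (L := M) (K := K) (A := ⁅K, K⁆) hsolvK hDK
  obtain ⟨R, hS⟩ := exists_coherenceSystem S
    ⟨ψ, inducedIrrAbove_subset_bot K _ (mem_aboveInd.1 hψ)⟩ hirr hneS hτ hτ1
  refine coherent_odd_nilpotent hsolvK hS hoddM ⊥ bot_le inferInstance ⁅K, K⁆
    (sup_bot_eq _).symm hDK (lt_top_iff_ne_top.2 hK2) hfr ?_
  exact Or.inr (Or.inr (Or.inr (Or.inr ⟨q, m, hq, by rw [relIndex_bot_left, hm], hidx⟩)))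

end CfsgLib.OddEnd
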