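import Cfsg.Agent.OddEnd.ConstCoset

/-!
The averages of a character avoiding the conjugate pairs, tested against the non-principal linear characters
of `L_σ` (Peterfalvi 12.14).
-/

set_option autoImplicit false
set_option linter.unusedSectionVars false

namespace CfsgLib.OddEnd

open Subgroup
open CfsgLib.Char
open scoped ComplexConjugate

universe u

variable {G : Type u} [Group G] [Fintype G]
variable (hG : Cfsg.IsMinSimpleOddOrder G) {L : Subgroup G} [Fintype L] (S : Side L)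
include hG S

/-- The difference of two induced characters has image orthogonal to `ν`. -/
theorem ind_diff_orth [Fintype (Kin L)] {ν : G → ℂ} (hν : Cfsg.IsIrrCharacter G ν) (hav : AvoidsPairs L ν)
    {θ φ : Kin L → ℂ} (hθ : Cfsg.IsIrrCharacter (Kin L) θ) (hθ1 : θ ≠ fun _ => 1)
    (hφ : Cfsg.IsIrrCharacter (Kin L) φ) (hφ1 : φ ≠ fun _ => 1) (hdeg : θ 1 = φ 1) :
    Cfsg.classInner (Cfsg.dadeIsometry (hat L) L (Cfsg.supportR L)
      (Cfsg.indFun (Kin L) θ - Cfsg.indFun (Kin L) φ)) ν = 0 := by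
  classical
  have hD := dade_full hG S.coatom S.kappa_eq
  set a := Cfsg.indFun (Kin L) θ with ha
  set b := Cfsg.indFun (Kin L) φ with hb
  have hgen : Cfsg.IsGeneralizedCharacter L (a - b) := IsGeneralized.sub
    (IsGeneralized.indFun (IsIrrCharacter.isGeneralized hθ)) (IsGeneralized.indFun (IsIrrCharacter.isGeneralized hφ))
  have hcl := IsGeneralized.isClassFunction hgen
  have hs : ∀ g : L, (g : G) ∉ hat L → (a - b) g = 0 := fun g hg => by
    by_cases hgK : g ∈ Kin L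
    · have g1 : g = 1 := Subtype.ext (by
        by_contra h
        exact hg (core1_subset_hat L ⟨hgK, h⟩))
      subst g1
      simp [ha, hb, indFun_one, hdeg]
    · simp [ha, hb, indFun_eq_zero_of_normal _ hgK]
  obtain ⟨C₁, hind₁, hC₁, -⟩ := constituents hG S hθ hθ1
  obtain ⟨C₂, hind₂, hC₂, -⟩ := constituents hG S hφ hφ1
  rw [← ha] at hind₁
  rw [← hb] at hind₂
  have hC : ∀ ξ ∈ C₁ ∪ C₂, Cfsg.IsIrrCharacter L ξ ∧ Cfsg.conjFun ξ ≠ ξ ∧
      ∀ g : L, g ≠ 1 → (g : G) ∉ hat L → ξ g = 0 := fun ξ hξ =>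
    (Finset.mem_union.1 hξ).elim (fun h => ⟨(hC₁ ξ h).1, (hC₁ ξ h).2.2.1, (hC₁ ξ h).2.2.2.1⟩)
      fun h => ⟨(hC₂ ξ h).1, (hC₂ ξ h).2.2.1, (hC₂ ξ h).2.2.2.1⟩
  choose! m hm hmr em using fun ξ (hξ : ξ ∈ C₁ ∪ C₂) => exists_conj_pair hG S (hC ξ hξ).1 (hC ξ hξ).2.1 (hC ξ hξ).2.2
  have hav' : ∀ ξ ∈ C₁ ∪ C₂, ν ≠ m ξ ∧ ν ≠ Cfsg.conjFun (m ξ) := fun ξ hξ => by
    rcases Finset.mem_union.1 hξ with h | h
    · exact hav θ hθ hθ1 ξ (hC₁ ξ h).1 (by rw [(hC₁ ξ h).2.2.2.2]; exact one_ne_zero) (m ξ) (hm ξ hξ) (em ξ hξ)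
    · exact hav φ hφ hφ1 ξ (hC₂ ξ h).1 (by rw [(hC₂ ξ h).2.2.2.2]; exact one_ne_zero) (m ξ) (hm ξ hξ) (em ξ hξ)
  by_cases hab : a = b
  · rw [hab, sub_self, show Cfsg.dadeIsometry (hat L) L (Cfsg.supportR L) (0 : L → ℂ) = 0 from funext fun g => by
      by_cases hg : ∃ a ∈ hat L, ∃ u ∈ Cfsg.supportR L a, ∃ x : G, x * g * x⁻¹ = a * u
      · obtain ⟨x, hx, u, hu, y, hy⟩ := hg
        exact dadeIsometry_apply hD (fun _ _ => rfl) (a := ⟨x, hD.subset hx⟩) hx hu hy
      · exact dadeIsometry_eq_zero hD hg, classInner_zero_left]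
  by_cases hconj : b = Cfsg.conjFun a
  · -- a sum of pairs avoided by `ν`
    have hsum : a - b = ∑ ξ ∈ C₁, (ξ - Cfsg.conjFun ξ) := by
      rw [hconj, hind₁, Finset.sum_sub_distrib]
      congr 1
      funext g
      simp [Cfsg.conjFun, Finset.sum_apply]
    rw [hsum, dade_sum_fun, classInner_sum_left]
    refine Finset.sum_eq_zero fun ξ hξ => ?_
    have hξ' : ξ ∈ C₁ ∪ C₂ := Finset.mem_union_left _ hξ
    obtain ⟨h1, h2⟩ := hav' ξ hξ'
    have hmc : Cfsg.IsIrrCharacter G (Cfsg.conjFun (m ξ)) := IsIrrCharacter.conj (hm ξ hξ')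
    rw [em ξ hξ', classInner_sub_left, IsIrrCharacter.classInner_of_ne (hm ξ hξ') hν h1.symm,
      IsIrrCharacter.classInner_of_ne hmc hν h2.symm, sub_zero]
  -- now the two families and their conjugates are disjoint
  have horth : Cfsg.classInner a b = 0 := by
    rw [ha, hb, classInner_indFun_indFun hθ hφ, if_neg]
    intro hmem
    obtain ⟨g, rfl⟩ := mem_conjOrbit.1 hmem
    exact hab (indFun_conjOn g φ)
  have horth' : Cfsg.classInner a (Cfsg.conjFun b) = 0 := by
    have hb' : Cfsg.conjFun b = Cfsg.indFun (Kin L) (Cfsg.conjFun φ) := funext fun g => by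
      simp only [hb, Cfsg.conjFun, indFun_def, map_mul, map_inv₀, map_natCast, map_sum]
      congr 1
      refine Finset.sum_congr rfl fun x _ => ?_
      by_cases hx : x⁻¹ * g * x ∈ Kin L
      · rw [extendByZero_of_mem _ hx, extendByZero_of_mem _ hx]
        rfl
      · rw [extendByZero_of_not_mem _ hx, extendByZero_of_not_mem _ hx, map_zero]
    have hφc : Cfsg.IsIrrCharacter _ (Cfsg.conjFun φ) := IsIrrCharacter.conj hφ
    rw [ha, hb', classInner_indFun_indFun hθ hφc, if_neg]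
    intro hmem
    obtain ⟨g, rfl⟩ := mem_conjOrbit.1 hmem
    refine hconj ?_
    rw [ha, indFun_conjOn, ← hb', conjFun_conjFun]
  have hdisj : Disjoint C₁ C₂ := orth_of_disjoint_sum (fun ξ h => (hC₁ ξ h).1) (fun ξ h => (hC₂ ξ h).1)
    (by rw [← hind₁, ← hind₂]; exact horth)
  have hinj : Set.InjOn (Cfsg.conjFun : (L → ℂ) → L → ℂ) C₂ := fun a _ b _ h => conjFun_inj h
  have hdisj' : Disjoint C₁ (C₂.image Cfsg.conjFun) := by
    refine orth_of_disjoint_sum (fun ξ h => (hC₁ ξ h).1) (fun ξ h => ?_) ?_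
    · obtain ⟨η, hη, rfl⟩ := Finset.mem_image.1 h
      exact IsIrrCharacter.conj (hC₂ η hη).1
    rw [← hind₁, Finset.sum_image hinj, show ∑ η ∈ C₂, Cfsg.conjFun η = Cfsg.conjFun b by
      rw [hind₂]; funext g; simp [Cfsg.conjFun, Finset.sum_apply]]
    exact horth'
  have hne : ∀ ξ ∈ C₁ ∪ C₂, ∀ η ∈ C₁ ∪ C₂, ξ ≠ Cfsg.conjFun η := by
    intro ξ hξ η hη e
    rcases Finset.mem_union.1 hξ with h | h <;> rcases Finset.mem_union.1 hη with h' | h'
    · exact ne_conj_of_mem hG hθ hθ1 hind₁ (fun x hx => (hC₁ x hx).1) h h' e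
    · exact Finset.disjoint_left.1 hdisj' h (Finset.mem_image.2 ⟨η, h', e.symm⟩)
    · exact Finset.disjoint_left.1 hdisj' h' (Finset.mem_image.2 ⟨ξ, h, by rw [e, conjFun_conjFun]⟩)
    · exact ne_conj_of_mem hG hφ hφ1 hind₂ (fun x hx => (hC₂ x hx).1) h h' e
  -- inner products with one constituent
  have hval : ∀ ξ ∈ C₁ ∪ C₂, Cfsg.classInner (a - b) ξ = (if ξ ∈ C₁ then 1 else -1) ∧
      Cfsg.classInner (a - b) (Cfsg.conjFun ξ) = 0 := by
    intro ξ hξ
    have hξi := (hC ξ hξ).1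
    have hξi' : Cfsg.IsIrrCharacter L (Cfsg.conjFun ξ) := IsIrrCharacter.conj hξi
    have hz : ∀ (C : Finset (L → ℂ)), (∀ η ∈ C, η ∈ C₁ ∪ C₂) →
        Cfsg.classInner (∑ η ∈ C, η) (Cfsg.conjFun ξ) = 0 := fun C hsub => by
      rw [classInner_sum_left, Finset.sum_eq_zero fun η hη =>
        IsIrrCharacter.classInner_of_ne (hC η (hsub η hη)).1 hξi' (hne η (hsub η hη) ξ hξ)]
    refine ⟨?_, by rw [classInner_sub_left, hind₁, hind₂, hz C₁ (fun η h => Finset.mem_union_left _ h),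
      hz C₂ (fun η h => Finset.mem_union_right _ h), sub_zero]⟩
    rw [classInner_sub_left]
    split_ifs with h
    · rw [(hC₁ ξ h).2.2.2.2, hind₂, classInner_sum_left, Finset.sum_eq_zero fun η hη =>
        IsIrrCharacter.classInner_of_ne (hC₂ η hη).1 hξi fun e : η = ξ => Finset.disjoint_left.1 hdisj h (e ▸ hη),
        sub_zero]
    · have h2 : ξ ∈ C₂ := (Finset.mem_union.1 hξ).resolve_left h
      rw [(hC₂ ξ h2).2.2.2.2, hind₁, classInner_sum_left, Finset.sum_eq_zero fun η hη =>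
        IsIrrCharacter.classInner_of_ne (hC₁ η hη).1 hξi fun e : η = ξ => h (e ▸ hη), zero_sub]
  refine orth_of_pairs (C₁ ∪ C₂) m hm (fun ξ hξ η hη hξη => ?_) hmr
    (isGeneralized_dadeIsometry hD hgen hs) (fun ξ hξ => ?_) ?_ hν hav'
  · exact pair_distinct hG S (hC ξ hξ).1 (hC η hη).1 (hC ξ hξ).2.2 hξη (hne ξ hξ η hη) (hm ξ hξ) (hmr ξ hξ)
      (em ξ hξ) (em η hη)
  · have hξc : Cfsg.IsIrrCharacter L (Cfsg.conjFun ξ) := IsIrrCharacter.conj (hC ξ hξ).1
    rw [← em ξ hξ, classInner_dadeIsometry_dadeIsometry hD hcl hs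
      (IsGeneralized.isClassFunction (IsGeneralized.sub (IsIrrCharacter.isGeneralized (hC ξ hξ).1)
        (IsIrrCharacter.isGeneralized hξc))), classInner_sub_right, (hval ξ hξ).1, (hval ξ hξ).2, sub_zero]
    split_ifs
    · exact Or.inl rfl
    · exact Or.inr rfl
  · rw [classInner_dadeIsometry_dadeIsometry hD hcl hs hcl, classInner_sub_right, hind₁, hind₂,
      classInner_sum_right, classInner_sum_right, ← hind₁, ← hind₂,
      Finset.sum_congr rfl fun ξ h => ((hval ξ (Finset.mem_union_left _ h)).1.trans (if_pos h)),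
      Finset.sum_congr rfl fun ξ h => ((hval ξ (Finset.mem_union_right _ h)).1.trans
        (if_neg fun h1 => Finset.disjoint_left.1 hdisj h1 h)),
      Finset.card_union_of_disjoint hdisj]
    simp

/-- Peterfalvi 12.14: the tests against non-principal linear characters have a common integral value. -/
theorem linear_common [Fintype (Kin L)] {ν : G → ℂ} (hν : Cfsg.IsIrrCharacter G ν) (hav : AvoidsPairs L ν) :
    ∃ N : ℤ, ∀ l : Kin L →* ℂˣ, l ≠ 1 →
      ∑ z : Kin L, (1 - (l z : ℂ)) * rhoOn (hat L) L (Cfsg.supportR L) ν (z : L) =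
        (N : ℂ) * (Nat.card (Kin L) : ℂ) := by
  classical
  have hD := dade_full hG S.coatom S.kappa_eq
  set g := rhoOn (hat L) L (Cfsg.supportR L) ν
  have hgcl : Cfsg.IsClassFunction L g := rhoOn_isClassFunction hD (IsIrrCharacter.isClassFunction hν)
  set β : (Kin L →* ℂˣ) → L → ℂ := fun l =>
    Cfsg.indFun (Kin L) (fun _ => (1 : ℂ)) - Cfsg.indFun (Kin L) (fun z => (l z : ℂ))
  have hβgen : ∀ l, Cfsg.IsGeneralizedCharacter L (β l) := fun l => IsGeneralized.sub
    (IsGeneralized.indFun (IsIrrCharacter.isGeneralized isIrrCharacter_one))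
    (IsGeneralized.indFun (IsIrrCharacter.isGeneralized (isIrrCharacter_ofHom l)))
  have hβs : ∀ l, ∀ a : L, (a : G) ∉ hat L → β l a = 0 := fun l a ha => by
    by_cases haK : a ∈ Kin L
    · have a1 : a = 1 := Subtype.ext (by
        by_contra h
        exact ha (core1_subset_hat L ⟨haK, h⟩))
      subst a1
      simp [β, indFun_one]
    · simp [β, indFun_eq_zero_of_normal _ haK]
  have hint : ∀ l, ∃ n : ℤ, Cfsg.classInner (Cfsg.dadeIsometry (hat L) L (Cfsg.supportR L) (β l)) ν = n :=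
    fun l => IsGeneralized.exists_classInner_eq_int (isGeneralized_dadeIsometry hD (hβgen l) (hβs l))
      (IsIrrCharacter.isGeneralized hν)
  choose n hn using hint
  have hsum : ∀ l : Kin L →* ℂˣ, ∑ z : Kin L, (1 - conj (l z : ℂ)) * g z = (n l : ℂ) * Nat.card (Kin L) := by
    intro l
    have h := hn l
    rw [classInner_dade_rhoOn hD (IsGeneralized.isClassFunction (hβgen l)) (hβs l)
      (IsIrrCharacter.isClassFunction hν), classInner_sub_left, classInner_indFun _ hgcl, classInner_indFun _ hgcl,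
      ← classInner_sub_left, classInner_def] at h
    have hk : (Nat.card (Kin L) : ℂ) ≠ 0 := Nat.cast_ne_zero.2 Nat.card_pos.ne'
    have h' := congrArg conj h
    rw [map_mul, map_inv₀, map_natCast, map_intCast, map_sum, inv_mul_eq_iff_eq_mul₀ hk] at h'
    rw [mul_comm, ← h']
    refine Finset.sum_congr rfl fun z _ => ?_
    simp [g]
  have hne1 : ∀ {l : Kin L →* ℂˣ}, l ≠ 1 → (fun z : Kin L => (l z : ℂ)) ≠ fun _ => 1 := fun hl h =>
    hl (MonoidHom.ext fun z => Units.ext (congrFun h z))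
  by_cases hex : ∃ l : Kin L →* ℂˣ, l ≠ 1
  · obtain ⟨l₀, hl₀⟩ := hex
    refine ⟨n l₀, fun l hl => ?_⟩
    have heq : n l⁻¹ = n l₀ := by
      have h := ind_diff_orth hG S hν hav (isIrrCharacter_ofHom l₀) (hne1 hl₀)
        (isIrrCharacter_ofHom l⁻¹) (hne1 fun h => hl (MonoidHom.ext fun z => inv_eq_one.1 (DFunLike.congr_fun h z))) (by simp)
      have hdiff : Cfsg.indFun (Kin L) (fun z => (l₀ z : ℂ)) - Cfsg.indFun (Kin L) (fun z => ((l⁻¹) z : ℂ)) =
          β l⁻¹ - β l₀ := by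
        simp only [β]
        abel
      rw [hdiff, dade_sub, classInner_sub_left, hn, hn, sub_eq_zero] at h
      exact_mod_cast h
    rw [← heq, ← hsum l⁻¹]
    refine Finset.sum_congr rfl fun z _ => ?_
    congr 2
    have h1 : ‖((l z : ℂˣ) : ℂ)‖ = 1 := Complex.norm_eq_one_of_pow_eq_one
      (by rw [← Units.val_pow_eq_pow_val, ← map_pow, pow_orderOf_eq_one, map_one, Units.val_one])
      (orderOf_pos z).ne'
    rw [MonoidHom.inv_apply, Units.val_inv_eq_inv_val, map_inv₀, Complex.inv_eq_conj]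
    · rw [Complex.conj_conj]
    · rw [Complex.norm_conj, h1]
  · push Not at hex
    exact ⟨0, fun l hl => absurd (hex l) hl⟩

end CfsgLib.OddEnd
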