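import Cfsg.Agent.OddEnd.LocalRowsSupport
import Cfsg.Agent.OddEnd.AllTypeI
import Cfsg.Agent.OddEnd.FinalStep
import Cfsg.Agent.S1369
import Cfsg.Agent.OddLocal.KappaCover

/-!
The classes of maximal subgroups and the relation of support between them, once every maximal subgroup with
empty `κ` is a Frobenius group.
-/

set_option autoImplicit false
set_option linter.style.haveILetI false
set_option linter.unusedSectionVars false

namespace CfsgLib.OddEnd.Rows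

open Subgroup CfsgLib.OddLocal
open scoped commutatorElement

universe u

variable {G : Type u} [Group G] [Finite G] (hG : Cfsg.IsMinSimpleOddOrder G) (hF : EmptyKappaFrobenius G)
include hG hF

/-- S1385. -/
theorem maximal_structure_of_frobenius :
    (∀ M : Subgroup G, IsCoatom M → Cfsg.IsOfTypeI M) ∨
      ∃ W₁ W₂ S T : Subgroup G, Cfsg.IsSelfNormalizingCyclic W₁ W₂ ∧ IsCoatom S ∧ IsCoatom T ∧
        Cfsg.IsComplIn ⁅S, S⁆ W₁ S ∧ Cfsg.IsComplIn ⁅T, T⁆ W₂ T ∧ S ⊓ T = W₁ ⊔ W₂ ∧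
        (Cfsg.IsOfTypeII S ∨ Cfsg.IsOfTypeII T) ∧
        (Cfsg.IsOfTypeII S ∨ Cfsg.IsOfTypeIII S ∨ Cfsg.IsOfTypeIV S ∨ Cfsg.IsOfTypeV S) ∧
        (Cfsg.IsOfTypeII T ∨ Cfsg.IsOfTypeIII T ∨ Cfsg.IsOfTypeIV T ∨ Cfsg.IsOfTypeV T) ∧
        ∀ M : Subgroup G, IsCoatom M → Cfsg.IsOfTypeI M ∨
          ∃ g : G, M = S.map (MulAut.conj g).toMonoidHom ∨ M = T.map (MulAut.conj g).toMonoidHom := by
  refine Or.inr ?_
  obtain ⟨M, hM, hκ⟩ : ∃ M : Subgroup G, IsCoatom M ∧ (Cfsg.kappa M).Nonempty := by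
    by_contra h
    push Not at h
    exact not_all_kappa_empty hG h
  obtain ⟨K, U, hKU⟩ := Kap.exists_decomp_any hG hM
  have hK1 := (Kap.kappa_nonempty_iff hG hM hKU).1 hκ
  obtain ⟨N, hN, hNH, hKe, -, hout⟩ := Kap.exists_partner hG hM hKU.hall hK1
  have hL1 : Kap.star M K ≠ ⊥ := Kap.fixed_ne_bot hG hM hKU.hall hK1
  obtain ⟨U', hKU'⟩ := Kap.exists_decomp hG hN (Kap.kappa_cyclic hG hN hNH) hNH
  obtain ⟨⟨V₁, hP₁⟩, ht₁⟩ := typeP_of_decomp hG hM hKU hK1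
  obtain ⟨⟨V₂, hP₂⟩, ht₂⟩ := typeP_of_decomp hG hN hKU' hL1
  refine ⟨K, Kap.star M K, M, N, hP₁.selfNormalizing, hM, hN, hP₁.W₁_compl, hP₂.W₁_compl,
    (Cfsg.Agent.S1368.result hG M hM K U hKU hK1 N hN hKe hNH).1,
    hout.imp (typeII_of_hasOuter hG hM hKU hK1) (typeII_of_hasOuter hG hN hKU' hL1), ht₁, ht₂, fun H hH => ?_⟩
  by_cases hκH : (Cfsg.kappa H).Nonempty
  · exact Or.inr ((Cfsg.Agent.S1369.result hG M hM K U hKU hK1 N hN hKe hNH).2 H hH hκH)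
  · exact Or.inl (typeI_of_empty hG hF hH (Set.not_nonempty_iff_eq_empty.1 hκH))

section Meet

variable {S T : Subgroup G} (hS : IsCoatom S) (hT : IsCoatom T)
  (hnc : ∀ g : G, T.map (MulAut.conj g).toMonoidHom ≠ S)
include hS hT hnc

/-- An element of `A₁(S) ∩ A(T)` has its centralizer in `T` and not in `S`. -/
theorem meet_centralizer {x : G} (hx1 : x ∈ Cfsg.typeA1 S) (hxT : x ∈ Cfsg.typeA T) :
    ¬ centralizer ({x} : Set G) ≤ S ∧ centralizer ({x} : Set G) ≤ T := by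
  obtain ⟨hxS, hxne⟩ := (typeA1_eq hG hS).le hx1
  have hdis : ∀ r : ℕ, r.Prime → r ∣ orderOf x → r ∉ Cfsg.sigma T := fun r hr hd => by
    haveI := Fact.mk hr
    exact sigma_disjoint hG hS hT hnc (Kap.sigma_of_order hG hS hxS r hr hd)
  have hxσ : x ∉ (Cfsg.sigmaCore T : Set G) := fun h => by
    obtain ⟨r, hr, hd⟩ := Nat.exists_prime_and_dvd (fun e => hxne (orderOf_eq_one_iff.1 e))
    exact hdis r hr hd (Kap.sigma_of_order hG hT h r hr hd)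
  obtain ⟨K, U, hKU⟩ := Kap.exists_decomp_any hG hT
  obtain ⟨hC, hu⟩ := Kap.part_unique_max hG hT hKU (Kap.typeA_diff_subset hG hT hKU ⟨hxT, hxσ⟩)
    (b := 1) (c := x) (one_mem _) (mem_zpowers x) (one_mul x).symm
    (fun r hr hd => absurd (Nat.dvd_one.1 (orderOf_one (G := G) ▸ hd)) hr.ne_one) hdis
  exact ⟨fun h => hnc 1 (by rw [map_one]; exact (map_id T).trans (hu S hS h).symm), hC⟩

theorem supports_iff_meet : Cfsg.Supports T S ↔ (Cfsg.typeA1 S ∩ Cfsg.typeA T).Nonempty := by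
  constructor
  · rintro ⟨-, x, hx, hxS, hxT⟩
    obtain ⟨⟨hσ, hx1, -⟩, -, -, -, -, hxA, -⟩ := supported_facts hG hF hS hT hx hxS hxT
    exact ⟨x, (typeA1_eq hG hS).ge ⟨hσ, hx1⟩, hxA⟩
  · rintro ⟨x, hx1, hxT⟩
    obtain ⟨h1, h2⟩ := meet_centralizer hG hF hS hT hnc hx1 hxT
    exact ⟨hT, x, Or.inl (Kap.typeA1_subset_typeA hG hS hx1), h1, h2⟩

/-- A meeting of the covers gives a meeting of `A₁(S)` with the support of a conjugate of `T`. -/
theorem exists_meet_of_tilde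
    (h : (Cfsg.tildeOf S (Cfsg.typeA1 S) ∩ Cfsg.tildeOf T (Cfsg.typeA T)).Nonempty) :
    ∃ g : G, (Cfsg.typeA1 S ∩ Cfsg.typeA (T.map (MulAut.conj g).toMonoidHom)).Nonempty := by
  obtain ⟨z, ⟨a, ha, r, hr, y, hz⟩, b, hb, s, hs, v, hz'⟩ := h
  obtain ⟨haS, ha1⟩ := (typeA1_eq hG hS).le ha
  have ha1' : a ≠ 1 := fun e => ha1 e
  have hb1 : b ≠ 1 := (Kap.typeA_subset T hb).2
  have hbσ : b ∉ Cfsg.sigmaCore T := fun hbσ => (Set.eq_empty_iff_forall_notMem.1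
    (Kap.tilde_disjoint hG hS hT fun g e => hnc g⁻¹ (by rw [e, Uniq.map_conj_inv]))) z
    ⟨⟨a, ⟨haS, ha1⟩, r, hr, y, hz⟩, b, ⟨hbσ, hb1⟩, s, hs, v, hz'⟩
  have hbC := ((Kap.support_cases hG hT (Or.inl hb)).resolve_left hbσ).2
  rw [Kap.supportR_eq_bot hG hbC, Subgroup.mem_bot] at hs
  subst hs
  set g := y⁻¹ * v with hg
  have he : a * r = g * b * g⁻¹ := by
    calc a * r = y⁻¹ * z * y := by rw [hz]; group
      _ = g * b * g⁻¹ := by rw [hz', hg]; group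
  obtain ⟨hcomm, hrσ, -⟩ := Kap.supportR_spec hG hS haS ha1' hr
  have hco : (orderOf r).Coprime (orderOf a) := Nat.coprime_of_dvd fun q hq h1 h2 =>
    hrσ q hq h1 (Kap.sigma_of_order hG hS haS q hq h2)
  obtain ⟨m, hm⟩ := exists_pow_eq_self_of_coprime hco
  have hpow : a = g * b ^ (orderOf r * m) * g⁻¹ := by
    rw [← conj_pow, ← he, pow_mul, hcomm.mul_pow, pow_orderOf_eq_one, mul_one, hm]
  refine ⟨g, a, ha, ?_⟩
  rw [hpow]
  refine typeA_map hG hF hT ?_ g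
  obtain ⟨hbD, -, x, hx, hx1, hbx⟩ := (mem_typeA_iff hG hF hT).1 hb
  exact (mem_typeA_iff hG hF hT).2 ⟨pow_mem hbD _,
    fun e => ha1' (by rw [hpow, e]; group), x, hx, hx1, ((show Commute b x from hbx).pow_left _).eq⟩

/-- The kappa primes of a meeting pair. -/
theorem meet_kappa {g x : G} (hx1 : x ∈ Cfsg.typeA1 S)
    (hxT : x ∈ Cfsg.typeA (T.map (MulAut.conj g).toMonoidHom)) :
    Cfsg.kappa S = ∅ ∧ (Cfsg.kappa T).Nonempty := by
  have hT' := Uniq.coatom_conj hT g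
  have hnc' : ∀ h : G, (T.map (MulAut.conj g).toMonoidHom).map (MulAut.conj h).toMonoidHom ≠ S := fun h => by
    rw [Tau.map_conj_comp]; exact hnc _
  obtain ⟨h1, h2⟩ := meet_centralizer hG hF hS hT' hnc' hx1 hxT
  obtain ⟨⟨-, -, hκ⟩, -, -, -, -, -, hxσ⟩ :=
    supported_facts hG hF hS hT' (Or.inl (Kap.typeA1_subset_typeA hG hS hx1)) h1 h2
  refine ⟨hκ, Set.nonempty_iff_ne_empty.2 fun he => hxσ ?_⟩
  have ha := typeA_map hG hF hT' hxT g⁻¹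
  rw [Uniq.map_conj_inv] at ha
  obtain ⟨haD, -, y, hy, hy1, hay⟩ := (mem_typeA_iff hG hF hT).1 ha
  have hσ := hF T hT he y hy hy1 ⟨Kap.commutator_le_self' T haD, mem_centralizer_singleton_iff.2 hay⟩
  have h' := Kap.mem_sigmaCore_conj hG hT hσ g
  rwa [show g * (g⁻¹ * x * g⁻¹⁻¹) * g⁻¹ = x by group] at h'

end Meet

/-- S1539. -/
theorem supports_iff_of_frobenius (S T : Subgroup G) (hS : IsCoatom S) (hT : IsCoatom T)
    (hnc : ∀ g : G, T.map (MulAut.conj g).toMonoidHom ≠ S) :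
    (Cfsg.Supports T S ↔ (Cfsg.typeA1 S ∩ Cfsg.typeA T).Nonempty) ∧
      (∀ x ∈ Cfsg.typeA1 S ∩ Cfsg.typeA T,
        ¬ centralizer ({x} : Set G) ≤ S ∧ centralizer ({x} : Set G) ≤ T) ∧
      ((∃ g : G, Cfsg.Supports (T.map (MulAut.conj g).toMonoidHom) S) ↔
        (Cfsg.tildeOf S (Cfsg.typeA1 S) ∩ Cfsg.tildeOf T (Cfsg.typeA T)).Nonempty) ∧
      (Cfsg.tildeOf S (Cfsg.typeA1 S) ∩ Cfsg.tildeOf T (Cfsg.typeA T) = ∅ ∨
        Cfsg.tildeOf T (Cfsg.typeA1 T) ∩ Cfsg.tildeOf S (Cfsg.typeA S) = ∅) := by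
  have hnc' : ∀ g h : G, (T.map (MulAut.conj g).toMonoidHom).map (MulAut.conj h).toMonoidHom ≠ S := fun g h => by
    rw [Tau.map_conj_comp]; exact hnc _
  refine ⟨supports_iff_meet hG hF hS hT hnc, fun x hx => meet_centralizer hG hF hS hT hnc hx.1 hx.2,
    ⟨fun ⟨g, hg⟩ => ?_, fun h => ?_⟩, ?_⟩
  · obtain ⟨x, hx1, hxT⟩ := (supports_iff_meet hG hF hS (Uniq.coatom_conj hT g) (hnc' g)).1 hg
    have ha := typeA_map hG hF (Uniq.coatom_conj hT g) hxT g⁻¹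
    rw [Uniq.map_conj_inv] at ha
    exact ⟨x, ⟨x, hx1, 1, one_mem _, 1, by group⟩, _, ha, 1, one_mem _, g, by group⟩
  · obtain ⟨g, hg⟩ := exists_meet_of_tilde hG hF hS hT hnc h
    exact ⟨g, (supports_iff_meet hG hF hS (Uniq.coatom_conj hT g) (hnc' g)).2 hg⟩
  · by_contra h
    rw [not_or, ← Ne, ← Ne, ← Set.nonempty_iff_ne_empty, ← Set.nonempty_iff_ne_empty] at h
    have hsymm : ∀ g : G, S.map (MulAut.conj g).toMonoidHom ≠ T := fun g e =>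
      hnc g⁻¹ (by rw [← e, Uniq.map_conj_inv])
    obtain ⟨g, x, hx⟩ := exists_meet_of_tilde hG hF hS hT hnc h.1
    obtain ⟨g', x', hx'⟩ := exists_meet_of_tilde hG hF hT hS hsymm h.2
    exact (Set.nonempty_iff_ne_empty.1 (meet_kappa hG hF hS hT hnc hx.1 hx.2).2)
      (meet_kappa hG hF hT hS hsymm hx'.1 hx'.2).1

end CfsgLib.OddEnd.Rows
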