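import Cfsg.Agent.OddEnd.LocalRowsTypeOne
import Cfsg.Agent.S1372

/-!
Maximal subgroups whose Fitting subgroup meets a conjugate (BG 16.1), once every maximal subgroup with empty
`κ` is a Frobenius group.
-/

set_option autoImplicit false
set_option linter.style.haveILetI false
set_option linter.unusedSectionVars false

namespace CfsgLib.OddEnd.Rows

open Subgroup CfsgLib.OddLocal
open scoped commutatorElement

universe u

variable {G : Type u} [Group G] [Finite G]

/-- A nonabelian `p`-core lies in no cyclic `p'`-core. -/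
theorem eq_of_prime_core_cyclic {L : Type u} [Group L] [Finite L] {p r : ℕ} (hp : p.Prime) (hr : r.Prime)
    (hnab : ¬ IsMulCommutative (Cfsg.pCore p L)) (hc : IsCyclic (Cfsg.pPrimeCore r L)) : r = p := by
  by_contra hne
  haveI := Fact.mk hp
  haveI := hc
  obtain ⟨k, hk⟩ := IsPGroup.iff_card.1 (CfsgLib.Solvable.isPGroup_pCore p (G := L))
  have hle : Cfsg.pCore p L ≤ Cfsg.pPrimeCore r L := le_sSup ⟨CfsgLib.Solvable.pCore_normal p, by
    rw [hk]; exact ((Nat.coprime_primes hp hr).2 (Ne.symm hne)).pow_left k⟩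
  haveI : IsCyclic (Cfsg.pCore p L) := isCyclic_of_injective _ (inclusion_injective hle)
  letI := IsCyclic.commGroup (α := Cfsg.pCore p L)
  exact hnab ⟨⟨fun a b => mul_comm a b⟩⟩

variable (hG : Cfsg.IsMinSimpleOddOrder G)
include hG

/-- In a Frobenius maximal subgroup the Fitting subgroup is the kernel. -/
theorem fittingOf_of_frobenius {M : Subgroup G} (hM : IsCoatom M) (hnil : Group.IsNilpotent (Cfsg.sigmaCore M))
    (hFM : KernelFrobenius M) : Cfsg.fittingOf M = Cfsg.sigmaCore M := by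
  refine le_antisymm (Bender.fitting_le_of_qc fun r _ => ?_)
    (Bender.le_fitting (map_subtype_le _) (TH.le_normalizer_core M) hnil)
  by_cases hr : r ∈ Cfsg.sigma M
  · exact Excep.le_sigmaCore hG hM (Bender.qc_le r M) (Excep.primes_of_pgroup (Bender.isPGroup_qc M) hr)
  obtain ⟨y, hy, hy1⟩ := (bot_or_exists_ne_one (Cfsg.sigmaCore M)).resolve_left
    (Tau.sigmaCore_ne_bot hG hM (Kap.one_lt_card_coatom hG hM))
  have hc := Kap.centralizes_of_disjoint (P := Bender.qc r M) (Q := Cfsg.sigmaCore M)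
    ((map_subtype_le _).trans (Bender.le_normalizer_qc r M)) ((Bender.qc_le r M).trans (TH.le_normalizer_core M))
    (Nat.coprime_of_dvd fun t ht h1 h2 => hr (by
      obtain ⟨k, hk⟩ := IsPGroup.iff_card.1 (Bender.isPGroup_qc (s := r) M)
      exact (Nat.prime_dvd_prime_iff_eq ht Fact.out).1 (ht.dvd_of_dvd_pow (hk ▸ h1)) ▸
        (Sig.sigma_core hG hM).1.2.1 t ht h2))
  exact fun x hx => hFM y hy hy1
    ⟨Bender.qc_le r M hx, mem_centralizer_singleton_iff.2 (mem_centralizer_iff.1 (hc hx) y hy).symm⟩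

/-- A cyclic group of fused elements in a nonabelian `M_σ` has prime order. -/
theorem fused_card {M : Subgroup G} (hM : IsCoatom M) (hnil : Group.IsNilpotent (Cfsg.sigmaCore M))
    (hab : ¬ IsMulCommutative (Cfsg.sigmaCore M)) {g : G} (hg : g ∉ M) {X : Subgroup G} (hXc : IsCyclic X)
    (hX : X ≤ Cfsg.sigmaCore M) (hXg : ∀ x ∈ X, g⁻¹ * x * g ∈ Cfsg.sigmaCore M) {p : ℕ} [hp : Fact p.Prime]
    {z : G} (hz : z ∈ X) (hzo : orderOf z = p) : Nat.card X = p := by
  have hP := part_noncomm hG hM hnil hg (hX hz) hzo (hXg z hz) hab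
  have hprimes : ∀ q : ℕ, q.Prime → q ∣ Nat.card X → q = p := fun q hq hd => by
    by_contra hne
    haveI := Fact.mk hq
    obtain ⟨w, hw⟩ := exists_prime_orderOf_dvd_card' (G := X) q hd
    rw [← Subgroup.orderOf_coe] at hw
    exact hP (Kap.qc_commutative hG hM hnil hg (hX w.2) hw (hXg w w.2) (Ne.symm hne))
  have hn := Nat.eq_prime_pow_of_unique_prime_dvd (Nat.card_pos (α := X)).ne' fun {d} hd h => hprimes d hd h
  set k := (Nat.card X).primeFactorsList.length
  rcases lt_trichotomy k 1 with hk | hk | hk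
  · exfalso
    have h := hzo ▸ X.orderOf_dvd_natCard hz
    rw [hn, show k = 0 by omega, pow_zero, Nat.dvd_one] at h
    exact hp.out.ne_one h
  · rw [hn, hk, pow_one]
  · exfalso
    haveI := hXc
    obtain ⟨x, hx⟩ := IsCyclic.exists_ofOrder_eq_natCard (α := X)
    rw [← Subgroup.orderOf_coe, hn] at hx
    have hd : p ^ 2 ∣ orderOf (x : G) := hx ▸ pow_dvd_pow p hk
    set y : G := (x : G) ^ (orderOf (x : G) / p ^ 2)
    have hyo : orderOf y = p ^ 2 := orderOf_pow_orderOf_div (orderOf_pos (x : G)).ne' hd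
    have hyX : y ∈ X := pow_mem x.2 _
    have hwo : orderOf (y ^ p) = p := orderOf_eq_prime (by rw [← pow_mul, ← sq, ← hyo, pow_orderOf_eq_one])
      fun e => by
        have := Nat.le_of_dvd hp.out.pos (hyo ▸ orderOf_dvd_of_pow_eq_one e)
        nlinarith [hp.out.two_le]
    exact Kap.part_not_pow hG hM hnil hg (hX (pow_mem hyX p)) hwo (hXg _ (pow_mem hyX p))
      (part_noncomm hG hM hnil hg (hX (pow_mem hyX p)) hwo (hXg _ (pow_mem hyX p)) hab)
      (Kap.mem_qc_of_order hnil (hX hyX) hyo) rfl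

/-- S1440. -/
theorem fitting_not_ti_structure_of_frobenius (hF : EmptyKappaFrobenius G) (M : Subgroup G) (hM : IsCoatom M)
    (K U : Subgroup G) (hKU : Cfsg.IsSigmaDecomposition M K U) (g : G) (hg : g ∉ M)
    (hX : Cfsg.fittingOf M ⊓ (Cfsg.fittingOf M).map (MulAut.conj g).toMonoidHom ≠ ⊥) :
    (Cfsg.fittingOf M ⊓ (Cfsg.fittingOf M).map (MulAut.conj g).toMonoidHom ≤ Cfsg.fittingHallOf M ∧
        IsCyclic ↥(Cfsg.fittingOf M ⊓ (Cfsg.fittingOf M).map (MulAut.conj g).toMonoidHom)) ∧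
      (⁅M, M⁆ = Cfsg.fittingOf M ∧
        Cfsg.fittingOf M = Cfsg.sigmaCore M ⊔ Cfsg.piCoreOf {q | q.Prime ∧ q ∉ Cfsg.sigma M} (Cfsg.fittingOf M)) ∧
      ((K = ⊥ ∧ IsMulCommutative (Cfsg.fittingHallOf M) ∧ Cfsg.RankLE 2 (Cfsg.fittingHallOf M) ∧
          ¬ Cfsg.RankLE 1 (Cfsg.fittingHallOf M)) ∨
       (∃ p : ℕ, p.Prime ∧
          Nat.card ↥(Cfsg.fittingOf M ⊓ (Cfsg.fittingOf M).map (MulAut.conj g).toMonoidHom) = p ∧
          p ∈ Cfsg.sigma M ∧ p ∉ Cfsg.beta M ∧
          ¬ IsMulCommutative (Cfsg.pCore p ↥(Cfsg.fittingHallOf M)) ∧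
          IsCyclic (Cfsg.pPrimeCore p ↥(Cfsg.fittingHallOf M)) ∧
          ∀ q : ℕ, q.Prime → q ∣ Nat.card (Cfsg.fittingHallOf M) →
            Monoid.exponent (↥M ⧸ Cfsg.fittingHall ↥M) ∣ q - 1) ∨
       (∃ p : ℕ, p.Prime ∧
          Nat.card ↥(Cfsg.fittingOf M ⊓ (Cfsg.fittingOf M).map (MulAut.conj g).toMonoidHom) = p ∧
          p ∈ Cfsg.sigma M ∧ p ∉ Cfsg.beta M ∧
          IsCyclic (Cfsg.pPrimeCore p ↥(Cfsg.fittingHallOf M)) ∧
          Nat.card (Cfsg.pCore p ↥(Cfsg.fittingHallOf M)) = p ^ 3 ∧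
          ¬ IsMulCommutative (Cfsg.pCore p ↥(Cfsg.fittingHallOf M)) ∧ K ≠ ⊥ ∧ U = ⊥ ∧
          (Cfsg.fittingHallOf M).relIndex M ∣ p + 1)) := by
  set F := Cfsg.fittingOf M with hFdef
  set S := Cfsg.sigmaCore M with hSdef
  set X := F ⊓ F.map (MulAut.conj g).toMonoidHom with hXdef
  have hXg' : ∀ x ∈ X, g⁻¹ * x * g ∈ F := by
    rintro _ ⟨-, y, hy, rfl⟩
    show g⁻¹ * (g * y * g⁻¹) * g ∈ F
    rw [show g⁻¹ * (g * y * g⁻¹) * g = y by group]
    exact hy
  obtain ⟨x, hx, hx1⟩ := (bot_or_exists_ne_one X).resolve_left hX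
  have hnTI : ¬ Cfsg.IsTISubset (F : Set G) := fun h => hx1 (by
    have hgn : g ∉ normalizer (F : Set G) := by
      rw [Uniq.coatom_normalizer_eq hG hM (Bender.fitting_le M) (Bender.le_normalizer_fitting M)
        fun e => hx1 (Subgroup.mem_bot.1 (e.le hx.1))]
      exact hg
    have := h g hgn _ (hXg' x hx) (by rw [show g * (g⁻¹ * x * g) * g⁻¹ = x by group]; exact hx.1)
    rw [show x = g * (g⁻¹ * x * g) * g⁻¹ by group, this]; group)
  have hFH : Cfsg.fittingHallOf M = S := by_contra fun h =>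
    hnTI (Cfsg.Agent.S1357.result hG M hM K U hKU h).2.1
  have hnil : Group.IsNilpotent S := hFH ▸ FittingHall.nilpotent_of M
  have hU : K ≠ ⊥ → U = ⊥ := fun hK => by_contra fun hU =>
    hnTI (Cfsg.Agent.S1372.result hG M hM K U hKU hK hU).2.1
  have hFS : F = S := by
    by_cases hK : K = ⊥
    · exact fittingOf_of_frobenius hG hM hnil (hF M hM ((kappa_empty_iff hG hM hKU).2 hK))
    · exact le_antisymm ((Kap.fitting_le_derived hG hM ((Kap.kappa_nonempty_iff hG hM hKU).2 hK)).trans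
        (Kap.derived_eq_of_bot hG hM hKU hK (hU hK)).le)
        (Bender.le_fitting (map_subtype_le _) (TH.le_normalizer_core M) hnil)
  have hXS : X ≤ S := inf_le_left.trans hFS.le
  have hXg : ∀ y ∈ X, g⁻¹ * y * g ∈ S := fun y hy => hFS.le (hXg' y hy)
  have hXc : IsCyclic X := by
    haveI := (Tau.core_meet_conj hG hM hg).1
    exact isCyclic_of_injective _ (inclusion_injective
      (inf_le_inf hFS.le (map_mono (Bender.fitting_le M)) : X ≤ S ⊓ M.map (MulAut.conj g).toMonoidHom))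
  obtain ⟨p, hp, hpd⟩ := Nat.exists_prime_and_dvd (fun e => hX (eq_bot_of_card_eq X e))
  haveI := Fact.mk hp
  obtain ⟨w, hw⟩ := exists_prime_orderOf_dvd_card' (G := X) p hpd
  rw [← Subgroup.orderOf_coe] at hw
  have hz := hXS w.2
  have hzg := hXg w w.2
  have hpσ := Kap.mem_sigma_of_mem_core hG hM hp hz hw
  have hpβ := Kap.meet_not_beta hG hM hnil hg hz hw hzg
  have hexp := exponent_quotient_dvd M
  have hder : ⁅M, M⁆ = S := by
    refine le_antisymm ?_ (Sig.sigma_core hG hM).2.2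
    by_cases hK : K = ⊥
    · obtain ⟨E, hE⟩ := exists_compl hG hM
      haveI := compl_commutative hG hM hnil hg hz hw hzg (hF M hM ((kappa_empty_iff hG hM hKU).2 hK)) hE
      exact (Compl.derived_le hG hM hE).trans
        (sup_le le_rfl ((commutator_eq_bot_iff_le_centralizer.2 (le_centralizer E)).le.trans bot_le))
    · exact (Kap.derived_eq_of_bot hG hM hKU hK (hU hK)).le
  have hnabcore : ¬ IsMulCommutative (Bender.qc p S) →
      ¬ IsMulCommutative (Cfsg.pCore p ↥(Cfsg.fittingHallOf M)) := fun h hc => by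
    rw [hFH] at hc
    haveI := hc
    exact h (Subgroup.map_isMulCommutative _ _)
  have hcyccore : ¬ IsMulCommutative (Bender.qc p S) → IsCyclic (Cfsg.pPrimeCore p ↥(Cfsg.fittingHallOf M)) :=
    fun h => by rw [hFH]; exact Kap.prime_core_cyclic hG hM hnil hg hz hw hzg h
  refine ⟨⟨hXS.trans hFH.ge, hXc⟩, ⟨hder.trans hFS.symm, ?_⟩, ?_⟩
  · exact le_antisymm (hFS.le.trans le_sup_left) (sup_le hFS.ge (TH.core_le _))
  by_cases hab : IsMulCommutative S
  · by_cases hK : K = ⊥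
    · refine Or.inl ⟨hK, ?_⟩
      rw [hFH]
      exact ⟨hab, abelian_rank_two hG hM hnil hg hz hw hzg hab⟩
    · exfalso
      have h := (Cfsg.Agent.S1365.result hG M hM K U hKU hK).2
      haveI := hab
      rw [hder, commutator_eq_bot_iff_le_centralizer.2 (le_centralizer S)] at h
      exact Kap.fixed_ne_bot hG hM hKU.hall hK (le_bot_iff.1 h)
  have hP := part_noncomm hG hM hnil hg hz hw hzg hab
  have hcard := fused_card hG hM hnil hab hg hXc hXS hXg w.2 hw
  refine Or.inr ?_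
  by_cases hK : K = ⊥
  · obtain ⟨E, hE⟩ := exists_compl hG hM
    refine Or.inl ⟨p, hp, hcard, hpσ, hpβ, hnabcore hP, hcyccore hP, fun q hq hd => hexp.trans ?_⟩
    rw [hFH] at hd ⊢
    rw [hSdef, ← (Compl.card_eq hG hM hE).1]
    exact compl_card_dvd_pred hG hM hnil hg hz hw hzg (hF M hM ((kappa_empty_iff hG hM hKU).2 hK)) hE hP hq hd
  -- type V
  have hidx : (Cfsg.fittingHallOf M).relIndex M = Nat.card K := by
    have hc := FittingHall.card_complIn (Kap.derived_compl hG hM hKU hK)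
    rw [hder, ← CfsgLib.InvariantHall.relIndex_mul_card (map_subtype_le _ : S ≤ M)] at hc
    rw [hFH]
    exact Nat.eq_of_mul_eq_mul_left Nat.card_pos hc
  have hstar : Kap.star M K ≤ Bender.qc p S := by
    refine ((Cfsg.Agent.S1365.result hG M hM K U hKU hK).2.trans ?_).trans (Kap.commutator_le_self' _)
    rw [hder]
    exact Kap.derived_le_part hnil fun r _ hr => Kap.qc_commutative hG hM hnil hg hz hw hzg hr
  have hother : ∀ q : ℕ, q.Prime → q ∣ Nat.card S → q ≠ p → Nat.card K ∣ q - 1 := fun q hq hd hqp => by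
    haveI := Fact.mk hq
    obtain ⟨c, hc, hco, hcn⟩ := exists_normal_line hG hM hnil hg hz hw hzg hP hd
    refine card_dvd_pred_of_line hco (hKU.hall.1.trans hcn) fun k hk h => by_contra fun hk1 => hqp ?_
    have hcP : c ∈ Bender.qc p S := hstar ((Kap.star_fixed hG hM hKU.hall hK hk hk1).le
      ⟨Bender.qc_le _ _ hc, mem_centralizer_singleton_iff.2 h.symm.eq⟩)
    obtain ⟨j, hj⟩ := IsPGroup.iff_card.1 (Bender.isPGroup_qc (s := p) S)
    exact (Nat.prime_dvd_prime_iff_eq hq hp).1 (hq.dvd_of_dvd_pow (hj ▸ Kap.dvd_of_mem hcP hco))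
  have hnTI' : ¬ Cfsg.IsTISubset (Cfsg.fittingHallOf M : Set G) := by rw [hFH, ← hFS]; exact hnTI
  rcases (Kap.typeFive_cases hG hM hKU hK (hU hK) hFH).resolve_left hnTI' with
    ⟨r, hr, -, hd, hc⟩ | ⟨r, hr, -, h3, hd, hc⟩
  · obtain rfl := eq_of_prime_core_cyclic hp hr (hnabcore hP) hc
    refine Or.inl ⟨r, hr, hcard, hpσ, hpβ, hnabcore hP, hc, fun q hq hqd => hexp.trans ?_⟩
    rw [hidx]
    by_cases hqr : q = r
    · exact hqr ▸ hd
    · exact hother q hq (hFH ▸ hqd) hqr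
  · obtain rfl := eq_of_prime_core_cyclic hp hr (hnabcore hP) hc
    exact Or.inr ⟨r, hr, hcard, hpσ, hpβ, hc, h3, hnabcore hP, hK, hU hK, hidx ▸ hd⟩

end CfsgLib.OddEnd.Rows
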