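import Cfsg.Agent.OddEnd.LocalRowsTypeOne
import Cfsg.Agent.Frobenius.Semidirect
import Cfsg.Agent.S1375
import Cfsg.Agent.S1381
import Cfsg.Agent.OddLocal.KappaFrobenius

/-!
Maximal subgroups supporting one another, once every maximal subgroup with empty `κ` is a Frobenius group
(BG II, Peterfalvi 8.17).
-/

set_option autoImplicit false
set_option linter.style.haveILetI false
set_option linter.unusedSectionVars false

namespace CfsgLib.OddEnd.Rows

open Subgroup CfsgLib.OddLocal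
open scoped commutatorElement

universe u

variable {G : Type u} [Group G] [Finite G] (hG : Cfsg.IsMinSimpleOddOrder G) (hF : EmptyKappaFrobenius G)
include hG hF

/-- An element of `A₀(M)` with centralizer outside `M`, and the maximal subgroup over its centralizer. -/
theorem supported_facts {M L : Subgroup G} (hM : IsCoatom M) (hL : IsCoatom L) {x : G} (hx : x ∈ Cfsg.typeA0 M)
    (hxM : ¬ centralizer ({x} : Set G) ≤ M) (hxL : centralizer ({x} : Set G) ≤ L) :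
    (x ∈ Cfsg.sigmaCore M ∧ x ≠ 1 ∧ Cfsg.kappa M = ∅) ∧
      (∀ N : Subgroup G, IsCoatom N → centralizer ({x} : Set G) ≤ N → N = L) ∧
      (∀ g : G, L ≠ M.map (MulAut.conj g).toMonoidHom) ∧
      ((Cfsg.kappa L).Nonempty ∧ Cfsg.IsOfTypeII L ∧ x ∈ Cfsg.typeA L ∧ x ∉ Cfsg.sigmaCore L) := by
  have hx1 : x ≠ 1 := (Kap.typeA0_subset M hx).2
  have hxS := (Kap.support_cases hG hM hx).resolve_right fun h => hxM h.2
  obtain ⟨N, hN, hCN, hu, hnc, -, -, -, y, hy, hy1, hxy⟩ := Kap.exists_over hG hM hxS hx1 hxM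
  obtain rfl : L = N := hu L hL hxL
  obtain ⟨N', ⟨hN', hCN'⟩, -, -, -, -, -, hdec⟩ := Cfsg.Agent.S1375.result hG M hM x hxS hx1 hxM
  obtain rfl : N' = L := hu N' hN' hCN'
  obtain ⟨K, U, hKU⟩ := Kap.exists_decomp_any hG hN'
  obtain ⟨hU, hxA, hxσ⟩ := hdec K U hKU
  have hκ : (Cfsg.kappa N').Nonempty := Set.nonempty_iff_ne_empty.2 fun he => hxσ
    (hF N' hN' he y hy hy1 ⟨hCN' (mem_centralizer_singleton_iff.2 rfl), mem_centralizer_singleton_iff.2 hxy.eq⟩)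
  have hK := (Kap.kappa_nonempty_iff hG hN' hKU).1 hκ
  refine ⟨⟨hxS, hx1, (Kap.supported_structure hG hM hxS hx1 hxM hN' hCN' hκ).1⟩, hu, hnc, hκ,
    (Cfsg.Agent.S1381.result hG N' hN' K U hKU).2 ⟨hK, hU⟩, (mem_typeA_iff hG hF hN').2 ⟨?_, hx1, y, hy, hy1, hxy.eq⟩,
    hxσ⟩
  rw [(Cfsg.Agent.S1365.result hG N' hN' K U hKU hK).1]
  exact hxA.2

/-- S1391. -/
theorem tame_embedding_of_frobenius (M : Subgroup G) (hM : IsCoatom M) (X : Set G)
    (hX : X = Cfsg.typeA M ∨ X = Cfsg.typeA0 M) :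
    (∀ x ∈ X, ∀ g : G, g * x * g⁻¹ ∈ X → ∃ m ∈ M, m * x * m⁻¹ = g * x * g⁻¹) ∧
      (∀ x ∈ X, ¬ centralizer ({x} : Set G) ≤ M → x ∈ Cfsg.typeA1 M ∧
        ∃! L : Subgroup G, IsCoatom L ∧ centralizer ({x} : Set G) ≤ L) ∧
      ∀ x ∈ X, ¬ centralizer ({x} : Set G) ≤ M → ∀ L : Subgroup G, IsCoatom L →
        centralizer ({x} : Set G) ≤ L →
        Cfsg.IsComplIn (Cfsg.fittingHallOf L) (M ⊓ L) L ∧
        centralizer ({x} : Set G) ≤
          normalizer ((Cfsg.fittingHallOf L ⊓ centralizer ({x} : Set G) : Subgroup G) : Set G) ∧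
        Cfsg.IsComplIn (Cfsg.fittingHallOf L ⊓ centralizer ({x} : Set G)) (M ⊓ centralizer ({x} : Set G))
          (centralizer ({x} : Set G)) ∧
        (∀ y ∈ X, (Nat.card (Cfsg.fittingHallOf L)).Coprime (Nat.card ↥(M ⊓ centralizer ({y} : Set G)))) ∧
        (x ∈ Cfsg.typeA L ∧ x ∉ Cfsg.typeA1 L) ∧
        (Cfsg.IsOfTypeI L ∨ Cfsg.IsOfTypeII L) ∧
        (Cfsg.IsOfTypeII L → ∃ E : Subgroup ↥M, Cfsg.IsFrobeniusComplement E ∧
          Cfsg.frobeniusKernel E = ((Cfsg.fittingHall ↥M : Subgroup ↥M) : Set ↥M)) := by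
  have hsub : ∀ x ∈ X, x ∈ Cfsg.typeA0 M := fun x hx => by
    rcases hX with rfl | rfl
    · exact Or.inl hx
    · exact hx
  refine ⟨fun x hx g hg => ?_, fun x hx hxM => ?_, fun x hx hxM L hL hxL => ?_⟩
  · rcases Kap.support_cases hG hM (hsub x hx) with h | h
    · exact Kap.core_fusion hG hM h (Kap.typeA0_subset M (hsub _ hg)).1
    · exact ⟨g, h.1 g (hsub _ hg), rfl⟩
  · have hx1 : x ≠ 1 := (Kap.typeA0_subset M (hsub x hx)).2
    have hxS := (Kap.support_cases hG hM (hsub x hx)).resolve_right fun h => hxM h.2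
    obtain ⟨N, hN, hCN, hu, -⟩ := Kap.exists_over hG hM hxS hx1 hxM
    exact ⟨⟨(typeCore_eq hG hM).ge hxS, hx1⟩, N, ⟨hN, hCN⟩, fun L hL => hu L hL.1 hL.2⟩
  obtain ⟨⟨hxS, hx1, hκM⟩, hu, hnc, hκL, hII, hxA, hxσ⟩ := supported_facts hG hF hM hL (hsub x hx) hxM hxL
  obtain ⟨N, ⟨hN, hCN⟩, -, hNF, hn, hc, hcN, -⟩ := Cfsg.Agent.S1375.result hG M hM x hxS hx1 hxM
  obtain rfl : N = L := hu N hN hCN
  rw [← hNF]
  have hI := typeI_of_empty hG hF hM hκM
  refine ⟨complIn_swap hcN (inf_le_right.trans (TH.le_normalizer_core N)), hn,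
    complIn_swap hc (inf_le_right.trans hn), fun y hy => ?_,
    ⟨hxA, fun h => hxσ ((typeCore_eq hG hL).le h.1)⟩, Or.inr hII, fun _ => ?_⟩
  · have hyA : y ∈ Cfsg.typeA M := (hsub y hy).resolve_right fun h => h.1 hI
    obtain ⟨hyD, hy1, z, hz, hz1, he⟩ := (mem_typeA_iff hG hF hM).1 hyA
    have hyS : y ∈ Cfsg.sigmaCore M :=
      hF M hM hκM z hz hz1 ⟨Kap.commutator_le_self' M hyD, mem_centralizer_singleton_iff.2 he⟩
    refine Nat.coprime_of_dvd fun r hr h1 h2 => ?_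
    haveI := Fact.mk hr
    have hrN : r ∈ Cfsg.sigma N := (Sig.sigma_core hG hL).1.2.1 r hr h1
    have hrM : r ∈ Cfsg.sigma M :=
      (Sig.sigma_core hG hM).1.2.1 r hr (h2.trans (card_dvd_of_le (hF M hM hκM y hyS hy1)))
    obtain ⟨g, hg⟩ := Kap.conj_of_common hG hM hL hrM hrN
    exact hnc g hg
  · obtain ⟨-, -, hH1, -, U, hU1, hc', -, -⟩ := hI.1
    have hfix := typeOne_is_frobenius_of_frobenius hG hF M hM hI
    have hFC := CfsgLib.Frobenius.of_fpf hc' hH1 hU1 fun u hu hu1 k hk he => by_contra fun hk1 => by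
      obtain ⟨v, hv, hve⟩ := hfix (k : G) (mem_map_of_mem M.subtype hk) (fun e => hk1 (Subtype.ext e))
        ⟨u.2, mem_centralizer_singleton_iff.2 (congrArg Subtype.val he)⟩
      rw [M.subtype_injective hve] at hv
      exact hu1 ((Subgroup.disjoint_def.1 hc'.disjoint) hv hu)
    exact ⟨U, hFC, CfsgLib.Frobenius.kernel_eq hFC hc'⟩

end CfsgLib.OddEnd.Rows
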