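import Cfsg.Prelude.Def_OddOrderLocal
import Cfsg.Prelude.Def_OddOrderChar

/-!
Interface of Peterfalvi section 9: maximal subgroups with type P data and non-trivial `U`.
-/

set_option autoImplicit false

namespace CfsgLib.OddEnd

universe u

variable {G : Type u} [Group G]

/-- The common hypotheses of types II, III and IV. -/
structure PtypeData (M W₁ U W₂ : Subgroup G) : Prop where
  coatom : IsCoatom M
  typeP : Cfsg.IsTypePWith M W₁ U W₂
  U_ne : U ≠ ⊥
  prime_W₁ : (Nat.card W₁).Prime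
  fitting_ti : Cfsg.IsTISubset (Cfsg.fittingOf M : Set G)

/-- `H/H₀` is a chief factor of order `p ^ q` on which `W₁` has fixed points of order `p`. -/
structure ChiefData (M W₁ W₂ H₀ : Subgroup G) (p : ℕ) : Prop where
  prime : p.Prime
  le : H₀ ≤ Cfsg.fittingHallOf M
  normal : M ≤ Subgroup.normalizer (H₀ : Set G)
  card : H₀.relIndex (Cfsg.fittingHallOf M) = p ^ Nat.card W₁
  fixed : H₀.relIndex (H₀ ⊔ W₂) = p
  pow_mem : ∀ x ∈ Cfsg.fittingHallOf M, x ^ p ∈ H₀
  commutator_le : ⁅Cfsg.fittingHallOf M, Cfsg.fittingHallOf M⁆ ≤ H₀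
  minimal : ∀ N : Subgroup G, H₀ ≤ N → N ≤ Cfsg.fittingHallOf M → M ≤ Subgroup.normalizer (N : Set G) →
    N = H₀ ∨ N = Cfsg.fittingHallOf M

/-- `C_U(H/H₀)`, as the elements of `U` acting trivially on `H/H₀`. -/
def chiefCent (M U H₀ : Subgroup G) : Subgroup G :=
  sSup {C : Subgroup G | C ≤ U ∧ ⁅C, Cfsg.fittingHallOf M⁆ ≤ H₀}

/-- The Galois case: `U` acts irreducibly on `H/H₀`. -/
def GaloisCase (M U H₀ : Subgroup G) : Prop :=
  ∀ N : Subgroup G, H₀ ≤ N → N ≤ Cfsg.fittingHallOf M → U ≤ Subgroup.normalizer (N : Set G) →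
    N = H₀ ∨ N = Cfsg.fittingHallOf M

/-- The functions induced from the irreducible characters of `K` whose kernel contains `X` but not `H`. -/
def seqInd {L : Type u} [Group L] [Fintype L] (K H X : Subgroup L) : Set (L → ℂ) :=
  Cfsg.inducedIrrAbove K X \ Cfsg.inducedIrrAbove K H

/-- `S(X)` for a subgroup `X` of `G` inside `M`. -/
def seqOf (M X : Subgroup G) [Fintype M] : Set (M → ℂ) :=
  seqInd (⁅M, M⁆.subgroupOf M) ((Cfsg.fittingHallOf M).subgroupOf M) (X.subgroupOf M)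

end CfsgLib.OddEnd
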