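import Cfsg.Agent.Char.CoherenceExt
import Cfsg.Agent.Char.CoherenceEqual

/-!
# Coherence from an irreducible base of one degree

A coherence system whose degrees are multiples `k d` of the degree `d` of a base of `n₁` irreducible
members, `2 k ≤ n₁`, is coherent, unless `2 k = n₁` for all members outside the base; that case is
excluded by a virtual character of small norm.
-/

set_option autoImplicit false

namespace CfsgLib.OddEnd

open CfsgLib.Char
open scoped ComplexConjugate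

universe u v

variable {L : Type u} [Group L] [Fintype L] {G : Type v} [Group G] [Fintype G]
variable {S : Set (L → ℂ)} {τ : (L → ℂ) → G → ℂ} {R : (L → ℂ) → Finset (G → ℂ)}

/-- The excess `A (A n - 2 k)` of a projection on the base. -/
theorem excess_nonneg {A n k : ℤ} (hk : 0 ≤ k) (h : 2 * k ≤ n) : 0 ≤ A * (A * n - 2 * k) := by
  rcases lt_trichotomy A 0 with hA | hA | hA
  · refine mul_nonneg_of_nonpos_of_nonpos hA.le ?_
    have := mul_nonpos_of_nonpos_of_nonneg hA.le (show (0 : ℤ) ≤ n by omega)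
    omega
  · simp [hA]
  · refine mul_nonneg hA.le ?_
    have : n ≤ A * n := le_mul_of_one_le_left (by omega) hA
    omega

theorem excess_eq_zero {A n k : ℤ} (hk : 0 < k) (h : 2 * k ≤ n) (h0 : A * (A * n - 2 * k) = 0) :
    A = 0 ∨ (A = 1 ∧ n = 2 * k) := by
  rcases mul_eq_zero.1 h0 with h1 | h1
  · exact Or.inl h1
  refine Or.inr ?_
  rcases lt_trichotomy A 1 with hA | hA | hA
  · have := mul_nonpos_of_nonpos_of_nonneg (show A ≤ 0 by omega) (show (0 : ℤ) ≤ n by omega)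
    omega
  · subst hA; omega
  · have : 2 * n ≤ A * n := mul_le_mul_of_nonneg_right (by omega) (by omega)
    omega

theorem one_le_sq_add_of_sub {a b : ℤ} (h : a - b = 1) : 1 ≤ a * a + b * b := by
  obtain rfl : a = b + 1 := by omega
  rcases le_or_gt 0 b with hb | hb
  · nlinarith
  · nlinarith [show b + 1 ≤ 0 by omega]

/-- Coherence from an irreducible base of one degree. -/
theorem coherent_of_base (hS : Cfsg.IsCoherenceSystem S τ R) (S₁ : Finset (L → ℂ))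
    (hS₁ : (↑S₁ : Set (L → ℂ)) ⊆ S) (hS₁c : ∀ φ ∈ S₁, Cfsg.conjFun φ ∈ S₁)
    (hirr : ∀ φ ∈ S₁, Cfsg.IsIrrCharacter L φ) {d : ℕ} (hd : ∀ φ ∈ S₁, φ 1 = (d : ℂ))
    (h2 : 2 < S₁.card)
    (hk : ∀ χ ∈ S, ∃ k : ℕ, χ 1 = ((k * d : ℕ) : ℂ) ∧ 2 * k ≤ S₁.card)
    (hex : ∀ k : ℕ, 2 * k = S₁.card → (∀ χ ∈ S, χ ∉ S₁ → χ 1 = ((k * d : ℕ) : ℂ)) →
      ∃ ψ ∈ S₁, ∃ (Γ : G → ℂ) (N : Finset (L → ℂ)), Cfsg.IsGeneralizedCharacter G Γ ∧
        (∀ α ∈ Cfsg.zspanOn S ({1}ᶜ : Set L), Cfsg.classInner Γ (τ α) = -Cfsg.classInner ψ α) ∧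
        (↑N : Set (L → ℂ)) ⊆ S ∧ (∀ χ ∈ N, χ ∉ S₁ ∧ Cfsg.IsIrrCharacter L χ) ∧
        (Cfsg.classInner Γ Γ).re ≤ N.card) :
    Cfsg.IsCoherent S ({1}ᶜ : Set L) τ := by
  classical
  obtain ⟨hadd, hsmul, hiso, hgen⟩ := hS.isometry
  have hτ : Cfsg.IsLinearIsometryOn ((zspanOnSub S ({1}ᶜ : Set L) : Submodule ℤ _) : Set (L → ℂ)) τ :=
    hS.isometry
  have hfin : S.Finite := finite_of_orthogonal hS.orthogonal fun χ h => coherenceSystem_ne_zero hS h
  set U := hfin.toFinset with hUdef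
  have hUm : ∀ χ, χ ∈ U ↔ χ ∈ S := fun χ => hfin.mem_toFinset
  -- the base
  have hbase : Cfsg.IsCoherent (↑S₁ : Set (L → ℂ)) ({1}ᶜ : Set L) τ :=
    isCoherent_equal_irr S₁ hirr (fun φ hφ ψ hψ => by rw [hd φ hφ, hd ψ hψ]) (by omega)
      (isometryOn_subset (zspanOn_subset_zspanOn hS₁ _) hS.isometry)
      (fun α hα => hS.map_one α (zspanOn_subset_zspanOn hS₁ _ hα))
  obtain ⟨⟨α₀, hα₀, hα₀ne⟩, e, he, heq⟩ := hbase
  obtain ⟨-, -, heiso, hegen⟩ := id he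
  have hz₁ : ∀ φ ∈ S₁, φ ∈ Cfsg.zspan (↑S₁ : Set (L → ℂ)) := fun φ hφ => subset_zspan hφ
  have hee : ∀ φ ∈ S₁, ∀ φ' ∈ S₁, Cfsg.classInner (e φ) (e φ') = if φ = φ' then 1 else 0 := by
    intro φ hφ φ' hφ'
    rw [heiso _ (hz₁ φ hφ) _ (hz₁ φ' hφ'), IsIrrCharacter.classInner_eq (hirr φ hφ) (hirr φ' hφ')]
  have hdiff₁ : ∀ φ ∈ S₁, ∀ φ' ∈ S₁, φ - φ' ∈ Cfsg.zspanOn (↑S₁ : Set (L → ℂ)) ({1}ᶜ : Set L) :=
    fun φ hφ φ' hφ' => mem_zspanOn_one.2 ⟨Submodule.sub_mem _ (hz₁ φ hφ) (hz₁ φ' hφ'), by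
      rw [Pi.sub_apply, hd φ hφ, hd φ' hφ', sub_self]⟩
  have hesub : ∀ φ ∈ S₁, ∀ φ' ∈ S₁, τ (φ - φ') = e φ - e φ' := fun φ hφ φ' hφ' => by
    rw [← heq _ (hdiff₁ φ hφ φ' hφ'),
      isometry_map_sub (M := Submodule.span ℤ (↑S₁ : Set (L → ℂ))) he (hz₁ φ hφ) (hz₁ φ' hφ')]
  have hdiffS : ∀ φ ∈ S₁, ∀ φ' ∈ S₁, φ - φ' ∈ Cfsg.zspanOn S ({1}ᶜ : Set L) := fun φ hφ φ' hφ' =>
    zspanOn_subset_zspanOn hS₁ _ (hdiff₁ φ hφ φ' hφ')
  -- the base avoids the other `R χ`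
  have havoid : ∀ χ ∈ S, χ ∉ S₁ → ∀ φ ∈ S₁, ∀ α ∈ R χ, Cfsg.classInner (e φ) α = 0 := by
    intro χ hχ hχ1 φ hφ α hα
    have hφS : φ ∈ S := hS₁ hφ
    have hp := (projection_R hS hφS (D := e φ) (hegen _ (hz₁ φ hφ)) (by
      rw [hesub φ hφ _ (hS₁c φ hφ), classInner_sub_right, hee φ hφ φ hφ, hee φ hφ _ (hS₁c φ hφ), if_pos rfl,
        if_neg (Ne.symm (hS.conj_ne φ hφS)), IsIrrCharacter.classInner_self (hirr φ hφ), sub_zero])).1
    rw [IsIrrCharacter.classInner_self (hirr φ hφ), ← (hee φ hφ φ hφ).trans (if_pos rfl)] at hp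
    have hsum := eq_sum_of_bessel_eq (R φ) (hS.orthonormal φ hφS) (e φ) hp
    rw [hsum, classInner_sum_left]
    exact Finset.sum_eq_zero fun γ hγ => by
      rw [classInner_smul_left, classInner_R_eq_zero hS hφS hχ (fun h => hχ1 (h ▸ hφ))
        (fun h => hχ1 (by rw [← conjFun_conjFun χ, ← h]; exact hS₁c φ hφ)) hγ hα, mul_zero]
  have hS₁c' : ∀ χ, χ ∉ S₁ → Cfsg.conjFun χ ∉ S₁ := fun χ h h' =>
    h (by simpa [conjFun_conjFun] using hS₁c _ h')
  choose! k hk1 hk2 using hk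
  have hkpos : ∀ χ ∈ S, 0 < k χ := fun χ hχ => Nat.pos_of_ne_zero fun h0 => by
    refine coherenceSystem_ne_zero hS hχ (IsCharacter.eq_zero_of_apply_one (hS.isCharacter χ hχ) ?_)
    rw [hk1 χ hχ, h0, zero_mul, Nat.cast_zero]
  have hd0 : (d : ℂ) ≠ 0 := by
    obtain ⟨φ, hφ⟩ := Finset.card_pos.1 (show 0 < S₁.card by omega)
    rw [← hd φ hφ]
    exact IsIrrCharacter.apply_one_ne_zero (hirr φ hφ)
  -- a choice of reference member
  obtain ⟨ψ, hψ, hψex⟩ : ∃ ψ ∈ S₁, ∀ m : ℕ, 2 * m = S₁.card →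
      (∀ χ ∈ S, χ ∉ S₁ → χ 1 = ((m * d : ℕ) : ℂ)) →
      ∃ (Γ : G → ℂ) (N : Finset (L → ℂ)), Cfsg.IsGeneralizedCharacter G Γ ∧
        (∀ α ∈ Cfsg.zspanOn S ({1}ᶜ : Set L), Cfsg.classInner Γ (τ α) = -Cfsg.classInner ψ α) ∧
        (↑N : Set (L → ℂ)) ⊆ S ∧ (∀ χ ∈ N, χ ∉ S₁ ∧ Cfsg.IsIrrCharacter L χ) ∧
        (Cfsg.classInner Γ Γ).re ≤ N.card := by
    by_cases h : ∃ m : ℕ, 2 * m = S₁.card ∧ ∀ χ ∈ S, χ ∉ S₁ → χ 1 = ((m * d : ℕ) : ℂ)
    · obtain ⟨m, hm, hm'⟩ := h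
      obtain ⟨ψ, hψ, hrest⟩ := hex m hm hm'
      exact ⟨ψ, hψ, fun _ _ _ => hrest⟩
    · obtain ⟨ψ, hψ⟩ := Finset.card_pos.1 (show 0 < S₁.card by omega)
      exact ⟨ψ, hψ, fun m hm hm' => absurd ⟨m, hm, hm'⟩ h⟩
  have hψS : ψ ∈ S := hS₁ hψ
  have hψψ : Cfsg.classInner ψ ψ = 1 := IsIrrCharacter.classInner_self (hirr ψ hψ)
  -- the element of degree zero attached to `χ`
  set θ : (L → ℂ) → L → ℂ := fun χ => χ - ((k χ : ℕ) : ℤ) • ψ with hθdef
  have hθmem : ∀ χ ∈ S, θ χ ∈ Cfsg.zspanOn S ({1}ᶜ : Set L) := fun χ hχ => mem_zspanOn_one.2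
    ⟨Submodule.sub_mem _ (subset_zspan hχ) (Submodule.smul_mem _ _ (subset_zspan hψS)), by
      simp [hθdef, hk1 χ hχ, hd ψ hψ, zsmul_eq_mul]⟩
  have hout : ∀ χ ∈ S, χ ∉ S₁ → ∀ φ ∈ S₁, Cfsg.classInner χ φ = 0 := fun χ hχ h φ hφ =>
    hS.orthogonal χ hχ φ (hS₁ hφ) fun e' => h (e' ▸ hφ)
  have hout' : ∀ χ ∈ S, χ ∉ S₁ → ∀ φ ∈ S₁, Cfsg.classInner φ χ = 0 := fun χ hχ h φ hφ => by
    rw [← classInner_conj, hout χ hχ h φ hφ, map_zero]
  have hθθ : ∀ χ ∈ S, χ ∉ S₁ → ∀ χ' ∈ S, χ' ∉ S₁ →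
      Cfsg.classInner (θ χ) (θ χ') = Cfsg.classInner χ χ' + (k χ : ℂ) * k χ' := by
    intro χ hχ h χ' hχ' h'
    simp only [hθdef, ← Int.cast_smul_eq_zsmul ℂ, classInner_sub_left, classInner_sub_right,
      classInner_smul_left, classInner_smul_right, hout χ hχ h ψ hψ, hout' χ' hχ' h' ψ hψ, hψψ,
      map_intCast]
    push_cast
    ring
  have hDgen : ∀ χ ∈ S, Cfsg.IsGeneralizedCharacter G (τ (θ χ)) := fun χ hχ => hgen _ (hθmem χ hχ)
  have hDe : ∀ χ ∈ S, ∃ A : ℤ, Cfsg.classInner (τ (θ χ)) (e ψ) + (k χ : ℂ) = A := fun χ hχ => by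
    obtain ⟨a, ha⟩ := IsGeneralized.exists_classInner_eq_int (hDgen χ hχ) (hegen _ (hz₁ ψ hψ))
    exact ⟨a + k χ, by rw [ha]; push_cast; ring⟩
  choose! A hA using hDe
  set c : (L → ℂ) → (L → ℂ) → ℤ := fun χ φ => A χ - if φ = ψ then (k χ : ℤ) else 0 with hcdef
  have hDc : ∀ χ ∈ S, χ ∉ S₁ → ∀ φ ∈ S₁, Cfsg.classInner (τ (θ χ)) (e φ) = (c χ φ : ℂ) := by
    intro χ hχ hχ1 φ hφ
    by_cases he' : φ = ψ
    · subst he'
      simp only [hcdef, if_true, Int.cast_sub, Int.cast_natCast, ← hA χ hχ]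
      ring
    have h1 : Cfsg.classInner (τ (θ χ)) (τ (φ - ψ)) = (k χ : ℂ) := by
      rw [hiso _ (hθmem χ hχ) _ (hdiffS φ hφ ψ hψ)]
      simp only [hθdef, ← Int.cast_smul_eq_zsmul ℂ, classInner_sub_left, classInner_sub_right,
        classInner_smul_left, hout χ hχ hχ1 φ hφ, hout χ hχ hχ1 ψ hψ, hψψ,
        IsIrrCharacter.classInner_of_ne (hirr ψ hψ) (hirr φ hφ) (Ne.symm he')]
      push_cast
      ring
    rw [hesub φ hφ ψ hψ, classInner_sub_right] at h1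
    simp only [hcdef, if_neg he', sub_zero, ← hA χ hχ]
    linear_combination h1
  set X : (L → ℂ) → G → ℂ := fun χ => τ (θ χ) - ∑ φ ∈ S₁, (c χ φ : ℂ) • e φ with hXdef
  have hXgen : ∀ χ ∈ S, Cfsg.IsGeneralizedCharacter G (X χ) := fun χ hχ =>
    IsGeneralized.sub (hDgen χ hχ) (isGeneralized_sum _ fun φ hφ => by
      rw [Int.cast_smul_eq_zsmul ℂ]
      exact IsGeneralized.zsmul (hegen _ (hz₁ φ hφ)) _)
  have hXe : ∀ χ ∈ S, χ ∉ S₁ → ∀ φ ∈ S₁, Cfsg.classInner (X χ) (e φ) = 0 := by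
    intro χ hχ hχ1 φ hφ
    simp only [hXdef, classInner_sub_left, classInner_sum_left, classInner_smul_left, hDc χ hχ hχ1 φ hφ]
    rw [Finset.sum_eq_single φ (fun φ' hφ' hne => by rw [hee φ' hφ' φ hφ, if_neg hne, mul_zero])
      (fun h => absurd hφ h), hee φ hφ φ hφ, if_pos rfl, mul_one, sub_self]
  have hccsum : ∀ χ χ' : L → ℂ, ∑ φ ∈ S₁, (c χ φ : ℂ) * (c χ' φ : ℂ) =
      (S₁.card : ℂ) * A χ * A χ' - (A χ : ℂ) * k χ' - (A χ' : ℂ) * k χ + (k χ : ℂ) * k χ' := by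
    intro χ χ'
    rw [← Finset.add_sum_erase _ _ hψ, Finset.sum_congr rfl (g := fun _ => (A χ : ℂ) * A χ')
      (fun φ hφ => by simp [hcdef, (Finset.mem_erase.1 hφ).1]), Finset.sum_const,
      Finset.card_erase_of_mem hψ, nsmul_eq_mul, Nat.cast_sub (show 1 ≤ S₁.card by omega)]
    simp [hcdef]
    ring
  have hXX : ∀ χ ∈ S, χ ∉ S₁ → ∀ χ' ∈ S, χ' ∉ S₁ → Cfsg.classInner (X χ) (X χ') =
      Cfsg.classInner χ χ' - (S₁.card : ℂ) * A χ * A χ' + (A χ : ℂ) * k χ' + (A χ' : ℂ) * k χ := by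
    intro χ hχ h χ' hχ' h'
    have e1 : Cfsg.classInner (X χ) (X χ') = Cfsg.classInner (X χ) (τ (θ χ')) := by
      show Cfsg.classInner (X χ) (τ (θ χ') - ∑ φ ∈ S₁, (c χ' φ : ℂ) • e φ) = _
      rw [classInner_sub_right, classInner_sum_right, Finset.sum_eq_zero, sub_zero]
      intro φ hφ
      rw [classInner_smul_right, hXe χ hχ h φ hφ, mul_zero]
    rw [e1]
    show Cfsg.classInner (τ (θ χ) - ∑ φ ∈ S₁, (c χ φ : ℂ) • e φ) _ = _
    rw [classInner_sub_left, hiso _ (hθmem χ hχ) _ (hθmem χ' hχ'), hθθ χ hχ h χ' hχ' h',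
      classInner_sum_left, Finset.sum_congr rfl (g := fun φ => (c χ φ : ℂ) * (c χ' φ : ℂ)) fun φ hφ => by
        rw [classInner_smul_left, ← classInner_conj, hDc χ' hχ' h' φ hφ, map_intCast],
      hccsum]
    ring
  -- each member outside the base has excess zero and lies in the span of its `R`
  have hmain : ∀ χ ∈ S, χ ∉ S₁ → (A χ = 0 ∨ (A χ = 1 ∧ (S₁.card : ℤ) = 2 * k χ)) ∧
      X χ = ∑ α ∈ R χ, Cfsg.classInner (X χ) α • α := by
    intro χ hχ hχ1
    set χ' := Cfsg.conjFun χ with hχ'def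
    have hχ'S : χ' ∈ S := hS.conj_mem χ hχ
    have hχ'1 : χ' ∉ S₁ := hS₁c' χ hχ1
    have hkk : k χ' = k χ := by
      have h1 : χ' 1 = χ 1 := by simp [hχ'def, Cfsg.conjFun, hk1 χ hχ]
      rw [hk1 χ hχ, hk1 χ' hχ'S, Nat.cast_mul, Nat.cast_mul] at h1
      exact_mod_cast mul_right_cancel₀ hd0 h1
    have hθsub : θ χ - θ χ' = χ - χ' := by simp [hθdef, hkk]
    have hτsub : τ (θ χ) - τ (θ χ') = ∑ α ∈ R χ, α := by
      rw [← isometry_map_sub (M := zspanOnSub S ({1}ᶜ : Set L)) hτ (hθmem χ hχ) (hθmem χ' hχ'S), hθsub,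
        hS.sum_eq χ hχ]
    have hAA : A χ' = A χ := by
      have h1 : Cfsg.classInner (τ (θ χ) - τ (θ χ')) (e ψ) = 0 := by
        rw [hτsub, classInner_sum_left, Finset.sum_eq_zero]
        intro α hα
        rw [← classInner_conj, havoid χ hχ hχ1 ψ hψ α hα, map_zero]
      rw [classInner_sub_left, hDc χ hχ hχ1 ψ hψ, hDc χ' hχ'S hχ'1 ψ hψ] at h1
      simp only [hcdef, if_true, hkk] at h1
      push_cast at h1
      exact_mod_cast (by linear_combination -h1 : (A χ' : ℂ) = A χ)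
    have hXsub : X χ - X χ' = ∑ α ∈ R χ, α := by
      rw [← hτsub]
      simp only [hXdef, hcdef, hAA, hkk]
      abel
    have hnorm : ∀ η ∈ S, η ∉ S₁ → (Cfsg.classInner (X η) (X η)).re =
        (Cfsg.classInner η η).re - ((A η * (A η * S₁.card - 2 * k η) : ℤ) : ℝ) := by
      intro η hη hη1
      rw [hXX η hη hη1 η hη hη1]
      simp [Complex.sub_re, Complex.add_re, Complex.mul_re]
      ring
    have hcard : ((R χ).card : ℂ) = 2 * Cfsg.classInner χ χ := by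
      rw [← coherenceSystem_norm_diff hS hχ, ← hiso _ (coherenceSystem_sub_mem hS hχ) _
        (coherenceSystem_sub_mem hS hχ), hS.sum_eq χ hχ, classInner_sum_left, Finset.cast_card]
      refine Finset.sum_congr rfl fun α hα => ?_
      rw [classInner_sum_right, Finset.sum_eq_single α (fun β hβ hne => by
        rw [hS.orthonormal χ hχ α hα β hβ, if_neg (Ne.symm hne)]) (fun h' => absurd hα h'),
        hS.orthonormal χ hχ α hα α hα, if_pos rfl]
    have hpt : ∀ α ∈ R χ, (1 : ℝ) ≤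
        ‖Cfsg.classInner (X χ) α‖ ^ 2 + ‖Cfsg.classInner (X χ') α‖ ^ 2 := by
      intro α hα
      obtain ⟨a, ha⟩ := IsGeneralized.exists_classInner_eq_int (hXgen χ hχ) (hS.virtual χ hχ α hα)
      obtain ⟨b, hb⟩ := IsGeneralized.exists_classInner_eq_int (hXgen χ' hχ'S) (hS.virtual χ hχ α hα)
      have h1 : Cfsg.classInner (X χ - X χ') α = 1 := by
        rw [hXsub, classInner_sum_left, Finset.sum_eq_single α (fun β hβ hne => by
          rw [hS.orthonormal χ hχ β hβ α hα, if_neg hne]) (fun h' => absurd hα h'),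
          hS.orthonormal χ hχ α hα α hα, if_pos rfl]
      rw [classInner_sub_left, ha, hb] at h1
      rw [norm_classInner_int ha, norm_classInner_int hb, ← Int.cast_add]
      exact_mod_cast one_le_sq_add_of_sub (show a - b = 1 by exact_mod_cast h1)
    have hsum := Finset.sum_le_sum hpt
    rw [Finset.sum_const, nsmul_one, Finset.sum_add_distrib] at hsum
    have hcardR : ((R χ).card : ℝ) = 2 * (Cfsg.classInner χ χ).re := by
      have := congrArg Complex.re hcard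
      simpa using this
    have hnn : (Cfsg.classInner χ' χ').re = (Cfsg.classInner χ χ).re := by
      rw [hχ'def, classInner_conjFun_conjFun]
    have hb1 := bessel (R χ) (hS.orthonormal χ hχ) (X χ)
    have hb2 := bessel (R χ) (hS.orthonormal χ hχ) (X χ')
    rw [hnorm χ hχ hχ1] at hb1
    rw [hnorm χ' hχ'S hχ'1, hAA, hkk, hnn] at hb2
    have h0 : 0 ≤ A χ * (A χ * S₁.card - 2 * k χ) :=
      excess_nonneg (Int.natCast_nonneg _) (by exact_mod_cast hk2 χ hχ)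
    have h0' : (0 : ℝ) ≤ ((A χ * (A χ * S₁.card - 2 * k χ) : ℤ) : ℝ) := by exact_mod_cast h0
    have hle : A χ * (A χ * S₁.card - 2 * k χ) = 0 := by
      have : ((A χ * (A χ * S₁.card - 2 * k χ) : ℤ) : ℝ) = 0 := by linarith
      exact_mod_cast this
    refine ⟨excess_eq_zero (by exact_mod_cast hkpos χ hχ) (by exact_mod_cast hk2 χ hχ) hle,
      eq_sum_of_bessel_eq (R χ) (hS.orthonormal χ hχ) (X χ) ?_⟩
    rw [hnorm χ hχ hχ1]
    linarith
  have hrel : ∀ χ ∈ S, χ ∉ S₁ → ∀ χ' ∈ S, χ' ∉ S₁ → χ ≠ χ' → χ ≠ Cfsg.conjFun χ' →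
      (S₁.card : ℤ) * A χ * A χ' = A χ * k χ' + A χ' * k χ := by
    intro χ hχ h χ' hχ' h' h1 h2'
    have h0 : Cfsg.classInner (X χ) (X χ') = 0 := by
      rw [(hmain χ hχ h).2, (hmain χ' hχ' h').2, classInner_sum_left]
      refine Finset.sum_eq_zero fun α hα => ?_
      rw [classInner_smul_left, classInner_sum_right, Finset.sum_eq_zero, mul_zero]
      intro β hβ
      rw [classInner_smul_right, classInner_R_eq_zero hS hχ hχ' h1 h2' hα hβ, mul_zero]
    rw [hXX χ hχ h χ' hχ' h', hS.orthogonal χ hχ χ' hχ' h1] at h0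
    exact_mod_cast (by linear_combination -h0 :
      ((S₁.card : ℂ) * A χ * A χ' = (A χ : ℂ) * k χ' + (A χ' : ℂ) * k χ))
  -- the exceptional case does not occur
  have hA0 : ∀ χ ∈ S, χ ∉ S₁ → A χ = 0 := by
    intro χ hχ hχ1
    rcases (hmain χ hχ hχ1).1 with h | ⟨hA1, hn⟩
    · exact h
    exfalso
    have hall : ∀ χ' ∈ S, χ' ∉ S₁ → k χ' = k χ ∧ A χ' = 1 := by
      intro χ' hχ' h'
      have hcases : χ' = χ ∨ χ' = Cfsg.conjFun χ ∨
          (χ ≠ χ' ∧ χ ≠ Cfsg.conjFun χ') := by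
        by_cases e1 : χ' = χ
        · exact Or.inl e1
        by_cases e2 : χ' = Cfsg.conjFun χ
        · exact Or.inr (Or.inl e2)
        exact Or.inr (Or.inr ⟨Ne.symm e1, fun e3 => e2 (by rw [e3, conjFun_conjFun])⟩)
      rcases hcases with rfl | rfl | ⟨e1, e2⟩
      · exact ⟨rfl, hA1⟩
      · have h1 : (Cfsg.conjFun χ) 1 = χ 1 := by simp [Cfsg.conjFun, hk1 χ hχ]
        rw [hk1 χ hχ, hk1 _ (hS.conj_mem χ hχ), Nat.cast_mul, Nat.cast_mul] at h1
        have hkk : k (Cfsg.conjFun χ) = k χ := by exact_mod_cast mul_right_cancel₀ hd0 h1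
        refine ⟨hkk, ?_⟩
        rcases (hmain _ hχ' h').1 with h0 | h0
        · exfalso
          have hτsub : τ (θ χ) - τ (θ (Cfsg.conjFun χ)) = ∑ α ∈ R χ, α := by
            rw [← isometry_map_sub (M := zspanOnSub S ({1}ᶜ : Set L)) hτ (hθmem χ hχ) (hθmem _ hχ'),
              show θ χ - θ (Cfsg.conjFun χ) = χ - Cfsg.conjFun χ by simp [hθdef, hkk], hS.sum_eq χ hχ]
          have h2 : Cfsg.classInner (τ (θ χ) - τ (θ (Cfsg.conjFun χ))) (e ψ) = 0 := by
            rw [hτsub, classInner_sum_left, Finset.sum_eq_zero]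
            intro α hα
            rw [← classInner_conj, havoid χ hχ hχ1 ψ hψ α hα, map_zero]
          rw [classInner_sub_left, hDc χ hχ hχ1 ψ hψ, hDc _ hχ' h' ψ hψ] at h2
          simp [hcdef, hA1, h0, hkk] at h2
        · exact h0.1
      · have h2 := hrel χ hχ hχ1 χ' hχ' h' e1 e2
        rw [hA1] at h2
        rcases (hmain χ' hχ' h').1 with h0 | ⟨h0, -⟩
        · rw [h0] at h2
          simp only [mul_zero, one_mul, zero_mul, add_zero] at h2
          exact absurd (show k χ' = 0 by exact_mod_cast h2.symm) (hkpos χ' hχ').ne'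
        · rw [h0] at h2
          refine ⟨?_, h0⟩
          simp only [mul_one, one_mul] at h2
          omega
    obtain ⟨Γ, N, hΓ, hΓτ, hNS, hN, hnormΓ⟩ := hψex (k χ) (by omega) fun χ' hχ' h' => by
      rw [hk1 χ' hχ', (hall χ' hχ' h').1]
    obtain ⟨b₀, hb₀⟩ := IsGeneralized.exists_classInner_eq_int hΓ (hegen _ (hz₁ ψ hψ))
    set b : ℤ := b₀ + 1 with hbdef
    have hΓe : ∀ φ ∈ S₁, Cfsg.classInner Γ (e φ) = (b : ℂ) - if φ = ψ then 1 else 0 := by
      intro φ hφ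
      by_cases he' : φ = ψ
      · subst he'; rw [hb₀, if_pos rfl, hbdef]; push_cast; ring
      have h1 := hΓτ _ (hdiffS φ hφ ψ hψ)
      rw [hesub φ hφ ψ hψ, classInner_sub_right, classInner_sub_right, hb₀, hψψ,
        IsIrrCharacter.classInner_of_ne (hirr ψ hψ) (hirr φ hφ) (Ne.symm he')] at h1
      rw [if_neg he', hbdef]
      push_cast
      linear_combination h1
    have hΓX : ∀ η ∈ N, Cfsg.classInner Γ (X η) = ((1 - (k χ : ℤ) * b : ℤ) : ℂ) := by
      intro η hη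
      have hηS := hNS hη
      have hη1 := (hN η hη).1
      show Cfsg.classInner Γ (τ (θ η) - ∑ φ ∈ S₁, (c η φ : ℂ) • e φ) = _
      rw [classInner_sub_right, hΓτ _ (hθmem η hηS), classInner_sum_right,
        Finset.sum_congr rfl (g := fun φ => (c η φ : ℂ) * ((b : ℂ) - if φ = ψ then 1 else 0)) fun φ hφ => by
          rw [classInner_smul_right, map_intCast, hΓe φ hφ],
        ← Finset.add_sum_erase _ _ hψ, Finset.sum_congr rfl (g := fun _ => (b : ℂ))
          (fun φ hφ => by simp [hcdef, (Finset.mem_erase.1 hφ).1, (hall η hηS hη1).2]),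
        Finset.sum_const, Finset.card_erase_of_mem hψ, nsmul_eq_mul,
        Nat.cast_sub (show 1 ≤ S₁.card by omega)]
      simp only [hθdef, ← Int.cast_smul_eq_zsmul ℂ, classInner_sub_right, classInner_smul_right,
        map_intCast, hψψ, hout' η hηS hη1 ψ hψ, hcdef, if_true, (hall η hηS hη1).1, (hall η hηS hη1).2]
      have hn' : (S₁.card : ℂ) = 2 * (k χ : ℂ) := by exact_mod_cast hn
      rw [hn']
      push_cast
      ring
    have hne : (1 - (k χ : ℤ) * b : ℤ) ≠ 0 := by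
      intro h
      have h' : (k χ : ℤ) * b = 1 := by omega
      rcases Int.eq_one_or_neg_one_of_mul_eq_one h' with h'' | h'' <;> omega
    have hXN : ∀ η ∈ N, ∀ η' ∈ N,
        Cfsg.classInner (X η) (X η') = if η = η' then 1 else 0 := by
      intro η hη η' hη'
      obtain ⟨hk', hA'⟩ := hall η (hNS hη) (hN η hη).1
      obtain ⟨hk'', hA''⟩ := hall η' (hNS hη') (hN η' hη').1
      rw [hXX η (hNS hη) (hN η hη).1 η' (hNS hη') (hN η' hη').1, hA', hA'', hk', hk'',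
        IsIrrCharacter.classInner_eq (hN η hη).2 (hN η' hη').2]
      have hn' : (S₁.card : ℂ) = 2 * (k χ : ℂ) := by exact_mod_cast hn
      rw [hn']
      push_cast
      ring
    have hinjX : ∀ η ∈ N, ∀ η' ∈ N, X η = X η' → η = η' := fun η hη η' hη' h => by
      by_contra hne'
      have h1 := hXN η hη η' hη'
      rw [if_neg hne', h, hXN η' hη' η' hη', if_pos rfl] at h1
      exact one_ne_zero h1
    have hinje : ∀ φ ∈ S₁, ∀ φ' ∈ S₁, e φ = e φ' → φ = φ' := fun φ hφ φ' hφ' h => by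
      by_contra hne'
      have h1 := hee φ hφ φ' hφ'
      rw [if_neg hne', h, hee φ' hφ' φ' hφ', if_pos rfl] at h1
      exact one_ne_zero h1
    have hdisj : Disjoint (N.image X) (S₁.image e) := Finset.disjoint_left.2 fun z hz hz' => by
      obtain ⟨η, hη, rfl⟩ := Finset.mem_image.1 hz
      obtain ⟨φ, hφ, he'⟩ := Finset.mem_image.1 hz'
      have h1 := hXe η (hNS hη) (hN η hη).1 φ hφ
      rw [← he', hee φ hφ φ hφ, if_pos rfl] at h1
      exact one_ne_zero h1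
    have horth : ∀ α ∈ N.image X ∪ S₁.image e, ∀ β ∈ N.image X ∪ S₁.image e,
        Cfsg.classInner α β = if α = β then 1 else 0 := by
      intro α hα β hβ
      rcases Finset.mem_union.1 hα with hα | hα <;> rcases Finset.mem_union.1 hβ with hβ | hβ <;>
        obtain ⟨x, hx, rfl⟩ := Finset.mem_image.1 hα <;> obtain ⟨y, hy, rfl⟩ := Finset.mem_image.1 hβ
      · rw [hXN x hx y hy]; exact if_congr ⟨fun h => congrArg X h, hinjX x hx y hy⟩ rfl rfl
      · rw [hXe x (hNS hx) (hN x hx).1 y hy, if_neg fun h : X x = e y => Finset.disjoint_left.1 hdisj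
          (Finset.mem_image_of_mem X hx) (h ▸ Finset.mem_image_of_mem e hy)]
      · rw [← classInner_conj, hXe y (hNS hy) (hN y hy).1 x hx, map_zero, if_neg fun h : e x = X y =>
          Finset.disjoint_left.1 hdisj (Finset.mem_image_of_mem X hy) (h ▸ Finset.mem_image_of_mem e hx)]
      · rw [hee x hx y hy]; exact if_congr ⟨fun h => congrArg e h, hinje x hx y hy⟩ rfl rfl
    have hbes := bessel _ horth Γ
    rw [Finset.sum_union hdisj, Finset.sum_image fun x hx y hy => hinjX x hx y hy,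
      Finset.sum_image fun x hx y hy => hinje x hx y hy] at hbes
    have h1 : (N.card : ℝ) ≤ ∑ η ∈ N, ‖Cfsg.classInner Γ (X η)‖ ^ 2 := by
      rw [show (N.card : ℝ) = ∑ η ∈ N, (1 : ℝ) by rw [Finset.sum_const, nsmul_one]]
      refine Finset.sum_le_sum fun η hη => ?_
      rw [norm_classInner_int (hΓX η hη)]
      exact_mod_cast (show (1 : ℤ) ≤ _ from mul_self_pos.2 hne)
    have h3 : (1 : ℝ) ≤ ∑ φ ∈ S₁, ‖Cfsg.classInner Γ (e φ)‖ ^ 2 := by
      obtain ⟨φ, hφ, hφne⟩ : ∃ φ ∈ S₁, φ ≠ ψ := S₁.exists_mem_ne (by omega) ψ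
      rcases eq_or_ne b 0 with hb | hb
      · refine le_trans ?_ (Finset.single_le_sum (fun x _ => by positivity) hψ)
        rw [norm_classInner_int (n := b - 1) (by rw [hΓe ψ hψ, if_pos rfl]; push_cast; ring), hb]
        norm_num
      · refine le_trans ?_ (Finset.single_le_sum (fun x _ => by positivity) hφ)
        rw [norm_classInner_int (n := b) (by rw [hΓe φ hφ, if_neg hφne, sub_zero])]
        exact_mod_cast (show (1 : ℤ) ≤ _ from mul_self_pos.2 hb)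
    linarith
  -- the isometry
  set T : (L → ℂ) → G → ℂ := fun φ => if φ ∈ S₁ then e φ else X φ with hTdef
  refine ⟨⟨α₀, zspanOn_subset_zspanOn hS₁ _ hα₀, hα₀ne⟩, orthExt U T, ?_, ?_⟩
  · have hiso' := orthExt_isometry (s := U) (T := T)
      (fun φ hφ φ' hφ' h => hS.orthogonal φ ((hUm φ).1 hφ) φ' ((hUm φ').1 hφ') h)
      (fun φ hφ => coherenceSystem_ne_zero hS ((hUm φ).1 hφ))
      (fun φ hφ => by
        simp only [hTdef]
        split_ifs with h
        · exact hegen _ (hz₁ φ h)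
        · exact hXgen φ ((hUm φ).1 hφ))
      (fun φ hφ φ' hφ' => by
        rw [hUm] at hφ hφ'
        simp only [hTdef]
        split_ifs with h h' h'
        · exact heiso _ (hz₁ φ h) _ (hz₁ φ' h')
        · rw [hout' φ' hφ' h' φ h, ← classInner_conj, hXe φ' hφ' h' φ h, map_zero]
        · rw [hout φ hφ h φ' h', hXe φ hφ h φ' h']
        · rw [hXX φ hφ h φ' hφ' h', hA0 φ hφ h, hA0 φ' hφ' h']
          simp)
    rwa [hUdef, hfin.coe_toFinset] at hiso'
  · intro α hα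
    rw [← hfin.coe_toFinset, ← hUdef] at hα
    refine orthExt_eq_of_base (χ₁ := ψ) hS.isometry (fun φ hφ => (hUm φ).1 hφ)
      (fun φ hφ φ' hφ' h => hS.orthogonal φ ((hUm φ).1 hφ) φ' ((hUm φ').1 hφ') h)
      (fun φ hφ => coherenceSystem_ne_zero hS ((hUm φ).1 hφ)) ((hUm ψ).2 hψS)
      (by rw [hd ψ hψ]; exact hd0) (fun φ => (k φ : ℤ))
      (fun φ hφ => by rw [hk1 φ ((hUm φ).1 hφ), hd ψ hψ]; simp [zsmul_eq_mul]) (fun φ hφ => ?_) hα
    rw [hUm] at hφ
    simp only [hTdef, if_pos hψ]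
    split_ifs with h
    · have hk' : k φ = 1 := by
        have h1 := hk1 φ hφ
        rw [hd φ h, Nat.cast_mul] at h1
        exact_mod_cast mul_right_cancel₀ hd0 ((one_mul (d : ℂ)).trans h1).symm
      rw [hk', Nat.cast_one, one_smul, one_smul]
      exact hesub φ h ψ hψ
    · have hsum : ∑ x ∈ S₁, (c φ x : ℂ) • e x = -((k φ : ℂ) • e ψ) := by
        rw [Finset.sum_eq_single ψ (fun x hx hne => by simp [hcdef, hA0 φ hφ h, hne])
          (fun h' => absurd hψ h')]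
        simp [hcdef, hA0 φ hφ h]
      show τ (θ φ) = X φ - ((k φ : ℕ) : ℤ) • e ψ
      simp only [hXdef, hsum, ← Int.cast_smul_eq_zsmul ℂ, Int.cast_natCast]
      abel

end CfsgLib.OddEnd
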