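import Cfsg.Agent.OddEnd.PtypeCoherenceSetup

/-!
# The lines of `H/H₀` outside the Galois case (Peterfalvi 9.5, 9.8)

`H/H₀` is the product of the `W₁`-conjugates of a `U`-invariant line; `a = |U : C_U(line)|` divides
`p - 1` and `|U : C| ≤ a ^ (q - 1)`.
-/

set_option autoImplicit false
set_option linter.unusedSectionVars false
set_option linter.style.haveILetI false

namespace CfsgLib.OddEnd

open Subgroup CfsgLib.OddLocal
open scoped commutatorElement

universe u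

variable {G : Type u} [Group G]

/-- The transform of a character of `H` by an element normalizing `H`. -/
def conjL {H : Subgroup G} {v : G} (hv : v ∈ normalizer (H : Set G)) (l : ↥H →* ℂˣ) : ↥H →* ℂˣ :=
  l.comp (MonoidHom.mk' (fun x : H => (⟨v * x * v⁻¹, (mem_normalizer_iff.1 hv x).1 x.2⟩ : H))
    fun a b => Subtype.ext (by push_cast; group))

theorem conjL_apply {H : Subgroup G} {v : G} (hv : v ∈ normalizer (H : Set G)) (l : ↥H →* ℂˣ) (x : H) :
    conjL hv l x = l ⟨v * x * v⁻¹, (mem_normalizer_iff.1 hv x).1 x.2⟩ := rfl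

theorem fixL_iff_conjL {H : Subgroup G} {v : G} (hv : v ∈ normalizer (H : Set G)) (l : ↥H →* ℂˣ) :
    FixL H v l ↔ conjL hv l = l := by
  refine ⟨fun h => MonoidHom.ext fun x => h x _ rfl, fun h x x' e => ?_⟩
  rw [show x' = ⟨v * x * v⁻¹, (mem_normalizer_iff.1 hv x).1 x.2⟩ from Subtype.ext e, ← conjL_apply hv, h]

theorem conjL_mul {H : Subgroup G} {v v' : G} (hv : v ∈ normalizer (H : Set G))
    (hv' : v' ∈ normalizer (H : Set G)) (l : ↥H →* ℂˣ) :
    conjL hv' (conjL hv l) = conjL (mul_mem hv hv') l :=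
  MonoidHom.ext fun x => by
    simp only [conjL_apply]
    exact congrArg l (Subtype.ext (by simp [mul_assoc]))

theorem conjL_injective {H : Subgroup G} {v : G} (hv : v ∈ normalizer (H : Set G)) :
    Function.Injective (conjL (H := H) hv) := fun l l' e => MonoidHom.ext fun x => by
  have h1 := DFunLike.congr_fun e ⟨v⁻¹ * x * v, (mem_normalizer_iff''.1 hv x).1 x.2⟩
  simp only [conjL_apply] at h1
  have e' : (⟨v * (v⁻¹ * (x : G) * v) * v⁻¹, (mem_normalizer_iff.1 hv _).1 ((mem_normalizer_iff''.1 hv x).1 x.2)⟩ : H) = x :=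
    Subtype.ext (by group)
  rwa [e'] at h1

/-- A `W₁`-conjugate of a line. -/
def lineAt (N : Subgroup G) (w : G) : Subgroup G := N.map (MulAut.conj w).toMonoidHom

theorem mem_lineAt {N : Subgroup G} {w x : G} : x ∈ lineAt N w ↔ w⁻¹ * x * w ∈ N := by
  constructor
  · rintro ⟨n, hn, rfl⟩
    simpa [mul_assoc] using hn
  · exact fun hx => ⟨_, hx, by simp [mul_assoc]⟩

theorem conj_mem_lineAt {N : Subgroup G} (w : G) {n : G} (hn : n ∈ N) : w * n * w⁻¹ ∈ lineAt N w :=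
  mem_lineAt.2 (by rwa [show w⁻¹ * (w * n * w⁻¹) * w = n by group])

/-- The restriction of a character of `H` to a subgroup. -/
def resL {H N : Subgroup G} (h : N ≤ H) (l : ↥H →* ℂˣ) : ↥N →* ℂˣ := l.comp (inclusion h)

variable [Finite G] {M W₁ U W₂ H₀ N : Subgroup G} {p : ℕ}

/-- A `U`-invariant line of `H/H₀` whose conjugates generate it. -/
structure LineData (M W₁ U H₀ N : Subgroup G) (p : ℕ) : Prop where
  bot_le : H₀ ≤ N
  le : N ≤ Cfsg.fittingHallOf M
  inv : U ≤ normalizer (N : Set G)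
  index : H₀.relIndex N = p
  gen : ∀ S : Subgroup G, H₀ ≤ S → (∀ w ∈ W₁, ∀ n ∈ N, w * n * w⁻¹ ∈ S) → Cfsg.fittingHallOf M ≤ S

theorem ChiefData.exists_lineData (h : PtypeData M W₁ U W₂) (hc : ChiefData M W₁ W₂ H₀ p)
    (hGal : ¬ GaloisCase M U H₀) : ∃ N : Subgroup G, LineData M W₁ U H₀ N p := by
  obtain ⟨N, h1, h2, h3, h4, h5⟩ := hc.exists_line h hGal
  exact ⟨N, h1, h2, h3, h4, h5⟩

namespace LineData

variable (hN : LineData M W₁ U H₀ N p) (h : PtypeData M W₁ U W₂) (hc : ChiefData M W₁ W₂ H₀ p)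
include hN h hc

theorem conjW_mem {w : G} (hw : w ∈ W₁) {v : G} (hv : v ∈ U) : w⁻¹ * v * w ∈ U := by
  simpa using conj_mem_of_le_normalizer h.typeP.U_normal (inv_mem hw) hv

theorem at_le {w : G} (hw : w ∈ W₁) : lineAt N w ≤ Cfsg.fittingHallOf M := fun x hx => by
  have h1 := hN.le (mem_lineAt.1 hx)
  rw [show x = w * (w⁻¹ * x * w) * w⁻¹ by group]
  exact conj_mem_of_le_normalizer h.le_normalizer_H (h.left_le hw) h1

theorem bot_le_at {w : G} (hw : w ∈ W₁) : H₀ ≤ lineAt N w := fun x hx => mem_lineAt.2 (hN.bot_le (by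
  simpa using conj_mem_of_le_normalizer hc.normal (inv_mem (h.left_le hw)) hx))

theorem at_inv {w : G} (hw : w ∈ W₁) : U ≤ normalizer (lineAt N w : Set G) :=
  le_normalizer_of_conj_mem fun y hy x hx => mem_lineAt.2 (by
    rw [show w⁻¹ * (y * x * y⁻¹) * w = (w⁻¹ * y * w) * (w⁻¹ * x * w) * (w⁻¹ * y * w)⁻¹ by group]
    exact conj_mem_of_le_normalizer hN.inv (hN.conjW_mem h hc hw hy) (mem_lineAt.1 hx))

theorem at_index {w : G} (hw : w ∈ W₁) : H₀.relIndex (lineAt N w) = p := by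
  conv_lhs => rw [← mem_normalizer_iff_map_conj_eq.1 (hc.normal (h.left_le hw))]
  exact (relIndex_map_map_of_injective (f := (MulAut.conj w).toMonoidHom) _ _ (MulAut.conj w).injective).trans hN.index

theorem N_le_normalizer_H₀ : N ≤ normalizer (H₀ : Set G) := hN.le.trans (hc.H_le_normalizer_H₀ h)

theorem at_le_normalizer_H₀ {w : G} (hw : w ∈ W₁) : lineAt N w ≤ normalizer (H₀ : Set G) :=
  (hN.at_le h hc hw).trans (hc.H_le_normalizer_H₀ h)

theorem card_lam_at {w : G} (hw : w ∈ W₁) : Nat.card (lam (lineAt N w) H₀) = p :=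
  (card_lam ((commutator_mono (hN.at_le h hc hw) (hN.at_le h hc hw)).trans hc.commutator_le)).trans
    (hN.at_index h hc hw)

theorem resL_mem {w : G} (hw : w ∈ W₁) {l : ↥(Cfsg.fittingHallOf M) →* ℂˣ}
    (hl : l ∈ lam (Cfsg.fittingHallOf M) H₀) : resL (hN.at_le h hc hw) l ∈ lam (lineAt N w) H₀ :=
  fun x hx => hl _ hx

/-- A character of `H/H₀` is determined by its restrictions to the lines. -/
theorem lam_ext {l l' : ↥(Cfsg.fittingHallOf M) →* ℂˣ} (hl : l ∈ lam (Cfsg.fittingHallOf M) H₀)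
    (hl' : l' ∈ lam (Cfsg.fittingHallOf M) H₀)
    (e : ∀ w (hw : w ∈ W₁), resL (hN.at_le h hc hw) l = resL (hN.at_le h hc hw) l') : l = l' := by
  have hle : Cfsg.fittingHallOf M ≤ (l.eqLocus l').map (Cfsg.fittingHallOf M).subtype := by
    refine hN.gen _ (fun x hx => ⟨⟨x, hc.le hx⟩, ?_, rfl⟩) fun w hw n hn =>
      ⟨⟨w * n * w⁻¹, hN.at_le h hc hw (conj_mem_lineAt w hn)⟩, (show l ⟨w * n * w⁻¹, _⟩ = l' ⟨w * n * w⁻¹, _⟩ from
        DFunLike.congr_fun (e w hw) ⟨_, conj_mem_lineAt w hn⟩), rfl⟩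
    show l ⟨x, hc.le hx⟩ = l' ⟨x, hc.le hx⟩
    rw [hl _ hx, hl' _ hx]
  refine MonoidHom.ext fun x => ?_
  obtain ⟨y, hy, e'⟩ := hle x.2
  rw [← Subtype.ext (show (y : G) = x from e')]
  exact hy

/-- The characters of `H/H₀` are the families of characters of the lines. -/
theorem lam_bijective : Function.Bijective
    (fun (l : lam (Cfsg.fittingHallOf M) H₀) (w : W₁) =>
      (⟨resL (hN.at_le h hc w.2) l.1, hN.resL_mem h hc w.2 l.2⟩ : lam (lineAt N (w : G)) H₀)) := by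
  haveI := Fintype.ofFinite W₁
  haveI : ∀ w : W₁, Finite (lam (lineAt N (w : G)) H₀) := fun w =>
    Nat.finite_of_card_ne_zero (by rw [hN.card_lam_at h hc w.2]; exact hc.prime.pos.ne')
  refine (Nat.bijective_iff_injective_and_card _).2 ⟨fun l l' e => Subtype.ext (hN.lam_ext h hc l.2 l'.2
    fun w hw => congrArg Subtype.val (congrFun e ⟨w, hw⟩)), ?_⟩
  rw [card_lam hc.commutator_le, hc.card, Nat.card_pi, Finset.prod_congr rfl fun (w : W₁) _ => hN.card_lam_at h hc w.2,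
    Finset.prod_const, Finset.card_univ, Nat.card_eq_fintype_card]

theorem fix_res {w : G} (hw : w ∈ W₁) {l : ↥(Cfsg.fittingHallOf M) →* ℂˣ} {v : G}
    (hfix : FixL (Cfsg.fittingHallOf M) v l) : FixL (lineAt N w) v (resL (hN.at_le h hc hw) l) :=
  fun x x' e => hfix (inclusion (hN.at_le h hc hw) x) (inclusion (hN.at_le h hc hw) x') e

/-- An element of `U` fixing a character nontrivial on a line centralizes that line. -/
theorem mem_secCent_of_fix {w : G} (hw : w ∈ W₁) {l : ↥(Cfsg.fittingHallOf M) →* ℂˣ}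
    (hl : l ∈ lam (Cfsg.fittingHallOf M) H₀) (hl1 : resL (hN.at_le h hc hw) l ≠ 1) {v : G} (hv : v ∈ U)
    (hfix : FixL (Cfsg.fittingHallOf M) v l) : v ∈ secCent U (lineAt N w) H₀ :=
  (fixL_iff_secCent hc.prime (hN.bot_le_at h hc hw) (hN.at_index h hc hw) (hN.at_inv h hc hw)
    (h.U_le.trans hc.normal) (hN.resL_mem h hc hw hl) hl1 hv).1 (hN.fix_res h hc hw hfix)

theorem secCent_at {w : G} (hw : w ∈ W₁) :
    secCent U (lineAt N w) H₀ = (secCent U N H₀).map (MulAut.conj w).toMonoidHom := by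
  have h2 : U ≤ normalizer (H₀ : Set G) := h.U_le.trans hc.normal
  ext v
  rw [mem_secCent (hN.at_inv h hc hw) h2]
  constructor
  · rintro ⟨hv, hv'⟩
    refine ⟨w⁻¹ * v * w, (mem_secCent hN.inv h2).2 ⟨hN.conjW_mem h hc hw hv, fun n hn => ?_⟩, by simp [mul_assoc]⟩
    rw [show ⁅w⁻¹ * v * w, n⁆ = w⁻¹ * ⁅v, w * n * w⁻¹⁆ * w⁻¹⁻¹ by simp only [commutatorElement_def]; group]
    exact conj_mem_of_le_normalizer hc.normal (inv_mem (h.left_le hw)) (hv' _ (conj_mem_lineAt w hn))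
  · rintro ⟨v', hv', rfl⟩
    simp only [MulEquiv.coe_toMonoidHom, MulAut.conj_apply]
    obtain ⟨h3, h4⟩ := (mem_secCent hN.inv h2).1 hv'
    refine ⟨conj_mem_of_le_normalizer h.typeP.U_normal hw h3, fun n hn => ?_⟩
    rw [show ⁅w * v' * w⁻¹, n⁆ = w * ⁅v', w⁻¹ * n * w⁆ * w⁻¹ by simp only [commutatorElement_def]; group]
    exact conj_mem_of_le_normalizer hc.normal (h.left_le hw) (h4 _ (mem_lineAt.1 hn))

theorem relIndex_at {w : G} (hw : w ∈ W₁) :
    (secCent U (lineAt N w) H₀).relIndex U = (secCent U N H₀).relIndex U := by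
  rw [hN.secCent_at h hc hw]
  have h1 := relIndex_map_map_of_injective (f := (MulAut.conj w).toMonoidHom) (secCent U N H₀) U
    (MulAut.conj w).injective
  have h2 : U.map (MulAut.conj w).toMonoidHom = U := mem_normalizer_iff_map_conj_eq.1 (h.typeP.U_normal hw)
  rwa [h2] at h1

theorem C_le_secCent {w : G} (hw : w ∈ W₁) : chiefCent M U H₀ ≤ secCent U (lineAt N w) H₀ := fun v hv =>
  (mem_secCent (hN.at_inv h hc hw) (h.U_le.trans hc.normal)).2
    ⟨hc.C_le h hv, fun n hn => hc.C_comm h hv (hN.at_le h hc hw hn)⟩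

theorem C_le_base : chiefCent M U H₀ ≤ secCent U N H₀ := fun v hv =>
  (mem_secCent hN.inv (h.U_le.trans hc.normal)).2 ⟨hc.C_le h hv, fun n hn => hc.C_comm h hv (hN.le hn)⟩

theorem index_dvd : (secCent U N H₀).relIndex U ∣ p - 1 :=
  secCent_relIndex_dvd hc.prime hN.bot_le hN.index hN.inv (h.U_le.trans hc.normal) (hN.N_le_normalizer_H₀ h hc)

theorem mem_C_of_all {v : G} (hv : v ∈ U) (hall : ∀ w ∈ W₁, v ∈ secCent U (lineAt N w) H₀) :
    v ∈ chiefCent M U H₀ := by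
  refine (hc.mem_C h).2 ⟨hv, fun x hx => ?_⟩
  by_contra hne
  have hvH : v ∈ normalizer (Cfsg.fittingHallOf M : Set G) := h.le_normalizer_H (h.U_le hv)
  have hmem : ⁅v, x⁆ ∈ Cfsg.fittingHallOf M := by
    rw [commutatorElement_def]; exact mul_mem ((mem_normalizer_iff.1 hvH x).1 hx) (inv_mem hx)
  obtain ⟨l, hl, hl1⟩ := exists_lam_ne hc.commutator_le hmem hne
  refine hl1 ((fixL_iff (H₀ := H₀) hvH).1 ((fixL_iff_conjL hvH l).2 ?_) x hx)
  refine hN.lam_ext h hc (fun y hy => ?_) hl fun w hw => ?_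
  · rw [conjL_apply]
    exact hl _ (conj_mem_of_le_normalizer hc.normal (h.U_le hv) hy)
  · refine MonoidHom.ext fun y => ?_
    exact fixL_of_secCent (hN.resL_mem h hc hw hl) (hall w hw) y
      ⟨v * y * v⁻¹, conj_mem_of_le_normalizer (hN.at_inv h hc hw) hv y.2⟩ rfl

theorem exists_twist {w : G} (hw : w ∈ W₁) (hw1 : w ≠ 1) {v : G} (hv : v ∈ U) :
    ∃ y ∈ U, v = y⁻¹ * (w * y * w⁻¹) := by
  let f : U → U := fun y => ⟨(y : G)⁻¹ * (w * y * w⁻¹),
    mul_mem (inv_mem y.2) (conj_mem_of_le_normalizer h.typeP.U_normal hw y.2)⟩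
  have hinj : Function.Injective f := fun y z e => by
    have e' : (y : G)⁻¹ * (w * y * w⁻¹) = (z : G)⁻¹ * (w * z * w⁻¹) := congrArg Subtype.val e
    have h1 : w * ((z : G) * (y : G)⁻¹) = ((z : G) * (y : G)⁻¹) * w := by
      calc w * ((z : G) * (y : G)⁻¹)
          = (z : G) * ((z : G)⁻¹ * (w * z * w⁻¹)) * (w * y * w⁻¹)⁻¹ * w := by group
        _ = (z : G) * ((y : G)⁻¹ * (w * y * w⁻¹)) * (w * y * w⁻¹)⁻¹ * w := by rw [e']
        _ = ((z : G) * (y : G)⁻¹) * w := by group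
    have h2 := h.eq_one_of_U_fixed (mul_mem z.2 (inv_mem y.2)) hw hw1 h1
    exact Subtype.ext (mul_inv_eq_one.1 h2).symm
  obtain ⟨y, hy⟩ := Finite.injective_iff_surjective.1 hinj ⟨v, hv⟩
  exact ⟨y, y.2, (congrArg Subtype.val hy).symm⟩

theorem index_le : (chiefCent M U H₀).relIndex U ≤
    ((secCent U N H₀).relIndex U) ^ (Nat.card W₁ - 1) := by
  classical
  haveI := Fintype.ofFinite W₁
  set U₁ := secCent U N H₀ with hU₁
  set C := chiefCent M U H₀ with hC
  have hder : _root_.commutator ↥U ≤ U₁.subgroupOf U :=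
    commutator_subgroupOf_le ((hc.derived_U_le h).trans (hN.C_le_base h hc))
  haveI : (U₁.subgroupOf U).Normal := normal_of_commutator ((hc.derived_U_le h).trans (hN.C_le_base h hc))
  have hcomm : ∀ a b : ↥U ⧸ U₁.subgroupOf U, a * b = b * a := by
    intro a b
    obtain ⟨x, rfl⟩ := QuotientGroup.mk'_surjective _ a
    obtain ⟨y, rfl⟩ := QuotientGroup.mk'_surjective _ b
    rw [← commutatorElement_eq_one_iff_mul_comm, ← map_commutatorElement]
    exact (QuotientGroup.eq_one_iff _).2 (hder (commutator_mem_commutator (mem_top x) (mem_top y)))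
  letI : CommGroup (↥U ⧸ U₁.subgroupOf U) := { (inferInstance : Group (↥U ⧸ U₁.subgroupOf U)) with mul_comm := hcomm }
  let π : W₁ → ↥U →* ↥U ⧸ U₁.subgroupOf U := fun w => (QuotientGroup.mk' _).comp
    (MonoidHom.mk' (fun v : U => (⟨(w : G)⁻¹ * v * w, hN.conjW_mem h hc w.2 v.2⟩ : U))
      fun a b => Subtype.ext (by push_cast; group))
  have hπ : ∀ (w : W₁) (v : U), π w v = 1 ↔ (v : G) ∈ secCent U (lineAt N w) H₀ := fun w v => by
    rw [hN.secCent_at h hc w.2]
    show QuotientGroup.mk' _ _ = 1 ↔ _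
    rw [QuotientGroup.mk'_apply, QuotientGroup.eq_one_iff, mem_subgroupOf]
    constructor
    · exact fun hm => ⟨_, hm, by simp [mul_assoc]⟩
    · rintro ⟨x, hx, e⟩
      show (w : G)⁻¹ * v * w ∈ _
      rw [← e]
      simpa [mul_assoc] using hx
  let P : ↥U →* ↥U ⧸ U₁.subgroupOf U := ∏ w : W₁, π w
  obtain ⟨w₀, hw₀, hw₁⟩ := (Subgroup.bot_or_exists_ne_one W₁).resolve_left h.typeP.W₁_ne
  have hP : ∀ v : U, P v = 1 := fun v => by
    obtain ⟨y, hy, e⟩ := hN.exists_twist h hc hw₀ hw₁ v.2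
    have e' : v = (⟨y, hy⟩ : U)⁻¹ * ⟨w₀ * y * w₀⁻¹, conj_mem_of_le_normalizer h.typeP.U_normal hw₀ hy⟩ :=
      Subtype.ext e
    rw [e', map_mul, map_inv, inv_mul_eq_one]
    simp only [P, MonoidHom.finsetProd_apply]
    rw [← Equiv.prod_comp (Equiv.mulLeft (⟨w₀, hw₀⟩ : W₁)) fun w : W₁ =>
      π w ⟨w₀ * y * w₀⁻¹, conj_mem_of_le_normalizer h.typeP.U_normal hw₀ hy⟩]
    refine Finset.prod_congr rfl fun w _ => ?_
    show QuotientGroup.mk' _ _ = QuotientGroup.mk' _ _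
    refine congrArg _ (Subtype.ext ?_)
    simp only [MonoidHom.mk'_apply, Equiv.coe_mulLeft, Subgroup.coe_mul]
    group
  let Φ : ↥U ⧸ C.subgroupOf U → ({w : W₁ // w ≠ 1} → ↥U ⧸ U₁.subgroupOf U) := fun z w => π w.1 z.out
  have hΦ : Function.Injective Φ := fun z z' e => by
    have hz : ∀ w : W₁, π w ((z.out)⁻¹ * z'.out) = 1 := by
      have h1 : ∀ w : W₁, w ≠ 1 → π w ((z.out)⁻¹ * z'.out) = 1 := fun w hw => by
        rw [map_mul, map_inv, inv_mul_eq_one]
        exact congrFun e ⟨w, hw⟩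
      intro w
      by_cases hw : w = 1
      · subst hw
        have h2 := hP ((z.out)⁻¹ * z'.out)
        simp only [P, MonoidHom.finsetProd_apply] at h2
        rwa [Finset.prod_eq_single (1 : W₁) (fun b _ hb => h1 b hb) (fun hn => absurd (Finset.mem_univ _) hn)] at h2
      · exact h1 w hw
    rw [← z.out_eq, ← z'.out_eq]
    exact QuotientGroup.eq.2 (hN.mem_C_of_all h hc ((z.out)⁻¹ * z'.out).2
      fun w hw => (hπ ⟨w, hw⟩ _).1 (hz _))
  have h3 := Nat.card_le_card_of_injective Φ hΦ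
  rw [Nat.card_fun, ← index_eq_card, ← index_eq_card] at h3
  refine h3.trans (le_of_eq ?_)
  congr 1
  rw [Nat.card_eq_fintype_card, Nat.card_eq_fintype_card, Fintype.card_subtype_compl,
    Fintype.card_subtype_eq]

/-- If two different lines have one centralizer then it is `C`. -/
theorem eq_C_of_secCent_eq {w : G} (hw : w ∈ W₁) (hw1 : w ≠ 1)
    (e : secCent U (lineAt N w) H₀ = secCent U N H₀) : secCent U N H₀ = chiefCent M U H₀ := by
  haveI := Fact.mk h.prime_W₁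
  refine le_antisymm (fun v hv => hN.mem_C_of_all h hc hv.1 fun x hx => ?_) (hN.C_le_base h hc)
  rw [hN.secCent_at h hc hw] at e
  rw [hN.secCent_at h hc hx]
  have hw' : (⟨w, hw⟩ : W₁) ≠ 1 := fun e' => hw1 (congrArg Subtype.val e')
  obtain ⟨i, hi⟩ : (⟨x, hx⟩ : W₁) ∈ Submonoid.powers (⟨w, hw⟩ : W₁) :=
    ((isOfFinOrder_of_finite _).mem_powers_iff_mem_zpowers).2
      (zpowers_eq_top_of_prime_card rfl hw' ▸ mem_top _)
  have hx' : x = w ^ i := (congrArg Subtype.val hi).symm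
  have hwi : ∀ j : ℕ, (secCent U N H₀).map (MulAut.conj (w ^ j)).toMonoidHom = secCent U N H₀ := fun j =>
    mem_normalizer_iff_map_conj_eq.1 (pow_mem (mem_normalizer_iff_map_conj_eq.2 e) j)
  rw [hx', hwi]
  exact hv

/-- The characters nontrivial on the line alone. -/
theorem card_single : p - 1 ≤ Nat.card {l : lam (Cfsg.fittingHallOf M) H₀ //
    resL (hN.at_le h hc W₁.one_mem) l.1 ≠ 1 ∧
      ∀ w (hw : w ∈ W₁), w ≠ 1 → resL (hN.at_le h hc hw) l.1 = 1} := by
  classical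
  haveI : Finite (lam (lineAt N (1 : G)) H₀) :=
    Nat.finite_of_card_ne_zero (by rw [hN.card_lam_at h hc W₁.one_mem]; exact hc.prime.pos.ne')
  haveI : Finite (lam (Cfsg.fittingHallOf M) H₀) := Nat.finite_of_card_ne_zero (by
    rw [card_lam hc.commutator_le, hc.card]; exact (pow_pos hc.prime.pos _).ne')
  have h1 : Nat.card {m : lam (lineAt N (1 : G)) H₀ // m ≠ 1} = p - 1 := by
    haveI := Fintype.ofFinite (lam (lineAt N (1 : G)) H₀)
    rw [Nat.card_eq_fintype_card, Fintype.card_subtype_compl, Fintype.card_subtype_eq,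
      ← Nat.card_eq_fintype_card, hN.card_lam_at h hc W₁.one_mem]
  rw [← h1]
  let F : lam (lineAt N (1 : G)) H₀ → ((w : W₁) → lam (lineAt N (w : G)) H₀) :=
    fun m => Function.update (fun _ => 1) (1 : W₁) m
  choose g hg using fun m => (hN.lam_bijective h hc).2 (F m)
  refine Nat.card_le_card_of_injective (fun m => ⟨g m.1, ?_, fun w hw hw1 => ?_⟩) fun m m' e => ?_
  · have h2 := congrArg Subtype.val (congrFun (hg m.1) 1)
    simp only [F, Function.update_self] at h2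
    exact fun e => m.2 (Subtype.ext (h2.symm.trans e))
  · have h2 := congrArg Subtype.val (congrFun (hg m.1) ⟨w, hw⟩)
    simp only [F] at h2
    rw [Function.update_of_ne (show (⟨w, hw⟩ : W₁) ≠ 1 from fun e => hw1 (congrArg Subtype.val e))] at h2
    exact h2
  · have e' : g m.1 = g m'.1 := congrArg (fun x => x.1) e
    have h2 := congrFun ((hg m.1).symm.trans ((congrArg (fun (l : lam (Cfsg.fittingHallOf M) H₀) (w : W₁) =>
      (⟨resL (hN.at_le h hc w.2) l.1, hN.resL_mem h hc w.2 l.2⟩ : lam (lineAt N (w : G)) H₀)) e').trans (hg m'.1))) 1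
    simp only [F, Function.update_self] at h2
    exact Subtype.ext h2

/-- There are `(p - 1) ^ q` characters nontrivial on every line. -/
theorem card_full : Nat.card {l : lam (Cfsg.fittingHallOf M) H₀ //
    ∀ w (hw : w ∈ W₁), resL (hN.at_le h hc hw) l.1 ≠ 1} = (p - 1) ^ Nat.card W₁ := by
  classical
  haveI := Fintype.ofFinite W₁
  have e1 : {l : lam (Cfsg.fittingHallOf M) H₀ //
      ∀ w (hw : w ∈ W₁), resL (hN.at_le h hc hw) l.1 ≠ 1} ≃
      {f : (w : W₁) → lam (lineAt N (w : G)) H₀ // ∀ w, f w ≠ 1} :=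
    (Equiv.ofBijective _ (hN.lam_bijective h hc)).subtypeEquiv fun l =>
      ⟨fun hl w e => hl w w.2 (congrArg Subtype.val e), fun hl w hw e => hl ⟨w, hw⟩ (Subtype.ext e)⟩
  rw [Nat.card_congr (e1.trans (Equiv.subtypePiEquivPi (p := fun (w : W₁) (m : lam (lineAt N (w : G)) H₀) => m ≠ 1))), Nat.card_pi, Finset.prod_congr rfl (g := fun _ => p - 1)
    fun w _ => ?_, Finset.prod_const, Finset.card_univ, Nat.card_eq_fintype_card]
  haveI : Finite (lam (lineAt N (w : G)) H₀) :=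
    Nat.finite_of_card_ne_zero (by rw [hN.card_lam_at h hc w.2]; exact hc.prime.pos.ne')
  haveI := Fintype.ofFinite (lam (lineAt N (w : G)) H₀)
  rw [Nat.card_eq_fintype_card, Fintype.card_subtype_compl, Fintype.card_subtype_eq,
    ← Nat.card_eq_fintype_card, hN.card_lam_at h hc w.2]

/-- Few full characters are fixed by an element of `M` outside `M'`. -/
theorem card_moved : Nat.card {l : lam (Cfsg.fittingHallOf M) H₀ //
    (∀ w (hw : w ∈ W₁), resL (hN.at_le h hc hw) l.1 ≠ 1) ∧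
      ∃ v ∈ U, ∃ w ∈ W₁, w ≠ 1 ∧ FixL (Cfsg.fittingHallOf M) (v * w) l.1} ≤
    (chiefCent M U H₀).relIndex U * (p - 1) := by
  classical
  set H := Cfsg.fittingHallOf M with hH
  haveI := Fact.mk h.prime_W₁
  haveI : Finite (lam H H₀) := Nat.finite_of_card_ne_zero (by
    rw [card_lam hc.commutator_le, hc.card]; exact (pow_pos hc.prime.pos _).ne')
  haveI : Finite (lam (lineAt N (1 : G)) H₀) :=
    Nat.finite_of_card_ne_zero (by rw [hN.card_lam_at h hc W₁.one_mem]; exact hc.prime.pos.ne')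
  have hMH : M ≤ normalizer (H : Set G) := h.le_normalizer_H
  have hUH : ∀ {y : G}, y ∈ U → y ∈ normalizer (H : Set G) := fun hy => hMH (h.U_le hy)
  have hconj_mem : ∀ {y : G} (hy : y ∈ U) {l : ↥H →* ℂˣ}, l ∈ lam H H₀ → conjL (hUH hy) l ∈ lam H H₀ :=
    by intro y hy l hl x hx; exact hl _ (conj_mem_of_le_normalizer hc.normal (h.U_le hy) hx)
  -- pull back to a character fixed by `W₁`
  have hfind : ∀ l : lam H H₀, (∃ v ∈ U, ∃ w ∈ W₁, w ≠ 1 ∧ FixL H (v * w) l.1) →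
      ∃ y : U, ∀ x (hx : x ∈ W₁), conjL (hMH (h.left_le hx)) (conjL (hUH y.2) l.1) = conjL (hUH y.2) l.1 := by
    rintro l ⟨v, hv, w, hw, hw1, hfix⟩
    obtain ⟨z, hz, e⟩ := hN.exists_twist h hc hw hw1 hv
    refine ⟨⟨z⁻¹, inv_mem hz⟩, ?_⟩
    set μ := conjL (hUH (inv_mem hz)) l.1 with hμ
    have hwfix : conjL (hMH (h.left_le hw)) μ = μ := by
      refine MonoidHom.ext fun x => ?_
      simp only [hμ, conjL_apply]
      refine hfix ⟨z⁻¹ * x * z⁻¹⁻¹, (mem_normalizer_iff.1 (hUH (inv_mem hz)) x).1 x.2⟩ _ ?_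
      show z⁻¹ * (w * x * w⁻¹) * z⁻¹⁻¹ = v * w * (z⁻¹ * x * z⁻¹⁻¹) * (v * w)⁻¹
      rw [e]; group
    intro x hx
    have hw' : (⟨w, hw⟩ : W₁) ≠ 1 := fun e' => hw1 (congrArg Subtype.val e')
    obtain ⟨i, hi⟩ : (⟨x, hx⟩ : W₁) ∈ Submonoid.powers (⟨w, hw⟩ : W₁) :=
      ((isOfFinOrder_of_finite _).mem_powers_iff_mem_zpowers).2
        (zpowers_eq_top_of_prime_card rfl hw' ▸ mem_top _)
    have hx' : x = w ^ i := (congrArg Subtype.val hi).symm
    subst hx'
    suffices hall : ∀ j : ℕ, conjL (pow_mem (hMH (h.left_le hw)) j) μ = μ from hall i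
    intro j
    clear hi hx i
    induction j with
    | zero => exact MonoidHom.ext fun y => congrArg μ (Subtype.ext (by simp))
    | succ i ih =>
      have h4 : conjL (mul_mem (pow_mem (hMH (h.left_le hw)) i) (hMH (h.left_le hw))) μ = μ := by
        rw [← conjL_mul (pow_mem (hMH (h.left_le hw)) i) (hMH (h.left_le hw)), ih, hwfix]
      conv_rhs => rw [← h4]
      exact MonoidHom.ext fun y => congrArg μ (Subtype.ext (by simp [pow_succ]))
  choose! y hy using hfind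
  let f : {l : lam H H₀ // (∀ w (hw : w ∈ W₁), resL (hN.at_le h hc hw) l.1 ≠ 1) ∧
      ∃ v ∈ U, ∃ w ∈ W₁, w ≠ 1 ∧ FixL H (v * w) l.1} →
      (↥U ⧸ (chiefCent M U H₀).subgroupOf U) × lam (lineAt N (1 : G)) H₀ := fun l =>
    ((y l.1 : U), ⟨resL (hN.at_le h hc W₁.one_mem) (conjL (hUH (y l.1).2) l.1.1),
      hN.resL_mem h hc W₁.one_mem (hconj_mem (y l.1).2 l.1.2)⟩)
  have hres : ∀ (l : lam H H₀), (∃ v ∈ U, ∃ w ∈ W₁, w ≠ 1 ∧ FixL H (v * w) l.1) → ∀ w (hw : w ∈ W₁) (n : G)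
      (hn : n ∈ lineAt N w), ∃ hm, resL (hN.at_le h hc hw) (conjL (hUH (y l).2) l.1) ⟨n, hn⟩ =
        resL (hN.at_le h hc W₁.one_mem) (conjL (hUH (y l).2) l.1) ⟨w⁻¹ * n * w, hm⟩ := by
    intro l hl w hw n hn
    refine ⟨mem_lineAt.2 (by simpa using mem_lineAt.1 hn), ?_⟩
    have h5 := DFunLike.congr_fun (hy l hl w hw) ⟨w⁻¹ * n * w,
      hN.at_le h hc W₁.one_mem (mem_lineAt.2 (by simpa using mem_lineAt.1 hn))⟩
    refine (Eq.trans ?_ h5)
    rw [conjL_apply (hMH (h.left_le hw))]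
    exact congrArg (conjL (hUH (y l).2) l.1) (Subtype.ext (show (n : G) = w * (w⁻¹ * n * w) * w⁻¹ by group))
  have hne : ∀ l, (f l).2 ≠ 1 := fun l e => by
    have e1 : resL (hN.at_le h hc W₁.one_mem) (conjL (hUH (y l.1).2) l.1.1) = 1 := congrArg Subtype.val e
    refine l.2.1 1 W₁.one_mem (MonoidHom.ext fun n => ?_)
    have hyn : ((y l.1 : U) : G)⁻¹ * n * (y l.1 : U) ∈ lineAt N 1 := by
      simpa using conj_mem_of_le_normalizer (hN.at_inv h hc W₁.one_mem) (inv_mem (y l.1).2) n.2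
    refine Eq.trans ?_ (DFunLike.congr_fun e1 ⟨_, hyn⟩)
    show l.1.1 _ = l.1.1 _
    exact congrArg _ (Subtype.ext (by simp [mul_assoc]))
  have hinj : Function.Injective f := fun l l' e => by
    simp only [f, Prod.mk.injEq] at e
    obtain ⟨e1, e2⟩ := e
    have hC : ((y l.1 : U) : G)⁻¹ * (y l'.1 : U) ∈ chiefCent M U H₀ := (QuotientGroup.eq (a := (y l.1 : U)) (b := (y l'.1 : U))).1 e1
    have hall : conjL (hUH (y l.1).2) l.1.1 = conjL (hUH (y l'.1).2) l'.1.1 :=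
      hN.lam_ext h hc (hconj_mem (y l.1).2 l.1.2) (hconj_mem (y l'.1).2 l'.1.2) fun w hw =>
        MonoidHom.ext fun n => by
          obtain ⟨hm, h6⟩ := hres l.1 l.2.2 w hw n n.2
          obtain ⟨hm', h7⟩ := hres l'.1 l'.2.2 w hw n n.2
          rw [show n = ⟨(n : G), n.2⟩ from rfl, h6, h7]
          exact DFunLike.congr_fun (congrArg Subtype.val e2) _
    have hcl : conjL (hUH (y l'.1).2) l'.1.1 = conjL (hUH (y l.1).2) l'.1.1 := by
      have hcu := inv_mem (y l.1).2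
      have h8 : conjL (hUH (hc.C_le h hC)) (conjL (hUH (y l.1).2) l'.1.1) = conjL (hUH (y l.1).2) l'.1.1 :=
        (fixL_iff_conjL _ _).1 (fixL_of_secCent (V := U) (hconj_mem (y l.1).2 l'.1.2) (hc.chiefCent_eq h ▸ hC))
      rw [← h8, conjL_mul]
      exact MonoidHom.ext fun x => congrArg l'.1.1 (Subtype.ext (by simp [mul_assoc]))
    exact Subtype.ext (Subtype.ext (conjL_injective _ (hall.trans hcl)))
  have hinj' : Function.Injective fun l => ((f l).1, (⟨(f l).2, hne l⟩ : {m : lam (lineAt N (1 : G)) H₀ // m ≠ 1})) :=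
    fun l l' e => hinj (Prod.ext (Prod.mk.inj e).1 (congrArg Subtype.val (Prod.mk.inj e).2))
  refine (Nat.card_le_card_of_injective _ hinj').trans (le_of_eq ?_)
  haveI := Fintype.ofFinite (lam (lineAt N (1 : G)) H₀)
  rw [Nat.card_prod, ← index_eq_card, Nat.card_eq_fintype_card (α := {m : lam (lineAt N (1 : G)) H₀ // m ≠ 1}),
    Fintype.card_subtype_compl, Fintype.card_subtype_eq, ← Nat.card_eq_fintype_card,
    hN.card_lam_at h hc W₁.one_mem]
  rfl

end LineData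

end CfsgLib.OddEnd
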