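import Mathlib.GroupTheory.SpecificGroups.Cyclic
import Mathlib.GroupTheory.QuotientGroup.Basic
import Cfsg.Agent.Char.Linear
import Cfsg.Agent.Solvable.Basics

/-!
# Linear characters of an abelian section and the subgroups fixing them

For `H₀ ≤ H` with `H/H₀` abelian, `lam H H₀` are the linear characters of `H` trivial on `H₀`.
-/

set_option autoImplicit false

namespace CfsgLib.OddEnd

open Subgroup
open scoped commutatorElement

universe u

variable {G : Type u} [Group G]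

/-- The linear characters of `H` trivial on `H₀`. -/
def lam (H H₀ : Subgroup G) : Subgroup (↥H →* ℂˣ) where
  carrier := {l | ∀ h : H, (h : G) ∈ H₀ → l h = 1}
  one_mem' _ _ := rfl
  mul_mem' {a b} ha hb h hh := by rw [MonoidHom.mul_apply, ha h hh, hb h hh, one_mul]
  inv_mem' {a} ha h hh := by rw [MonoidHom.inv_apply, ha h hh, inv_one]

theorem mem_lam {H H₀ : Subgroup G} {l : ↥H →* ℂˣ} :
    l ∈ lam H H₀ ↔ ∀ h : H, (h : G) ∈ H₀ → l h = 1 := Iff.rfl

/-- The elements of `V` centralizing `N/H₀`. -/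
def secCent (V N H₀ : Subgroup G) : Subgroup G where
  carrier := {v | v ∈ V ∧ v ∈ normalizer (N : Set G) ∧ v ∈ normalizer (H₀ : Set G) ∧ ∀ n ∈ N, ⁅v, n⁆ ∈ H₀}
  one_mem' := ⟨one_mem _, one_mem _, one_mem _, fun n _ => by
    rw [commutatorElement_one_left]; exact one_mem _⟩
  mul_mem' {a b} ha hb := ⟨mul_mem ha.1 hb.1, mul_mem ha.2.1 hb.2.1, mul_mem ha.2.2.1 hb.2.2.1, fun n hn => by
    rw [show ⁅a * b, n⁆ = a * ⁅b, n⁆ * a⁻¹ * ⁅a, n⁆ by simp only [commutatorElement_def]; group]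
    exact mul_mem ((mem_normalizer_iff.1 ha.2.2.1 _).1 (hb.2.2.2 n hn)) (ha.2.2.2 n hn)⟩
  inv_mem' {a} ha := ⟨inv_mem ha.1, inv_mem ha.2.1, inv_mem ha.2.2.1, fun n hn => by
    rw [show ⁅a⁻¹, n⁆ = a⁻¹ * ⁅a, n⁆⁻¹ * a⁻¹⁻¹ by simp only [commutatorElement_def]; group]
    exact (mem_normalizer_iff.1 (inv_mem ha.2.2.1) _).1 (inv_mem (ha.2.2.2 n hn))⟩

theorem mem_secCent {V N H₀ : Subgroup G} (h1 : V ≤ normalizer (N : Set G))
    (h2 : V ≤ normalizer (H₀ : Set G)) {v : G} :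
    v ∈ secCent V N H₀ ↔ v ∈ V ∧ ∀ n ∈ N, ⁅v, n⁆ ∈ H₀ :=
  ⟨fun h => ⟨h.1, h.2.2.2⟩, fun h => ⟨h.1, h1 h.1, h2 h.1, h.2⟩⟩

theorem secCent_le (V N H₀ : Subgroup G) : secCent V N H₀ ≤ V := fun _ h => h.1

theorem commutator_le_secCent {V N H₀ : Subgroup G} {v : G} (hv : v ∈ secCent V N H₀) {n : G}
    (hn : n ∈ N) : ⁅v, n⁆ ∈ H₀ := hv.2.2.2 n hn

/-- `v` fixes the function `l` on `H`. -/
def FixL (H : Subgroup G) (v : G) (l : ↥H →* ℂˣ) : Prop :=
  ∀ h h' : H, (h' : G) = v * h * v⁻¹ → l h' = l h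

theorem fixL_iff {H H₀ : Subgroup G} {v : G} (hv : v ∈ normalizer (H : Set G)) {l : ↥H →* ℂˣ} :
    FixL H v l ↔ ∀ (h : G) (hh : h ∈ H),
      l ⟨⁅v, h⁆, by rw [commutatorElement_def]; exact mul_mem ((mem_normalizer_iff.1 hv h).1 hh) (inv_mem hh)⟩ = 1 := by
  constructor
  · intro hf h hh
    have h1 := hf ⟨h, hh⟩ ⟨v * h * v⁻¹, (mem_normalizer_iff.1 hv h).1 hh⟩ rfl
    rw [show (⟨⁅v, h⁆, _⟩ : H) = ⟨v * h * v⁻¹, (mem_normalizer_iff.1 hv h).1 hh⟩ * (⟨h, hh⟩ : H)⁻¹ from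
      Subtype.ext (commutatorElement_def v h), map_mul, map_inv, h1, mul_inv_cancel]
  · intro hf h h' he
    have h1 := hf h h.2
    rw [show (⟨⁅v, (h : G)⁆, _⟩ : H) = h' * h⁻¹ from Subtype.ext (by
      simp [commutatorElement_def, he]), map_mul, map_inv, mul_inv_eq_one] at h1
    exact h1

theorem fixL_of_secCent {V H H₀ : Subgroup G} {l : ↥H →* ℂˣ} (hl : l ∈ lam H H₀) {v : G}
    (hv : v ∈ secCent V H H₀) : FixL H v l :=
  (fixL_iff (H₀ := H₀) hv.2.1).2 fun h hh => hl _ (commutator_le_secCent hv hh)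

variable [Finite G]

theorem commutator_subgroupOf_le {H H₀ : Subgroup G} (hc : ⁅H, H⁆ ≤ H₀) :
    _root_.commutator ↥H ≤ H₀.subgroupOf H := by
  rw [_root_.commutator_def, commutator_le]
  exact fun a _ b _ => hc (by
    show ((⁅a, b⁆ : H) : G) ∈ ⁅H, H⁆
    rw [show ((⁅a, b⁆ : H) : G) = ⁅(a : G), (b : G)⁆ from map_commutatorElement H.subtype a b]
    exact commutator_mem_commutator a.2 b.2)

theorem normal_of_commutator {H H₀ : Subgroup G} (hc : ⁅H, H⁆ ≤ H₀) : (H₀.subgroupOf H).Normal :=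
  ⟨fun k hk g => by
    rw [show g * k * g⁻¹ = ⁅g, k⁆ * k by rw [commutatorElement_def]; group]
    exact mul_mem (commutator_subgroupOf_le hc (commutator_mem_commutator (mem_top g) (mem_top k))) hk⟩

theorem commutator_quot_eq_bot {H H₀ : Subgroup G} (hc : ⁅H, H⁆ ≤ H₀) [(H₀.subgroupOf H).Normal] :
    _root_.commutator (↥H ⧸ H₀.subgroupOf H) = ⊥ := by
  rw [_root_.commutator_def, ← map_top_of_surjective (QuotientGroup.mk' (H₀.subgroupOf H))
    (QuotientGroup.mk'_surjective _), ← map_commutator, Subgroup.map_eq_bot_iff, QuotientGroup.ker_mk']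
  exact commutator_subgroupOf_le hc

theorem card_lam {H H₀ : Subgroup G} (hc : ⁅H, H⁆ ≤ H₀) : Nat.card (lam H H₀) = H₀.relIndex H := by
  have := normal_of_commutator hc
  let e : (↥H ⧸ H₀.subgroupOf H →* ℂˣ) ≃ lam H H₀ :=
    { toFun := fun f => ⟨f.comp (QuotientGroup.mk' _), fun h hh => by
        rw [MonoidHom.comp_apply, show QuotientGroup.mk' (H₀.subgroupOf H) h = 1 from
          (QuotientGroup.eq_one_iff h).2 hh, map_one]⟩
      invFun := fun l => QuotientGroup.lift _ l.1 fun h hh => l.2 h hh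
      left_inv := fun f => MonoidHom.ext fun x => QuotientGroup.induction_on x fun h => rfl
      right_inv := fun l => Subtype.ext (MonoidHom.ext fun h => rfl) }
  rw [← Nat.card_congr e, CfsgLib.Char.card_hom_eq_index_commutator,
    commutator_quot_eq_bot hc, index_bot]
  rfl

/-- Linear characters separate the elements outside `H₀`. -/
theorem exists_lam_ne {H H₀ : Subgroup G} (hc : ⁅H, H⁆ ≤ H₀) {x : G} (hx : x ∈ H) (hx0 : x ∉ H₀) :
    ∃ l ∈ lam H H₀, l ⟨x, hx⟩ ≠ 1 := by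
  have := normal_of_commutator hc
  obtain ⟨f, hf⟩ := CfsgLib.Char.exists_hom_ne_one (G := ↥H ⧸ H₀.subgroupOf H)
    (g := ((⟨x, hx⟩ : H) : ↥H ⧸ H₀.subgroupOf H)) (fun hm => hx0 (by
      rw [commutator_quot_eq_bot hc, mem_bot] at hm
      exact (QuotientGroup.eq_one_iff (⟨x, hx⟩ : H)).1 hm))
  exact ⟨f.comp (QuotientGroup.mk' _), fun h hh => by
    rw [MonoidHom.comp_apply, show QuotientGroup.mk' (H₀.subgroupOf H) h = 1 from
      (QuotientGroup.eq_one_iff h).2 hh, map_one], hf⟩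

section Prime

variable {N H₀ : Subgroup G} {p : ℕ} (hp : p.Prime) (h0 : H₀ ≤ N) (hidx : H₀.relIndex N = p)
include hp h0 hidx

/-- A nontrivial character of a section of prime order is faithful on it. -/
theorem mem_of_lam_eq_one {l : ↥N →* ℂˣ} (hl : l ∈ lam N H₀) (hl1 : l ≠ 1) {n : N} (hn : l n = 1) :
    (n : G) ∈ H₀ := by
  have hle : H₀ ≤ (l.ker).map N.subtype := fun x hx => ⟨⟨x, h0 hx⟩, hl _ hx, rfl⟩
  have hKN : (l.ker).map N.subtype ≤ N := map_subtype_le _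
  have hmul := relIndex_mul_relIndex _ _ _ hle hKN
  rw [hidx] at hmul
  rcases hp.eq_one_or_self_of_dvd _ (Dvd.intro _ hmul) with h1 | h1
  · exact relIndex_eq_one.1 h1 ⟨n, hn, rfl⟩
  · exfalso
    rw [h1] at hmul
    have h2 := relIndex_eq_one.1 (Nat.eq_of_mul_eq_mul_left hp.pos (hmul.trans (mul_one p).symm))
    exact hl1 (MonoidHom.ext fun m => by
      obtain ⟨y, hy, e⟩ := h2 m.2
      rw [← Subtype.ext (show (y : G) = m from e)]
      exact hy)

theorem commutator_le_of_prime (hn : N ≤ normalizer (H₀ : Set G)) : ⁅N, N⁆ ≤ H₀ := by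
  haveI := Fact.mk hp
  have : (H₀.subgroupOf N).Normal := ⟨fun k hk g => (mem_normalizer_iff.1 (hn g.2) k).1 hk⟩
  haveI : IsCyclic (↥N ⧸ H₀.subgroupOf N) := isCyclic_of_prime_card (p := p) hidx
  refine commutator_le.2 fun a ha b hb => ?_
  letI := IsCyclic.commGroup (α := ↥N ⧸ H₀.subgroupOf N)
  have h1 : ((⁅(⟨a, ha⟩ : N), ⟨b, hb⟩⁆ : N) : ↥N ⧸ H₀.subgroupOf N) = 1 := by
    rw [← QuotientGroup.mk'_apply, map_commutatorElement]
    exact commutatorElement_eq_one_iff_mul_comm.2 (mul_comm _ _)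
  have h2 := (QuotientGroup.eq_one_iff _).1 h1
  rwa [mem_subgroupOf, show ((⁅(⟨a, ha⟩ : N), ⟨b, hb⟩⁆ : N) : G) = ⁅a, b⁆ from
    map_commutatorElement N.subtype _ _] at h2

theorem fixL_iff_secCent {V : Subgroup G} (h1 : V ≤ normalizer (N : Set G))
    (h2 : V ≤ normalizer (H₀ : Set G)) {l : ↥N →* ℂˣ} (hl : l ∈ lam N H₀) (hl1 : l ≠ 1) {v : G}
    (hv : v ∈ V) : FixL N v l ↔ v ∈ secCent V N H₀ := by
  refine ⟨fun hf => (mem_secCent h1 h2).2 ⟨hv, fun n hn => ?_⟩, fixL_of_secCent hl⟩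
  exact mem_of_lam_eq_one hp h0 hidx hl hl1 ((fixL_iff (H₀ := H₀) (h1 hv)).1 hf n hn)

/-- The index of the centralizer of a section of order `p` divides `p - 1`. -/
theorem secCent_relIndex_dvd {V : Subgroup G} (h1 : V ≤ normalizer (N : Set G))
    (h2 : V ≤ normalizer (H₀ : Set G)) (hn : N ≤ normalizer (H₀ : Set G)) :
    (secCent V N H₀).relIndex V ∣ p - 1 := by
  haveI := Fact.mk hp
  have hc := commutator_le_of_prime hp h0 hidx hn
  have hcard : Nat.card (lam N H₀) = p := (card_lam hc).trans hidx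
  haveI : IsCyclic (lam N H₀) := isCyclic_of_prime_card hcard
  have : Finite (lam N H₀) := Nat.finite_of_card_ne_zero (by rw [hcard]; exact hp.pos.ne')
  let c : V → (↥N →* ↥N) := fun v => MonoidHom.mk'
    (fun n => ⟨(v : G)⁻¹ * n * v, (mem_normalizer_iff''.1 (h1 v.2) n).1 n.2⟩)
    (fun a b => Subtype.ext (by push_cast; group))
  have hcmem : ∀ (v : V) (l : lam N H₀), (l.1.comp (c v)) ∈ lam N H₀ := fun v l n hn =>
    l.2 _ ((mem_normalizer_iff''.1 (h2 v.2) n).1 hn)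
  have hcc : ∀ v w : V, c (v * w) = (c w).comp (c v) := fun v w => MonoidHom.ext fun n =>
    Subtype.ext (by simp only [c, MonoidHom.mk'_apply, MonoidHom.comp_apply]; push_cast; group)
  have hc1 : c 1 = MonoidHom.id _ := MonoidHom.ext fun n => Subtype.ext (by simp [c])
  let f : V →* MulAut (lam N H₀) := MonoidHom.mk' (fun v =>
    { toFun := fun l => ⟨l.1.comp (c v), hcmem v l⟩
      invFun := fun l => ⟨l.1.comp (c v⁻¹), hcmem v⁻¹ l⟩
      left_inv := fun l => Subtype.ext (show (l.1.comp (c v)).comp (c v⁻¹) = l.1 by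
        rw [MonoidHom.comp_assoc, ← hcc, inv_mul_cancel, hc1, MonoidHom.comp_id])
      right_inv := fun l => Subtype.ext (show (l.1.comp (c v⁻¹)).comp (c v) = l.1 by
        rw [MonoidHom.comp_assoc, ← hcc, mul_inv_cancel, hc1, MonoidHom.comp_id])
      map_mul' := fun a b => rfl })
    (fun v w => MulEquiv.ext fun l => Subtype.ext (show l.1.comp (c (v * w)) = (l.1.comp (c w)).comp (c v) by
      rw [hcc, MonoidHom.comp_assoc]))
  have hker : f.ker = (secCent V N H₀).subgroupOf V := by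
    ext v
    rw [MonoidHom.mem_ker, mem_subgroupOf]
    constructor
    · intro hv
      by_cases hall : ∀ n ∈ N, ⁅(v : G), n⁆ ∈ H₀
      · exact (mem_secCent h1 h2).2 ⟨v.2, hall⟩
      push Not at hall
      obtain ⟨n, hn', hne⟩ := hall
      obtain ⟨l, hl, hl'⟩ := exists_lam_ne hc (x := ⁅(v : G), n⁆)
        (by rw [commutatorElement_def]; exact mul_mem ((mem_normalizer_iff.1 (h1 v.2) n).1 hn') (inv_mem hn')) hne
      refine absurd ?_ hl'
      have h3 := congrArg (fun e : MulAut (lam N H₀) => (e ⟨l, hl⟩).1) hv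
      simp only [MulAut.one_apply, f, MonoidHom.mk'_apply, MulEquiv.coe_mk, Equiv.coe_fn_mk] at h3
      refine (fixL_iff (H₀ := H₀) (h1 v.2)).1 (fun a b hab => ?_) n hn'
      conv_lhs => rw [← h3]
      rw [MonoidHom.comp_apply]
      congr 1
      exact Subtype.ext (by simp only [c, MonoidHom.mk'_apply, hab]; group)
    · intro hv
      refine MulEquiv.ext fun l => Subtype.ext (MonoidHom.ext fun n => ?_)
      show l.1 (c v n) = l.1 n
      exact (fixL_of_secCent l.2 hv (c v n) n (by simp only [c, MonoidHom.mk'_apply]; group)).symm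
  have h3 := f.range.card_subgroup_dvd_card
  rw [IsCyclic.card_mulAut, hcard, Nat.totient_prime hp] at h3
  rw [← f.ker.index_eq_card (G := V) |>.trans (Nat.card_congr (QuotientGroup.quotientKerEquivRange f).toEquiv),
    hker] at h3
  exact h3

end Prime

end CfsgLib.OddEnd
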