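import Cfsg.Agent.OddEnd.Ptype
import Cfsg.Agent.OddEnd.PtypeCoherenceLines
import Cfsg.Agent.OddEnd.TenSetup

/-!
# The local setting of Peterfalvi 9.11

`M = H U W₁` with the chief factor `H/H₀` of order `p ^ q`, `C = C_U(H/H₀)` and `X = H₀ C'`.
-/

set_option autoImplicit false
set_option linter.unusedSectionVars false
set_option linter.style.haveILetI false

namespace CfsgLib.OddEnd

open Subgroup CfsgLib.OddLocal
open scoped commutatorElement

universe u

variable {G : Type u} [Group G] [Finite G]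

theorem le_normalizer_of_conj_mem {X Y : Subgroup G} (h : ∀ y ∈ Y, ∀ x ∈ X, y * x * y⁻¹ ∈ X) :
    Y ≤ normalizer (X : Set G) := fun y hy => mem_normalizer_iff.2 fun x => ⟨h y hy x, fun hx => by
      have h1 := h y⁻¹ (inv_mem hy) _ hx
      rwa [show y⁻¹ * (y * x * y⁻¹) * y⁻¹⁻¹ = x by group] at h1⟩

theorem conj_mem_of_le_normalizer {X Y : Subgroup G} (h : Y ≤ normalizer (X : Set G)) {y : G} (hy : y ∈ Y)
    {x : G} (hx : x ∈ X) : y * x * y⁻¹ ∈ X := (mem_normalizer_iff.1 (h hy) x).1 hx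

theorem le_normalizer_sup_of {X₁ X₂ Y : Subgroup G} (h₁ : Y ≤ normalizer (X₁ : Set G))
    (h₂ : Y ≤ normalizer (X₂ : Set G)) : Y ≤ normalizer ((X₁ ⊔ X₂ : Subgroup G) : Set G) := fun y hy => by
  rw [mem_normalizer_iff_map_conj_eq, Subgroup.map_sup, mem_normalizer_iff_map_conj_eq.1 (h₁ hy),
    mem_normalizer_iff_map_conj_eq.1 (h₂ hy)]

theorem le_normalizer_commutator_of {X Y : Subgroup G} (h : Y ≤ normalizer (X : Set G)) :
    Y ≤ normalizer ((⁅X, X⁆ : Subgroup G) : Set G) := fun y hy => by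
  rw [mem_normalizer_iff_map_conj_eq, map_commutator, mem_normalizer_iff_map_conj_eq.1 (h hy)]

theorem commutator_conj (y a b : G) : y * ⁅a, b⁆ * y⁻¹ = ⁅y * a * y⁻¹, y * b * y⁻¹⁆ := by
  simp only [commutatorElement_def]; group

variable {M W₁ U W₂ H₀ : Subgroup G} {p : ℕ}

namespace PtypeData

variable (h : PtypeData M W₁ U W₂)
include h

theorem derived_le : ⁅M, M⁆ ≤ M := h.typeP.W₁_compl.1

theorem left_le : W₁ ≤ M := h.typeP.W₁_compl.2.1

theorem H_le_derived : Cfsg.fittingHallOf M ≤ ⁅M, M⁆ := h.typeP.U_compl.1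

theorem U_le_derived : U ≤ ⁅M, M⁆ := h.typeP.U_compl.2.1

theorem U_le : U ≤ M := h.U_le_derived.trans h.derived_le

theorem H_le : Cfsg.fittingHallOf M ≤ M := map_subtype_le _

theorem inf_bot : Cfsg.fittingHallOf M ⊓ U = ⊥ := h.typeP.U_compl.2.2.1

theorem le_normalizer_H : M ≤ normalizer (Cfsg.fittingHallOf M : Set G) :=
  le_normalizer_of_conj_mem fun y hy x hx => by
    obtain ⟨x', hx', rfl⟩ := hx
    exact ⟨⟨y, hy⟩ * x' * (⟨y, hy⟩ : M)⁻¹, Normal.conj_mem inferInstance x' hx' _, rfl⟩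

theorem M_le : M ≤ Cfsg.fittingHallOf M ⊔ U ⊔ W₁ := fun m hm => by
  obtain ⟨d, hd, w, hw, rfl⟩ := h.typeP.W₁_compl.2.2.2 m hm
  obtain ⟨x, hx, v, hv, rfl⟩ := h.typeP.U_compl.2.2.2 d hd
  exact mul_mem (mem_sup_left (mul_mem (mem_sup_left hx) (mem_sup_right hv))) (mem_sup_right hw)

theorem card_derived : Nat.card ↥⁅M, M⁆ = Nat.card (Cfsg.fittingHallOf M) * Nat.card U :=
  FittingHall.card_complIn h.typeP.U_compl

theorem card_M : Nat.card M = Nat.card ↥⁅M, M⁆ * Nat.card W₁ := FittingHall.card_complIn h.typeP.W₁_compl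

theorem relIndex_derived : ⁅M, M⁆.relIndex M = Nat.card W₁ :=
  Nat.eq_of_mul_eq_mul_left (Nat.card_pos (α := ↥⁅M, M⁆)) (by
    rw [← relIndex_bot_left, relIndex_mul_relIndex _ _ _ bot_le h.derived_le, relIndex_bot_left,
      relIndex_bot_left, h.card_M])

theorem coprime_left : (Nat.card W₁).Coprime (Nat.card ↥⁅M, M⁆) := by
  have h1 := h.typeP.W₁_hall
  have h2 : W₁.relIndex M = Nat.card ↥⁅M, M⁆ := Nat.eq_of_mul_eq_mul_left (Nat.card_pos (α := W₁))
    (by rw [← relIndex_bot_left, relIndex_mul_relIndex _ _ _ bot_le h.left_le, relIndex_bot_left,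
      relIndex_bot_left, h.card_M, mul_comm])
  rwa [h2] at h1

theorem commute_left {a b : G} (ha : a ∈ W₁) (hb : b ∈ W₁) : a * b = b * a := by
  haveI := h.typeP.W₁_cyclic
  letI := IsCyclic.commGroup (α := W₁)
  exact congrArg Subtype.val (mul_comm (⟨a, ha⟩ : W₁) ⟨b, hb⟩)

theorem eq_one_of_U_fixed {v w : G} (hv : v ∈ U) (hw : w ∈ W₁) (hw1 : w ≠ 1) (hc : w * v = v * w) : v = 1 := by
  have h1 : v ∈ W₂ := (h.typeP.W₂_centralizer w hw hw1).le
    ⟨h.U_le_derived hv, mem_centralizer_singleton_iff.2 hc.symm⟩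
  have h2 : v ∈ Cfsg.fittingHallOf M ⊓ U := ⟨(h.typeP.W₂_le h1).1, hv⟩
  rwa [h.inf_bot, mem_bot] at h2

variable (hG : Cfsg.IsMinSimpleOddOrder G)
include hG

theorem odd (X : Subgroup G) : Odd (Nat.card X) := by
  obtain ⟨m, hm⟩ := X.card_subgroup_dvd_card
  exact (Nat.odd_mul.1 (hm ▸ hG.1)).1

theorem not_typeI : ¬ Cfsg.IsOfTypeI M := fun hI => by
  obtain ⟨K, U', hKU⟩ := Kap.exists_decomp_any hG h.coatom
  exact (Kap.kappa_nonempty_iff hG h.coatom hKU).1 (Kap.kappa_of_typeP hG h.coatom h.typeP)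
    (Kap.bot_of_typeF hG h.coatom hKU hI.1)

/-- An element of `M'` centralizing a non-identity element of `H` is in `A₀(M)`. -/
theorem mem_typeA0 {x : G} (hx : x ∈ ⁅M, M⁆) (hx1 : x ≠ 1) {y : G} (hy : y ∈ Cfsg.fittingHallOf M)
    (hy1 : y ≠ 1) (hc : x * y = y * x) : x ∈ Cfsg.typeA0 M := by
  refine Or.inl ?_
  rw [Cfsg.typeA, if_neg (h.not_typeI hG)]
  refine ⟨hx, hx1, y, ?_, hy1, hc⟩
  rw [Cfsg.typeCore]
  split_ifs
  · exact h.H_le_derived hy
  · exact hy

/-- `M` as a prime action with Dade hypothesis on `A₀(M)`. -/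
theorem primeDade : PrimeDade M ⁅M, M⁆ W₁ W₂ (Cfsg.typeA0 M) (Cfsg.supportR M) := by
  have hsn := h.typeP.selfNormalizing
  have hW2D : W₂ ≤ ⁅M, M⁆ := (h.typeP.W₂_le.trans inf_le_left).trans h.H_le_derived
  have hWM : W₁ ⊔ W₂ ≤ M := sup_le h.left_le (hW2D.trans h.derived_le)
  have hC : ∀ x ∈ W₁, x ≠ 1 → M ⊓ centralizer ({x} : Set G) = W₁ ⊔ W₂ := fun x hx hx1 => by
    refine le_antisymm (fun y hy => ?_) (le_inf hWM (sup_le (fun a ha => ?_) fun b hb => ?_))
    · obtain ⟨d, hd, a, ha, rfl⟩ := h.typeP.W₁_compl.2.2.2 y hy.1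
      have hax : a * x = x * a := h.commute_left ha hx
      have hyx := mem_centralizer_singleton_iff.1 hy.2
      have hdx : d * x = x * d := by
        refine mul_right_cancel (b := a) ?_
        rw [mul_assoc, ← hax, ← mul_assoc, hyx, mul_assoc]
      exact mul_mem (mem_sup_right ((h.typeP.W₂_centralizer x hx hx1).le
        ⟨hd, mem_centralizer_singleton_iff.2 hdx⟩)) (mem_sup_left ha)
    · exact mem_centralizer_singleton_iff.2 (h.commute_left ha hx)
    · exact mem_centralizer_singleton_iff.2 (hsn.2.2.2.1 x hx b hb).symm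
  have hn := Kap.le_normalizer_derived M
  have hcyc2 : IsCyclic W₂ := by
    haveI := hsn.2.2.2.2.1
    exact isCyclic_of_injective (inclusion (le_sup_right : W₂ ≤ W₁ ⊔ W₂)) (inclusion_injective _)
  exact
    { le := h.derived_le
      normal := ⟨fun k hk g => (mem_normalizer_iff.1 (hn g.2) k).1 hk⟩
      left_le := h.left_le
      action := primeAction_of h.derived_le hn h.typeP.W₁_compl h.typeP.W₁_ne h.typeP.W₁_cyclic
        h.coprime_left hsn.2.1 hcyc2 hW2D (h.odd hG M) hC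
      selfNorm := hsn
      odd := h.odd hG _
      dade := (Cfsg.Agent.S1537.result hG M h.coatom _ (Or.inr (Or.inr rfl))).2
      mixed := fun w hw h1 h2 =>
        Or.inr ⟨h.not_typeI hG, W₁, U, W₂, h.typeP, 1, M.one_mem, w, hw, h1, h2, by group⟩
      mixed_R := fun w hw h1 h2 => by
        refine Kap.supportR_eq_bot hG (le_trans ?_ hWM)
        rw [← hsn.2.2.2.2.2 {w} (Set.singleton_subset_iff.2 ⟨hw, fun e => e.elim h1 h2⟩) (Set.singleton_nonempty w)]
        intro c hc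
        have hc' := mem_centralizer_singleton_iff.1 hc
        refine mem_set_normalizer_iff.2 fun z => ?_
        simp only [Set.mem_singleton_iff]
        constructor
        · rintro rfl; rw [hc', mul_inv_cancel_right]
        · intro e
          have e' : c * z = c * w := by rw [hc', ← e]; group
          exact mul_left_cancel e' }

end PtypeData

namespace ChiefData

variable (h : PtypeData M W₁ U W₂) (hc : ChiefData M W₁ W₂ H₀ p)
include h hc

/-- `C = C_U(H/H₀)` as a centralizer of a section. -/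
theorem chiefCent_eq : chiefCent M U H₀ = secCent U (Cfsg.fittingHallOf M) H₀ := by
  refine le_antisymm (sSup_le fun C ⟨hCU, hC⟩ v hv => ?_) (le_sSup ⟨secCent_le _ _ _, ?_⟩)
  · exact (mem_secCent (h.U_le.trans h.le_normalizer_H) (h.U_le.trans hc.normal)).2
      ⟨hCU hv, fun n hn => hC (commutator_mem_commutator hv hn)⟩
  · exact Subgroup.commutator_le.2 fun v hv n hn => commutator_le_secCent hv hn

theorem mem_C {v : G} : v ∈ chiefCent M U H₀ ↔ v ∈ U ∧ ∀ x ∈ Cfsg.fittingHallOf M, ⁅v, x⁆ ∈ H₀ := by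
  rw [hc.chiefCent_eq h]
  exact mem_secCent (h.U_le.trans h.le_normalizer_H) (h.U_le.trans hc.normal)

theorem C_le : chiefCent M U H₀ ≤ U := fun _ hv => ((hc.mem_C h).1 hv).1

theorem C_comm {v x : G} (hv : v ∈ chiefCent M U H₀) (hx : x ∈ Cfsg.fittingHallOf M) : ⁅v, x⁆ ∈ H₀ :=
  ((hc.mem_C h).1 hv).2 x hx

theorem U_le_normalizer_C : U ≤ normalizer (chiefCent M U H₀ : Set G) :=
  le_normalizer_of_conj_mem fun y hy v hv => (hc.mem_C h).2
    ⟨mul_mem (mul_mem hy (hc.C_le h hv)) (inv_mem hy), fun x hx => by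
      rw [show x = y * (y⁻¹ * x * y⁻¹⁻¹) * y⁻¹ by group, ← commutator_conj]
      exact conj_mem_of_le_normalizer hc.normal (h.U_le hy) (hc.C_comm h hv
        (conj_mem_of_le_normalizer h.le_normalizer_H (inv_mem (h.U_le hy)) hx))⟩

theorem W_le_normalizer_C : W₁ ≤ normalizer (chiefCent M U H₀ : Set G) :=
  le_normalizer_of_conj_mem fun y hy v hv => (hc.mem_C h).2
    ⟨conj_mem_of_le_normalizer h.typeP.U_normal hy (hc.C_le h hv), fun x hx => by
      rw [show x = y * (y⁻¹ * x * y⁻¹⁻¹) * y⁻¹ by group, ← commutator_conj]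
      exact conj_mem_of_le_normalizer hc.normal (h.left_le hy) (hc.C_comm h hv
        (conj_mem_of_le_normalizer h.le_normalizer_H (inv_mem (h.left_le hy)) hx))⟩

theorem derived_U_le : ⁅U, U⁆ ≤ chiefCent M U H₀ := by
  intro v hv
  have hvU : v ∈ U := Subgroup.commutator_le.2 (fun a ha b hb => by
    rw [commutatorElement_def]; exact mul_mem (mul_mem (mul_mem ha hb) (inv_mem ha)) (inv_mem hb)) hv
  refine (hc.mem_C h).2 ⟨hvU, fun x hx => ?_⟩
  have hvF := h.typeP.derived_two_le (commutator_mono h.U_le_derived h.U_le_derived hv)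
  rw [sup_comm] at hvF
  obtain ⟨c, hc', a, ha, rfl⟩ := (CfsgLib.Solvable.mem_sup_of_le_normalizer
    (inf_le_left.trans h.le_normalizer_H)).1 hvF
  have hcx : ⁅c, x⁆ = 1 := commutatorElement_eq_one_iff_mul_comm.2
    (mem_centralizer_iff.1 hc'.2 x hx).symm
  rw [show ⁅c * a, x⁆ = c * ⁅a, x⁆ * c⁻¹ * ⁅c, x⁆ by simp only [commutatorElement_def]; group, hcx, mul_one]
  exact conj_mem_of_le_normalizer hc.normal hc'.1 (hc.commutator_le (commutator_mem_commutator ha hx))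

theorem H_le_normalizer_H₀ : Cfsg.fittingHallOf M ≤ normalizer (H₀ : Set G) := h.H_le.trans hc.normal

theorem C_le_normalizer_H : chiefCent M U H₀ ≤ normalizer (Cfsg.fittingHallOf M : Set G) :=
  ((hc.C_le h).trans h.U_le).trans h.le_normalizer_H

theorem le_normalizer_HC :
    M ≤ normalizer ((Cfsg.fittingHallOf M ⊔ chiefCent M U H₀ : Subgroup G) : Set G) :=
  h.M_le.trans (sup_le (sup_le (le_sup_left.trans le_normalizer)
    (le_normalizer_sup_of (h.U_le.trans h.le_normalizer_H) (hc.U_le_normalizer_C h)))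
    (le_normalizer_sup_of (h.left_le.trans h.le_normalizer_H) (hc.W_le_normalizer_C h)))

theorem C_derived_le : (⁅chiefCent M U H₀, chiefCent M U H₀⁆ : Subgroup G) ≤ chiefCent M U H₀ :=
  Subgroup.commutator_le.2 fun a ha b hb => by
    rw [commutatorElement_def]; exact mul_mem (mul_mem (mul_mem ha hb) (inv_mem ha)) (inv_mem hb)

theorem X_le : H₀ ⊔ ⁅chiefCent M U H₀, chiefCent M U H₀⁆ ≤ Cfsg.fittingHallOf M ⊔ chiefCent M U H₀ :=
  sup_le (hc.le.trans le_sup_left) ((hc.C_derived_le h).trans le_sup_right)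

theorem le_normalizer_X :
    M ≤ normalizer ((H₀ ⊔ ⁅chiefCent M U H₀, chiefCent M U H₀⁆ : Subgroup G) : Set G) := by
  set C := chiefCent M U H₀ with hC
  refine h.M_le.trans (sup_le (sup_le ?_ ?_) ?_)
  · refine le_normalizer_of_conj_mem fun y hy x hx => ?_
    have hCn : (⁅C, C⁆ : Subgroup G) ≤ normalizer (H₀ : Set G) :=
      ((hc.C_derived_le h).trans (hc.C_le h)).trans (h.U_le.trans hc.normal)
    rw [sup_comm] at hx ⊢
    obtain ⟨c, hc', a, ha, rfl⟩ := (CfsgLib.Solvable.mem_sup_of_le_normalizer hCn).1 hx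
    rw [show y * (c * a) * y⁻¹ = c * ((c⁻¹ * ⁅c, y⁆⁻¹ * c⁻¹⁻¹) * (y * a * y⁻¹)) by
      simp only [commutatorElement_def]; group]
    refine mul_mem (mem_sup_left hc') (mem_sup_right (mul_mem ?_ ?_))
    · exact conj_mem_of_le_normalizer hCn (inv_mem hc') (inv_mem (hc.C_comm h ((hc.C_derived_le h) hc') hy))
    · exact conj_mem_of_le_normalizer (hc.H_le_normalizer_H₀ h) hy ha
  · exact le_normalizer_sup_of (h.U_le.trans hc.normal) (le_normalizer_commutator_of (hc.U_le_normalizer_C h))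
  · exact le_normalizer_sup_of (h.left_le.trans hc.normal) (le_normalizer_commutator_of (hc.W_le_normalizer_C h))

/-- `H C` is abelian modulo `X`. -/
theorem commutator_HC_le : ⁅Cfsg.fittingHallOf M ⊔ chiefCent M U H₀, Cfsg.fittingHallOf M ⊔ chiefCent M U H₀⁆ ≤
    H₀ ⊔ ⁅chiefCent M U H₀, chiefCent M U H₀⁆ := by
  set X := H₀ ⊔ ⁅chiefCent M U H₀, chiefCent M U H₀⁆ with hX
  have hn : ∀ {y z : G}, y ∈ M → z ∈ X → y * z * y⁻¹ ∈ X := fun hy hz =>
    conj_mem_of_le_normalizer (hc.le_normalizer_X h) hy hz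
  have key : ∀ a ∈ Cfsg.fittingHallOf M, ∀ b ∈ chiefCent M U H₀, ⁅b, a⁆ ∈ X ∧ ⁅a, b⁆ ∈ X := fun a ha b hb =>
    ⟨mem_sup_left (hc.C_comm h hb ha), by
      rw [← commutatorElement_inv]; exact inv_mem (mem_sup_left (hc.C_comm h hb ha))⟩
  refine Subgroup.commutator_le.2 fun x hx y hy => ?_
  rw [sup_comm] at hx hy
  obtain ⟨b, hb, a, ha, rfl⟩ := (CfsgLib.Solvable.mem_sup_of_le_normalizer (hc.C_le_normalizer_H h)).1 hx
  obtain ⟨b', hb', a', ha', rfl⟩ := (CfsgLib.Solvable.mem_sup_of_le_normalizer (hc.C_le_normalizer_H h)).1 hy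
  have hbM : b ∈ M := h.U_le (hc.C_le h hb)
  have hbM' : b' ∈ M := h.U_le (hc.C_le h hb')
  rw [show ⁅b * a, b' * a'⁆ = b * (⁅a, b'⁆ * (b' * ⁅a, a'⁆ * b'⁻¹)) * b⁻¹ *
      (⁅b, b'⁆ * (b' * ⁅b, a'⁆ * b'⁻¹)) by simp only [commutatorElement_def]; group]
  exact mul_mem (hn hbM (mul_mem (key a ha b' hb').2 (hn hbM'
    (mem_sup_left (hc.commutator_le (commutator_mem_commutator ha ha'))))))
    (mul_mem (mem_sup_right (commutator_mem_commutator hb hb')) (hn hbM' (key a' ha' b hb).1))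

/-- In the Galois case only `C` fixes a nontrivial character of `H/H₀`. -/
theorem mem_C_of_fix (hGal : GaloisCase M U H₀) {l : ↥(Cfsg.fittingHallOf M) →* ℂˣ}
    (hl : l ∈ lam (Cfsg.fittingHallOf M) H₀) (hl1 : l ≠ 1) {v : G} (hv : v ∈ U)
    (hfix : FixL (Cfsg.fittingHallOf M) v l) : v ∈ chiefCent M U H₀ := by
  set H := Cfsg.fittingHallOf M with hH
  have hvH : v ∈ normalizer (H : Set G) := h.le_normalizer_H (h.U_le hv)
  have hnH : ∀ {y : G}, y ∈ H → ∀ {z : G}, z ∈ H₀ → y * z * y⁻¹ ∈ H₀ := fun hy _ hz =>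
    conj_mem_of_le_normalizer (hc.H_le_normalizer_H₀ h) hy hz
  have hvn : ∀ {z : G}, z ∈ H₀ → v * z * v⁻¹ ∈ H₀ := fun hz =>
    conj_mem_of_le_normalizer hc.normal (h.U_le hv) hz
  let F : Subgroup G :=
    { carrier := {x | x ∈ H ∧ ⁅v, x⁆ ∈ H₀}
      one_mem' := ⟨one_mem _, by rw [commutatorElement_one_right]; exact one_mem _⟩
      mul_mem' := fun {a b} ha hb => ⟨mul_mem ha.1 hb.1, by
        rw [show ⁅v, a * b⁆ = ⁅v, a⁆ * (a * ⁅v, b⁆ * a⁻¹) by simp only [commutatorElement_def]; group]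
        exact mul_mem ha.2 (hnH ha.1 hb.2)⟩
      inv_mem' := fun {a} ha => ⟨inv_mem ha.1, by
        rw [show ⁅v, a⁻¹⁆ = a⁻¹ * ⁅v, a⁆⁻¹ * a⁻¹⁻¹ by simp only [commutatorElement_def]; group]
        exact hnH (inv_mem ha.1) (inv_mem ha.2)⟩ }
  have hF0 : H₀ ≤ F := fun x hx => ⟨hc.le hx, by
    rw [commutatorElement_def]; exact mul_mem (hvn hx) (inv_mem hx)⟩
  have hFU : U ≤ normalizer (F : Set G) := le_normalizer_of_conj_mem fun y hy x hx => by
    refine ⟨conj_mem_of_le_normalizer h.le_normalizer_H (h.U_le hy) hx.1, ?_⟩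
    have hcC : v⁻¹ * y⁻¹ * v * y ∈ chiefCent M U H₀ := hc.derived_U_le h (by
      rw [show v⁻¹ * y⁻¹ * v * y = ⁅v⁻¹, y⁻¹⁆ by simp only [commutatorElement_def]; group]
      exact commutator_mem_commutator (inv_mem hv) (inv_mem hy))
    rw [show ⁅v, y * x * y⁻¹⁆ = y * ⁅y⁻¹ * v * y, x⁆ * y⁻¹ by simp only [commutatorElement_def]; group,
      show ⁅y⁻¹ * v * y, x⁆ = v * ⁅v⁻¹ * y⁻¹ * v * y, x⁆ * v⁻¹ * ⁅v, x⁆ by
        simp only [commutatorElement_def]; group]
    exact conj_mem_of_le_normalizer hc.normal (h.U_le hy)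
      (mul_mem (hvn (hc.C_comm h hcC hx.1)) hx.2)
  rcases hGal F hF0 (fun x hx => hx.1) hFU with hF | hF
  swap
  · exact (hc.mem_C h).2 ⟨hv, fun x hx => (hF.ge hx).2⟩
  exfalso
  refine hl1 (MonoidHom.ext fun x => ?_)
  have hn0 := normal_of_commutator hc.commutator_le
  have hmem : ∀ z : H, ⁅v, (z : G)⁆ ∈ H := fun z => by
    rw [commutatorElement_def]; exact mul_mem ((mem_normalizer_iff.1 hvH z).1 z.2) (inv_mem z.2)
  let f : ↥H ⧸ H₀.subgroupOf H → ↥H ⧸ H₀.subgroupOf H := fun z =>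
    ((⟨⁅v, ((z.out : H) : G)⁆, hmem _⟩ : H) : ↥H ⧸ H₀.subgroupOf H)
  have hinj : Function.Injective f := fun z z' e => by
    have e' : (⁅v, ((z.out : H) : G)⁆)⁻¹ * ⁅v, ((z'.out : H) : G)⁆ ∈ H₀ :=
      (QuotientGroup.eq (a := (⟨_, hmem z.out⟩ : H)) (b := ⟨_, hmem z'.out⟩)).1 e
    set a : G := ((z.out : H) : G) with ha
    set b : G := ((z'.out : H) : G) with hb
    have hab : a⁻¹ * b ∈ F := by
      refine ⟨mul_mem (inv_mem z.out.2) z'.out.2, ?_⟩
      rw [show ⁅v, a⁻¹ * b⁆ = a⁻¹ * (⁅v, a⁆⁻¹ * ⁅v, b⁆) * a⁻¹⁻¹ by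
        simp only [commutatorElement_def]; group]
      exact hnH (inv_mem z.out.2) e'
    rw [hF] at hab
    rw [← z.out_eq, ← z'.out_eq]
    exact QuotientGroup.eq.2 hab
  obtain ⟨z, hz⟩ := (Finite.injective_iff_surjective.1 hinj) (x : ↥H ⧸ H₀.subgroupOf H)
  have h1 := (fixL_iff (H₀ := H₀) hvH).1 hfix _ (z.out : H).2
  have h2 := hl ((⟨⁅v, ((z.out : H) : G)⁆, hmem _⟩ : H)⁻¹ * x) ((QuotientGroup.eq (a := (⟨_, hmem z.out⟩ : H))).1 hz)
  rw [map_mul, map_inv, inv_mul_eq_one] at h2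
  rw [← h2, h1]
  rfl

/-- Outside the Galois case `H/H₀` has a `U`-invariant subgroup of order `p` whose `W₁`-conjugates
generate it. -/
theorem exists_line (hGal : ¬ GaloisCase M U H₀) :
    ∃ N : Subgroup G, H₀ ≤ N ∧ N ≤ Cfsg.fittingHallOf M ∧ U ≤ normalizer (N : Set G) ∧
      H₀.relIndex N = p ∧
      ∀ S : Subgroup G, H₀ ≤ S → (∀ w ∈ W₁, ∀ n ∈ N, w * n * w⁻¹ ∈ S) → Cfsg.fittingHallOf M ≤ S := by
  classical
  set H := Cfsg.fittingHallOf M with hH
  set 𝓝 : Set (Subgroup G) := {N | H₀ ≤ N ∧ N ≠ H₀ ∧ N ≤ H ∧ U ≤ normalizer (N : Set G)} with h𝓝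
  have hpp := hc.prime
  have hne : H ≠ H₀ := fun e => by
    have h1 : H₀.relIndex H = p ^ Nat.card W₁ := hc.card
    rw [e, relIndex_self] at h1
    exact (Nat.one_lt_pow (Nat.card_pos (α := W₁)).ne' hpp.one_lt).ne h1
  obtain ⟨N, hN, hmin⟩ := (Set.toFinite 𝓝).exists_minimal ⟨H, hc.le, hne, le_rfl, h.U_le.trans h.le_normalizer_H⟩
  obtain ⟨hN0, hNne, hNH, hNU⟩ := hN
  have hNlt : N ≠ H := fun e => hGal fun N' h0 hle hU => by
    by_contra! hcon
    exact hcon.2 (le_antisymm hle (e.symm.le.trans (hmin ⟨h0, hcon.1, hle, hU⟩ (e.symm ▸ hle))))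
  set r := H₀.relIndex N with hr
  -- subgroups generated by conjugates of `N`
  have hsec : ∀ S : Subgroup G, H₀ ≤ S → H ⊓ normalizer (S : Set G) = H → ∀ w ∈ W₁, U ≤ normalizer (S : Set G) →
      (∀ n ∈ N, w * n * w⁻¹ ∈ S) ∨
        (S.relIndex (N.map (MulAut.conj w).toMonoidHom ⊔ S) = r ∧ H₀ ≤ N.map (MulAut.conj w).toMonoidHom ∧
          N.map (MulAut.conj w).toMonoidHom ≤ H ∧ U ≤ normalizer (N.map (MulAut.conj w).toMonoidHom : Set G)) := by
    intro S hS0 hSH w hw hSU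
    set N' := N.map (MulAut.conj w).toMonoidHom with hN'
    have hwH : ∀ {X : Subgroup G}, M ≤ normalizer (X : Set G) → X.map (MulAut.conj w).toMonoidHom = X :=
      fun hX => mem_normalizer_iff_map_conj_eq.1 (hX (h.left_le hw))
    have h0' : H₀ ≤ N' := (hwH hc.normal).ge.trans (map_mono hN0)
    have hH' : N' ≤ H := (map_mono hNH).trans (hwH h.le_normalizer_H).le
    have hU' : U ≤ normalizer (N' : Set G) := le_normalizer_of_conj_mem fun y hy x hx => by
      obtain ⟨n, hn, rfl⟩ := hx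
      refine ⟨(w⁻¹ * y * w) * n * (w⁻¹ * y * w)⁻¹, conj_mem_of_le_normalizer hNU ?_ hn, by
        simp only [MulEquiv.coe_toMonoidHom, MulAut.conj_apply]; group⟩
      simpa using conj_mem_of_le_normalizer h.typeP.U_normal (inv_mem hw) hy
    set I := (N' ⊓ S).map (MulAut.conj w⁻¹).toMonoidHom with hI
    have hback : N'.map (MulAut.conj w⁻¹).toMonoidHom = N := by
      rw [hN', map_map]
      convert map_id N using 2
      ext x; simp [mul_assoc]
    have hI0 : H₀ ≤ I :=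
      (mem_normalizer_iff_map_conj_eq.1 (hc.normal (inv_mem (h.left_le hw)))).ge.trans (map_mono (le_inf h0' hS0))
    have hIN : I ≤ N := (map_mono inf_le_left).trans hback.le
    have hIU : U ≤ normalizer (I : Set G) := le_normalizer_of_conj_mem fun y hy x hx => by
      obtain ⟨n, hn, rfl⟩ := hx
      have hyw : w * y * w⁻¹ ∈ U := conj_mem_of_le_normalizer h.typeP.U_normal hw hy
      refine ⟨(w * y * w⁻¹) * n * (w * y * w⁻¹)⁻¹, ⟨conj_mem_of_le_normalizer hU' hyw hn.1,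
        conj_mem_of_le_normalizer hSU hyw hn.2⟩, by
        simp only [MulEquiv.coe_toMonoidHom, MulAut.conj_apply]; group⟩
    by_cases hI' : I = H₀
    swap
    · refine Or.inl fun n hn => ?_
      obtain ⟨m, hm, e⟩ := hmin ⟨hI0, hI', hIN.trans hNH, hIU⟩ hIN hn
      rw [← e]
      simp only [MulEquiv.coe_toMonoidHom, MulAut.conj_apply]
      rw [show w * (w⁻¹ * m * w⁻¹⁻¹) * w⁻¹ = m by group]
      exact hm.2
    refine Or.inr ⟨?_, h0', hH', hU'⟩
    have hinf : N' ⊓ S = H₀ := by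
      have := congrArg (Subgroup.map (MulAut.conj w).toMonoidHom) hI'
      rw [hI, map_map, hwH hc.normal] at this
      rw [← this]
      refine ((congrArg (fun f => Subgroup.map f (N' ⊓ S)) ?_).trans (map_id _)).symm
      ext x; simp [mul_assoc]
    have hnS : N' ≤ normalizer (S : Set G) := fun x hx => (hSH.ge (hH' hx)).2
    have hcr : Nat.card N = Nat.card N' := (card_map_of_injective (MulAut.conj w).injective).symm
    have h1 := CfsgLib.Solvable.card_sup_mul_card_inf hnS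
    rw [hinf, ← relIndex_bot_left (H := N' ⊔ S), ← relIndex_mul_relIndex ⊥ S _ bot_le le_sup_right,
      relIndex_bot_left, ← hcr, ← relIndex_bot_left (H := N), ← relIndex_mul_relIndex ⊥ H₀ N bot_le hN0,
      relIndex_bot_left, ← hr] at h1
    refine Nat.eq_of_mul_eq_mul_left (Nat.mul_pos (Nat.card_pos (α := S)) (Nat.card_pos (α := H₀))) ?_
    linarith
  have hHn : ∀ S : Subgroup G, H₀ ≤ S → S ≤ H → H ⊓ normalizer (S : Set G) = H := fun S h0 hS =>
    inf_eq_left.2 (le_normalizer_of_conj_mem fun y hy x hx => by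
      rw [show y * x * y⁻¹ = ⁅y, x⁆ * x by rw [commutatorElement_def]; group]
      exact mul_mem (h0 (hc.commutator_le (commutator_mem_commutator hy (hS hx)))) hx)
  set 𝓢 : Set (Subgroup G) :=
    {S | H₀ ≤ S ∧ S ≤ H ∧ U ≤ normalizer (S : Set G) ∧ ∃ j : ℕ, H₀.relIndex S = r ^ j} with h𝓢
  obtain ⟨S, hS, hmax⟩ := (Set.toFinite 𝓢).exists_maximal
    ⟨H₀, le_rfl, hc.le, h.U_le.trans hc.normal, 0, by rw [relIndex_self, pow_zero]⟩
  obtain ⟨hS0, hSH, hSU, j, hj⟩ := hS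
  have hr1 : 1 < r := by
    refine Nat.one_lt_iff_ne_zero_and_ne_one.2 ⟨index_ne_zero_of_finite, fun e => hNne ?_⟩
    exact le_antisymm (relIndex_eq_one.1 e) hN0
  have hall : ∀ w ∈ W₁, ∀ n ∈ N, w * n * w⁻¹ ∈ S := by
    intro w hw
    rcases hsec S hS0 (hHn S hS0 hSH) w hw hSU with h1 | ⟨h1, h0', hH', hU'⟩
    · exact h1
    exfalso
    set N' := N.map (MulAut.conj w).toMonoidHom
    have hmem : N' ⊔ S ∈ 𝓢 := ⟨hS0.trans le_sup_right, sup_le hH' hSH, le_normalizer_sup_of hU' hSU, j + 1, by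
      rw [← relIndex_mul_relIndex H₀ S _ hS0 le_sup_right, hj, h1, pow_succ]⟩
    rw [relIndex_eq_one.2 (hmax hmem le_sup_right)] at h1
    omega
  have hgen : ∀ S : Subgroup G, H₀ ≤ S → (∀ w ∈ W₁, ∀ n ∈ N, w * n * w⁻¹ ∈ S) → H ≤ S := by
    intro S₀ h0 hS₀
    -- the subgroup generated by all the conjugates
    set P := H₀ ⊔ closure {x | ∃ w ∈ W₁, ∃ n ∈ N, x = w * n * w⁻¹} with hP
    have hPS : P ≤ S₀ := sup_le h0 ((closure_le _).2 fun x ⟨w, hw, n, hn, e⟩ => e ▸ hS₀ w hw n hn)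
    have hmemP : ∀ w ∈ W₁, ∀ n ∈ N, w * n * w⁻¹ ∈ P := fun w hw n hn =>
      mem_sup_right (subset_closure ⟨w, hw, n, hn, rfl⟩)
    have hPH : P ≤ H := sup_le hc.le ((closure_le _).2 fun x ⟨w, hw, n, hn, e⟩ => e ▸
      conj_mem_of_le_normalizer h.le_normalizer_H (h.left_le hw) (hNH hn))
    have hgn : ∀ {y : G}, y ∈ M → (∀ w ∈ W₁, ∀ n ∈ N, y * (w * n * w⁻¹) * y⁻¹ ∈ P) →
        P.map (MulAut.conj y).toMonoidHom ≤ P := fun {y} hy hh => by
      rw [hP, Subgroup.map_sup]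
      refine sup_le (le_sup_left.trans' (mem_normalizer_iff_map_conj_eq.1 (hc.normal hy)).le) ?_
      rw [MonoidHom.map_closure, closure_le]
      rintro - ⟨x, ⟨w, hw, n, hn, rfl⟩, rfl⟩
      simpa using hh w hw n hn
    have hM : M ≤ normalizer (P : Set G) := h.M_le.trans (sup_le (sup_le
      (fun y hy => (hHn P le_sup_left hPH).ge hy |>.2)
      (le_normalizer_of_conj_mem fun y hy x hx => hgn (h.U_le hy) (fun w hw n hn => by
        rw [show y * (w * n * w⁻¹) * y⁻¹ = w * ((w⁻¹ * y * w) * n * (w⁻¹ * y * w)⁻¹) * w⁻¹ by group]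
        exact hmemP w hw _ (conj_mem_of_le_normalizer hNU
          (by simpa using conj_mem_of_le_normalizer h.typeP.U_normal (inv_mem hw) hy) hn))
        ⟨x, hx, by simp⟩))
      (le_normalizer_of_conj_mem fun y hy x hx => hgn (h.left_le hy) (fun w hw n hn => by
        rw [show y * (w * n * w⁻¹) * y⁻¹ = (y * w) * n * (y * w)⁻¹ by group]
        exact hmemP _ (mul_mem hy hw) n hn) ⟨x, hx, by simp⟩))
    rcases hc.minimal P le_sup_left hPH hM with e | e
    · exfalso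
      exact hNne (le_antisymm (fun n hn => e.le (by simpa using hmemP 1 (one_mem _) n hn)) hN0)
    · exact e.ge.trans hPS
  refine ⟨N, hN0, hNH, hNU, ?_, hgen⟩
  have hSeq : S = H := le_antisymm hSH (hgen S hS0 hall)
  rw [hSeq, hc.card] at hj
  obtain ⟨d, -, hd⟩ := (Nat.dvd_prime_pow hpp).1 (hc.card ▸ (by
    rw [← relIndex_mul_relIndex H₀ N H hN0 hNH]; exact dvd_mul_right r _) : r ∣ p ^ Nat.card W₁)
  rw [hd, ← pow_mul] at hj
  have hdj : Nat.card W₁ = d * j := Nat.pow_right_injective hpp.two_le hj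
  rcases h.prime_W₁.eq_one_or_self_of_dvd d (Dvd.intro _ hdj.symm) with hd1 | hd1
  · show r = p
    rw [hd, hd1, pow_one]
  · exfalso
    have h2 := relIndex_mul_relIndex H₀ N H hN0 hNH
    rw [hc.card, ← hr, hd, hd1] at h2
    exact hNlt (le_antisymm hNH (relIndex_eq_one.1
      (Nat.eq_of_mul_eq_mul_left (pow_pos hpp.pos _) (h2.trans (mul_one _).symm))))

end ChiefData

end CfsgLib.OddEnd
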