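import Cfsg.Agent.OddEnd.TenSystem
import Cfsg.Agent.OddEnd.DadeAux
import Cfsg.Agent.Char.CoherenceExt
import Cfsg.Agent.S1502

/-!
# The coherence system of characters induced across a prime action (Peterfalvi 4.8, 5.2, 9.11)

Irreducible members give a pair `ν, -ν̄`, reducible members give two signed columns of the family of
the cyclic TI-subgroup.
-/

set_option autoImplicit false
set_option linter.style.haveILetI false

namespace CfsgLib.OddEnd

open CfsgLib.Char
open scoped ComplexConjugate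

universe u

variable {G : Type u} [Group G] {L K W₁ W₂ : Subgroup G} {A : Set G} {R : G → Subgroup G}

/-- The inverse of a column. -/
def colInvPc (l : Col W₁ W₂) : Col W₁ W₂ :=
  ⟨l.1⁻¹, fun w hw => by rw [MonoidHom.inv_apply, l.2 w hw, inv_one]⟩

/-- The inverse of a row. -/
def rowInvPc (r : Row W₁ W₂) : Row W₁ W₂ :=
  ⟨r.1⁻¹, fun w hw => by rw [MonoidHom.inv_apply, r.2 w hw, inv_one]⟩

theorem rowInv_rowInvPc (r : Row W₁ W₂) : rowInvPc (rowInvPc r) = r :=
  Subtype.ext (MonoidHom.ext fun w => inv_inv _)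

theorem cell_inv_ptype (r : Row W₁ W₂) (l : Col W₁ W₂) : (cell r l)⁻¹ = cell (rowInvPc r) (colInvPc l) :=
  MonoidHom.ext fun w => by
    simp only [cell, rowInvPc, colInvPc, MonoidHom.inv_apply, MonoidHom.mul_apply]
    rw [mul_inv]

theorem dade_smul_int (n : ℤ) (α : L → ℂ) :
    Cfsg.dadeIsometry A L R (n • α) = n • Cfsg.dadeIsometry A L R α := by
  funext g
  simp only [Cfsg.dadeIsometry, Pi.smul_apply]
  split_ifs <;> simp

theorem dade_add (α β : L → ℂ) :
    Cfsg.dadeIsometry A L R (α + β) = Cfsg.dadeIsometry A L R α + Cfsg.dadeIsometry A L R β := by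
  funext g
  simp only [Cfsg.dadeIsometry, Pi.add_apply]
  split_ifs <;> simp

variable [Fintype G] [Fintype L]

/-- A set of characters induced from `K`, supported on `A` and the identity. -/
structure IndFamily (L K : Subgroup G) [Fintype L] (A : Set G) (S : Set (L → ℂ)) : Prop where
  sub : S ⊆ Cfsg.inducedIrrAbove (K.subgroupOf L) ⊥
  conj_mem : ∀ φ ∈ S, Cfsg.conjFun φ ∈ S
  supp : ∀ φ ∈ S, ∀ x : L, x ≠ 1 → (x : G) ∉ A → φ x = 0
  odd : Odd (Nat.card L)

namespace IndFamily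

variable {S : Set (L → ℂ)} (hF : IndFamily L K A S)
include hF

omit [Fintype G] in
theorem isCharacter {φ : L → ℂ} (hφ : φ ∈ S) : Cfsg.IsCharacter L φ := by
  obtain ⟨θ, h1, -, -, rfl⟩ := hF.sub hφ
  exact IsCharacter.indFun (IsIrrCharacter.isCharacter h1)

omit [Fintype G] in
theorem zspan_props {α : L → ℂ} (hα : α ∈ Cfsg.zspan S) :
    Cfsg.IsGeneralizedCharacter L α ∧ ∀ x : L, x ≠ 1 → (x : G) ∉ A → α x = 0 := by
  induction hα using Submodule.span_induction with
  | mem y hy => exact ⟨IsCharacter.isGeneralized (hF.isCharacter hy), hF.supp y hy⟩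
  | zero => exact ⟨isGeneralized_zero, fun _ _ _ => rfl⟩
  | add a b _ _ ha hb =>
    exact ⟨IsGeneralized.add ha.1 hb.1, fun x h1 hx => by
      rw [Pi.add_apply, ha.2 x h1 hx, hb.2 x h1 hx, add_zero]⟩
  | smul n a _ ha =>
    exact ⟨IsGeneralized.zsmul ha.1 n, fun x h1 hx => by rw [Pi.smul_apply, ha.2 x h1 hx, smul_zero]⟩

omit [Fintype G] in
theorem zspanOn_props {α : L → ℂ} (hα : α ∈ Cfsg.zspanOn S ({1}ᶜ : Set L)) :
    Cfsg.IsGeneralizedCharacter L α ∧ ∀ x : L, (x : G) ∉ A → α x = 0 := by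
  obtain ⟨h1, h2⟩ := mem_zspanOn_one.1 hα
  refine ⟨(hF.zspan_props h1).1, fun x hx => ?_⟩
  by_cases hx1 : x = 1
  · rw [hx1]; exact h2
  · exact (hF.zspan_props h1).2 x hx1 hx

theorem isometry (hD : Cfsg.DadeHypothesis A L R) :
    Cfsg.IsLinearIsometryOn (Cfsg.zspanOn S ({1}ᶜ : Set L)) (Cfsg.dadeIsometry A L R) ∧
      ∀ α ∈ Cfsg.zspanOn S ({1}ᶜ : Set L), Cfsg.dadeIsometry A L R α 1 = 0 := by
  refine ⟨⟨fun α _ β _ => dade_add α β, fun α _ n => dade_smul_int n α, fun α hα β hβ => ?_, fun α hα => ?_⟩,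
    fun α _ => dadeIsometry_apply_one hD⟩
  · obtain ⟨ha, ha'⟩ := hF.zspanOn_props hα
    exact classInner_dadeIsometry_dadeIsometry hD (IsGeneralized.isClassFunction ha) ha'
      (IsGeneralized.isClassFunction (hF.zspanOn_props hβ).1)
  · obtain ⟨ha, ha'⟩ := hF.zspanOn_props hα
    exact isGeneralized_dadeIsometry hD ha ha'

omit [Fintype G] in
theorem sub_conj_mem {φ : L → ℂ} (hφ : φ ∈ S) :
    φ - Cfsg.conjFun φ ∈ Cfsg.zspanOn S ({1}ᶜ : Set L) := by
  refine mem_zspanOn_one.2 ⟨Submodule.sub_mem _ (subset_zspan hφ) (subset_zspan (hF.conj_mem φ hφ)), ?_⟩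
  obtain ⟨d, hd⟩ := IsCharacter.exists_degree (hF.isCharacter hφ)
  simp [Cfsg.conjFun, hd]

omit [Fintype G] in
theorem orth [(K.subgroupOf L).Normal] {φ ψ : L → ℂ} (hφ : φ ∈ S) (hψ : ψ ∈ S) (h : φ ≠ ψ) :
    Cfsg.classInner φ ψ = 0 := by
  classical
  obtain ⟨θ, h1, -, -, rfl⟩ := hF.sub hφ
  obtain ⟨η, h2, -, -, rfl⟩ := hF.sub hψ
  rw [classInner_indFun_indFun h1 h2, if_neg fun hm => h ?_]
  obtain ⟨g, rfl⟩ := mem_conjOrbit.1 hm
  exact indFun_conjOn g η

omit [Fintype G] in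
theorem conj_ne [(K.subgroupOf L).Normal] {φ : L → ℂ} (hφ : φ ∈ S) : Cfsg.conjFun φ ≠ φ := by
  obtain ⟨θ, h1, h2, -, rfl⟩ := hF.sub hφ
  have h0 : Cfsg.classInner (Cfsg.conjFun (Cfsg.indFun _ θ)) (Cfsg.indFun _ θ) = 0 :=
    classInner_conj_indFun_eq_zero hF.odd h1 h2
  intro e
  rw [e] at h0
  have h3 := congrFun (classInner_self_eq_zero h0) 1
  rw [indFun_one, Pi.zero_apply, mul_eq_zero] at h3
  exact h3.elim (by exact_mod_cast Subgroup.index_ne_zero_of_finite) (IsIrrCharacter.apply_one_ne_zero h1)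

variable {χ : (↥(W₁ ⊔ W₂) →* ℂˣ) → G → ℂ} {μ : (↥(W₁ ⊔ W₂) →* ℂˣ) → L → ℂ}
  {δ : (↥(W₁ ⊔ W₂) →* ℂˣ) → ℂ}

/-- A member is irreducible or a nontrivial column vanishing on `K` off `A` away from `1`. -/
theorem cases (h : PrimeDade L K W₁ W₂ A R) [Fintype (Row W₁ W₂)] (hμ : IsMuG L K W₁ W₂ μ δ) {φ : L → ℂ}
    (hφ : φ ∈ S) :
    Cfsg.IsIrrCharacter L φ ∨ ∃ l : Col W₁ W₂, l ≠ col₀ ∧ φ = ∑ r : Row W₁ W₂, μ (cell r l) ∧
      (∀ r r' : Row W₁ W₂, ∀ x : L, (x : G) ∈ K → μ (cell r l) x = μ (cell r' l) x) := by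
  obtain ⟨θ, h1, h2, -, rfl⟩ := hF.sub hφ
  rcases h.ind_cases hμ h1 with h' | ⟨l, hl, hres⟩
  · exact Or.inl h'
  refine Or.inr ⟨l, fun e => h2 ?_, hl, fun r r' x hx => ?_⟩
  · funext k
    rw [← hres row₀ k, e, cell_col₀]
    exact congrFun hμ.one.1 _
  · exact (hres r ⟨x, hx⟩).trans (hres r' ⟨x, hx⟩).symm

/-- An irreducible member has an irreducible image, up to sign, orthogonal to the family. -/
theorem tau_irr (h : PrimeDade L K W₁ W₂ A R) (hχ : Cfsg.IsCyclicTIFamily W₁ W₂ χ) {φ : L → ℂ}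
    (hφ : φ ∈ S) (hirr : Cfsg.IsIrrCharacter L φ) :
    ∃ ν : G → ℂ, Cfsg.IsIrrCharacter G ν ∧ Cfsg.conjFun ν ≠ ν ∧
      Cfsg.dadeIsometry A L R (φ - Cfsg.conjFun φ) = ν - Cfsg.conjFun ν ∧
      ∀ ω, Cfsg.classInner ν (χ ω) = 0 ∧ Cfsg.classInner (Cfsg.conjFun ν) (χ ω) = 0 := by
  haveI := h.normal
  obtain ⟨ν, hν, he⟩ := dade_exists_conj_pair h.dade hirr (hF.supp φ hφ)
  have hne : Cfsg.conjFun ν ≠ ν := fun e => by
    have h' := (hF.isometry h.dade).1.2.2.1 _ (hF.sub_conj_mem hφ) _ (hF.sub_conj_mem hφ)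
    have h01 : Cfsg.classInner φ (Cfsg.conjFun φ) = 0 :=
      hF.orth hφ (hF.conj_mem φ hφ) (Ne.symm (hF.conj_ne hφ))
    have h10 : Cfsg.classInner (Cfsg.conjFun φ) φ = 0 := by rw [← classInner_conj, h01, map_zero]
    rw [he, e, sub_self, classInner_zero_left, classInner_sub_left, classInner_sub_right,
      classInner_sub_right, IsIrrCharacter.classInner_self hirr, classInner_conjFun_conjFun,
      IsIrrCharacter.classInner_self hirr, h01, h10] at h'
    norm_num at h'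
  refine ⟨ν, hν, hne, he, orth_family_of_pair h.selfNorm h.odd hχ hν hne fun w h1 h2 => ?_⟩
  rw [← he, h.dade_mixed (IsGeneralized.isClassFunction (hF.zspanOn_props (hF.sub_conj_mem hφ)).1) h1 h2]
  obtain ⟨θ, h3, -, -, rfl⟩ := hF.sub hφ
  have hwK : (⟨(w : G), h.sup_le' w.2⟩ : L) ∉ K.subgroupOf L := fun hK =>
    h2 (mem_right_of_mem_kernel h.action ((h.mem_sup_iff _).2 w.2) hK)
  simp [Cfsg.conjFun, indFun_eq_zero_of_normal θ hwK]

omit hF in
/-- The conjugate of a column. -/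
theorem conj_column (hμ : IsMuG L K W₁ W₂ μ δ) [Fintype (Row W₁ W₂)] (l : Col W₁ W₂) :
    Cfsg.conjFun (∑ r : Row W₁ W₂, μ (cell r l)) = ∑ r : Row W₁ W₂, μ (cell r (colInvPc l)) ∧
      ∀ r : Row W₁ W₂, δ (cell r (colInvPc l)) = δ (cell r l) := by
  have hmap : ∀ r : Row W₁ W₂, μ (cell (rowInvPc r) (colInvPc l)) = Cfsg.conjFun (μ (cell r l)) ∧
      δ (cell (rowInvPc r) (colInvPc l)) = δ (cell r l) := fun r => by
    have h1 := hμ.map conjAut (cell r l)
    rw [mapHom_conjAut, cell_inv_ptype] at h1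
    exact h1
  refine ⟨?_, fun r => ?_⟩
  · rw [show Cfsg.conjFun (∑ r : Row W₁ W₂, μ (cell r l)) = ∑ r : Row W₁ W₂, Cfsg.conjFun (μ (cell r l)) from
      funext fun x => by simp [Cfsg.conjFun, Finset.sum_apply, map_sum],
      Finset.sum_congr rfl fun r _ => (hmap r).1.symm]
    exact Equiv.sum_comp ⟨rowInvPc, rowInvPc, rowInv_rowInvPc, rowInv_rowInvPc⟩
      (fun r => μ (cell r (colInvPc l)))
  · rw [← (hmap r).2]
    exact hμ.sign_eq _ _ fun w hw => by
      simp only [cell, MonoidHom.mul_apply, r.2 w hw, (rowInvPc r).2 w hw]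

/-- The Dade image of a column minus its conjugate. -/
theorem tau_col (h : PrimeDade L K W₁ W₂ A R) [Fintype (Row W₁ W₂)]
    (hχ : Cfsg.IsCyclicTIFamily W₁ W₂ χ) (hμ : IsMuG L K W₁ W₂ μ δ) {φ : L → ℂ} (hφ : φ ∈ S)
    {l : Col W₁ W₂} (hl : l ≠ col₀) (he : φ = ∑ r : Row W₁ W₂, μ (cell r l))
    (hres : ∀ r r' : Row W₁ W₂, ∀ x : L, (x : G) ∈ K → μ (cell r l) x = μ (cell r' l) x) :
    colInvPc l ≠ l ∧ colInvPc l ≠ col₀ ∧
    Cfsg.dadeIsometry A L R (φ - Cfsg.conjFun φ) =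
      ∑ r : Row W₁ W₂, δ (cell r l) • (χ (cell r l) - χ (cell r (colInvPc l))) := by
  haveI := h.normal
  obtain ⟨hc, hδ⟩ := conj_column hμ l
  have hne : colInvPc l ≠ l := fun e => hF.conj_ne hφ (by
    subst he; rw [hc, e])
  have hne0 : colInvPc l ≠ col₀ := fun e => hl (Subtype.ext (MonoidHom.ext fun w => by
    have h1 := DFunLike.congr_fun (congrArg Subtype.val e) w
    simp only [colInvPc, MonoidHom.inv_apply, col₀, MonoidHom.one_apply, inv_eq_one] at h1
    simpa [col₀] using h1))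
  have hpair : ∀ r : Row W₁ W₂, Cfsg.dadeIsometry A L R (μ (cell r l) - μ (cell r (colInvPc l))) =
      δ (cell r l) • (χ (cell r l) - χ (cell r (colInvPc l))) := fun r => by
    refine (h.pair hχ hμ (Ne.symm hne) hl hne0 (hδ r).symm fun x hx hxA => ?_).2
    have hbar : ∀ r r' : Row W₁ W₂, ∀ y : L, (y : G) ∈ K →
        μ (cell r (colInvPc l)) y = μ (cell r' (colInvPc l)) y := fun r r' y hy =>
      hμ.restrict_eq _ _ (fun w hw => by
        simp only [cell, MonoidHom.mul_apply, r.2 w hw, r'.2 w hw]) y hy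
    obtain ⟨d, -, hd⟩ := IsIrrCharacter.exists_degree (hμ.irr (cell r l))
    have hconj : μ (cell r (colInvPc l)) x = conj (μ (cell r l) x) := by
      have h1 := hμ.map conjAut (cell r l)
      rw [mapHom_conjAut, cell_inv_ptype] at h1
      rw [hbar r (rowInvPc r) x hx, h1.1]
      rfl
    by_cases hx1 : x = 1
    · rw [hconj, hx1, hd, map_natCast]
    · have h0 := hF.supp φ hφ x hx1 hxA
      rw [he, Finset.sum_apply, Finset.sum_congr rfl (fun r' _ => hres r' r x hx), Finset.sum_const,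
        nsmul_eq_mul, mul_eq_zero] at h0
      have hz : μ (cell r l) x = 0 := h0.resolve_left
        (Nat.cast_ne_zero.2 (Finset.card_ne_zero.2 ⟨r, Finset.mem_univ r⟩))
      rw [hconj, hz, map_zero]
  refine ⟨hne, hne0, ?_⟩
  subst he
  rw [hc, ← Finset.sum_sub_distrib, dade_sum_fun]
  exact Finset.sum_congr rfl fun r _ => hpair r

end IndFamily

/-- The two ways of choosing `R φ`. -/
def SysChoice (S : Set (L → ℂ)) (A : Set G) (R : G → Subgroup G) [Fintype (Row W₁ W₂)] [DecidableEq (G → ℂ)]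
    (χ : (↥(W₁ ⊔ W₂) →* ℂˣ) → G → ℂ) (μ : (↥(W₁ ⊔ W₂) →* ℂˣ) → L → ℂ) (φ : L → ℂ)
    (s : Finset (G → ℂ)) : Prop :=
  (∃ ν : G → ℂ, φ ∈ S ∧ Cfsg.IsIrrCharacter L φ ∧ Cfsg.IsIrrCharacter G ν ∧ Cfsg.conjFun ν ≠ ν ∧
    Cfsg.dadeIsometry A L R (φ - Cfsg.conjFun φ) = ν - Cfsg.conjFun ν ∧
    (∀ ω, Cfsg.classInner ν (χ ω) = 0 ∧ Cfsg.classInner (Cfsg.conjFun ν) (χ ω) = 0) ∧
    s = {ν, -Cfsg.conjFun ν}) ∨
  (∃ (l : Col W₁ W₂) (ε : Row W₁ W₂ → ℂ), φ = ∑ r : Row W₁ W₂, μ (cell r l) ∧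
    Cfsg.conjFun φ = ∑ r : Row W₁ W₂, μ (cell r (colInvPc l)) ∧
    colInvPc l ≠ l ∧ (∀ r, ε r = 1 ∨ ε r = -1) ∧
    Cfsg.dadeIsometry A L R (φ - Cfsg.conjFun φ) =
      ∑ r : Row W₁ W₂, ε r • (χ (cell r l) - χ (cell r (colInvPc l))) ∧
    s = (Finset.univ.image fun r : Row W₁ W₂ => ε r • χ (cell r l)) ∪
      Finset.univ.image fun r : Row W₁ W₂ => (-ε r) • χ (cell r (colInvPc l)))

variable {S : Set (L → ℂ)}

/-- A conjugation-closed family induced from `K`, supported on `A`, carries a coherence system for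
the Dade map. -/
theorem PrimeDade.exists_system (h : PrimeDade L K W₁ W₂ A R) (hF : IndFamily L K A S)
    (hne : S.Nonempty) :
    ∃ Rf : (L → ℂ) → Finset (G → ℂ), Cfsg.IsCoherenceSystem S (Cfsg.dadeIsometry A L R) Rf := by
  classical
  haveI := h.normal
  have := Fintype.ofFinite (Row W₁ W₂)
  obtain ⟨μ, δ, hμ⟩ := h.exists_isMuG
  obtain ⟨χ, hχ⟩ := Cfsg.Agent.S1502.result W₁ W₂ h.selfNorm h.odd
  obtain ⟨hiso, hone⟩ := hF.isometry h.dade
  have hex : ∀ φ ∈ S, ∃ s : Finset (G → ℂ), SysChoice S A R χ μ φ s := fun φ hφ => by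
    rcases hF.cases h hμ hφ with hirr | ⟨l, hl, he, hres⟩
    · obtain ⟨ν, h1, h2, h3, h4⟩ := hF.tau_irr h hχ hφ hirr
      exact ⟨_, Or.inl ⟨ν, hφ, hirr, h1, h2, h3, h4, rfl⟩⟩
    · obtain ⟨h1, -, h3⟩ := hF.tau_col h hχ hμ hφ hl he hres
      exact ⟨_, Or.inr ⟨l, fun r => δ (cell r l), he, by rw [he]; exact (IndFamily.conj_column hμ l).1, h1,
        fun r => hμ.sign _, h3, rfl⟩⟩
  choose! Rf hRf using hex
  have hχo := hχ.orthonormal
  have hsmul : ∀ {ε : ℂ}, ε = 1 ∨ ε = -1 → ∀ ω, Cfsg.IsGeneralizedCharacter G (ε • χ ω) := by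
    intro ε hε ω
    have hg : Cfsg.IsGeneralizedCharacter G (χ ω) := isGeneralized_family hχ ω
    rcases hε with rfl | rfl
    · rwa [one_smul]
    · rw [neg_one_smul]; exact IsGeneralized.neg hg
  have hneg : ∀ {ε : ℂ}, ε = 1 ∨ ε = -1 → (-ε = 1 ∨ -ε = -1) := by
    rintro ε (rfl | rfl) <;> simp
  have hpm : ∀ {ε : ℂ}, ε = 1 ∨ ε = -1 → ε * conj ε = 1 := by
    rintro ε (rfl | rfl) <;> simp
  -- shape of an element of `R φ`
  have hirrcase : ∀ {ν : G → ℂ}, Cfsg.IsIrrCharacter G ν → Cfsg.conjFun ν ≠ ν →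
      Cfsg.classInner ν (Cfsg.conjFun ν) = 0 ∧ Cfsg.classInner (Cfsg.conjFun ν) ν = 0 ∧
      Cfsg.classInner (Cfsg.conjFun ν) (Cfsg.conjFun ν) = 1 ∧ ν ≠ -Cfsg.conjFun ν := by
    intro ν hν hne'
    refine ⟨IsIrrCharacter.classInner_of_ne hν (IsIrrCharacter.conj hν) (Ne.symm hne'),
      IsIrrCharacter.classInner_of_ne (IsIrrCharacter.conj hν) hν hne',
      IsIrrCharacter.classInner_self (IsIrrCharacter.conj hν), fun e => ?_⟩
    obtain ⟨d, hd0, hd⟩ := IsIrrCharacter.exists_degree hν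
    have h1 := congrFun e 1
    rw [Pi.neg_apply, Cfsg.conjFun, hd, map_natCast, eq_neg_iff_add_eq_zero, ← Nat.cast_add,
      Nat.cast_eq_zero] at h1
    omega
  refine ⟨Rf, ⟨hne, fun φ hφ => hF.isCharacter hφ, hF.conj_mem, fun φ hφ => hF.conj_ne hφ, hiso, hone,
    fun φ hφ ψ hψ e => hF.orth hφ hψ e, ?_, ?_, ?_, ?_⟩⟩
  · intro φ hφ α hα β hβ
    rcases hRf φ hφ with ⟨ν, -, -, hν, hne', -, -, hs⟩ | ⟨l, ε, -, -, hll, hε, -, hs⟩
    · obtain ⟨h1, h2, h3, h4⟩ := hirrcase hν hne'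
      rw [hs] at hα hβ
      simp only [Finset.mem_insert, Finset.mem_singleton] at hα hβ
      rcases hα with rfl | rfl <;> rcases hβ with rfl | rfl
      · rw [if_pos rfl, IsIrrCharacter.classInner_self hν]
      · rw [if_neg h4, classInner_neg_right, h1, neg_zero]
      · rw [if_neg (Ne.symm h4), classInner_neg_left, h2, neg_zero]
      · rw [if_pos rfl, classInner_neg_left, classInner_neg_right, neg_neg, h3]
    · rw [hs] at hα hβ
      obtain ⟨r, c, a, ha, rfl, hca⟩ : ∃ (r : Row W₁ W₂) (c : Col W₁ W₂) (a : ℂ), (a = 1 ∨ a = -1) ∧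
          α = a • χ (cell r c) ∧ ((c = l ∧ a = ε r) ∨ (c = colInvPc l ∧ a = -ε r)) := by
        rcases Finset.mem_union.1 hα with h' | h' <;> obtain ⟨r, -, rfl⟩ := Finset.mem_image.1 h'
        · exact ⟨r, _, _, hε r, rfl, Or.inl ⟨rfl, rfl⟩⟩
        · exact ⟨r, _, _, hneg (hε r), rfl, Or.inr ⟨rfl, rfl⟩⟩
      obtain ⟨r', c', b, hb, rfl, hcb⟩ : ∃ (r : Row W₁ W₂) (c : Col W₁ W₂) (a : ℂ), (a = 1 ∨ a = -1) ∧
          β = a • χ (cell r c) ∧ ((c = l ∧ a = ε r) ∨ (c = colInvPc l ∧ a = -ε r)) := by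
        rcases Finset.mem_union.1 hβ with h' | h' <;> obtain ⟨r, -, rfl⟩ := Finset.mem_image.1 h'
        · exact ⟨r, _, _, hε r, rfl, Or.inl ⟨rfl, rfl⟩⟩
        · exact ⟨r, _, _, hneg (hε r), rfl, Or.inr ⟨rfl, rfl⟩⟩
      rw [classInner_smul_left, classInner_smul_right, hχo]
      by_cases hc : cell r c = cell r' c'
      · obtain ⟨rfl, rfl⟩ := cell_injective hc
        have hab : a = b := by
          rcases hca with ⟨h5, rfl⟩ | ⟨h5, rfl⟩ <;> rcases hcb with ⟨h6, rfl⟩ | ⟨h6, rfl⟩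
          · rfl
          · exact absurd (h6.symm.trans h5) hll
          · exact absurd (h5.symm.trans h6) hll
          · rfl
        subst hab
        rw [if_pos rfl, if_pos rfl, mul_one, hpm ha]
      · rw [if_neg hc, mul_zero, mul_zero, if_neg]
        intro e
        have h1 := congrArg (fun f => Cfsg.classInner f (χ (cell r c))) e
        simp only [classInner_smul_left, hχo, if_neg (Ne.symm hc), if_pos, mul_one, mul_zero] at h1
        rcases ha with rfl | rfl <;> norm_num at h1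
  · intro φ hφ α hα
    rcases hRf φ hφ with ⟨ν, -, -, hν, -, -, -, hs⟩ | ⟨l, ε, -, -, -, hε, -, hs⟩
    · rw [hs] at hα
      simp only [Finset.mem_insert, Finset.mem_singleton] at hα
      rcases hα with rfl | rfl
      · exact IsIrrCharacter.isGeneralized hν
      · exact IsGeneralized.neg (IsIrrCharacter.isGeneralized (IsIrrCharacter.conj hν))
    · rw [hs] at hα
      rcases Finset.mem_union.1 hα with h' | h' <;> obtain ⟨r, -, rfl⟩ := Finset.mem_image.1 h'
      · exact hsmul (hε r) _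
      · exact hsmul (hneg (hε r)) _
  · intro φ hφ
    rcases hRf φ hφ with ⟨ν, -, -, hν, hne', he, -, hs⟩ | ⟨l, ε, -, -, hll, hε, he, hs⟩
    · rw [hs, he, Finset.sum_pair (hirrcase hν hne').2.2.2, sub_eq_add_neg]
    · have hinj : ∀ (c : Col W₁ W₂) (e : Row W₁ W₂ → ℂ), (∀ r, e r = 1 ∨ e r = -1) →
          Function.Injective fun r : Row W₁ W₂ => e r • χ (cell r c) := by
        intro c e hee r r' h'
        by_contra hrr
        have h1 := congrArg (fun f => Cfsg.classInner f (χ (cell r c))) h'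
        simp only [classInner_smul_left, hχo, if_pos, if_neg fun e' : cell r' c = cell r c =>
          hrr (cell_injective e').1.symm, mul_one, mul_zero] at h1
        rcases hee r with h2 | h2 <;> rw [h2] at h1 <;> norm_num at h1
      have hdisj : Disjoint (Finset.univ.image fun r : Row W₁ W₂ => ε r • χ (cell r l))
          (Finset.univ.image fun r : Row W₁ W₂ => (-ε r) • χ (cell r (colInvPc l))) := by
        refine Finset.disjoint_left.2 fun z hz hz' => ?_
        obtain ⟨r, -, rfl⟩ := Finset.mem_image.1 hz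
        obtain ⟨r', -, h'⟩ := Finset.mem_image.1 hz'
        have h1 := congrArg (fun f => Cfsg.classInner f (χ (cell r l))) h'
        simp only [classInner_smul_left, hχo, if_pos, if_neg fun e' : cell r' (colInvPc l) = cell r l =>
          hll (cell_injective e').2, mul_one, mul_zero] at h1
        rcases hε r with h2 | h2 <;> rw [h2] at h1 <;> norm_num at h1
      rw [hs, he, Finset.sum_union hdisj, Finset.sum_image fun x _ y _ e => hinj l ε hε e,
        Finset.sum_image fun x _ y _ e => hinj (colInvPc l) (fun r => -ε r) (fun r => hneg (hε r)) e,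
        ← Finset.sum_add_distrib]
      exact Finset.sum_congr rfl fun r _ => by rw [smul_sub, neg_smul, sub_eq_add_neg]
  · intro φ hφ ψ hψ h1 h2 α hα β hβ
    have h3 : Cfsg.classInner (Cfsg.conjFun ψ) φ = 0 := by
      rw [← conjFun_conjFun φ, classInner_conjFun_conjFun, ← classInner_conj, h2, map_zero]
    have h4 : Cfsg.classInner (Cfsg.conjFun ψ) (Cfsg.conjFun φ) = 0 := by
      rw [classInner_conjFun_conjFun, ← classInner_conj, h1, map_zero]
    rcases hRf ψ hψ with ⟨ν, -, hψi, hν, hne', he, hoν, hs⟩ | ⟨l, ε, hel, -, hll, hε, -, hs⟩ <;>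
      rcases hRf φ hφ with ⟨ν', -, hφi, hν', hne'', he', hoν', hs'⟩ | ⟨l', ε', hel', hcl', hll', hε', -, hs'⟩
    · rw [hs] at hα; rw [hs'] at hβ
      obtain ⟨k1, k2, k3, -⟩ := hirrcase hν hne'
      have hmix : Cfsg.classInner (ν - Cfsg.conjFun ν) (ν' - Cfsg.conjFun ν') = 0 := by
        rw [← he, ← he', hiso.2.2.1 _ (hF.sub_conj_mem hψ) _ (hF.sub_conj_mem hφ), classInner_sub_left,
          classInner_sub_right, classInner_sub_right, h1, h2, h3, h4]
        simp
      have hno : ν' ≠ ν ∧ ν' ≠ Cfsg.conjFun ν := by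
        constructor <;> intro e <;> subst e
        · rw [classInner_sub_left, classInner_sub_right, classInner_sub_right, k1, k2,
            IsIrrCharacter.classInner_self hν, k3] at hmix
          norm_num at hmix
        · rw [conjFun_conjFun, classInner_sub_left, classInner_sub_right, classInner_sub_right, k1, k2,
            IsIrrCharacter.classInner_self hν, k3] at hmix
          norm_num at hmix
      have e1 : Cfsg.classInner ν ν' = 0 := IsIrrCharacter.classInner_of_ne hν hν' (Ne.symm hno.1)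
      have e2 : Cfsg.classInner (Cfsg.conjFun ν) ν' = 0 :=
        IsIrrCharacter.classInner_of_ne (IsIrrCharacter.conj hν) hν' (Ne.symm hno.2)
      have e3 : Cfsg.classInner ν (Cfsg.conjFun ν') = 0 := by
        rw [← conjFun_conjFun ν, classInner_conjFun_conjFun, ← classInner_conj, e2, map_zero]
      have e4 : Cfsg.classInner (Cfsg.conjFun ν) (Cfsg.conjFun ν') = 0 := by
        rw [classInner_conjFun_conjFun, ← classInner_conj, e1, map_zero]
      simp only [Finset.mem_insert, Finset.mem_singleton] at hα hβ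
      rcases hα with rfl | rfl <;> rcases hβ with rfl | rfl <;>
        simp [classInner_neg_left, classInner_neg_right, e1, e2, e3, e4]
    · rw [hs] at hα; rw [hs'] at hβ
      simp only [Finset.mem_insert, Finset.mem_singleton] at hα
      rcases Finset.mem_union.1 hβ with h' | h' <;> obtain ⟨r, -, rfl⟩ := Finset.mem_image.1 h' <;>
        rcases hα with rfl | rfl <;>
        simp [classInner_neg_left, classInner_neg_right, classInner_smul_right, (hoν (cell r _)).1, (hoν (cell r _)).2]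
    · rw [hs] at hα; rw [hs'] at hβ
      simp only [Finset.mem_insert, Finset.mem_singleton] at hβ
      rcases Finset.mem_union.1 hα with h' | h' <;> obtain ⟨r, -, rfl⟩ := Finset.mem_image.1 h' <;>
        rcases hβ with rfl | rfl <;>
        rw [← classInner_conj] <;>
        simp [classInner_neg_left, classInner_neg_right, classInner_smul_right, (hoν' (cell r _)).1, (hoν' (cell r _)).2]
    · rw [hs] at hα; rw [hs'] at hβ
      have hd1 : l ≠ l' := fun e => by
        have hz : Cfsg.classInner ψ ψ = 0 := by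
          conv_lhs => arg 2; rw [hel, e, ← hel']
          exact h1
        exact hF.conj_ne hψ (by rw [classInner_self_eq_zero hz]; funext x; simp [Cfsg.conjFun])
      have hd2 : l ≠ colInvPc l' := fun e => by
        have hz : Cfsg.classInner ψ ψ = 0 := by
          conv_lhs => arg 2; rw [hel, e, ← hcl']
          exact h2
        exact hF.conj_ne hψ (by rw [classInner_self_eq_zero hz]; funext x; simp [Cfsg.conjFun])
      have hinv : ∀ {a b : Col W₁ W₂}, colInvPc a = colInvPc b → a = b := fun {a b} e =>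
        Subtype.ext (inv_injective (congrArg Subtype.val e))
      have hinv' : ∀ a : Col W₁ W₂, colInvPc (colInvPc a) = a := fun a =>
        Subtype.ext (MonoidHom.ext fun w => inv_inv _)
      have key : ∀ (r r' : Row W₁ W₂) (c c' : Col W₁ W₂) (a b : ℂ), c ≠ c' →
          Cfsg.classInner (a • χ (cell r c)) (b • χ (cell r' c')) = 0 := fun r r' c c' a b hc => by
        rw [classInner_smul_left, classInner_smul_right, hχo, if_neg fun e => hc (cell_injective e).2,
          mul_zero, mul_zero]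
      rcases Finset.mem_union.1 hα with h' | h' <;> obtain ⟨r, -, rfl⟩ := Finset.mem_image.1 h' <;>
        rcases Finset.mem_union.1 hβ with h'' | h'' <;> obtain ⟨r', -, rfl⟩ := Finset.mem_image.1 h''
      · exact key _ _ _ _ _ _ hd1
      · exact key _ _ _ _ _ _ hd2
      · exact key _ _ _ _ _ _ fun e => hd2 (by rw [← e, hinv'])
      · exact key _ _ _ _ _ _ fun e => hd1 (hinv e)

end CfsgLib.OddEnd
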