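import Cfsg.Agent.Char.DadeMap
import Cfsg.Agent.Char.DadeApps
import Mathlib.Analysis.SpecialFunctions.Complex.Circle

/-!
The adjoint of the Dade map, and congruences modulo `1 - ε` with denominators prime to `p`.
-/

set_option autoImplicit false

namespace CfsgLib.OddEnd

universe u

variable {G : Type u} [Group G]

/-- The average of `χ` over the coset `a R(a)`, as a function on `L`. -/
noncomputable def rho (L : Subgroup G) (R : G → Subgroup G) (χ : G → ℂ) : L → ℂ :=
  fun a => (Nat.card (R (a : G)) : ℂ)⁻¹ * ∑ᶠ u ∈ (R (a : G) : Set G), χ ((a : G) * u)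

theorem classInner_dade_rho [Fintype G] {A : Set G} {L : Subgroup G} [Fintype L] {R : G → Subgroup G}
    (hD : Cfsg.DadeHypothesis A L R) {α : L → ℂ} (hα : Cfsg.IsClassFunction L α)
    (hαA : ∀ x : L, (x : G) ∉ A → α x = 0) {χ : G → ℂ} (hχ : Cfsg.IsClassFunction G χ) :
    Cfsg.classInner (Cfsg.dadeIsometry A L R α) χ = Cfsg.classInner α (rho L R χ) :=
  CfsgLib.Char.classInner_dadeIsometry hD hα hαA hχ fun _ _ => rfl

/-- `1 - ε` for `ε = exp(2πi/p)`. -/
noncomputable def piEl (p : ℕ) : ℂ := 1 - Complex.exp (2 * Real.pi * Complex.I / p)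

/-- Congruence modulo `1 - ε`, allowing denominators prime to `p`. -/
def Cong (p : ℕ) (a b : ℂ) : Prop :=
  ∃ (m : ℕ) (ω : ℂ), ¬ p ∣ m ∧ IsIntegral ℤ ω ∧ (m : ℂ) * (a - b) = piEl p * ω

end CfsgLib.OddEnd
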