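import Cfsg.Agent.OddEnd.TenSystemR
import Cfsg.Agent.OddEnd.DadeAux

/-!
# The columns as members of `S`, and the function `1^M - ζ` (Peterfalvi 10.1, 10.5)
-/

set_option autoImplicit false
set_option linter.unusedSectionVars false

namespace CfsgLib.OddEnd

open CfsgLib.Char
open scoped ComplexConjugate commutatorElement

universe u

variable {G : Type u} [Group G] [Fintype G]

/-- The character induced from the principal character of `M_σ`, minus `ζ`. -/
noncomputable def tenAlpha (M : Subgroup G) [Fintype M] (ζ : M → ℂ) : M → ℂ :=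
  Cfsg.indFun ((Cfsg.sigmaCore M).subgroupOf M) (fun _ => 1) - ζ

namespace TenPair

variable {M N K Ks V : Subgroup G} (P : TenPair M N K Ks V) [Fintype M]
  {χ : (↥(K ⊔ Ks) →* ℂˣ) → G → ℂ} {μ : (↥(K ⊔ Ks) →* ℂˣ) → M → ℂ} {δ : (↥(K ⊔ Ks) →* ℂˣ) → ℂ}
include P

theorem index_core : ((Cfsg.sigmaCore M).subgroupOf M).index = Nat.card K := by
  have hc : Nat.card (K.subgroupOf M) = Nat.card K :=
    Nat.card_congr (Subgroup.subgroupOfEquivOfLe P.hKU.hall.1).toEquiv
  rw [← hc]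
  exact (Subgroup.isComplement'_of_disjoint_and_mul_eq_univ (disjoint_iff.2 P.primeDade_M.action.inf_eq)
    (by
      have := P.normal_core
      rw [← Subgroup.normal_mul, P.primeDade_M.action.sup_eq, Subgroup.coe_top])).symm.index_eq_card

theorem ind_one_of_mem {x : M} (hx : (x : G) ∈ Cfsg.sigmaCore M) :
    Cfsg.indFun ((Cfsg.sigmaCore M).subgroupOf M) (fun _ => (1 : ℂ)) x = (Nat.card K : ℂ) := by
  classical
  have := P.normal_core
  rw [indFun_def, Finset.sum_congr rfl fun g _ => extendByZero_of_mem _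
    (show g⁻¹ * x * g ∈ (Cfsg.sigmaCore M).subgroupOf M by simpa using this.conj_mem x hx g⁻¹),
    Finset.sum_const, Finset.card_univ, nsmul_one, ← Nat.card_eq_fintype_card,
    ← ((Cfsg.sigmaCore M).subgroupOf M).card_mul_index, P.index_core, Nat.cast_mul, ← mul_assoc,
    inv_mul_cancel₀ (by exact_mod_cast Nat.card_pos.ne'), one_mul]

/-- Inner products with the character induced from the principal one. -/
theorem inner_ind_one [Fintype ↥((Cfsg.sigmaCore M).subgroupOf M)] {θ : ↥((Cfsg.sigmaCore M).subgroupOf M) → ℂ}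
    (hθ : Cfsg.IsIrrCharacter _ θ) (hne : θ ≠ fun _ => 1) :
    Cfsg.classInner (Cfsg.indFun ((Cfsg.sigmaCore M).subgroupOf M) (fun _ => (1 : ℂ)))
      (Cfsg.indFun ((Cfsg.sigmaCore M).subgroupOf M) θ) = 0 := by
  classical
  have := P.normal_core
  rw [classInner_indFun_indFun isIrrCharacter_one hθ, if_neg]
  intro hm
  obtain ⟨g, hg⟩ := mem_conjOrbit.1 hm
  refine hne ?_
  rw [← conjOn_one (N := (Cfsg.sigmaCore M).subgroupOf M) θ, ← mul_inv_cancel g, ← conjOn_conjOn, ← hg]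
  rfl

theorem inner_ind_one_mem {φ : M → ℂ} (hφ : φ ∈ tenS M) :
    Cfsg.classInner (Cfsg.indFun ((Cfsg.sigmaCore M).subgroupOf M) (fun _ => (1 : ℂ))) φ = 0 := by
  classical
  have := Fintype.ofFinite ↥((Cfsg.sigmaCore M).subgroupOf M)
  obtain ⟨θ, h1, h2, -, rfl⟩ := hφ
  exact P.inner_ind_one h1 h2

theorem norm_ind_one :
    Cfsg.classInner (Cfsg.indFun ((Cfsg.sigmaCore M).subgroupOf M) (fun _ => (1 : ℂ)))
      (Cfsg.indFun ((Cfsg.sigmaCore M).subgroupOf M) (fun _ => (1 : ℂ))) = (Nat.card K : ℂ) := by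
  classical
  have := Fintype.ofFinite ↥((Cfsg.sigmaCore M).subgroupOf M)
  rw [classInner_indFun _ (isClassFunction_indFun _ _), classInner_def,
    Finset.sum_congr rfl fun h _ => by rw [P.ind_one_of_mem h.2], Finset.sum_const, Finset.card_univ,
    nsmul_eq_mul, one_mul, map_natCast, ← Nat.card_eq_fintype_card, ← mul_assoc,
    inv_mul_cancel₀ (by exact_mod_cast Nat.card_pos.ne'), one_mul]

theorem inner_ind_one_one :
    Cfsg.classInner (Cfsg.indFun ((Cfsg.sigmaCore M).subgroupOf M) (fun _ => (1 : ℂ))) (fun _ : M => 1) = 1 := by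
  classical
  have := Fintype.ofFinite ↥((Cfsg.sigmaCore M).subgroupOf M)
  rw [classInner_indFun _ (fun _ _ => rfl)]
  exact classInner_one_one

/-- A nontrivial column is a member of `S`. -/
theorem col_mem [Fintype (Row K Ks)] (hμ : IsMuG M (Cfsg.sigmaCore M) K Ks μ δ) {l : Col K Ks} (hl : l ≠ col₀) :
    (∑ r : Row K Ks, μ (cell r l)) ∈ tenS M := by
  classical
  have := Fintype.ofFinite ↥((Cfsg.sigmaCore M).subgroupOf M)
  set H := (Cfsg.sigmaCore M).subgroupOf M
  have := P.normal_core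
  set ξ := μ (cell row₀ l) with hξ
  have hres : Cfsg.IsCharacter H (fun h : H => ξ h) := IsCharacter.restrict (IsIrrCharacter.isCharacter (hμ.irr _)) H
  obtain ⟨θ, hθ, hne⟩ : ∃ θ, Cfsg.IsIrrCharacter H θ ∧ Cfsg.classInner (fun h : H => ξ h) θ ≠ 0 := by
    by_contra hh
    push Not at hh
    have h0 := eq_sum_irr (IsCharacter.isClassFunction hres)
    have h1 := congrFun h0 1
    rw [Finset.sum_eq_zero fun φ hφ => by rw [hh φ (mem_irrFinset.1 hφ), zero_smul]] at h1
    exact IsIrrCharacter.apply_one_ne_zero (hμ.irr (cell row₀ l)) h1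
  have hinner : Cfsg.classInner ξ (Cfsg.indFun H θ) ≠ 0 := by
    rwa [classInner_indFun_right (IsIrrCharacter.isClassFunction (hμ.irr _))]
  rcases P.primeDade_M.ind_cases hμ hθ with hirr | ⟨l₁, hsum, hr⟩
  · exfalso
    have e : ξ = Cfsg.indFun H θ := by
      by_contra hh
      exact hinner (IsIrrCharacter.classInner_of_ne (hμ.irr _) hirr hh)
    obtain ⟨c, hc, hc1⟩ := (Subgroup.bot_or_exists_ne_one K).resolve_left P.hK1
    have hcW : c ∈ K ⊔ Ks := Subgroup.mem_sup_left hc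
    have hcs : c ∉ Cfsg.sigmaCore M := fun hm => hc1 (by
      have h' : (⟨c, P.hKU.hall.1 hc⟩ : M) ∈ H ⊓ K.subgroupOf M := ⟨hm, hc⟩
      rw [P.primeDade_M.action.inf_eq, Subgroup.mem_bot] at h'
      exact congrArg Subtype.val h')
    have h0 := hμ.value (cell row₀ l) ⟨c, P.hKU.hall.1 hc⟩ hcW fun hm => hcs (P.Ks_le hm)
    rw [← hξ, e, indFun_eq_zero_of_normal (G := M) θ (show (⟨c, P.hKU.hall.1 hc⟩ : M) ∉ H from hcs)] at h0
    exact mul_ne_zero (by rcases hμ.sign (cell row₀ l) with e | e <;> rw [e] <;> norm_num) (Units.ne_zero _) h0.symm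
  · have hl1 : l₁ = l := by
      by_contra hh
      refine hinner ?_
      rw [hsum, classInner_sum_right]
      exact Finset.sum_eq_zero fun r _ => IsIrrCharacter.classInner_of_ne (hμ.irr _) (hμ.irr _) fun e =>
        hh (cell_injective (hμ.inj e)).2.symm
    subst hl1
    refine ⟨θ, hθ, fun e => ?_, fun a ha => ?_, hsum.symm⟩
    · have h0 := P.inner_ind_one_one
      rw [← e, hsum, classInner_sum_left, Finset.sum_eq_zero] at h0
      · exact zero_ne_one h0
      intro r _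
      refine IsIrrCharacter.classInner_of_ne (hμ.irr _) isIrrCharacter_one fun e' => hl ?_
      rw [← hμ.one.1] at e'
      have e2 := hμ.inj e'
      rw [show (1 : ↥(K ⊔ Ks) →* ℂˣ) = cell row₀ col₀ from (hom_one_mul' _).symm] at e2
      exact (cell_injective e2).2
    · rw [show a = 1 from Subtype.ext (Subgroup.mem_bot.1 ha)]

/-- `S` contains an irreducible character of degree `|K|`, induced from a linear one. -/
theorem exists_zeta : ∃ ζ : M → ℂ, ζ ∈ tenS M ∧ Cfsg.IsIrrCharacter M ζ ∧ ζ 1 = (Nat.card K : ℂ) ∧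
    ∀ x : M, (x : G) ∈ ⁅⁅M, M⁆, ⁅M, M⁆⁆ → ζ x = (Nat.card K : ℂ) := by
  classical
  obtain ⟨μ, δ, hμ⟩ := P.primeDade_M.exists_isMuG
  have := Fintype.ofFinite (Row K Ks)
  set H := (Cfsg.sigmaCore M).subgroupOf M with hH
  have := Fintype.ofFinite H
  have := P.normal_core
  have hle : Cfsg.sigmaCore M ≤ M := Subgroup.map_subtype_le _
  have hne : Cfsg.sigmaCore M ≠ ⊥ := fun e => P.Ks_ne (le_bot_iff.1 (e ▸ P.Ks_le))
  have hproper : H ≠ ⊤ := fun e => P.hK1 (by
    rw [eq_bot_iff]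
    intro c hc
    have h' : (⟨c, P.hKU.hall.1 hc⟩ : M) ∈ H ⊓ K.subgroupOf M := ⟨e ▸ Subgroup.mem_top _, hc⟩
    rw [P.primeDade_M.action.inf_eq, Subgroup.mem_bot] at h'
    exact Subgroup.mem_bot.2 (congrArg Subtype.val h'))
  haveI hsol : Group.IsSolvable H := by
    have := P.hG.2.2.2 M P.hM.1
    exact inferInstance
  haveI : Nontrivial H := by
    rw [Subgroup.nontrivial_iff_ne_bot]
    intro e
    exact hne (by rw [← Subgroup.map_subgroupOf_eq_of_le hle, ← hH, e, Subgroup.map_bot])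
  obtain ⟨g, hg⟩ : ∃ g : H, g ∉ commutator H := by
    by_contra h
    push Not at h
    exact (Group.IsSolvable.commutator_lt_top_of_nontrivial H).ne (eq_top_iff.2 fun g _ => h g)
  obtain ⟨lam, hlam⟩ := exists_hom_ne_one hg
  set θ : H → ℂ := fun h => (lam h : ℂ) with hθ
  have hθirr : Cfsg.IsIrrCharacter H θ := isIrrCharacter_ofHom lam
  have hθne : θ ≠ fun _ => 1 := fun e => hlam (Units.ext (congrFun e g))
  have hidx : H.index = Nat.card K := P.index_core
  have hdeg : Cfsg.indFun H θ 1 = (Nat.card K : ℂ) := by rw [indFun_one, hidx]; simp [hθ]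
  have hD : ∀ h : H, ((h : M) : G) ∈ ⁅⁅M, M⁆, ⁅M, M⁆⁆ → lam h = 1 := by
    intro h hh
    rw [P.derived_M] at hh
    refine (show commutator H ≤ lam.ker from Abelianization.commutator_subset_ker lam) ?_
    have hmap : (commutator H).map (M.subtype.comp H.subtype) = ⁅Cfsg.sigmaCore M, Cfsg.sigmaCore M⁆ := by
      rw [commutator_def, Subgroup.map_commutator, ← MonoidHom.range_eq_map, MonoidHom.range_comp,
        Subgroup.range_subtype, hH, Subgroup.map_subgroupOf_eq_of_le hle]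
    rw [← hmap] at hh
    obtain ⟨b, hb, e⟩ := hh
    rwa [show h = b from Subtype.ext (Subtype.ext e.symm)]
  refine ⟨Cfsg.indFun H θ, ⟨θ, hθirr, hθne, fun a ha => by
    rw [show a = 1 from Subtype.ext (Subgroup.mem_bot.1 ha)], rfl⟩, ?_, hdeg, fun x hx => ?_⟩
  · rcases P.primeDade_M.ind_cases hμ hθirr with h | ⟨l, hl, hres⟩
    · exact h
    exfalso
    have h1 : μ (cell row₀ l) 1 = 1 := by
      have := hres row₀ 1
      simpa [hθ] using this
    obtain ⟨f, hf⟩ := IsCharacter.exists_hom (IsIrrCharacter.isCharacter (hμ.irr _)) h1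
    have hl0 : l = col₀ := by
      refine Subtype.ext (hom_ext_sup (fun w hw => by rw [l.2 w hw]; rfl) fun w hw => ?_)
      refine Units.ext ?_
      obtain ⟨c, hc, hc1⟩ := (Subgroup.bot_or_exists_ne_one K).resolve_left P.hK1
      have hwS : ((w : G)) ∈ ⁅⁅M, M⁆, ⁅M, M⁆⁆ :=
        (P.hKs.trans_le (Cfsg.Agent.S1365.result P.hG M P.hM K ⊥ P.hKU P.hK1).2) hw
      have hwH : (⟨(w : G), P.le_M w.2⟩ : M) ∈ H := P.Ks_le hw
      have hw1 : f ⟨(w : G), P.le_M w.2⟩ = 1 := Units.ext (by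
        have := hres row₀ ⟨_, hwH⟩
        rw [hθ] at this
        simp only at this
        rw [hD ⟨_, hwH⟩ hwS] at this
        rw [← this, hf]
      )
      have hv : ∀ (x : M) (hx : (x : G) ∈ K ⊔ Ks), (x : G) ∉ Ks →
          (f x : ℂ) = δ (cell row₀ l) * ((cell row₀ l) ⟨x, hx⟩ : ℂ) := fun x hx hx2 => by
        rw [← hμ.value _ x hx hx2, hf]
      have hcs : c ∉ Ks := fun hm => hc1 (by
        have h' : c ∈ K ⊓ Ks := ⟨hc, hm⟩
        rwa [P.W_M.2.2.1, Subgroup.mem_bot] at h')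
      have hcw : c * (w : G) ∉ Ks := fun hm => hcs (by simpa using Ks.mul_mem hm (Ks.inv_mem hw))
      have e1 := hv ⟨c, P.hKU.hall.1 hc⟩ (Subgroup.mem_sup_left hc) hcs
      have e2 := hv (⟨c, P.hKU.hall.1 hc⟩ * ⟨(w : G), P.le_M w.2⟩)
        (Subgroup.mul_mem _ (Subgroup.mem_sup_left hc) w.2) hcw
      rw [map_mul, hw1, mul_one, e1] at e2
      have hδ : δ (cell row₀ l) ≠ 0 := by rcases hμ.sign (cell row₀ l) with e | e <;> rw [e] <;> norm_num
      have e3 := mul_left_cancel₀ hδ e2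
      change ((cell row₀ l) ⟨c, Subgroup.mem_sup_left hc⟩ : ℂ) =
        ((cell row₀ l) (⟨c, Subgroup.mem_sup_left hc⟩ * w) : ℂ) at e3
      rw [map_mul, Units.val_mul, cell_row₀] at e3
      have := (mul_eq_left₀ (Units.ne_zero (l.1 ⟨c, Subgroup.mem_sup_left hc⟩))).1 e3.symm
      simpa [col₀] using this
    subst hl0
    refine hθne (funext fun k => ?_)
    rw [← hres row₀ k, cell_col₀]
    exact congrFun hμ.one.1 _
  · have hxH : x ∈ H := by
      show (x : G) ∈ Cfsg.sigmaCore M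
      rw [← P.derived_M]
      exact Subgroup.commutator_le_self _ hx
    rw [indFun_def, Finset.sum_congr rfl fun y _ => extendByZero_of_mem _
      (show y⁻¹ * x * y ∈ H by simpa using (P.normal_core).conj_mem x hxH y⁻¹)]
    rw [Finset.sum_congr rfl fun y _ => show θ _ = 1 by
      rw [hθ]
      simp only
      rw [hD _ ?_, Units.val_one]
      have hn : (⁅⁅M, M⁆, ⁅M, M⁆⁆ : Subgroup G).map (MulAut.conj ((y : G)⁻¹)).toMonoidHom = ⁅⁅M, M⁆, ⁅M, M⁆⁆ := by
        simp only [Subgroup.map_commutator]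
        rw [show M.map (MulAut.conj ((y : G)⁻¹)).toMonoidHom = M from
          Subgroup.ext fun g => ⟨fun ⟨a, ha, e⟩ => e ▸ M.mul_mem (M.mul_mem (M.inv_mem y.2) ha) (M.inv_mem (M.inv_mem y.2)),
            fun hg => ⟨(y : G) * g * (y : G)⁻¹, M.mul_mem (M.mul_mem y.2 hg) (M.inv_mem y.2), by simp [mul_assoc]⟩⟩]
      rw [← hn]
      exact ⟨_, hx, by simp [mul_assoc]⟩]
    rw [Finset.sum_const, Finset.card_univ, nsmul_one, ← Nat.card_eq_fintype_card,
      ← H.card_mul_index, hidx, Nat.cast_mul, ← mul_assoc,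
      inv_mul_cancel₀ (by exact_mod_cast Nat.card_pos.ne'), one_mul]

omit [Fintype M] in
/-- The Dade map on `A(M)` vanishes at the mixed elements. -/
theorem tau_mixed {f : M → ℂ} {w : ↥(K ⊔ Ks)} (h1 : (w : G) ∉ K) (h2 : (w : G) ∉ Ks) :
    tenTau M f w = 0 := by
  refine dadeIsometry_eq_zero P.dade_A ?_
  rintro ⟨a, ha, u, hu, x, hx⟩
  obtain ⟨l, hl, e⟩ := dade_conj_in_L P.dade_M (typeA_sub ha) (P.mixed_M w.2 h1 h2).1 hu
    (Subgroup.one_mem (Cfsg.supportR M (w : G))) (g := x⁻¹) (by rw [← hx]; group)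
  have hwK : (w : G) ∈ Cfsg.sigmaCore M := by
    rw [← e]
    exact (Subgroup.mem_normalizer_iff.1
      (CfsgLib.OddLocal.TH.le_normalizer_core M hl) a).1 (P.typeA_M.le ha).1
  exact h2 (mem_right_of_mem_kernel P.primeDade_M.action (w := (⟨(w : G), P.le_M w.2⟩ : M))
    ((P.primeDade_M.mem_sup_iff _).2 w.2) hwK)

theorem alpha_gen {ζ : M → ℂ} (hζ : ζ ∈ tenS M) : Cfsg.IsGeneralizedCharacter M (tenAlpha M ζ) :=
  IsGeneralized.sub (IsGeneralized.indFun (IsIrrCharacter.isGeneralized isIrrCharacter_one))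
    (IsCharacter.isGeneralized (tenS_char hζ))

theorem alpha_supp {ζ : M → ℂ} (hζ : ζ ∈ tenS M) (hd : ζ 1 = (Nat.card K : ℂ)) {x : M}
    (hx : (x : G) ∉ Cfsg.typeA M) : tenAlpha M ζ x = 0 := by
  rw [tenAlpha, Pi.sub_apply]
  by_cases hxK : (x : G) ∈ Cfsg.sigmaCore M
  · rw [show x = 1 from Subtype.ext (by_contra fun e => hx (P.mem_A hxK e)), hd,
      P.ind_one_of_mem (by simp), sub_self]
  · have := P.normal_core
    rw [indFun_eq_zero_of_normal _ (show x ∉ (Cfsg.sigmaCore M).subgroupOf M from hxK), P.tenS_off hζ hxK,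
      sub_self]

theorem alpha_inner {ζ φ : M → ℂ} (hφ : φ ∈ tenS M) :
    Cfsg.classInner (tenAlpha M ζ) φ = -Cfsg.classInner ζ φ := by
  rw [tenAlpha, classInner_sub_left, P.inner_ind_one_mem hφ, zero_sub]

/-- The image of `1^M - ζ`. -/
theorem tau_alpha_props {ζ : M → ℂ} (hζ : ζ ∈ tenS M) (hirr : Cfsg.IsIrrCharacter M ζ)
    (hd : ζ 1 = (Nat.card K : ℂ)) :
    Cfsg.IsGeneralizedCharacter G (tenTau M (tenAlpha M ζ)) ∧
      Cfsg.classInner (tenTau M (tenAlpha M ζ)) (tenTau M (tenAlpha M ζ)) = (((Nat.card K : ℤ) + 1 : ℤ) : ℂ) ∧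
      Cfsg.classInner (tenTau M (tenAlpha M ζ)) (fun _ : G => 1) = 1 := by
  have hg := P.alpha_gen hζ
  have hA : ∀ x : M, (x : G) ∉ Cfsg.typeA M → tenAlpha M ζ x = 0 := fun x hx => P.alpha_supp hζ hd hx
  have hcl := IsGeneralized.isClassFunction hg
  refine ⟨isGeneralized_dadeIsometry P.dade_A hg hA, ?_, ?_⟩
  · rw [tenTau, classInner_dadeIsometry_dadeIsometry P.dade_A hcl hA hcl]
    conv_lhs => arg 2; rw [tenAlpha]
    rw [classInner_sub_right, P.alpha_inner hζ, IsIrrCharacter.classInner_self hirr, tenAlpha,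
      classInner_sub_left, P.norm_ind_one, ← classInner_conj ((Cfsg.indFun _ fun _ => 1)) ζ,
      P.inner_ind_one_mem hζ, map_zero]
    push_cast
    ring
  · rw [tenTau, classInner_dadeIsometry P.dade_A hcl hA (fun _ _ => rfl) (ψ := fun _ => 1) fun a ha => ?_,
      tenAlpha, classInner_sub_left, P.inner_ind_one_one, IsIrrCharacter.classInner_of_ne hirr
        isIrrCharacter_one (fun e => ?_), sub_zero]
    · have h := P.tenS_conj_ne hζ
      rw [e] at h
      exact h (funext fun _ => map_one _)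
    · rw [finsum_mem_eq_finite_toFinset_sum _ (Set.toFinite _), Finset.sum_const, nsmul_eq_mul, mul_one,
        ← Set.ncard_eq_toFinset_card, ← Nat.card_coe_set_eq]
      exact (inv_mul_cancel₀ (by exact_mod_cast (Nat.card_pos (α := ↥(Cfsg.supportR M (a : G)))).ne')).symm

end TenPair

end CfsgLib.OddEnd
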