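import Mathlib.Algebra.BigOperators.Fin
import Mathlib.Algebra.Order.BigOperators.Ring.Finset
import Mathlib.Algebra.Order.BigOperators.Group.Finset
import Mathlib.Tactic.Linarith
import Mathlib.Tactic.Ring

/-!
# Additive integer arrays with few entries

Coefficient arrays over the grid of a cyclic TI-subgroup, as used in Peterfalvi §10.
-/

set_option autoImplicit false

namespace CfsgLib.OddEnd

open Finset

variable {R C : Type*} [Fintype R] [Fintype C]

theorem one_le_mul_self {x : ℤ} (h : x ≠ 0) : 1 ≤ x * x := by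
  rcases lt_or_gt_of_ne h with h' | h' <;> nlinarith

/-- A finite sum of squares dominates the number of nonzero terms. -/
theorem card_le_sum_mul_self {A : Type*} (s : Finset A) (f : A → ℤ) (h : ∀ a ∈ s, f a ≠ 0) :
    (s.card : ℤ) ≤ ∑ a ∈ s, f a * f a := by
  calc (s.card : ℤ) = ∑ _a ∈ s, (1 : ℤ) := by simp
    _ ≤ _ := Finset.sum_le_sum fun a ha => one_le_mul_self (h a ha)

theorem sum_mul_self_mono {A : Type*} [Fintype A] (s : Finset A) (f : A → ℤ) :
    ∑ a ∈ s, f a * f a ≤ ∑ a, f a * f a :=
  Finset.sum_le_sum_of_subset_of_nonneg (Finset.subset_univ s) fun a _ _ => mul_self_nonneg _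

/-- An additive array of norm at most the number of rows is constant along rows or along columns. -/
theorem additive_col_or_row [DecidableEq R] [DecidableEq C] (r₀ : R) (c₀ : C) (t : R → ℤ) (u : C → ℤ)
    (ht : t r₀ = 0) (hu : u c₀ = 0) (hC : 3 ≤ Fintype.card C)
    (h : ∑ l, ∑ r, (t r + u l) * (t r + u l) ≤ (Fintype.card R : ℤ)) :
    (∀ r, t r = 0) ∨ ∀ l, u l = 0 := by
  by_contra hne
  simp only [not_or, not_forall] at hne
  obtain ⟨⟨r₁, hr₁⟩, l₁, hl₁⟩ := hne
  set N := univ.filter fun r => t r ≠ 0
  set Z := univ.filter fun r => ¬ t r ≠ 0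
  have hNZ : N.card + Z.card = Fintype.card R := Finset.card_filter_add_card_filter_not _
  have hr₀Z : 1 ≤ Z.card := Finset.card_pos.2 ⟨r₀, by simp [Z, ht]⟩
  have hN : 1 ≤ N.card := Finset.card_pos.2 ⟨r₁, by simp [N, hr₁]⟩
  -- columns where `u` vanishes contain `N`, the others contain `Z`
  have h0 : ∀ l, u l = 0 → (N.card : ℤ) ≤ ∑ r, (t r + u l) * (t r + u l) := fun l hl =>
    (card_le_sum_mul_self N (fun r => t r + u l) fun r hr => by
      simpa [hl] using (Finset.mem_filter.1 hr).2).trans (sum_mul_self_mono N _)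
  have h1 : ∀ l, u l ≠ 0 → (Z.card : ℤ) ≤ ∑ r, (t r + u l) * (t r + u l) := fun l hl =>
    (card_le_sum_mul_self Z (fun r => t r + u l) fun r hr => by
      have : t r = 0 := not_not.1 (Finset.mem_filter.1 hr).2
      simpa [this] using hl).trans (sum_mul_self_mono Z _)
  have hc0 : c₀ ≠ l₁ := fun e => hl₁ (e ▸ hu)
  obtain ⟨l₂, hl₂, hl₂'⟩ : ∃ l₂, l₂ ≠ c₀ ∧ l₂ ≠ l₁ := by
    by_contra hh
    simp only [not_exists, not_and, not_not] at hh
    have : (univ : Finset C) ⊆ {c₀, l₁} := fun l _ => by
      by_cases e : l = c₀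
      · simp [e]
      · simp [hh l e]
    have := Finset.card_le_card this
    rw [Finset.card_univ, Finset.card_pair hc0] at this
    omega
  have hsum : (∑ r, (t r + u c₀) * (t r + u c₀)) + (∑ r, (t r + u l₁) * (t r + u l₁)) +
      (∑ r, (t r + u l₂) * (t r + u l₂)) ≤ (Fintype.card R : ℤ) := by
    refine le_trans ?_ h
    have e : ∑ l ∈ ({c₀, l₁, l₂} : Finset C), ∑ r, (t r + u l) * (t r + u l) ≤
        ∑ l, ∑ r, (t r + u l) * (t r + u l) :=
      Finset.sum_le_sum_of_subset_of_nonneg (Finset.subset_univ _)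
        fun l _ _ => Finset.sum_nonneg fun r _ => mul_self_nonneg _
    rw [Finset.sum_insert (by simp [hc0, hl₂.symm]), Finset.sum_insert (by simp [hl₂'.symm]),
      Finset.sum_singleton] at e
    linarith
  have a := h0 c₀ hu
  have b := h1 l₁ hl₁
  have c : 1 ≤ ∑ r, (t r + u l₂) * (t r + u l₂) := by
    by_cases e : u l₂ = 0
    · exact le_trans (by exact_mod_cast hN) (h0 l₂ e)
    · exact le_trans (by exact_mod_cast hr₀Z) (h1 l₂ e)
  have : (N.card : ℤ) + Z.card = Fintype.card R := by exact_mod_cast hNZ
  linarith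

/-- An additive array plus a signed pair in one row, of norm at most `2`, is that pair. -/
theorem pair_rigid [DecidableEq R] [DecidableEq C] (r₀ : R) (c₀ : C) (t : R → ℤ) (u : C → ℤ)
    (ht : t r₀ = 0) (hu : u c₀ = 0) (hR : 3 ≤ Fintype.card R) (i : R) (j k : C) (hjk : j ≠ k)
    (hj : j ≠ c₀) (hk : k ≠ c₀) (d : ℤ) (hd : d = 1 ∨ d = -1)
    (h : ∑ l, ∑ r, (t r + u l + if r = i then (if l = j then d else if l = k then -d else 0) else 0) *
        (t r + u l + if r = i then (if l = j then d else if l = k then -d else 0) else 0) ≤ 2) :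
    (∀ r, t r = 0) ∧ ∀ l, u l = 0 := by
  set x : C → R → ℤ := fun l r =>
    t r + u l + if r = i then (if l = j then d else if l = k then -d else 0) else 0 with hx
  change ∑ l, ∑ r, x l r * x l r ≤ 2 at h
  set S : C → ℤ := fun l => ∑ r, x l r * x l r with hS
  have hd0 : d ≠ 0 := by omega
  have hnn : ∀ l, 0 ≤ S l := fun l => Finset.sum_nonneg fun r _ => mul_self_nonneg _
  have hone : ∀ l r, x l r ≠ 0 → 1 ≤ S l := fun l r hr =>
    (one_le_mul_self hr).trans
      (Finset.single_le_sum (f := fun r => x l r * x l r) (fun r _ => mul_self_nonneg _) (Finset.mem_univ r))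
  have hne1 : ∀ r, r ≠ i → ∀ l, x l r = t r + u l := fun r hr l => by simp [hx, hr]
  have hxj : x j i = t i + u j + d := by simp [hx]
  have hxk : x k i = t i + u k - d := by simp [hx, hjk.symm, sub_eq_add_neg]
  -- a column in which every row off `i` is the same nonzero number weighs at least `2`
  have htwo : ∀ l, u l ≠ 0 → (∀ r, r ≠ i → t r = 0) → 2 ≤ S l := fun l hl h0 => by
    have := (card_le_sum_mul_self (univ.erase i) (fun r => x l r) fun r hr => by
      rw [hne1 r (Finset.ne_of_mem_erase hr), h0 r (Finset.ne_of_mem_erase hr), zero_add]; exact hl).trans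
      (sum_mul_self_mono _ _)
    rw [Finset.card_erase_of_mem (Finset.mem_univ i), Finset.card_univ] at this
    have : (2 : ℤ) ≤ ((Fintype.card R - 1 : ℕ) : ℤ) := by exact_mod_cast (by omega : 2 ≤ Fintype.card R - 1)
    linarith
  have hthree : S c₀ + S j + S k ≤ 2 := by
    refine le_trans ?_ h
    have e : ∑ l ∈ ({c₀, j, k} : Finset C), S l ≤ ∑ l, S l :=
      Finset.sum_le_sum_of_subset_of_nonneg (Finset.subset_univ _) fun l _ _ => hnn l
    rw [Finset.sum_insert (by simp [hj.symm, hk.symm]), Finset.sum_insert (by simp [hjk]),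
      Finset.sum_singleton] at e
    linarith
  by_cases htz : ∀ r, t r = 0
  · refine ⟨htz, fun l => ?_⟩
    by_contra hl
    have hlz : ∀ r, r ≠ i → t r = 0 := fun r _ => htz r
    have hl0 : l ≠ c₀ := fun e => hl (e ▸ hu)
    have h2 := htwo l hl hlz
    have hSj : 1 ≤ S j := by
      by_cases e : u j = 0
      · exact hone j i (by rw [hxj, htz i, e]; simpa using hd0)
      · linarith [htwo j e hlz]
    have hSk : 1 ≤ S k := by
      by_cases e : u k = 0
      · exact hone k i (by rw [hxk, htz i, e]; simpa using hd0)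
      · linarith [htwo k e hlz]
    by_cases e1 : l = j
    · subst e1; linarith [hnn c₀]
    by_cases e2 : l = k
    · subst e2; linarith [hnn c₀]
    have e : ∑ m ∈ ({l, j, k} : Finset C), S m ≤ ∑ m, S m :=
      Finset.sum_le_sum_of_subset_of_nonneg (Finset.subset_univ _) fun l _ _ => hnn l
    rw [Finset.sum_insert (by simp [e1, e2]), Finset.sum_insert (by simp [hjk]), Finset.sum_singleton] at e
    linarith
  · exfalso
    push Not at htz
    obtain ⟨r₁, hr₁⟩ := htz
    have hc : 1 ≤ S c₀ := hone c₀ r₁ (by simp [hx, hu, hr₁, hj.symm, hk.symm])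
    -- one of the columns `j`, `k` is zero
    have hcase : S j = 0 ∨ S k = 0 := by
      by_contra hh; rw [not_or] at hh
      have := lt_of_le_of_ne (hnn j) (Ne.symm hh.1)
      have := lt_of_le_of_ne (hnn k) (Ne.symm hh.2)
      omega
    have hi0 : r₀ ≠ i := by
      intro e
      rcases hcase with hz | hz
      · have hall : ∀ r, x j r = 0 := fun r => by
          by_contra hh; linarith [hone j r hh]
        have h1 := hall i
        rw [hxj, ← e, ht] at h1
        have h2 : ∀ r, r ≠ i → t r = -u j := fun r hr => by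
          have := hall r; rw [hne1 r hr] at this; linarith
        have hcard := (card_le_sum_mul_self (univ.erase i) (fun r => x c₀ r) fun r hr => by
          rw [hne1 r (Finset.ne_of_mem_erase hr), h2 r (Finset.ne_of_mem_erase hr), hu]; omega).trans
          (sum_mul_self_mono _ _)
        rw [Finset.card_erase_of_mem (Finset.mem_univ i), Finset.card_univ] at hcard
        have : (2 : ℤ) ≤ ((Fintype.card R - 1 : ℕ) : ℤ) := by exact_mod_cast (by omega : 2 ≤ Fintype.card R - 1)
        have hk1 : 1 ≤ S k := by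
          by_contra hh
          have hkz : ∀ r, x k r = 0 := fun r => by by_contra h'; exact hh (hone k r h')
          have h3 := hkz i
          rw [hxk, ← e, ht] at h3
          obtain ⟨r₂, hr₂⟩ : ∃ r₂, r₂ ≠ i := Fintype.exists_ne_of_one_lt_card (by omega) i
          have h4 := hkz r₂
          rw [hne1 r₂ hr₂, h2 r₂ hr₂] at h4
          omega
        have : S c₀ = ∑ r, x c₀ r * x c₀ r := rfl
        linarith [hnn j]
      · have hall : ∀ r, x k r = 0 := fun r => by
          by_contra hh; linarith [hone k r hh]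
        have h1 := hall i
        rw [hxk, ← e, ht] at h1
        have h2 : ∀ r, r ≠ i → t r = -u k := fun r hr => by
          have := hall r; rw [hne1 r hr] at this; linarith
        have hcard := (card_le_sum_mul_self (univ.erase i) (fun r => x c₀ r) fun r hr => by
          rw [hne1 r (Finset.ne_of_mem_erase hr), h2 r (Finset.ne_of_mem_erase hr), hu]; omega).trans
          (sum_mul_self_mono _ _)
        rw [Finset.card_erase_of_mem (Finset.mem_univ i), Finset.card_univ] at hcard
        have : (2 : ℤ) ≤ ((Fintype.card R - 1 : ℕ) : ℤ) := by exact_mod_cast (by omega : 2 ≤ Fintype.card R - 1)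
        have hk1 : 1 ≤ S j := by
          by_contra hh
          have hkz : ∀ r, x j r = 0 := fun r => by by_contra h'; exact hh (hone j r h')
          have h3 := hkz i
          rw [hxj, ← e, ht] at h3
          obtain ⟨r₂, hr₂⟩ : ∃ r₂, r₂ ≠ i := Fintype.exists_ne_of_one_lt_card (by omega) i
          have h4 := hkz r₂
          rw [hne1 r₂ hr₂, h2 r₂ hr₂] at h4
          omega
        have : S c₀ = ∑ r, x c₀ r * x c₀ r := rfl
        linarith [hnn k]
    rcases hcase with hz | hz
    · have hall : ∀ r, x j r = 0 := fun r => by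
        by_contra hh; linarith [hone j r hh]
      have huj : u j = 0 := by have := hall r₀; rw [hne1 r₀ hi0, ht] at this; linarith
      have h0 : ∀ r, r ≠ i → t r = 0 := fun r hr => by
        have := hall r; rw [hne1 r hr, huj] at this; linarith
      have hti := hall i
      rw [hxj, huj] at hti
      by_cases e : u k = 0
      · have h4 : x k i * x k i ≤ S k :=
          Finset.single_le_sum (f := fun r => x k r * x k r) (fun r _ => mul_self_nonneg _) (Finset.mem_univ i)
        rw [hxk, e, show t i = -d by linarith] at h4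
        rcases hd with rfl | rfl <;> norm_num at h4 <;> linarith [hnn j]
      · linarith [htwo k e h0, hnn j]
    · have hall : ∀ r, x k r = 0 := fun r => by
        by_contra hh; linarith [hone k r hh]
      have huk : u k = 0 := by have := hall r₀; rw [hne1 r₀ hi0, ht] at this; linarith
      have h0 : ∀ r, r ≠ i → t r = 0 := fun r hr => by
        have := hall r; rw [hne1 r hr, huk] at this; linarith
      have hti := hall i
      rw [hxk, huk] at hti
      by_cases e : u j = 0
      · have h4 : x j i * x j i ≤ S j :=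
          Finset.single_le_sum (f := fun r => x j r * x j r) (fun r _ => mul_self_nonneg _) (Finset.mem_univ i)
        rw [hxj, e, show t i = d by linarith] at h4
        rcases hd with rfl | rfl <;> norm_num at h4 <;> linarith [hnn k]
      · linarith [htwo j e h0, hnn k]

/-- Two rows of an additive array differing by `±1` leave no room for a doubled column sum. -/
theorem two_rows_absurd [DecidableEq R] (c₀ : C) (t : R → ℤ) (u : C → ℤ) (hu : u c₀ = 0) (i i' : R)
    (hii : t i ≠ t i') (h : ∑ l, ∑ r, (t r + u l) * (t r + u l) + 2 * ((∑ r, t r) * ∑ r, t r) ≤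
      (Fintype.card C : ℤ)) : False := by
  classical
  have hcol : ∀ l, 1 ≤ ∑ r, (t r + u l) * (t r + u l) := fun l => by
    obtain ⟨r, hr⟩ : ∃ r, t r + u l ≠ 0 := by
      by_contra hh; push Not at hh
      exact hii (by linarith [hh i, hh i'])
    exact (one_le_mul_self hr).trans
      (Finset.single_le_sum (f := fun r => (t r + u l) * (t r + u l)) (fun r _ => mul_self_nonneg _)
        (Finset.mem_univ r))
  have hge : (Fintype.card C : ℤ) ≤ ∑ l, ∑ r, (t r + u l) * (t r + u l) := by
    calc (Fintype.card C : ℤ) = ∑ _l : C, (1 : ℤ) := by simp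
      _ ≤ _ := Finset.sum_le_sum fun l _ => hcol l
  have hX : ∑ r, t r = 0 := by
    have : (∑ r, t r) * ∑ r, t r ≤ 0 := by linarith
    exact mul_self_eq_zero.1 (le_antisymm this (mul_self_nonneg _))
  have hc0 : ∑ r, (t r + u c₀) * (t r + u c₀) = 1 := by
    refine le_antisymm ?_ (hcol c₀)
    have e := Finset.add_sum_erase univ (fun l => ∑ r, (t r + u l) * (t r + u l)) (Finset.mem_univ c₀)
    have e' : ((univ.erase c₀).card : ℤ) ≤ ∑ l ∈ univ.erase c₀, ∑ r, (t r + u l) * (t r + u l) := by
      calc ((univ.erase c₀).card : ℤ) = ∑ _l ∈ univ.erase c₀, (1 : ℤ) := by simp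
        _ ≤ _ := Finset.sum_le_sum fun l _ => hcol l
    rw [Finset.card_erase_of_mem (Finset.mem_univ c₀), Finset.card_univ] at e'
    have hpos : 1 ≤ Fintype.card C := Fintype.card_pos_iff.2 ⟨c₀⟩
    push_cast [Nat.cast_sub hpos] at e'
    have hT : ∑ l, ∑ r, (t r + u l) * (t r + u l) ≤ (Fintype.card C : ℤ) := by
      nlinarith [mul_self_nonneg (∑ r, t r)]
    linarith
  simp only [hu, add_zero] at hc0
  -- the sum of squares is congruent to the sum modulo 2
  have hpar : (∑ r, t r * t r) % 2 = (∑ r, t r) % 2 := by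
    rw [Finset.sum_int_mod, Finset.sum_int_mod (f := t)]
    congr 1
    refine Finset.sum_congr rfl fun r _ => ?_
    rcases Int.emod_two_eq_zero_or_one (t r) with e | e <;> simp [Int.mul_emod, e]
  rw [hc0, hX] at hpar
  omega

/-- Coefficients of the image of `μ₀ - ζ`: ones in the first column, zeros elsewhere. -/
theorem alpha_rigid [DecidableEq C] (c₀ : C) (c : R → ℤ) (u : C → ℤ) (hu : u c₀ = 0)
    (hc : ∀ r, c r ≠ 0) (h : ∑ l, ∑ r, (c r + u l) * (c r + u l) ≤ (Fintype.card R : ℤ)) :
    (∀ r, c r = 1 ∨ c r = -1) ∧ ∀ l, l ≠ c₀ → ∀ r, c r + u l = 0 := by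
  classical
  set S : C → ℤ := fun l => ∑ r, (c r + u l) * (c r + u l)
  have h0 : (Fintype.card R : ℤ) ≤ S c₀ := by
    have := card_le_sum_mul_self univ (fun r => c r + u c₀) fun r _ => by simp [hu, hc r]
    simpa [S] using this
  have hsplit : S c₀ + ∑ l ∈ univ.erase c₀, S l = ∑ l, S l :=
    Finset.add_sum_erase univ S (Finset.mem_univ c₀)
  have hrest : 0 ≤ ∑ l ∈ univ.erase c₀, S l :=
    Finset.sum_nonneg fun l _ => Finset.sum_nonneg fun r _ => mul_self_nonneg _
  have hS0 : S c₀ = Fintype.card R := by change ∑ l, S l ≤ _ at h; linarith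
  have hz : ∑ l ∈ univ.erase c₀, S l = 0 := by change ∑ l, S l ≤ _ at h; linarith
  refine ⟨fun r => ?_, fun l hl r => ?_⟩
  · have : ∀ r', c r' * c r' = 1 := by
      have e : ∑ r', (c r' * c r' - 1) = 0 := by
        simp only [S, hu, add_zero] at hS0
        rw [Finset.sum_sub_distrib, hS0]; simp
      intro r'
      have := (Finset.sum_eq_zero_iff_of_nonneg fun x _ => by linarith [one_le_mul_self (hc x)]).1 e r'
        (Finset.mem_univ _)
      linarith
    exact mul_self_eq_one_iff.1 (this r)
  · have h1 := (Finset.sum_eq_zero_iff_of_nonneg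
      fun l _ => Finset.sum_nonneg fun r _ => mul_self_nonneg _).1 hz l (Finset.mem_erase.2 ⟨hl, Finset.mem_univ _⟩)
    exact mul_self_eq_zero.1 ((Finset.sum_eq_zero_iff_of_nonneg fun r _ => mul_self_nonneg _).1 h1 r
      (Finset.mem_univ _))

end CfsgLib.OddEnd
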