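import Cfsg.Agent.OddEnd.TenAlpha

/-!
# The image of `1^M - ζ` (Peterfalvi 10.5)
-/

set_option autoImplicit false
set_option linter.unusedSectionVars false

namespace CfsgLib.OddEnd

open CfsgLib.Char
open scoped ComplexConjugate

universe u

variable {G : Type u} [Group G] [Fintype G]

namespace TenPair

variable {M N K Ks V : Subgroup G} (P : TenPair M N K Ks V) [Fintype M]
  {χ : (↥(K ⊔ Ks) →* ℂˣ) → G → ℂ} {ζ : M → ℂ}
include P

theorem alpha_inner_conj (hζ : ζ ∈ tenS M) (hirr : Cfsg.IsIrrCharacter M ζ) (hd : ζ 1 = (Nat.card K : ℂ)) :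
    Cfsg.classInner (tenTau M (tenAlpha M ζ)) (tenTau M (ζ - Cfsg.conjFun ζ)) = -1 := by
  have hA : ∀ x : M, (x : G) ∉ Cfsg.typeA M → tenAlpha M ζ x = 0 := fun x hx => P.alpha_supp hζ hd hx
  have hz : ζ - Cfsg.conjFun ζ ∈ Cfsg.zspanOn (tenS M) ({1}ᶜ : Set M) := by
    refine mem_zspanOn_one.2 ⟨Submodule.sub_mem _ (subset_zspan hζ) (subset_zspan (tenS_conj hζ)), ?_⟩
    simp [Cfsg.conjFun, hd]
  obtain ⟨hg, hg'⟩ := P.zspanOn_props hz
  rw [tenTau, classInner_dadeIsometry_dadeIsometry P.dade_A (IsGeneralized.isClassFunction (P.alpha_gen hζ)) hA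
    (IsGeneralized.isClassFunction hg), classInner_sub_right, P.alpha_inner hζ, P.alpha_inner (tenS_conj hζ),
    IsIrrCharacter.classInner_self hirr, P.tenS_orth hζ (tenS_conj hζ) (Ne.symm (P.tenS_conj_ne hζ))]
  ring

/-- The coefficients of the image of `1^M - ζ` at the family. -/
theorem alpha_array [Fintype (Row K Ks)] [Fintype (Col K Ks)] [DecidableEq (Col K Ks)]
    (hχ : Cfsg.IsCyclicTIFamily K Ks χ) (hζ : ζ ∈ tenS M) (hirr : Cfsg.IsIrrCharacter M ζ)
    (hd : ζ 1 = (Nat.card K : ℂ)) :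
    ∃ (t : Row K Ks → ℤ) (c : ℤ), t row₀ = 0 ∧
      (∀ r l, Cfsg.classInner (tenTau M (tenAlpha M ζ)) (χ (cell r l)) =
        ((1 + t r + (if l = col₀ then 0 else c) : ℤ) : ℂ)) ∧
      ∑ l : Col K Ks, ∑ r, (1 + t r + (if l = col₀ then 0 else c)) * (1 + t r + (if l = col₀ then 0 else c)) ≤
        (Nat.card K : ℤ) := by
  classical
  obtain ⟨μ, δ, hμ⟩ := P.primeDade_M.exists_isMuG
  obtain ⟨hg, hnorm, hone⟩ := P.tau_alpha_props hζ hirr hd
  set θ := tenTau M (tenAlpha M ζ) with hθ
  obtain ⟨n, s, u, hn, ht, hu, hadd⟩ := grid_additive hχ hg fun w h1 h2 => P.tau_mixed h1 h2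
  have hn1 : n = 1 := by
    rw [hχ.map_one, hone] at hn
    exact_mod_cast hn.symm
  subst hn1
  set t : Row K Ks → ℤ := fun r => s r - 1
  have hadd : ∀ r l, Cfsg.classInner θ (χ (cell r l)) = ((1 + t r + u l : ℤ) : ℂ) := fun r l => by
    rw [hadd r l, show 1 + t r + u l = s r + u l by simp only [t]; ring]
  replace ht : t row₀ = 0 := by simp [t, ht]
  have hcol : ∀ j k : Col K Ks, j ≠ col₀ → k ≠ col₀ → u j = u k := by
    intro j k hj hk
    by_cases hjk : j = k
    · rw [hjk]
    have hjS := P.col_mem hμ hj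
    have hkS := P.col_mem hμ hk
    have h1 := P.tau_col hχ hμ hjk hj hk hjS hkS
    have hz : (∑ r : Row K Ks, μ (cell r j)) - ∑ r : Row K Ks, μ (cell r k) ∈
        Cfsg.zspanOn (tenS M) ({1}ᶜ : Set M) := by
      refine mem_zspanOn_one.2 ⟨Submodule.sub_mem _ (subset_zspan hjS) (subset_zspan hkS), ?_⟩
      rw [Pi.sub_apply, Finset.sum_apply, Finset.sum_apply, ← Finset.sum_sub_distrib]
      exact Finset.sum_eq_zero fun r _ => sub_eq_zero.2 (P.col_const hμ hj hk r).1
    have h2 : Cfsg.classInner θ (tenTau M ((∑ r : Row K Ks, μ (cell r j)) - ∑ r : Row K Ks, μ (cell r k))) = 0 := by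
      rw [hθ, tenTau, classInner_dadeIsometry_dadeIsometry P.dade_A (IsGeneralized.isClassFunction (P.alpha_gen hζ))
        (fun x hx => P.alpha_supp hζ hd hx) (IsGeneralized.isClassFunction (P.zspanOn_props hz).1),
        classInner_sub_right, P.alpha_inner hjS, P.alpha_inner hkS,
        P.tenS_orth hζ hjS (P.irr_ne_col hμ hζ hirr j), P.tenS_orth hζ hkS (P.irr_ne_col hμ hζ hirr k)]
      ring
    rw [h1, classInner_smul_right, classInner_sum_right] at h2
    have h3 : ∑ r : Row K Ks, Cfsg.classInner θ (χ (cell r j) - χ (cell r k)) =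
        (((Nat.card K : ℤ) * (u j - u k) : ℤ) : ℂ) := by
      rw [Finset.sum_congr rfl fun r _ => by
        rw [classInner_sub_right, hadd r j, hadd r k, ← Int.cast_sub,
          show 1 + t r + u j - (1 + t r + u k) = u j - u k by ring],
        Finset.sum_const, Finset.card_univ, ← Nat.card_eq_fintype_card, (card_trivL P.W_M).2, nsmul_eq_mul]
      push_cast
      ring
    have hδ : conj (δ j.1) ≠ 0 := by
      rw [Ne, map_eq_zero]; rcases hμ.sign j.1 with e | e <;> rw [e] <;> norm_num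
    rw [h3, mul_eq_zero, or_iff_right hδ] at h2
    have h4 : (Nat.card K : ℤ) * (u j - u k) = 0 := by exact_mod_cast h2
    exact sub_eq_zero.1 ((mul_eq_zero.1 h4).resolve_left (by exact_mod_cast Nat.card_pos.ne'))
  obtain ⟨c, hc⟩ : ∃ c, ∀ l : Col K Ks, l ≠ col₀ → u l = c := by
    by_cases h : ∃ j : Col K Ks, j ≠ col₀
    · obtain ⟨j, hj⟩ := h
      exact ⟨u j, fun l hl => hcol l j hl hj⟩
    · exact ⟨0, fun l hl => absurd ⟨l, hl⟩ h⟩
  have hval : ∀ r l, Cfsg.classInner θ (χ (cell r l)) =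
      ((1 + t r + (if l = col₀ then 0 else c) : ℤ) : ℂ) := fun r l => by
    rw [hadd r l]
    split_ifs with h
    · rw [h, hu]
    · rw [hc l h]
  refine ⟨t, c, ht, hval, ?_⟩
  -- one extra unit from `ζ - ζ̄`
  obtain ⟨ν, hν, hνne, he, horth⟩ := P.tau_irr hχ hζ hirr
  have hν' : Cfsg.IsIrrCharacter G (Cfsg.conjFun ν) := IsIrrCharacter.conj hν
  obtain ⟨m₁, hm₁⟩ := IsGeneralized.exists_classInner_eq_int hg (IsIrrCharacter.isGeneralized hν)
  obtain ⟨m₂, hm₂⟩ := IsGeneralized.exists_classInner_eq_int hg (IsIrrCharacter.isGeneralized hν')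
  have hm : m₁ - m₂ = -1 := by
    have h := P.alpha_inner_conj hζ hirr hd
    rw [he, classInner_sub_right, hm₁, hm₂] at h
    exact_mod_cast h
  let m : (G → ℂ) → ℤ := fun α => if α = ν then m₁ else m₂
  have hb := grid_bessel hχ (fun r l => 1 + t r + (if l = col₀ then 0 else c)) hval {ν, Cfsg.conjFun ν}
    (fun α hα β hβ hne' => by
      simp only [Finset.mem_insert, Finset.mem_singleton] at hα hβ
      rcases hα with rfl | rfl <;> rcases hβ with rfl | rfl
      · exact absurd rfl hne'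
      · exact IsIrrCharacter.classInner_of_ne hν hν' (Ne.symm hνne)
      · exact IsIrrCharacter.classInner_of_ne hν' hν hνne
      · exact absurd rfl hne')
    (fun α hα => by
      simp only [Finset.mem_insert, Finset.mem_singleton] at hα
      rcases hα with rfl | rfl
      · exact IsIrrCharacter.classInner_self hν
      · exact IsIrrCharacter.classInner_self hν')
    (fun α hα ω => by
      simp only [Finset.mem_insert, Finset.mem_singleton] at hα
      rcases hα with rfl | rfl
      · exact (horth ω).1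
      · exact (horth ω).2)
    m (fun α hα => by
      simp only [Finset.mem_insert, Finset.mem_singleton] at hα
      rcases hα with rfl | rfl
      · simpa [m] using hm₁
      · simpa [m, hνne] using hm₂)
  rw [hnorm, Finset.sum_pair (Ne.symm hνne), Complex.intCast_re] at hb
  simp only [m, if_true, hνne, if_false] at hb
  have hb' : ∑ l : Col K Ks, ∑ r, (1 + t r + (if l = col₀ then 0 else c)) *
      (1 + t r + (if l = col₀ then 0 else c)) + (m₁ * m₁ + m₂ * m₂) ≤ (Nat.card K : ℤ) + 1 := by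
    exact_mod_cast hb
  have h5 : 1 ≤ m₁ * m₁ + m₂ * m₂ := by nlinarith [mul_self_nonneg (m₁ + m₂)]
  linarith

/-- If no row of the image vanishes, the image is the first column minus a signed irreducible character. -/
theorem alpha_image [Fintype (Row K Ks)] (hχ : Cfsg.IsCyclicTIFamily K Ks χ) (hζ : ζ ∈ tenS M)
    (hirr : Cfsg.IsIrrCharacter M ζ) (hd : ζ 1 = (Nat.card K : ℂ))
    (hne : ∀ r : Row K Ks, Cfsg.classInner (tenTau M (tenAlpha M ζ)) (χ (cell r col₀)) ≠ 0) :
    ∃ X : G → ℂ, (Cfsg.IsIrrCharacter G X ∨ Cfsg.IsIrrCharacter G (-X)) ∧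
      (∀ ω, Cfsg.classInner X (χ ω) = 0) ∧
      tenTau M (tenAlpha M ζ) = (∑ r : Row K Ks, χ (cell r col₀)) - X ∧
      Cfsg.classInner X (tenTau M (ζ - Cfsg.conjFun ζ)) = 1 := by
  classical
  have := Fintype.ofFinite (Col K Ks)
  obtain ⟨hg, hnorm, hone⟩ := P.tau_alpha_props hζ hirr hd
  obtain ⟨t, c, ht, hval, hle⟩ := P.alpha_array hχ hζ hirr hd
  have hc : ∀ r, 1 + t r ≠ 0 := fun r h => hne r (by rw [hval r col₀, if_pos rfl, add_zero, h, Int.cast_zero])
  rw [← (card_trivL P.W_M).2, Nat.card_eq_fintype_card] at hle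
  obtain ⟨hpm, hzero⟩ := alpha_rigid col₀ (fun r => 1 + t r) (fun l => if l = col₀ then 0 else c) (if_pos rfl) hc hle
  obtain ⟨l, hl⟩ : ∃ l : Col K Ks, l ≠ col₀ := by
    have h3 : 3 ≤ Nat.card (Col K Ks) := by
      rw [(card_trivL P.W_M).1]
      exact three_le_card_of_odd P.W_M.2.1 (P.oddG Ks)
    rw [Nat.card_eq_fintype_card] at h3
    exact Fintype.exists_ne_of_one_lt_card (by omega) _
  have hc1 : c = -1 := by
    have := hzero l hl row₀
    simp only [ht, if_neg hl, add_zero] at this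
    linarith
  have ht0 : ∀ r, t r = 0 := fun r => by
    have := hzero l hl r
    simp only [if_neg hl, hc1] at this
    linarith
  have hb : ∀ r l, Cfsg.classInner (tenTau M (tenAlpha M ζ)) (χ (cell r l)) =
      if l = col₀ then 1 else 0 := fun r l => by
    rw [hval r l, ht0, hc1]
    split_ifs <;> norm_num
  set T := ∑ r : Row K Ks, χ (cell r col₀) with hT
  set X := T - tenTau M (tenAlpha M ζ) with hX
  have hTη : ∀ ω, Cfsg.classInner T (χ ω) = Cfsg.classInner (tenTau M (tenAlpha M ζ)) (χ ω) := fun ω => by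
    obtain ⟨r, l, rfl⟩ := exists_cell P.W_M ω
    rw [hb r l, hT, classInner_sum_left, Finset.sum_congr rfl fun s _ => hχ.orthonormal _ _]
    by_cases h : l = col₀
    · subst h
      rw [if_pos rfl]
      exact (Finset.sum_eq_single r (fun s _ hs => if_neg fun e => hs (cell_injective e).1)
        (fun h' => absurd (Finset.mem_univ r) h')).trans (if_pos rfl)
    · rw [if_neg h]
      exact Finset.sum_eq_zero fun s _ => if_neg fun e => h (cell_injective e).2.symm
  have hXη : ∀ ω, Cfsg.classInner X (χ ω) = 0 := fun ω => by rw [hX, classInner_sub_left, hTη, sub_self]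
  have hTg : Cfsg.IsGeneralizedCharacter G T :=
    isGeneralized_sum _ fun r _ => isGeneralized_family hχ _
  have hXg : Cfsg.IsGeneralizedCharacter G X := IsGeneralized.sub hTg hg
  have hXT : Cfsg.classInner X T = 0 := by
    rw [hT, classInner_sum_right]
    exact Finset.sum_eq_zero fun r _ => hXη _
  have hTθ : Cfsg.classInner (tenTau M (tenAlpha M ζ)) T = (Nat.card K : ℂ) := by
    rw [hT, classInner_sum_right, Finset.sum_congr rfl fun r _ => by rw [hb r col₀, if_pos rfl],
      Finset.sum_const, Finset.card_univ, nsmul_one, ← Nat.card_eq_fintype_card, (card_trivL P.W_M).2]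
  have hXn : Cfsg.classInner X X = 1 := by
    conv_lhs => arg 2; rw [hX]
    rw [classInner_sub_right, hXT, zero_sub, hX, classInner_sub_left, hnorm,
      ← classInner_conj (tenTau M (tenAlpha M ζ)) T, hTθ, map_natCast]
    push_cast
    ring
  refine ⟨X, IsGeneralized.isIrr_or_neg hXg hXn, hXη, by rw [hX, sub_sub_cancel], ?_⟩
  obtain ⟨ν, hν, hνne, he, horth⟩ := P.tau_irr hχ hζ hirr
  rw [hX, classInner_sub_left, P.alpha_inner_conj hζ hirr hd, he, hT, classInner_sum_left,
    Finset.sum_eq_zero fun r _ => by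
      rw [← classInner_conj, classInner_sub_left, (horth _).1, (horth _).2, sub_zero, map_zero]]
  ring

/-- When `|K| < |C_{M_σ}(K)|` no row of the image vanishes. -/
theorem alpha_ne_of_lt [Fintype (Row K Ks)] (hχ : Cfsg.IsCyclicTIFamily K Ks χ) (hζ : ζ ∈ tenS M)
    (hirr : Cfsg.IsIrrCharacter M ζ) (hd : ζ 1 = (Nat.card K : ℂ)) (hlt : Nat.card K < Nat.card Ks)
    (r : Row K Ks) : Cfsg.classInner (tenTau M (tenAlpha M ζ)) (χ (cell r col₀)) ≠ 0 := by
  classical
  have := Fintype.ofFinite (Col K Ks)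
  obtain ⟨t, c, ht, hval, hle⟩ := P.alpha_array hχ hζ hirr hd
  intro h0
  rw [hval r col₀, if_pos rfl, add_zero, Int.cast_eq_zero] at h0
  -- some row has a non-zero entry in each column
  suffices h : ∀ l : Col K Ks, 1 ≤ ∑ s, (1 + t s + (if l = col₀ then 0 else c)) *
      (1 + t s + (if l = col₀ then 0 else c)) by
    have h1 : ∑ _l : Col K Ks, (1 : ℤ) ≤ (Nat.card K : ℤ) := (Finset.sum_le_sum fun l _ => h l).trans hle
    rw [Finset.sum_const, Finset.card_univ, nsmul_one, ← Nat.card_eq_fintype_card, (card_trivL P.W_M).1] at h1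
    have : Nat.card Ks ≤ Nat.card K := by exact_mod_cast h1
    omega
  intro l
  obtain ⟨s, hs⟩ : ∃ s, 1 + t s + (if l = col₀ then 0 else c) ≠ 0 := by
    by_cases hc : (if l = col₀ then 0 else c) = 0
    · exact ⟨row₀, by rw [hc, ht]; norm_num⟩
    · exact ⟨r, by rw [h0, zero_add]; exact hc⟩
  exact (one_le_mul_self hs).trans (Finset.single_le_sum
    (f := fun s => (1 + t s + (if l = col₀ then 0 else c)) * (1 + t s + (if l = col₀ then 0 else c)))
    (fun _ _ => mul_self_nonneg _) (Finset.mem_univ s))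

end TenPair

end CfsgLib.OddEnd
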