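import Cfsg.Agent.OddEnd.TenArray

/-!
# The images under a coherent extension (Peterfalvi 10.4)
-/

set_option autoImplicit false
set_option linter.unusedSectionVars false

namespace CfsgLib.OddEnd

open CfsgLib.Char
open scoped ComplexConjugate

universe u

variable {G : Type u} [Group G] [Fintype G]

namespace TenPair

variable {M N K Ks V : Subgroup G} (P : TenPair M N K Ks V) [Fintype M]
  {χ : (↥(K ⊔ Ks) →* ℂˣ) → G → ℂ} {μ : (↥(K ⊔ Ks) →* ℂˣ) → M → ℂ} {δ : (↥(K ⊔ Ks) →* ℂˣ) → ℂ}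
  {τ₁ : (M → ℂ) → G → ℂ}
include P

/-- An irreducible member: its image is irreducible up to sign and orthogonal to the family. -/
theorem tau1_irr (hχ : Cfsg.IsCyclicTIFamily K Ks χ) (h1 : Cfsg.IsLinearIsometryOn (Cfsg.zspan (tenS M)) τ₁)
    (h2 : ∀ α ∈ Cfsg.zspanOn (tenS M) ({1}ᶜ : Set M), τ₁ α = tenTau M α) {φ : M → ℂ} (hφ : φ ∈ tenS M)
    (hirr : Cfsg.IsIrrCharacter M φ) :
    (Cfsg.IsIrrCharacter G (τ₁ φ) ∨ Cfsg.IsIrrCharacter G (-τ₁ φ)) ∧ ∀ ω, Cfsg.classInner (τ₁ φ) (χ ω) = 0 := by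
  have hφ' := tenS_conj hφ
  have hn : Cfsg.classInner (τ₁ φ) (τ₁ φ) = 1 := by
    rw [h1.2.2.1 _ (subset_zspan hφ) _ (subset_zspan hφ), IsIrrCharacter.classInner_self hirr]
  have hsig := IsGeneralized.isIrr_or_neg (h1.2.2.2 _ (subset_zspan hφ)) hn
  refine ⟨hsig, fun ω => ?_⟩
  obtain ⟨ν, hν, hνne, he, horth⟩ := P.tau_irr hχ hφ hirr
  have hz : φ - Cfsg.conjFun φ ∈ Cfsg.zspanOn (tenS M) ({1}ᶜ : Set M) := by
    refine mem_zspanOn_one.2 ⟨Submodule.sub_mem _ (subset_zspan hφ) (subset_zspan hφ'), ?_⟩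
    obtain ⟨d, -, hd⟩ := IsIrrCharacter.exists_degree hirr
    simp [Cfsg.conjFun, hd]
  have hinner : Cfsg.classInner (τ₁ φ) (ν - Cfsg.conjFun ν) = 1 := by
    rw [← he, ← h2 _ hz, h1.2.2.1 _ (subset_zspan hφ) _ hz.1, classInner_sub_right,
      IsIrrCharacter.classInner_self hirr, P.tenS_orth hφ hφ' (Ne.symm (P.tenS_conj_ne hφ)), sub_zero]
  rw [classInner_sub_right] at hinner
  by_cases hne : Cfsg.classInner (τ₁ φ) ν = 0
  · rw [hne, zero_sub] at hinner
    obtain ⟨s, -, hs, -⟩ := IsSignedIrr.eq_smul_of_classInner_ne hsig (Or.inl (IsIrrCharacter.conj hν))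
      (show Cfsg.classInner (τ₁ φ) (Cfsg.conjFun ν) ≠ 0 from fun e => by rw [e, neg_zero] at hinner; exact zero_ne_one hinner)
    replace hs : Cfsg.conjFun ν = s • τ₁ φ := hs
    have hs0 : s ≠ 0 := fun e => by
      rw [e, zero_smul] at hs
      rw [hs, classInner_zero_right, neg_zero] at hinner
      exact zero_ne_one hinner
    have h0 := (horth ω).2
    rw [hs, classInner_smul_left] at h0
    exact (mul_eq_zero.1 h0).resolve_left hs0
  · obtain ⟨s, -, hs, -⟩ := IsSignedIrr.eq_smul_of_classInner_ne hsig (Or.inl hν) hne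
    have hs0 : s ≠ 0 := fun e => by
      rw [e, zero_smul] at hs
      rw [hs] at hne
      exact hne (classInner_zero_right _)
    have h0 := (horth ω).1
    rw [hs, classInner_smul_left] at h0
    exact (mul_eq_zero.1 h0).resolve_left hs0

/-- The image of a member is orthogonal to the members of the family constant on `C_{M_σ}(K)`. -/
theorem tau1_row [Fintype (Row K Ks)] [Fintype (Col K Ks)] (hχ : Cfsg.IsCyclicTIFamily K Ks χ)
    (hμ : IsMuG M (Cfsg.sigmaCore M) K Ks μ δ) (h1 : Cfsg.IsLinearIsometryOn (Cfsg.zspan (tenS M)) τ₁)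
    (h2 : ∀ α ∈ Cfsg.zspanOn (tenS M) ({1}ᶜ : Set M), τ₁ α = tenTau M α) {φ : M → ℂ} (hφ : φ ∈ tenS M)
    (r : Row K Ks) : Cfsg.classInner (τ₁ φ) (χ (cell r col₀)) = 0 := by
  classical
  rcases P.tenS_cases hμ hφ with hirr | ⟨j, hj, rfl⟩
  · exact (P.tau1_irr hχ h1 h2 hφ hirr).2 _
  obtain ⟨ζ, hζ, hζirr, hζd, -⟩ := P.exists_zeta
  have hC : 3 ≤ Fintype.card (Col K Ks) := by
    rw [← Nat.card_eq_fintype_card, (card_trivL P.W_M).1]
    exact three_le_card_of_odd P.W_M.2.1 (P.oddG Ks)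
  -- the array of the image of a column
  have key : ∀ l : Col K Ks, l ≠ col₀ → ∃ (t : Row K Ks → ℤ) (u : Col K Ks → ℤ),
      (∀ s m, Cfsg.classInner (τ₁ (∑ r : Row K Ks, μ (cell r l))) (χ (cell s m)) = ((t s + u m : ℤ) : ℂ)) ∧
        t row₀ = 0 ∧ u col₀ = 0 ∧ ((∀ s, t s = 0) ∨ ∀ m, u m = 0) := by
    intro l hl
    have hlS := P.col_mem hμ hl
    set φ := ∑ r : Row K Ks, μ (cell r l) with hφdef
    obtain ⟨a, ha⟩ : ∃ a : ℕ, φ 1 = (a : ℂ) * ζ 1 := by
      obtain ⟨d, -, hd⟩ := IsIrrCharacter.exists_degree (hμ.irr (cell row₀ l))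
      refine ⟨d, ?_⟩
      rw [hζd, hφdef, Finset.sum_apply, Finset.sum_congr rfl fun s _ => ?_, Finset.sum_const, Finset.card_univ,
        nsmul_eq_mul, ← Nat.card_eq_fintype_card, (card_trivL P.W_M).2, mul_comm]
      rw [← hd]
      exact hμ.restrict_eq _ _ (fun w hw => by
        rw [cell, cell, MonoidHom.mul_apply, MonoidHom.mul_apply, s.2 w hw, (row₀ (W₁ := K) (W₂ := Ks)).2 w hw])
        1 (Subgroup.one_mem _)
    have hz : φ - (a : ℤ) • ζ ∈ Cfsg.zspanOn (tenS M) ({1}ᶜ : Set M) := by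
      refine mem_zspanOn_one.2 ⟨Submodule.sub_mem _ (subset_zspan hlS)
        (Submodule.smul_mem _ _ (subset_zspan hζ)), ?_⟩
      rw [Pi.sub_apply, Pi.smul_apply, zsmul_eq_mul, ha]
      push_cast
      ring
    set θ := tenTau M (φ - (a : ℤ) • ζ) with hθ
    have hτ : θ = τ₁ φ - (a : ℤ) • τ₁ ζ := by
      rw [hθ, ← h2 _ hz, isometry_map_sub (M := Submodule.span ℤ (tenS M)) h1 (subset_zspan hlS)
        (Submodule.smul_mem _ _ (subset_zspan hζ)), h1.2.1 _ (subset_zspan hζ)]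
    have heq : ∀ ω, Cfsg.classInner θ (χ ω) = Cfsg.classInner (τ₁ φ) (χ ω) := fun ω => by
      rw [hτ, classInner_sub_left, ← Int.cast_smul_eq_zsmul ℂ, classInner_smul_left,
        (P.tau1_irr hχ h1 h2 hζ hζirr).2 ω, mul_zero, sub_zero]
    obtain ⟨hgen, hA⟩ := P.zspanOn_props hz
    have hθg : Cfsg.IsGeneralizedCharacter G θ := isGeneralized_dadeIsometry P.dade_A hgen hA
    obtain ⟨n, t, u, hn, ht, hu, hadd⟩ := grid_additive hχ hθg fun w h1 h2 => P.tau_mixed h1 h2
    have hmem1 : ∀ {ψ : M → ℂ}, ψ ∈ tenS M → Cfsg.classInner ψ (fun _ => 1) = 0 := fun {ψ} hψ => by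
      obtain ⟨η, h1, h2, -, rfl⟩ := hψ
      have := Fintype.ofFinite ↥((Cfsg.sigmaCore M).subgroupOf M)
      rw [classInner_indFun η (fun _ _ => rfl)]
      exact IsIrrCharacter.classInner_of_ne h1 isIrrCharacter_one h2
    have hn0 : n = 0 := by
      rw [hχ.map_one, hθ, tenTau, classInner_dadeIsometry P.dade_A (IsGeneralized.isClassFunction hgen) hA
        (fun _ _ => rfl) (ψ := fun _ => 1) (fun a _ => ?_), classInner_sub_left, hmem1 hlS,
        ← Int.cast_smul_eq_zsmul ℂ, classInner_smul_left, hmem1 hζ, mul_zero, sub_zero] at hn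
      · exact_mod_cast hn.symm
      · rw [finsum_mem_eq_finite_toFinset_sum _ (Set.toFinite _), Finset.sum_const, nsmul_eq_mul, mul_one,
          ← Set.ncard_eq_toFinset_card, ← Nat.card_coe_set_eq]
        exact (inv_mul_cancel₀ (by exact_mod_cast (Nat.card_pos (α := ↥(Cfsg.supportR M (a : G)))).ne')).symm
    subst hn0
    refine ⟨t, u, fun s m => (heq _).symm.trans (hadd s m), ht, hu, ?_⟩
    refine additive_col_or_row row₀ col₀ t u ht hu hC ?_
    have hnorm : Cfsg.classInner (τ₁ φ) (τ₁ φ) = ((Fintype.card (Row K Ks) : ℤ) : ℂ) := by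
      rw [h1.2.2.1 _ (subset_zspan hlS) _ (subset_zspan hlS), hφdef, classInner_sum_left,
        Finset.sum_congr rfl fun s _ => by
          rw [classInner_sum_right, Finset.sum_eq_single s (fun s' _ hs =>
            IsIrrCharacter.classInner_of_ne (hμ.irr _) (hμ.irr _) fun e => hs (cell_injective (hμ.inj e)).1.symm)
            (fun h' => absurd (Finset.mem_univ s) h'), IsIrrCharacter.classInner_self (hμ.irr _)],
        Finset.sum_const, Finset.card_univ, nsmul_one]
      push_cast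
      rfl
    exact grid_bessel' hχ _ (fun s m => (heq _).symm.trans (hadd s m)) hnorm
  obtain ⟨t, u, hadd, ht, hu, hd⟩ := key j hj
  suffices h : ∀ s, t s = 0 by
    rw [hadd r col₀, h r, hu, add_zero, Int.cast_zero]
  rcases hd with h | hu0
  · exact h
  -- compare with another column
  obtain ⟨k, hk, hkj⟩ : ∃ k : Col K Ks, k ≠ col₀ ∧ k ≠ j := by
    by_contra hh
    push Not at hh
    have : (Finset.univ : Finset (Col K Ks)) ⊆ {col₀, j} := fun k _ => by
      by_cases e : k = col₀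
      · simp [e]
      · simp [hh k e]
    have := (Finset.card_le_card this).trans Finset.card_le_two
    rw [Finset.card_univ] at this
    omega
  obtain ⟨t', u', hadd', ht', hu', hd'⟩ := key k hk
  have hjS := P.col_mem hμ hj
  have hkS := P.col_mem hμ hk
  have hz : (∑ r : Row K Ks, μ (cell r j)) - ∑ r : Row K Ks, μ (cell r k) ∈
      Cfsg.zspanOn (tenS M) ({1}ᶜ : Set M) := by
    refine mem_zspanOn_one.2 ⟨Submodule.sub_mem _ (subset_zspan hjS) (subset_zspan hkS), ?_⟩
    rw [Pi.sub_apply, Finset.sum_apply, Finset.sum_apply, ← Finset.sum_sub_distrib]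
    exact Finset.sum_eq_zero fun r _ => sub_eq_zero.2 (P.col_const hμ hj hk r).1
  have hdiff : τ₁ (∑ r : Row K Ks, μ (cell r j)) - τ₁ (∑ r : Row K Ks, μ (cell r k)) =
      δ j.1 • ∑ r : Row K Ks, (χ (cell r j) - χ (cell r k)) := by
    rw [← isometry_map_sub (M := Submodule.span ℤ (tenS M)) h1 (subset_zspan hjS) (subset_zspan hkS), h2 _ hz,
      P.tau_col hχ hμ (Ne.symm hkj) hj hk hjS hkS]
  have hval : ∀ s m, ((t s + u m : ℤ) : ℂ) - ((t' s + u' m : ℤ) : ℂ) =
      δ j.1 * ((if m = j then 1 else 0) - if m = k then 1 else 0) := fun s m => by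
    rw [← hadd, ← hadd', ← classInner_sub_left, hdiff, classInner_smul_left, classInner_sum_left]
    congr 1
    have hone : ∀ i : Col K Ks, (∑ r : Row K Ks, Cfsg.classInner (χ (cell r i)) (χ (cell s m))) =
        if m = i then 1 else 0 := fun i => by
      rw [Finset.sum_congr rfl fun r _ => hχ.orthonormal _ _]
      by_cases e : m = i
      · subst e
        rw [if_pos rfl]
        exact (Finset.sum_eq_single s (fun r _ hr => if_neg fun e => hr (cell_injective e).1)
          (fun h' => absurd (Finset.mem_univ s) h')).trans (if_pos rfl)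
      · rw [if_neg e]
        exact Finset.sum_eq_zero fun r _ => if_neg fun e' => e (cell_injective e').2.symm
    rw [Finset.sum_congr rfl fun r _ => classInner_sub_left _ _ _, Finset.sum_sub_distrib, hone, hone]
  have htt : ∀ s, t' s = t s := fun s => by
    have h := hval s col₀
    rw [if_neg (Ne.symm hj), if_neg (Ne.symm hk), sub_zero, mul_zero, hu, hu', add_zero, add_zero, sub_eq_zero] at h
    exact_mod_cast h.symm
  rcases hd' with h | hu0'
  · exact fun s => (htt s).symm.trans (h s)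
  · exfalso
    have h := hval row₀ j
    rw [hu0, hu0', htt, sub_self, if_pos rfl, if_neg (Ne.symm hkj), sub_zero, mul_one] at h
    rcases hμ.sign j.1 with e | e <;> rw [e] at h <;> norm_num at h

/-- Under coherence, the image of `1^M - ζ` is orthogonal to the difference of images. -/
theorem tau1_degree {φ ζ : M → ℂ} (hφ : φ ∈ tenS M) (hζd : ζ 1 = (Nat.card K : ℂ)) :
    ∃ a : ℕ, 0 < a ∧ φ 1 = (a : ℂ) * ζ 1 := by
  obtain ⟨θ, h1, -, -, rfl⟩ := hφ
  obtain ⟨d, hd0, hd⟩ := IsIrrCharacter.exists_degree h1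
  exact ⟨d, hd0, by rw [indFun_one, P.index_core, hd, hζd, mul_comm]⟩

end TenPair

end CfsgLib.OddEnd
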