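import Cfsg.Agent.OddEnd.TenSetup
import Cfsg.Agent.OddEnd.TenColumns
import Cfsg.Agent.OddLocal.SigmaConjugate
import Cfsg.Agent.OddLocal.TauTwoFrobenius
import Cfsg.Agent.Char.DadeMap
import Cfsg.Agent.S1434

/-!
# The partner `N`: orders, `σ(M)`-elements, centralizers
-/

set_option autoImplicit false
set_option linter.unusedSectionVars false

namespace CfsgLib.OddEnd

open Subgroup Cfsg CfsgLib.OddLocal CfsgLib.OddLocal.Kap
open scoped commutatorElement

universe u

variable {G : Type u} [Group G] [Fintype G]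

/-- The number of elements with a conjugate in a set invariant under `L`. -/
theorem card_conj_mul_le {L : Subgroup G} {S : Set G} (hS : ∀ x ∈ L, ∀ s ∈ S, x * s * x⁻¹ ∈ S) :
    {g : G | ∃ x : G, x * g * x⁻¹ ∈ S}.ncard * Nat.card L ≤ Nat.card G * S.ncard := by
  classical
  set T := {g : G | ∃ x : G, x * g * x⁻¹ ∈ S}
  choose x hx using fun g : T => g.2
  let f : T × L → G × S := fun p => ((p.2 : G) * x p.1,
    ⟨(p.2 : G) * (x p.1 * (p.1 : G) * (x p.1)⁻¹) * (p.2 : G)⁻¹, hS _ p.2.2 _ (hx p.1)⟩)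
  have hf : Function.Injective f := fun p p' e => by
    have e1 : (p.2 : G) * x p.1 = (p'.2 : G) * x p'.1 := congrArg Prod.fst e
    have e2 := congrArg Subtype.val (congrArg Prod.snd e)
    simp only [f] at e2
    have hg : p.1 = p'.1 := Subtype.ext (by
      have h1 : ((p.2 : G) * x p.1) * (p.1 : G) * ((p.2 : G) * x p.1)⁻¹ =
          ((p'.2 : G) * x p'.1) * (p'.1 : G) * ((p'.2 : G) * x p'.1)⁻¹ := by
        simpa [mul_assoc] using e2
      rw [← e1] at h1
      exact mul_left_cancel (mul_right_cancel h1))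
    refine Prod.ext hg (Subtype.ext ?_)
    rw [hg] at e1
    exact mul_right_cancel e1
  have h := Nat.card_le_card_of_injective f hf
  rwa [Nat.card_prod, Nat.card_prod, Nat.card_coe_set_eq, Nat.card_coe_set_eq] at h

namespace TenPair

variable {M N K Ks V : Subgroup G} (P : TenPair M N K Ks V)
include P

theorem coprime_Ks_derived : (Nat.card Ks).Coprime (Nat.card ↥⁅N, N⁆) :=
  kappa_coprime_derived P.hG P.hN P.hNV P.Ks_ne

theorem core_N_le : Cfsg.sigmaCore N ≤ N := map_subtype_le _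

theorem compl_N : Cfsg.IsComplIn (Cfsg.sigmaCore N) V ⁅N, N⁆ := by
  have hd := P.derived_N
  refine ⟨hd ▸ le_sup_right, hd ▸ le_sup_left, ?_, fun x hx => ?_⟩
  · rw [inf_comm]
    exact eq_bot_iff.2 ((inf_le_inf_left _ le_sup_right).trans P.hNV.compl.2.2.1.le)
  · rw [hd, sup_comm] at hx
    rw [← SetLike.mem_coe, coe_mul_of_right_le_normalizer_left _ _
      (P.hNV.compl.1.trans (TH.le_normalizer_core N) : V ≤ normalizer (Cfsg.sigmaCore N : Set G))] at hx
    obtain ⟨a, ha, b, hb, e⟩ := hx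
    exact ⟨a, ha, b, hb, e.symm⟩

theorem card_derived_N : Nat.card ↥⁅N, N⁆ = Nat.card (Cfsg.sigmaCore N) * Nat.card V :=
  FittingHall.card_complIn P.compl_N

theorem card_N : Nat.card N = Nat.card (Cfsg.sigmaCore N) * Nat.card V * Nat.card Ks := by
  rw [← P.card_derived_N]
  exact FittingHall.card_complIn (derived_compl P.hG P.hN P.hNV P.Ks_ne)

theorem two_Ks_lt_V : 2 * Nat.card Ks + 1 ≤ Nat.card V := by
  classical
  have := Fact.mk P.Ks_prime
  obtain ⟨z, hz, hz1⟩ := (bot_or_exists_ne_one Ks).resolve_left P.Ks_ne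
  have hdvd : Nat.card Ks ∣ Nat.card V - 1 := by
    let _ : MulAction Ks V := {
        smul := fun a v => ⟨(a : G) * v * (a : G)⁻¹,
          (mem_normalizer_iff.1 (P.hNV.normal a.2) v).1 v.2⟩
        one_smul := fun v => Subtype.ext (show ((1 : Ks) : G) * v * ((1 : Ks) : G)⁻¹ = v by simp)
        mul_smul := fun a b v => Subtype.ext (by
          show ((a * b : Ks) : G) * v * ((a * b : Ks) : G)⁻¹ = _
          rw [Subgroup.coe_mul]; show _ = (a : G) * ((b : G) * v * (b : G)⁻¹) * (a : G)⁻¹; group) }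
    have hp : IsPGroup (Nat.card Ks) Ks := IsPGroup.of_card (n := 1) (pow_one _).symm
    have hfix : MulAction.fixedPoints Ks V = {(1 : V)} := by
      ext v
      refine ⟨fun hv => ?_, fun hv a => ?_⟩
      · have h1 : z * (v : G) * z⁻¹ = v := congrArg Subtype.val (hv ⟨z, hz⟩)
        have h2 : (v : G) ∈ N ⊓ centralizer ({z} : Set G) := ⟨P.hNV.compl.1 v.2,
          mem_centralizer_singleton_iff.2 (mul_inv_eq_iff_eq_mul.1 h1).symm⟩
        rw [P.meet_N hz hz1] at h2
        have h3 : (v : G) ∈ V ⊓ (Ks ⊔ Cfsg.sigmaCore N) := ⟨v.2, (sup_le_sup_left P.K_le Ks) h2⟩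
        rw [P.hNV.compl.2.2.1, Subgroup.mem_bot] at h3
        exact Set.mem_singleton_iff.2 (Subtype.ext h3)
      · rw [Set.mem_singleton_iff] at hv
        subst hv
        exact Subtype.ext (show (a : G) * 1 * (a : G)⁻¹ = 1 by group)
    have h := hp.card_modEq_card_fixedPoints V
    rw [hfix, Nat.card_coe_set_eq, Set.ncard_singleton] at h
    exact (Nat.modEq_iff_dvd' Nat.card_pos).1 h.symm
  obtain ⟨k, hk⟩ := hdvd
  have hV : 1 < Nat.card V := (one_lt_card_iff_ne_bot V).2 P.hV1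
  obtain ⟨a, ha⟩ := P.oddG V
  obtain ⟨b, hb⟩ := P.oddG Ks
  rcases k with _ | _ | k
  · omega
  · simp only [Nat.zero_add, Nat.mul_one] at hk; omega
  · have : Nat.card Ks * 2 ≤ Nat.card Ks * (k + 1 + 1) := Nat.mul_le_mul_left _ (by omega)
    omega

/-- The only element of `N'` whose order is a `σ(M)`-number is the identity. -/
theorem eq_one_of_sigma {a : G} (ha : a ∈ ⁅N, N⁆) (hσ : ∀ s : ℕ, s.Prime → s ∣ orderOf a → s ∈ Cfsg.sigma M) :
    a = 1 := by
  have hst : Ks = Cfsg.sigmaCore M ⊓ centralizer (K : Set G) := P.hKs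
  have e : ((Cfsg.sigmaCore M : Set G) ⊓ (centralizer (K : Set G) : Set G)) = (Ks : Set G) := by
    rw [hst, coe_inf]; rfl
  have hH : Cfsg.IsPiHallOf (Cfsg.sigma M) Ks N := by
    rw [hst]
    exact (Cfsg.Agent.S1434.result P.hG M P.hM K ⊥ P.hKU P.hK1 N P.hN
      (by rw [e]; exact P.hKe) (by rw [← hst]; exact P.hNV.hall)).2.1
  by_contra h1
  obtain ⟨s, hs, hsd⟩ := Nat.exists_prime_and_dvd fun e => h1 (orderOf_eq_one_iff.1 e)
  have hsD : s ∣ Nat.card ↥⁅N, N⁆ := hsd.trans (⁅N, N⁆.orderOf_dvd_natCard ha)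
  have hle : ⁅N, N⁆ ≤ N := commutator_le_self N
  have hsN : s ∣ Nat.card Ks * Ks.relIndex N := by
    rw [CfsgLib.InvariantHall.relIndex_mul_card hH.1]
    exact hsD.trans (card_dvd_of_le hle)
  rcases hs.dvd_mul.1 hsN with h | h
  · exact hs.ne_one (Nat.eq_one_of_dvd_coprimes P.coprime_Ks_derived h hsD)
  · exact hH.2.2 s hs (hσ s hs hsd) h

/-- No element with a conjugate in `N'` lies in the support of `M`. -/
theorem not_support {g x : G} (hx : x * g * x⁻¹ ∈ ⁅N, N⁆) :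
    ¬ ∃ a ∈ Cfsg.typeA M, ∃ u ∈ Cfsg.supportR M a, ∃ y : G, y * g * y⁻¹ = a * u := by
  rintro ⟨a, ha, u, hu, y, hy⟩
  obtain ⟨k, hk, -⟩ := CfsgLib.Char.dade_exists_exp P.dade_A ha ha
  have hpow : y * g ^ k * y⁻¹ = a := by rw [← conj_pow, hy, hk u hu]
  have haD : (x * y⁻¹) * a * (x * y⁻¹)⁻¹ ∈ ⁅N, N⁆ := by
    rw [← hpow, show x * y⁻¹ * (y * g ^ k * y⁻¹) * (x * y⁻¹)⁻¹ = x * g ^ k * x⁻¹ by group, ← conj_pow]
    exact pow_mem hx k
  have ha' := P.typeA_M.le ha
  have h := P.eq_one_of_sigma haD fun s hs hd => by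
    rw [conj_orderOf] at hd
    exact (Sig.sigma_core P.hG P.hM).1.2.1 s hs (hd.trans ((Cfsg.sigmaCore M).orderOf_dvd_natCard ha'.1))
  exact ha'.2 (conj_eq_one_iff.1 h)

/-- The centralizer of a non-identity element of `N_σ` lies in `N`. -/
theorem centralizer_le_N {h : G} (hh : h ∈ Cfsg.sigmaCore N) (hh1 : h ≠ 1) : centralizer ({h} : Set G) ≤ N := by
  intro c hc
  by_contra hcN
  have hA : h ∈ Cfsg.typeA0 N := Set.mem_union_left _ (P.typeA_N.ge
    ⟨(P.derived_N.ge.trans' le_sup_right) hh, hh1, h, hh, hh1, rfl⟩)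
  have hch : c * h * c⁻¹ = h := by rw [mem_centralizer_singleton_iff.1 hc, mul_inv_cancel_right]
  exact hh1 (P.ti_N.1 c (by rw [P.ti_N.2]; exact hcN) h hA (by rw [hch]; exact hA))

/-- If `V` acts without fixed points on `N_σ`, an element of `N'` centralizing an element of `N_σ#` lies in
`N_σ`. -/
theorem mem_core_of_commute (hfr : ∀ v ∈ V, v ≠ 1 → ∀ h ∈ Cfsg.sigmaCore N, v * h = h * v → h = 1)
    {c h : G} (hc : c ∈ ⁅N, N⁆) (hh : h ∈ Cfsg.sigmaCore N) (hh1 : h ≠ 1) (hch : c * h = h * c) :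
    c ∈ Cfsg.sigmaCore N := by
  classical
  have hcN : c ∈ N := commutator_le_self N hc
  refine zpowers_le.1 (Excep.le_sigmaCore P.hG P.hN (zpowers_le.2 hcN) fun s hs hd => ?_)
  rw [Nat.card_zpowers] at hd
  by_contra hsσ
  have := Fact.mk hs
  have hrel : V.relIndex ⁅N, N⁆ = Nat.card (Cfsg.sigmaCore N) := by
    have h1 := CfsgLib.InvariantHall.relIndex_mul_card P.compl_N.2.1
    rw [P.card_derived_N] at h1
    exact Nat.eq_of_mul_eq_mul_left Nat.card_pos (h1.trans (mul_comm _ _))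
  set w := c ^ (orderOf c / s) with hw
  have hwo : orderOf w = s := orderOf_pow_orderOf_div (orderOf_pos c).ne' hd
  obtain ⟨e, he, hew⟩ := Tau.exists_conj_mem (k := 1) P.compl_N.2.1
    (fun hdd => hsσ ((Sig.sigma_core P.hG P.hN).1.2.1 s hs (hrel ▸ hdd))) (pow_mem hc _ : w ∈ ⁅N, N⁆)
    (by rw [pow_one]; exact hwo)
  have hew1 : e * w * e⁻¹ ≠ 1 := fun e' => hs.ne_one (by rw [← hwo, conj_eq_one_iff.1 e', orderOf_one])
  have hhe : e * h * e⁻¹ ∈ Cfsg.sigmaCore N :=
    (mem_normalizer_iff.1 (TH.le_normalizer_core N (commutator_le_self N he)) h).1 hh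
  have hcomm : Commute w h := (show Commute c h from hch).pow_left _
  exact hh1 (conj_eq_one_iff.1 (hfr _ hew hew1 _ hhe (hcomm.map (MulAut.conj e).toMonoidHom).eq))

end TenPair

end CfsgLib.OddEnd
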