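import Cfsg.Agent.OddEnd.TenRational
import Cfsg.Agent.OddEnd.TenGroup
import Cfsg.Agent.S1377

/-!
# The counting argument (Peterfalvi 10.8)
-/

set_option autoImplicit false
set_option linter.unusedSectionVars false
set_option linter.style.haveILetI false

namespace CfsgLib.OddEnd

open Subgroup Cfsg CfsgLib.OddLocal CfsgLib.OddLocal.Kap CfsgLib.Char
open scoped ComplexConjugate commutatorElement

universe u

variable {G : Type u} [Group G] [Fintype G]

/-- The arithmetic of the count. -/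
theorem count_ineq {a n q p h v A G₀ U₁ U₂ : ℝ} (ha : 0 < a) (hp : 3 ≤ p) (hq : 3 ≤ q) (hv : 7 ≤ v) (hh : 1 ≤ h)
    (hn : p * (2 * q + 1) ≤ n) (eT : a ≤ A + G₀ + (U₁ + U₂)) (eA : A * (n * q) = (n - 1) * a)
    (eG : G₀ * n ≤ a * q) (e1 : U₁ * (q * p) ≤ a * (q * p - q - p + 1)) (e2 : U₂ * (h * v * p) ≤ a * (h - 1)) :
    False := by
  have hq0 : 0 < q := by linarith
  have hp0 : 0 < p := by linarith
  have hh0 : 0 < h := by linarith
  have hv0 : 0 < v := by linarith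
  have hn0 : 0 < n := lt_of_lt_of_le (by positivity) hn
  have t0 : a * (n * q * p * h * v) ≤ (A + G₀ + (U₁ + U₂)) * (n * q * p * h * v) :=
    mul_le_mul_of_nonneg_right eT (by positivity)
  have t1 : A * (n * q * p * h * v) = (n - 1) * a * (p * h * v) := by rw [← eA]; ring
  have t2 : G₀ * (n * q * p * h * v) ≤ a * q * (q * p * h * v) := by
    calc G₀ * (n * q * p * h * v) = (G₀ * n) * (q * p * h * v) := by ring
      _ ≤ _ := mul_le_mul_of_nonneg_right eG (by positivity)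
  have t3 : U₁ * (n * q * p * h * v) ≤ a * (q * p - q - p + 1) * (n * h * v) := by
    calc U₁ * (n * q * p * h * v) = (U₁ * (q * p)) * (n * h * v) := by ring
      _ ≤ _ := mul_le_mul_of_nonneg_right e1 (by positivity)
  have t4 : U₂ * (n * q * p * h * v) ≤ a * (h - 1) * (n * q) := by
    calc U₂ * (n * q * p * h * v) = (U₂ * (h * v * p)) * (n * q) := by ring
      _ ≤ _ := mul_le_mul_of_nonneg_right e2 (by positivity)
  rw [add_mul, add_mul, add_mul] at t0
  have m1 : 0 ≤ a * (h * (p * v * (q * q - 1) + n * (q + v - v * q)) - n * q) := by linarith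
  have m2 := nonneg_of_mul_nonneg_right m1 ha
  have m3 : 0 ≤ h * (p * v * (q * q) + n * (q + v - v * q)) := by
    have : 0 ≤ h * (p * v) := by positivity
    have : 0 ≤ n * q := by positivity
    linarith
  have m4 := nonneg_of_mul_nonneg_right m3 hh0
  have m5 : n * (v * (q - 1) - q) ≤ p * v * (q * q) := by linarith
  have hpos : 0 ≤ v * (q - 1) - q := by nlinarith only [hq, hv]
  have f1 : p * ((2 * q + 1) * (v * (q - 1) - q)) ≤ p * (v * (q * q)) := by
    calc p * ((2 * q + 1) * (v * (q - 1) - q)) = (p * (2 * q + 1)) * (v * (q - 1) - q) := by ring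
      _ ≤ n * (v * (q - 1) - q) := mul_le_mul_of_nonneg_right hn hpos
      _ ≤ p * (v * (q * q)) := by linarith
  have f2 := le_of_mul_le_mul_left f1 hp0
  have f3 : 7 * (q * q - q - 1) ≤ v * (q * q - q - 1) :=
    mul_le_mul_of_nonneg_right hv (by nlinarith only [hq])
  nlinarith only [f2, f3, hq]

namespace TenPair

variable {M N K Ks V : Subgroup G} (P : TenPair M N K Ks V) [Fintype M]
include P

/-- `|M_σ| ≥ |C_{M_σ}(K)| (2|K| + 1)`. -/
theorem card_core_ge {ζ : M → ℂ} (hζ : ζ ∈ tenS M) (hirr : Cfsg.IsIrrCharacter M ζ)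
    (hder : ∀ x : M, (x : G) ∈ ⁅⁅M, M⁆, ⁅M, M⁆⁆ → ζ x = (Nat.card K : ℂ)) :
    Nat.card Ks * (2 * Nat.card K + 1) ≤ Nat.card (Cfsg.sigmaCore M) := by
  classical
  set D : Subgroup G := ⁅⁅M, M⁆, ⁅M, M⁆⁆ with hD
  have hDσ : D ≤ Cfsg.sigmaCore M := (commutator_le_self _).trans P.derived_M.le
  have hDM : D ≤ M := hDσ.trans (map_subtype_le _)
  have hDn : ∀ x y : M, (y : G) ∈ D → ((x * y * x⁻¹ : M) : G) ∈ D := by
    intro x y hy
    have hn : D.map (MulAut.conj (x : G)).toMonoidHom = D := by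
      simp only [hD, Subgroup.map_commutator]
      rw [show M.map (MulAut.conj (x : G)).toMonoidHom = M from
        Subgroup.ext fun g => ⟨fun ⟨a, ha, e⟩ => e ▸ M.mul_mem (M.mul_mem x.2 ha) (M.inv_mem x.2),
          fun hg => ⟨(x : G)⁻¹ * g * (x : G), M.mul_mem (M.mul_mem (M.inv_mem x.2) hg) x.2, by simp [mul_assoc]⟩⟩]
    rw [← hn]
    exact ⟨y, hy, by simp⟩
  have hKs : Ks ≤ D := P.hKs.trans_le (Cfsg.Agent.S1365.result P.hG M P.hM K ⊥ P.hKU P.hK1).2
  set q : ℕ := Nat.card K with hq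
  set n : ℕ := Nat.card (Cfsg.sigmaCore M) with hn
  set d : ℕ := Nat.card D with hd
  obtain ⟨m, hm⟩ : d ∣ n := card_dvd_of_le hDσ
  have hpd : Nat.card Ks ∣ d := card_dvd_of_le hKs
  have hMc : Nat.card M = n * q := FittingHall.card_complIn P.compl_M
  have hd0 : 0 < d := Nat.card_pos
  have hq0 : 0 < q := Nat.card_pos
  have hm0 : 0 < m := by
    rcases Nat.eq_zero_or_pos m with e | e
    · rw [e, mul_zero] at hm; exact absurd hm Nat.card_pos.ne'
    · exact e
  set H := (Cfsg.sigmaCore M).subgroupOf M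
  set u : M → ℂ := Cfsg.indFun H (fun _ => (1 : ℂ)) with hu
  set f : M → ℂ := fun x => if (x : G) ∈ D then 1 else 0 with hf
  have hsum : ∀ {φ : M → ℂ} {c : ℂ}, (∀ x : M, (x : G) ∈ D → φ x = c) →
      Cfsg.classInner f φ = ((d : ℂ) * conj c) / ((n : ℂ) * (q : ℂ)) := by
    intro φ c hφ
    rw [classInner_def, hMc, Nat.cast_mul, div_eq_inv_mul]
    congr 1
    rw [← Finset.sum_filter_add_sum_filter_not Finset.univ (fun x : M => (x : G) ∈ D),
      Finset.sum_congr rfl (g := fun _ => conj c) fun x hx => by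
        simp [hf, (Finset.mem_filter.1 hx).2, hφ x (Finset.mem_filter.1 hx).2],
      Finset.sum_eq_zero (s := Finset.univ.filter fun x : M => ¬ (x : G) ∈ D) fun x hx => by
        simp [hf, (Finset.mem_filter.1 hx).2],
      add_zero, Finset.sum_const, nsmul_eq_mul]
    congr 2
    rw [hd, ← Fintype.card_subtype, ← Nat.card_eq_fintype_card]
    exact Nat.card_congr ⟨fun x => ⟨x.1, x.2⟩, fun x => ⟨⟨x.1, hDM x.2⟩, x.2⟩, fun x => rfl, fun x => rfl⟩
  have hfu : Cfsg.classInner f u = ((d : ℂ) * q) / ((n : ℂ) * q) := by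
    rw [hsum (φ := u) (c := (q : ℂ)) fun x hx => P.ind_one_of_mem (hDσ hx), map_natCast]
  have hfz : ∀ φ : M → ℂ, φ = ζ ∨ φ = Cfsg.conjFun ζ → Cfsg.classInner f φ = ((d : ℂ) * q) / ((n : ℂ) * q) := by
    intro φ hφ
    rw [hsum (φ := φ) (c := (q : ℂ)) fun x hx => ?_, map_natCast]
    rcases hφ with rfl | rfl
    · exact hder x hx
    · simp only [Cfsg.conjFun, hder x hx, map_natCast]
  have hff : Cfsg.classInner f f = (d : ℂ) / ((n : ℂ) * q) := by
    rw [hsum (φ := f) (c := (1 : ℂ)) fun x hx => if_pos hx, map_one, mul_one]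
  set c : ℂ := ((q : ℂ) * m)⁻¹ with hc
  set g := f - c • u with hg
  have hc' : conj c = c := by simp [hc]
  have hn' : (n : ℂ) = (d : ℂ) * m := by rw [hm]; push_cast; ring
  have hd' : (d : ℂ) ≠ 0 := by exact_mod_cast hd0.ne'
  have hm' : (m : ℂ) ≠ 0 := by exact_mod_cast hm0.ne'
  have hq' : (q : ℂ) ≠ 0 := by exact_mod_cast hq0.ne'
  have hgg : Cfsg.classInner g g = (((1 : ℝ) / (q * m) - 1 / (q * m * m) : ℝ) : ℂ) := by
    rw [hg, classInner_sub_left, classInner_sub_right, classInner_sub_right, classInner_smul_right,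
      classInner_smul_left, classInner_smul_left, classInner_smul_right, hff, hfu, P.norm_ind_one, hc',
      ← classInner_conj f u, hfu, hc, hn']
    simp only [map_div₀, map_mul, map_natCast]
    push_cast
    field_simp
    ring
  have hgz : ∀ φ : M → ℂ, φ = ζ ∨ φ = Cfsg.conjFun ζ → Cfsg.classInner g φ = (((1 : ℝ) / m : ℝ) : ℂ) := by
    intro φ hφ
    have hu0 : Cfsg.classInner u φ = 0 := P.inner_ind_one_mem (by
      rcases hφ with rfl | rfl
      · exact hζ
      · exact tenS_conj hζ)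
    rw [hg, classInner_sub_left, classInner_smul_left, hu0, mul_zero, sub_zero, hfz φ hφ, hn']
    push_cast
    field_simp
  have hne := P.tenS_conj_ne hζ
  have hb := bessel {ζ, Cfsg.conjFun ζ} (fun α hα β hβ => by
      simp only [Finset.mem_insert, Finset.mem_singleton] at hα hβ
      rcases hα with rfl | rfl <;> rcases hβ with rfl | rfl
      · rw [if_pos rfl]; exact IsIrrCharacter.classInner_self hirr
      · rw [if_neg (Ne.symm hne)]; exact P.tenS_orth hζ (tenS_conj hζ) (Ne.symm hne)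
      · rw [if_neg hne]; exact P.tenS_orth (tenS_conj hζ) hζ hne
      · rw [if_pos rfl]; exact IsIrrCharacter.classInner_self (IsIrrCharacter.conj hirr)) g
  rw [Finset.sum_pair (Ne.symm hne), hgz _ (Or.inl rfl), hgz _ (Or.inr rfl), hgg, Complex.ofReal_re,
    Complex.norm_real, Real.norm_eq_abs, sq_abs] at hb
  have hmR : (0 : ℝ) < m := by exact_mod_cast hm0
  have hqR : (0 : ℝ) < q := by exact_mod_cast hq0
  have h2 : 2 * (q : ℝ) + 1 ≤ m := by
    rw [div_pow, one_pow] at hb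
    field_simp at hb
    nlinarith
  have h3 : 2 * q + 1 ≤ m := by exact_mod_cast h2
  rw [hm]
  exact Nat.mul_le_mul (Nat.le_of_dvd hd0 hpd) h3

variable {χ : (↥(K ⊔ Ks) →* ℂˣ) → G → ℂ} [Fintype (Row K Ks)]

set_option maxHeartbeats 1000000 in
/-- The counting argument. -/
theorem count_absurd (hχ : Cfsg.IsCyclicTIFamily K Ks χ)
    (hfr : ∀ v ∈ V, v ≠ 1 → ∀ h ∈ Cfsg.sigmaCore N, v * h = h * v → h = 1)
    {ζ : M → ℂ} (hζ : ζ ∈ tenS M) (hirr : Cfsg.IsIrrCharacter M ζ) (hd : ζ 1 = (Nat.card K : ℂ))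
    (hder : ∀ x : M, (x : G) ∈ ⁅⁅M, M⁆, ⁅M, M⁆⁆ → ζ x = (Nat.card K : ℂ))
    {X : G → ℂ} (hXc : Cfsg.IsClassFunction G X) (hX1 : Cfsg.classInner X X = 1)
    (himg : tenTau M (tenAlpha M ζ) = (∑ r : Row K Ks, χ (cell r col₀)) - X)
    (hρ : ∀ x : M, (x : G) ∈ Cfsg.sigmaCore M → x ≠ 1 →
      rhoOn (Cfsg.typeA M) M (Cfsg.supportR M) X x = ζ x) : False := by
  classical
  set n : ℕ := Nat.card (Cfsg.sigmaCore M) with hn
  set q : ℕ := Nat.card K with hq
  set p : ℕ := Nat.card Ks with hp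
  set v : ℕ := Nat.card V with hv
  set h : ℕ := Nat.card (Cfsg.sigmaCore N) with hh
  set a : ℕ := Nat.card G with ha
  have hMc : Nat.card M = n * q := FittingHall.card_complIn P.compl_M
  have hcop : Nat.Coprime q p := coprime_of_cyclic_sup P.W_M.2.2.1 P.W_M.2.2.2.1 P.W_M.2.2.2.2.1
  set A := {g : G | ∃ a ∈ Cfsg.typeA M, ∃ u ∈ Cfsg.supportR M a, ∃ x : G, x * g * x⁻¹ = a * u} with hA
  set G0 := {g : G | g ∉ A ∧ (orderOf g).Coprime q} with hG0
  set R := {g : G | g ∉ A ∧ ¬ (orderOf g).Coprime q} with hR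
  set S₁ := {w : G | w ∈ K ⊔ Ks ∧ w ∉ K ∧ w ∉ Ks} with hS₁
  set S₂ := {x : G | x ∈ Cfsg.sigmaCore N ∧ x ≠ 1} with hS₂
  set U₁ := {g : G | ∃ x : G, x * g * x⁻¹ ∈ S₁} with hU₁
  set U₂ := {g : G | ∃ x : G, x * g * x⁻¹ ∈ S₂} with hU₂
  -- the support of `M`
  have hAcard : A.ncard * (n * q) = (n - 1) * a := by
    have e : A = Cfsg.tildeOf M ((Cfsg.sigmaCore M : Set G) \ {1}) := by
      ext g
      rw [hA, Cfsg.tildeOf, P.typeA_M]
      constructor
      · rintro ⟨b, hb, u, hu, x, hx⟩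
        exact ⟨b, hb, u, hu, x⁻¹, by rw [← hx]; group⟩
      · rintro ⟨b, hb, u, hu, y, hy⟩
        exact ⟨b, hb, u, hu, y⁻¹, by rw [hy]; group⟩
    rw [e, Cfsg.Agent.S1377.result P.hG M P.hM, ← hMc, mul_assoc, mul_comm M.index, M.card_mul_index]
  -- singular elements outside the support
  have hRsub : R ⊆ U₁ ∪ U₂ := by
    rintro g ⟨-, hgc⟩
    obtain ⟨s, hs, hs1, hs2⟩ := Nat.Prime.not_coprime_iff_dvd.1 hgc
    have := Fact.mk hs
    set g₁ := g ^ (orderOf g / s) with hg₁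
    have hg₁o : orderOf g₁ = s := orderOf_pow_orderOf_div (orderOf_pos g).ne' hs1
    have hsσ : s ∈ Cfsg.sigma N :=
      (Sig.sigma_core P.hG P.hN).1.2.1 s hs (hs2.trans (card_dvd_of_le P.K_le))
    obtain ⟨x, hx⟩ := Tau.conj_into_sigmaCore P.hG P.hN (Y := zpowers g₁)
      (fun e => hs.ne_one (by rw [← hg₁o, zpowers_eq_bot.1 e, orderOf_one]))
      (fun r hr hd => by
        rw [Nat.card_zpowers, hg₁o] at hd
        rwa [(Nat.prime_dvd_prime_iff_eq hr hs).1 hd])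
    have hh₁ : x * g₁ * x⁻¹ ∈ Cfsg.sigmaCore N := hx ⟨g₁, mem_zpowers g₁, rfl⟩
    have hh₁1 : x * g₁ * x⁻¹ ≠ 1 := fun e => hs.ne_one (by rw [← hg₁o, conj_eq_one_iff.1 e, orderOf_one])
    have hcomm : Commute (x * g * x⁻¹) (x * g₁ * x⁻¹) :=
      ((Commute.refl g).pow_right _).map (MulAut.conj x).toMonoidHom
    have hcN : x * g * x⁻¹ ∈ N := P.centralizer_le_N hh₁ hh₁1 (mem_centralizer_singleton_iff.2 hcomm.eq)
    by_cases hc' : x * g * x⁻¹ ∈ ⁅N, N⁆
    · refine Or.inr ⟨x, P.mem_core_of_commute hfr hc' hh₁ hh₁1 hcomm.eq, fun e => ?_⟩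
      have : g = 1 := conj_eq_one_iff.1 e
      rw [this, orderOf_one] at hs1
      exact hs.not_dvd_one hs1
    · obtain ⟨y, hy1, hy2⟩ := P.primeDade_N.exists_conj (x := (⟨x * g * x⁻¹, hcN⟩ : N)) hc'
      have hy : (((y * ⟨x * g * x⁻¹, hcN⟩ * y⁻¹ : N) : G)) = ((y : G) * x) * g * ((y : G) * x)⁻¹ := by
        simp [mul_assoc]
      rw [hy] at hy1 hy2
      refine Or.inl ⟨(y : G) * x, by rwa [sup_comm], hy2, fun hKs => ?_⟩
      have hd1 : s ∣ p := hs1.trans (by
        rw [← conj_orderOf ((y : G) * x) g]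
        exact Ks.orderOf_dvd_natCard hKs)
      exact hs.ne_one (Nat.eq_one_of_dvd_coprimes hcop hs2 hd1)
  have hU₁card : U₁.ncard * (q * p) ≤ a * (q * p - q - p + 1) := by
    have hW := card_conj_mul_le (L := K ⊔ Ks) (S := S₁) fun x hx s hs => by
      have hcyc := P.W_M.2.2.2.2.1
      have hxs : x * s = s * x := by
        letI := hcyc.commGroup
        exact congrArg Subtype.val (mul_comm (⟨x, hx⟩ : ↥(K ⊔ Ks)) ⟨s, hs.1⟩)
      rwa [hxs, mul_inv_cancel_right]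
    rw [card_sup_eq P.W_M.2.2.1 P.W_M.2.2.2.1] at hW
    refine hW.trans (Nat.mul_le_mul_left _ ?_)
    have hKK : ((K : Set G) ∪ (Ks : Set G)) ⊆ (↑(K ⊔ Ks) : Set G) :=
      Set.union_subset (le_sup_left : K ≤ K ⊔ Ks) (le_sup_right : Ks ≤ K ⊔ Ks)
    have hSd : S₁ = (↑(K ⊔ Ks) : Set G) \ ((K : Set G) ∪ (Ks : Set G)) := by
      ext w; simp [hS₁, and_assoc]
    have hcardU : ((K : Set G) ∪ (Ks : Set G)).ncard + 1 = q + p := by
      have h1 := Set.ncard_union_add_ncard_inter (K : Set G) (Ks : Set G)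
      rw [show (K : Set G) ∩ (Ks : Set G) = {1} by rw [← Subgroup.coe_inf, P.W_M.2.2.1, Subgroup.coe_bot],
        Set.ncard_singleton] at h1
      rw [h1, hq, hp, ← Nat.card_coe_set_eq, ← Nat.card_coe_set_eq]
      rfl
    rw [hSd, Set.ncard_sdiff hKK (Set.toFinite _), ← Nat.card_coe_set_eq (↑(K ⊔ Ks) : Set G)]
    have e : Nat.card ↥(K ⊔ Ks) = q * p := card_sup_eq P.W_M.2.2.1 P.W_M.2.2.2.1
    simp only [SetLike.coe_sort_coe]
    rw [e]
    omega
  have hU₂card : U₂.ncard * (h * v * p) ≤ a * (h - 1) := by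
    have hN' := card_conj_mul_le (L := N) (S := S₂) fun x hx s hs =>
      ⟨(mem_normalizer_iff.1 (TH.le_normalizer_core N hx) s).1 hs.1, fun e => hs.2 (conj_eq_one_iff.1 e)⟩
    rw [P.card_N] at hN'
    refine hN'.trans (Nat.mul_le_mul_left _ ?_)
    rw [show S₂ = (Cfsg.sigmaCore N : Set G) \ {1} from rfl,
      Set.ncard_sdiff_singleton_of_mem (Cfsg.sigmaCore N).one_mem, ← Nat.card_coe_set_eq]
    rfl
  -- `X` is at least one in absolute value on `G0`
  have hT : ∀ g ∈ G0, 1 ≤ ‖X g‖ ^ 2 := by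
    rintro g ⟨hgA, hgc⟩
    obtain ⟨m, hm, hsum⟩ := P.rows_odd hχ hgc
    have h0 : tenTau M (tenAlpha M ζ) g = 0 := dadeIsometry_eq_zero P.dade_A hgA
    rw [himg, Pi.sub_apply, Finset.sum_apply, hsum, sub_eq_zero] at h0
    rw [← h0, Complex.norm_intCast, sq_abs]
    have : m ≠ 0 := fun e => by simp [e] at hm
    have := one_le_mul_self this
    rw [sq]
    exact_mod_cast this
  have hGsum : ∑ g : G, ‖X g‖ ^ 2 = (a : ℝ) := by
    have h1 := sum_eq_card_mul_classInner X X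
    rw [hX1, mul_one] at h1
    have h2 : ((∑ g : G, ‖X g‖ ^ 2 : ℝ) : ℂ) = (a : ℂ) := by
      rw [← h1]
      push_cast
      exact Finset.sum_congr rfl fun g _ => (Complex.mul_conj' _).symm
    exact_mod_cast h2
  -- the norm on the kernel
  have hnorm := dade_norm_ge P.dade_A hXc (ψ := rhoOn (Cfsg.typeA M) M (Cfsg.supportR M) X)
    fun b hb => rhoOn_of_mem hb
  have hkernel : ∑ᶠ b ∈ {b : M | (b : G) ∈ Cfsg.typeA M}, ‖rhoOn (Cfsg.typeA M) M (Cfsg.supportR M) X b‖ ^ 2 =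
      (Nat.card M : ℝ) - (q : ℝ) ^ 2 := by
    rw [finsum_mem_eq_finite_toFinset_sum _ (Set.toFinite _)]
    have hζsum : ∑ b : M, ‖ζ b‖ ^ 2 = (Nat.card M : ℝ) := by
      have h1 := sum_eq_card_mul_classInner ζ ζ
      rw [IsIrrCharacter.classInner_self hirr, mul_one] at h1
      have h2 : ((∑ b : M, ‖ζ b‖ ^ 2 : ℝ) : ℂ) = (Nat.card M : ℂ) := by
        rw [← h1]
        push_cast
        exact Finset.sum_congr rfl fun g _ => (Complex.mul_conj' _).symm
      exact_mod_cast h2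
    rw [← hζsum, ← Finset.sum_erase_add _ _ (Finset.mem_univ (1 : M)), hd, Complex.norm_natCast, add_sub_cancel_right]
    refine (Finset.sum_congr rfl (g := fun b => ‖ζ b‖ ^ 2) fun b hb => ?_).trans
      (Finset.sum_subset (fun b hb => ?_) fun b hb hn' => ?_)
    · rw [Set.Finite.mem_toFinset] at hb
      rw [hρ b (P.typeA_M.le hb).1 fun e => (P.typeA_M.le hb).2 (by simp [e])]
    · rw [Set.Finite.mem_toFinset] at hb
      exact Finset.mem_erase.2 ⟨fun e => (P.typeA_M.le hb).2 (by simp [e]), Finset.mem_univ _⟩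
    · rw [Set.Finite.mem_toFinset] at hn'
      rw [P.tenS_off hζ fun hσ => hn' (P.mem_A hσ fun e => (Finset.mem_erase.1 hb).1 (Subtype.ext e)), norm_zero]
      simp
  rw [hkernel, hMc] at hnorm
  have hG0sum : (G0.ncard : ℝ) ≤ ∑ g : G, (if g ∈ A then 0 else ‖X g‖ ^ 2) := by
    calc (G0.ncard : ℝ) = ∑ g : G, (if g ∈ G0 then (1 : ℝ) else 0) := by
          rw [Finset.sum_boole, Set.ncard_eq_toFinset_card']
          congr 2
          ext g; simp
      _ ≤ _ := Finset.sum_le_sum fun g _ => by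
          by_cases hg : g ∈ G0
          · rw [if_pos hg, if_neg hg.1]; exact hT g hg
          · rw [if_neg hg]; split_ifs <;> positivity
  have hAsum : ∑ᶠ g ∈ A, ‖X g‖ ^ 2 = ∑ g : G, (if g ∈ A then ‖X g‖ ^ 2 else 0) := by
    rw [finsum_mem_eq_finite_toFinset_sum _ (Set.toFinite _), ← Finset.sum_filter]
    congr 1
    ext g
    simp only [Set.Finite.mem_toFinset, Finset.mem_filter, Finset.mem_univ, true_and]
  rw [hAsum] at hnorm
  have hsplit : ∑ g : G, (if g ∈ A then ‖X g‖ ^ 2 else 0) + ∑ g : G, (if g ∈ A then 0 else ‖X g‖ ^ 2) = (a : ℝ) := by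
    rw [← hGsum, ← Finset.sum_add_distrib]
    exact Finset.sum_congr rfl fun g _ => by split_ifs <;> simp
  have htot : a ≤ A.ncard + G0.ncard + (U₁.ncard + U₂.ncard) := by
    have hu : (Set.univ : Set G) ⊆ (A ∪ G0) ∪ R := fun g _ => by
      by_cases h1 : g ∈ A
      · exact Or.inl (Or.inl h1)
      by_cases h2 : (orderOf g).Coprime q
      · exact Or.inl (Or.inr ⟨h1, h2⟩)
      · exact Or.inr ⟨h1, h2⟩
    rw [ha, ← Set.ncard_univ]
    exact (Set.ncard_le_ncard hu (Set.toFinite _)).trans ((Set.ncard_union_le _ _).trans (Nat.add_le_add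
      (Set.ncard_union_le _ _) ((Set.ncard_le_ncard hRsub (Set.toFinite _)).trans (Set.ncard_union_le _ _))))
  have hn0 : 0 < n := Nat.card_pos
  have hq0 : 0 < q := Nat.card_pos
  have hp0 : 0 < p := Nat.card_pos
  have hh0 : 0 < h := Nat.card_pos
  have ha0 : 0 < a := Nat.card_pos
  have hq3 : 3 ≤ q := three_le_card_of_odd P.hK1 (P.oddG K)
  have hp3 : 3 ≤ p := three_le_card_of_odd P.Ks_ne (P.oddG Ks)
  have hv7 : 2 * p + 1 ≤ v := P.two_Ks_lt_V
  have hnge : p * (2 * q + 1) ≤ n := P.card_core_ge hζ hirr hder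
  have hqp : q + p ≤ q * p := by nlinarith only [hq3, hp3]
  -- in the reals
  have eA : (A.ncard : ℝ) * (n * q) = ((n : ℝ) - 1) * a := by
    have := congrArg (fun k : ℕ => (k : ℝ)) hAcard
    simpa [Nat.cast_sub (show 1 ≤ n by omega)] using this
  have e1 : (U₁.ncard : ℝ) * (q * p) ≤ a * ((q : ℝ) * p - q - p + 1) := by
    have h1 : ((U₁.ncard * (q * p) : ℕ) : ℝ) ≤ ((a * (q * p - q - p + 1) : ℕ) : ℝ) := by exact_mod_cast hU₁card
    rw [Nat.cast_mul, Nat.cast_mul, Nat.cast_mul, Nat.cast_add, Nat.cast_sub (by omega), Nat.cast_sub (by omega),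
      Nat.cast_mul, Nat.cast_one] at h1
    linarith
  have e2 : (U₂.ncard : ℝ) * (h * v * p) ≤ a * ((h : ℝ) - 1) := by
    have h1 : ((U₂.ncard * (h * v * p) : ℕ) : ℝ) ≤ ((a * (h - 1) : ℕ) : ℝ) := by exact_mod_cast hU₂card
    rw [Nat.cast_mul, Nat.cast_mul, Nat.cast_mul, Nat.cast_mul, Nat.cast_sub (by omega), Nat.cast_one] at h1
    linarith
  have eT : (a : ℝ) ≤ A.ncard + G0.ncard + (U₁.ncard + U₂.ncard) := by exact_mod_cast htot
  have hnR : (0 : ℝ) < n := by exact_mod_cast hn0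
  have hqR : (0 : ℝ) < q := by exact_mod_cast hq0
  have haR : (0 : ℝ) < a := by exact_mod_cast ha0
  have eG : (G0.ncard : ℝ) * n ≤ a * q := by
    set SA := ∑ g : G, (if g ∈ A then ‖X g‖ ^ 2 else 0)
    have h1 : (G0.ncard : ℝ) ≤ a - SA := by linarith [hG0sum, hsplit]
    have h2 : (a : ℝ) * ((n : ℝ) * q - (q : ℝ) ^ 2) ≤ SA * ((n : ℝ) * q) := by
      have h3 := mul_le_mul_of_nonneg_left hnorm (show (0 : ℝ) ≤ a * ((n : ℝ) * q) by positivity)
      have hnq : (n : ℝ) * q ≠ 0 := by positivity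
      push_cast at h3
      calc (a : ℝ) * ((n : ℝ) * q - (q : ℝ) ^ 2)
          = a * ((n : ℝ) * q) * (((n : ℝ) * q)⁻¹ * ((n : ℝ) * q - (q : ℝ) ^ 2)) := by field_simp
        _ ≤ a * ((n : ℝ) * q) * ((a : ℝ)⁻¹ * SA) := h3
        _ = SA * ((n : ℝ) * q) := by field_simp
    have h4 : (G0.ncard : ℝ) * n * q ≤ a * q * q := by
      nlinarith [mul_le_mul_of_nonneg_right h1 (show (0 : ℝ) ≤ (n : ℝ) * q by positivity), h2]
    exact le_of_mul_le_mul_right (by linarith) hqR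
  have hpR : (3 : ℝ) ≤ p := by exact_mod_cast hp3
  have hqR3 : (3 : ℝ) ≤ q := by exact_mod_cast hq3
  have hvR : (7 : ℝ) ≤ v := by exact_mod_cast (show 7 ≤ v by omega)
  have hhR : (1 : ℝ) ≤ h := by exact_mod_cast hh0
  have hngeR : (p : ℝ) * (2 * q + 1) ≤ n := by exact_mod_cast hnge
  exact count_ineq haR hpR hqR3 hvR hhR hngeR eT eA eG e1 e2

end TenPair

end CfsgLib.OddEnd
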