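import Cfsg.Agent.OddEnd.TenTwinsInduced
import Cfsg.Agent.OddEnd.TenSetup
import Cfsg.Agent.S1360
import Cfsg.Agent.S1363

/-!
# Peterfalvi 10.7, existence half

If some element of `V#` commutes with an element of `N_σ#`, then `N'` has two irreducible characters of one
degree, non-trivial on `N_σ`, one fixed by `Ks` and one moved by it.
-/

set_option autoImplicit false
set_option linter.style.haveILetI false
set_option linter.unusedSectionVars false

namespace CfsgLib.OddEnd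

open Subgroup Cfsg CfsgLib.Char CfsgLib.OddLocal CfsgLib.OddLocal.Kap

universe u

variable {G : Type u} [Group G] [Finite G] {M N K Ks V : Subgroup G}

theorem TenPair.exists_twin_chars (P : TenPair M N K Ks V) [Fintype N]
    [((⁅N, N⁆ : Subgroup G).subgroupOf N).Normal] {v h : G} (hv : v ∈ V) (hv1 : v ≠ 1)
    (hh : h ∈ Cfsg.sigmaCore N) (hh1 : h ≠ 1) (hvh : v * h = h * v) :
    ∃ θ θ' : ↥((⁅N, N⁆ : Subgroup G).subgroupOf N) → ℂ,
      Cfsg.IsIrrCharacter _ θ ∧ Cfsg.IsIrrCharacter _ θ' ∧ θ 1 = θ' 1 ∧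
      (∃ a : ↥((⁅N, N⁆ : Subgroup G).subgroupOf N), ((a : N) : G) ∈ Cfsg.sigmaCore N ∧ θ a ≠ θ 1) ∧
      (∃ a : ↥((⁅N, N⁆ : Subgroup G).subgroupOf N), ((a : N) : G) ∈ Cfsg.sigmaCore N ∧ θ' a ≠ θ' 1) ∧
      (∀ x ∈ Ks.subgroupOf N, conjOn x θ = θ) ∧ ∃ x ∈ Ks.subgroupOf N, conjOn x θ' ≠ θ' := by
  classical
  set D := (⁅N, N⁆ : Subgroup G).subgroupOf N with hDdef
  haveI := Fintype.ofFinite D
  haveI : IsMulCommutative V := (Cfsg.Agent.S1363.result P.hG N P.hN Ks V P.hNV P.Ks_ne).1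
  letI : CommGroup V := { (inferInstance : Group V) with mul_comm := mul_comm' }
  set H := Cfsg.sigmaCore N with hH
  have hHn : ∀ g ∈ N, ∀ x ∈ H, g * x * g⁻¹ ∈ H := fun g hg x hx =>
    (mem_normalizer_iff.1 (TH.le_normalizer_core N hg) x).1 hx
  have hVN : V ≤ N := P.hNV.compl.1
  have hVD : V ≤ ⁅N, N⁆ := P.derived_N.ge.trans' le_sup_left
  have hHD : H ≤ ⁅N, N⁆ := P.derived_N.ge.trans' le_sup_right
  have hdis : ∀ x ∈ V, x ∈ Ks ⊔ H → x = 1 := fun x hx hx' =>
    mem_bot.1 (P.hNV.compl.2.2.1.le ⟨hx, hx'⟩)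
  have hex : ∀ d : D, ∃ a : V, ((d : N) : G) * (a : G)⁻¹ ∈ H := fun d => by
    have hd : ((d : N) : G) ∈ V ⊔ H := P.derived_N.le d.2
    rw [← SetLike.mem_coe, coe_mul_of_left_le_normalizer_right V H (hVN.trans (TH.le_normalizer_core N))] at hd
    obtain ⟨a, ha, b, hb, e⟩ := hd
    refine ⟨⟨a, ha⟩, ?_⟩
    rw [← show a * b = ((d : N) : G) from e]
    exact hHn a (hVN ha) b hb
  choose f hf using hex
  have huniq : ∀ (d : D) (a : V), ((d : N) : G) * (a : G)⁻¹ ∈ H → f d = a := fun d a ha => by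
    have hx : (a : G) * (f d : G)⁻¹ ∈ Ks ⊔ H := mem_sup_right (by
      have := H.mul_mem (H.inv_mem ha) (hf d)
      rwa [mul_inv_rev, inv_inv, mul_assoc, inv_mul_cancel_left] at this)
    exact Subtype.ext (mul_inv_eq_one.1 (hdis _ (V.mul_mem a.2 (V.inv_mem (f d).2)) hx)).symm
  let π : D →* V := MonoidHom.mk' f fun a b => huniq _ _ (by
    have e : (((a * b : D) : N) : G) * ((f a * f b : V) : G)⁻¹ =
        (((a : N) : G) * (f a : G)⁻¹) * ((f a : G) * (((b : N) : G) * (f b : G)⁻¹) * (f a : G)⁻¹) := by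
      simp only [Subgroup.coe_mul]
      group
    rw [e]
    exact H.mul_mem (hf a) (hHn _ (hVN (f a).2) _ (hf b)))
  let ι : V →* D :=
    { toFun := fun a => ⟨⟨a, hVN a.2⟩, hVD a.2⟩
      map_one' := rfl
      map_mul' := fun _ _ => rfl }
  have hker : ∀ d : D, d ∈ π.ker ↔ ((d : N) : G) ∈ H := fun d => by
    rw [MonoidHom.mem_ker]
    constructor
    · intro e
      have := hf d
      rwa [show f d = 1 from e, OneMemClass.coe_one, inv_one, mul_one] at this
    · intro hd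
      exact huniq d 1 (by rwa [OneMemClass.coe_one, inv_one, mul_one])
  -- the automorphism
  obtain ⟨z, hz⟩ := P.hNV.cyclic.exists_generator
  have hzN : (z : G) ∈ N := P.hNV.hall.1 z.2
  have hzn : (z : G) ∈ normalizer (V : Set G) := P.hNV.normal z.2
  have hz1 : (z : G) ≠ 1 := fun e => P.Ks_ne (eq_bot_iff.2 fun x hx => by
    obtain ⟨n, hn⟩ := hz ⟨x, hx⟩
    have := congrArg Subtype.val hn
    rw [SubgroupClass.coe_zpow, e, one_zpow] at this
    exact mem_bot.2 this.symm)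
  let σ : MulAut D := MulAut.conjNormal (⟨z, hzN⟩ : N)
  let σA : MulAut V :=
    { toFun := fun a => ⟨z * a * (z : G)⁻¹, (mem_normalizer_iff.1 hzn a).1 a.2⟩
      invFun := fun a => ⟨(z : G)⁻¹ * a * z, by
        have := (mem_normalizer_iff.1 ((normalizer (V : Set G)).inv_mem hzn) a).1 a.2
        rwa [inv_inv] at this⟩
      left_inv := fun a => Subtype.ext (by dsimp only; group)
      right_inv := fun a => Subtype.ext (by dsimp only; group)
      map_mul' := fun a b => Subtype.ext (by simp only [Subgroup.coe_mul]; group) }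
  have hσval : ∀ d : D, (((σ d : D) : N) : G) = z * ((d : N) : G) * (z : G)⁻¹ := fun d => rfl
  have hcardD : Nat.card π.ker = Nat.card H := Nat.card_congr
    { toFun := fun x => ⟨((x : D) : N), (hker _).1 x.2⟩
      invFun := fun x => ⟨⟨⟨x, map_subtype_le _ x.2⟩, hHD x.2⟩, (hker _).2 x.2⟩
      left_inv := fun x => rfl
      right_inv := fun x => rfl }
  have hVH := decomp_hall P.hG P.hN P.hNV
  have hσh := (Sig.sigma_core P.hG P.hN).1
  have hgen : ∀ x : D, x ∈ π.ker → σ x = x → ((x : N) : G) ∈ K := fun x hx hσx => by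
    have hc : (z : G) * ((x : N) : G) = ((x : N) : G) * z := mul_inv_eq_iff_eq_mul.1
      ((hσval x).symm.trans (congrArg (fun y : D => ((y : N) : G)) hσx))
    have hm : ((x : N) : G) ∈ Ks ⊔ K :=
      (P.meet_N z.2 hz1).le ⟨(x : N).2, mem_centralizer_singleton_iff.2 hc.symm⟩
    rw [← SetLike.mem_coe, coe_mul_of_left_le_normalizer_right Ks K (fun a ha =>
      (centralizer_le_normalizer (K : Set G)) (mem_centralizer_iff.2 fun b hb =>
        (mem_centralizer_iff.1 ((P.hKe.le hb).2) a ha).symm))] at hm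
    obtain ⟨a, ha, b, hb, e⟩ := hm
    have haH : a ∈ H := by
      have := H.mul_mem ((hker x).1 hx) (H.inv_mem (P.K_le hb))
      rwa [← show a * b = ((x : N) : G) from e, mul_inv_cancel_right] at this
    have ha1 : a = 1 := mem_bot.1 ((disjoint_iff.1 (disjoint_of_coprime_natCard (Nat.coprime_of_dvd
      fun q hq h1 h2 => (P.hNV.hall.2.1 q hq h1).2.2.1 (hσh.2.1 q hq h2)))).le (⟨ha, haH⟩ : a ∈ Ks ⊓ H))
    rw [← show a * b = ((x : N) : G) from e, ha1, one_mul]
    exact hb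
  obtain ⟨g, hg⟩ := P.hKU.cyclic.exists_generator
  have hS : Twins.Data π ι σ σA (Nat.card Ks) :=
    { sec := fun a => huniq _ a (by
        change (a : G) * (a : G)⁻¹ ∈ H
        rw [mul_inv_cancel]
        exact H.one_mem)
      proj := fun d => huniq _ _ (by
        change (z : G) * ((d : N) : G) * (z : G)⁻¹ * ((z : G) * (f d : G) * (z : G)⁻¹)⁻¹ ∈ H
        rw [show (z : G) * ((d : N) : G) * (z : G)⁻¹ * ((z : G) * (f d : G) * (z : G)⁻¹)⁻¹ =
          (z : G) * (((d : N) : G) * (f d : G)⁻¹) * (z : G)⁻¹ by group]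
        exact hHn _ hzN _ (hf d))
      lift := fun a => Subtype.ext (Subtype.ext rfl)
      prime := P.Ks_prime
      pow_eq := by
        rw [← map_pow, show (⟨z, hzN⟩ : N) ^ Nat.card Ks = 1 from Subtype.ext (by
          rw [SubmonoidClass.coe_pow, OneMemClass.coe_one]
          exact congrArg Subtype.val (pow_card_eq_one' (x := z))), map_one]
      free := fun a ha => Subtype.ext (mem_bot.1 ((decomp_fpf P.hG P.hN P.hNV z.2 hz1).le
        ⟨a.2, mem_centralizer_singleton_iff.2 (mul_inv_eq_iff_eq_mul.1 (congrArg Subtype.val ha)).symm⟩))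
      copA := by
        rw [hcardD]
        exact Nat.coprime_of_dvd fun q hq h1 h2 => (hVH.2.1 q hq h2).2.2 (hσh.2.1 q hq h1)
      copp := by
        rw [hcardD]
        exact Nat.coprime_of_dvd fun q hq h1 h2 => (P.hNV.hall.2.1 q hq h2).2.2.1 (hσh.2.1 q hq h1)
      cyc := ⟨⟨⟨g, map_subtype_le _ (P.K_le g.2)⟩, hHD (P.K_le g.2)⟩, (hker _).2 (P.K_le g.2),
        Subtype.ext (Subtype.ext ((hσval _).trans (mul_inv_eq_iff_eq_mul.2
          (mem_centralizer_iff.1 (P.hKe.le g.2).2 z z.2)))),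
        fun x hx hσx => by
          obtain ⟨n, hn⟩ := hg ⟨_, hgen x hx hσx⟩
          refine ⟨n, Subtype.ext (Subtype.ext ?_)⟩
          simpa using congrArg Subtype.val hn⟩
      odd := by
        rw [hDdef, Nat.card_congr (subgroupOfEquivOfLe (derived_compl P.hG P.hN P.hNV P.Ks_ne).1).toEquiv]
        exact P.oddG _
      solvable := by
        haveI := solvable_le P.hG P.hN (le_refl N)
        infer_instance }
  obtain ⟨U₀, hU₀V, hU₀e, hU₀⟩ := Cfsg.Agent.S1360.result P.hG N P.hN Ks V P.hNV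
  have hnc : ¬ IsCyclic V := fun hc => hv1 <| hU₀ v (by
    have : U₀ = V := eq_of_le_of_card_ge hU₀V (by
      rw [← IsCyclic.exponent_eq_card (α := V), ← hU₀e]
      exact Nat.le_of_dvd Nat.card_pos Group.exponent_dvd_nat_card)
    rwa [this]) ⟨hVN hv, h, hh, hh1, hvh⟩
  obtain ⟨u₀, hu₀, hu1⟩ : ∃ u ∈ U₀, u ≠ 1 := (U₀.bot_or_exists_ne_one).resolve_left fun e => by
    subst e
    haveI : Subsingleton (⊥ : Subgroup G) := Unique.instSubsingleton
    rw [Monoid.exp_eq_one_of_subsingleton] at hU₀e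
    haveI := Monoid.exp_eq_one_iff.1 hU₀e.symm
    exact hv1 (congrArg Subtype.val (Subsingleton.elim (⟨v, hv⟩ : V) 1))
  have hne : π.ker ≠ ⊥ := fun e => hh1 (by
    have := (hker ⟨⟨h, map_subtype_le _ hh⟩, hHD hh⟩).2 hh
    rw [e, mem_bot] at this
    exact congrArg (fun y : D => ((y : N) : G)) this)
  obtain ⟨θ, θ', hθ, hθ', h1, ⟨d, hd, hd'⟩, ⟨d₂, hd₂, hd₂'⟩, hfix, hmove⟩ :=
    hS.exists_twins hnc hne (u := ⟨u₀, hU₀V hu₀⟩) fun x hx hcomm => by
      by_contra hx1
      refine hu1 (hU₀ u₀ hu₀ ⟨hVN (hU₀V hu₀), _, (hker x).1 hx, fun e => hx1 (Subtype.ext (Subtype.ext e)), ?_⟩)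
      exact congrArg (fun y : D => ((y : N) : G)) hcomm
  refine ⟨θ, θ', hθ, hθ', h1, ⟨d, (hker d).1 hd, hd'⟩, ⟨d₂, (hker d₂).1 hd₂, hd₂'⟩, fun x hx => ?_,
    ⟨z, hzN⟩, z.2, fun e => hmove (by rwa [conjOn_eq_comp] at e)⟩
  obtain ⟨n, hn⟩ := hz ⟨(x : G), hx⟩
  have hxe : x = (⟨z, hzN⟩ : N) ^ n := Subtype.ext (by
    rw [SubgroupClass.coe_zpow]
    exact (congrArg Subtype.val hn).symm)
  have hzi : (⟨z, hzN⟩ : N) ∈ inertia θ := by
    rw [mem_inertia, conjOn_eq_comp]
    exact hfix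
  exact (mem_inertia θ x).1 (hxe ▸ (inertia θ).zpow_mem hzi n)

end CfsgLib.OddEnd
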