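import Cfsg.Agent.OddEnd.TenNonCoherent
import Cfsg.Agent.OddEnd.TenTwins

/-!
# Peterfalvi 10.8: `S` is not coherent when `U = 1`
-/

set_option autoImplicit false

namespace CfsgLib.OddEnd

universe u

variable {G : Type u} [Group G] [Fintype G]

/-- Peterfalvi 10.8. -/
theorem TenPair.not_coherent {M N K Ks V : Subgroup G} (P : TenPair M N K Ks V) [Fintype M] :
    ¬ Cfsg.IsCoherent (tenS M) ({1}ᶜ : Set M) (tenTau M) := by
  haveI := Fintype.ofFinite N
  haveI := P.normal_derived_N
  exact P.not_coherent_of fun {v h} hv hv1 hh hh1 hvh => P.exists_twin_chars hv hv1 hh hh1 hvh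

end CfsgLib.OddEnd
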