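import Cfsg.Agent.OddEnd.DadeAux
import Cfsg.Agent.Char.CoherenceNontrivialZ
import Cfsg.Agent.Char.CyclicUnique
import Cfsg.Agent.S1523

/-!
The images of the linear part are constant on a central subgroup, and congruent there to their degree
(Peterfalvi 6.7, 6.8).
-/

set_option autoImplicit false
set_option linter.style.haveILetI false

namespace CfsgLib.OddEnd

open CfsgLib.Char
open scoped ComplexConjugate

universe u

variable {G : Type u} [Group G]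

/-- The Dade map commutes with the automorphisms of the field. -/
theorem dade_map_ringEquiv [Finite G] {A : Set G} {L : Subgroup G} {R : G → Subgroup G}
    (hD : Cfsg.DadeHypothesis A L R) {α : L → ℂ} (hα : Cfsg.IsClassFunction L α) (σ : ℂ ≃+* ℂ) (g : G) :
    Cfsg.dadeIsometry A L R (fun x => σ (α x)) g = σ (Cfsg.dadeIsometry A L R α g) := by
  by_cases hg : ∃ a ∈ A, ∃ u ∈ R a, ∃ x : G, x * g * x⁻¹ = a * u
  · obtain ⟨a, ha, u, hu, x, hx⟩ := hg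
    rw [dadeIsometry_apply hD hα (a := ⟨a, hD.subset ha⟩) ha hu hx,
      dadeIsometry_apply hD (fun y z => congrArg σ (hα y z)) (a := ⟨a, hD.subset ha⟩) ha hu hx]
  · rw [dadeIsometry_eq_zero hD hg, dadeIsometry_eq_zero hD hg, map_zero]

/-- An automorphism of the field keeps a signed irreducible signed irreducible. -/
theorem signed_map_ringEquiv [Finite G] {x : G → ℂ} (h : IsSignedIrr x) (σ : ℂ ≃+* ℂ) :
    IsSignedIrr fun g => σ (x g) := by
  rcases h with h | h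
  · exact Or.inl (IsIrrCharacter.map_ringEquiv h σ)
  · refine Or.inr ?_
    have e : (-fun g => σ (x g)) = fun g => σ ((-x) g) := funext fun g => by simp
    rw [e]
    exact IsIrrCharacter.map_ringEquiv h σ

/-- Of two orthogonal pairs of signed irreducibles of one degree with one difference, the first members agree. -/
theorem eq_of_pair_diff [Fintype G] {s s' a b : G → ℂ} (hs : IsSignedIrr s) (ha : IsSignedIrr a)
    (hb : IsSignedIrr b) (h : Cfsg.classInner s' s = 0) (e : a - b = s - s')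
    (hsa : s 1 = a 1) (hab : a 1 = b 1) : a = s := by
  have h1 : Cfsg.classInner a s - Cfsg.classInner b s = 1 := by
    rw [← classInner_sub_left, e, classInner_sub_left, IsSignedIrr.classInner_self hs, h, sub_zero]
  by_contra hne
  have h0 : Cfsg.classInner a s = 0 := by
    by_contra h0
    obtain ⟨k, -, hk, -⟩ := IsSignedIrr.eq_smul_of_classInner_ne ha hs h0
    have := congrFun hk 1
    rw [Pi.smul_apply, smul_eq_mul, hsa] at this
    have hk1 : k = 1 := by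
      by_contra hk1
      exact IsSignedIrr.apply_one_ne_zero ha (mul_left_cancel₀ (sub_ne_zero.2 hk1) (by
        rw [mul_zero, sub_mul, one_mul, ← this, sub_self]))
    exact hne (by rw [hk, hk1, one_smul])
  rw [h0, zero_sub] at h1
  have hb0 : Cfsg.classInner b s ≠ 0 := fun e0 => by rw [e0, neg_zero] at h1; exact zero_ne_one h1
  obtain ⟨k, -, hk, hkv⟩ := IsSignedIrr.eq_smul_of_classInner_ne hb hs hb0
  rw [hkv] at h1
  have := congrFun hk 1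
  rw [Pi.smul_apply, smul_eq_mul, hsa, ← hab, show k = -1 by linear_combination -h1] at this
  exact IsSignedIrr.apply_one_ne_zero ha (by linear_combination this / 2)

variable [Fintype G] {L : Subgroup G} [Fintype L] {K : Subgroup L} [hK : K.Normal]
  {τ : (L → ℂ) → G → ℂ} {R : (L → ℂ) → Finset (G → ℂ)}

/-- With the characters not trivial on a central `Z` irreducible, the images of the linear part are constant
on the non-identity elements of `Z`. -/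
theorem const_of_irreducible (hsolv : Group.IsSolvable K)
    (hS : Cfsg.IsCoherenceSystem (Cfsg.inducedIrrAbove K ⊥) τ R) (hodd : Odd (Nat.card L))
    (hnil : Group.IsNilpotent K) (hH₁K : ⁅K, K⁆ < K) (hKL : K < ⊤)
    (hfrob : ∀ k ∈ K, k ∉ ⁅K, K⁆ → ∀ x : L, x * k * x⁻¹ * k⁻¹ ∈ ⁅K, K⁆ → x ∈ K)
    (hYirr : ∀ φ ∈ Cfsg.inducedIrrAbove K ⁅K, K⁆, Cfsg.IsIrrCharacter L φ)
    (hrec : ∀ α ∈ Cfsg.zspanOn (Cfsg.inducedIrrAbove K ⊥) ({1}ᶜ : Set L), ∀ ξ : G → ℂ,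
      Cfsg.IsGeneralizedCharacter G ξ → Cfsg.classInner (τ α) ξ = Cfsg.classInner α fun x : L => ξ x)
    (Z : Subgroup L) [Z.Normal] (hZ1 : Z ≠ ⊥) (hZD : Z ≤ ⁅K, K⁆)
    (hZc : ∀ z ∈ Z, ∀ k ∈ K, z * k = k * z)
    (hirr : ∀ χ ∈ Cfsg.inducedIrrAbove K ⊥ \ Cfsg.inducedIrrAbove K Z, Cfsg.IsIrrCharacter L χ)
    {τ₁ : (L → ℂ) → G → ℂ}
    (hτ₁ : Cfsg.IsLinearIsometryOn (Cfsg.zspan (Cfsg.inducedIrrAbove K ⁅K, K⁆)) τ₁)
    (hτ₁τ : ∀ α ∈ Cfsg.zspanOn (Cfsg.inducedIrrAbove K ⁅K, K⁆) ({1}ᶜ : Set L), τ₁ α = τ α)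
    {ψ : L → ℂ} (hψ : ψ ∈ Cfsg.inducedIrrAbove K ⁅K, K⁆) :
    ∀ z ∈ Z, ∀ z' ∈ Z, z ≠ 1 → z' ≠ 1 → τ₁ ψ (z : L) = τ₁ ψ (z' : L) := by
  classical
  set S := Cfsg.inducedIrrAbove K ⊥
  set X := S \ Cfsg.inducedIrrAbove K Z with hX
  set Y := Cfsg.inducedIrrAbove K ⁅K, K⁆
  have hZK : Z ≤ K := hZD.trans hH₁K.le
  obtain ⟨-, σ, hσ, hστ⟩ := coherent_nontrivial_central hsolv hS hodd hnil hH₁K hKL hfrob Z hZ1 hZK hZc hirr
  have hXeq : X = {χ | Cfsg.IsIrrCharacter L χ ∧ ∃ z ∈ Z, χ z ≠ χ 1} := inducedIrrAbove_sdiff_eq hZK hirr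
  have hXS : X ⊆ S := Set.sdiff_subset
  have hYS : Y ⊆ S := inducedIrrAbove_subset_bot K _
  have hXY : Disjoint X Y := Set.disjoint_left.2 fun φ hφ hφ' =>
    hφ.2 (inducedIrrAbove_anti (inf_le_left.trans hZD) hφ')
  have hXc : ∀ φ ∈ X, Cfsg.conjFun φ ∈ X := fun φ hφ =>
    ⟨conjFun_mem_inducedIrrAbove hφ.1, fun h => hφ.2 (by
      simpa [conjFun_conjFun] using conjFun_mem_inducedIrrAbove h)⟩
  obtain ⟨z₀, hz₀⟩ := Subgroup.ne_bot_iff_exists_ne_one.1 hZ1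
  obtain ⟨x₀, hx₀⟩ : X.Nonempty := by
    have hsep : ∃ χ, Cfsg.IsIrrCharacter L χ ∧ χ (z₀ : L) ≠ χ 1 := by
      by_contra h
      push Not at h
      exact hz₀ (Subtype.ext (isConj_one_left.1 ((isConj_iff_irr_eq (z₀ : L) 1).2 h)))
    obtain ⟨χ, hχ, hne⟩ := hsep
    exact ⟨χ, by rw [hXeq]; exact ⟨hχ, z₀, z₀.2, hne⟩⟩
  have hUirr : ∀ φ ∈ X ∪ Y, Cfsg.IsIrrCharacter L φ := fun φ hφ => hφ.elim (hirr φ) (hYirr φ)
  have hUS : X ∪ Y ⊆ S := Set.union_subset hXS hYS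
  obtain ⟨horth, -⟩ := coherence_union hUirr Set.subset_union_left Set.subset_union_right hXY
    ⟨x₀, hx₀, _, hXc x₀ hx₀, Ne.symm (hS.conj_ne x₀ (hXS hx₀))⟩
    ⟨ψ, hψ, _, conjFun_mem_inducedIrrAbove hψ, Ne.symm (hS.conj_ne ψ (hYS hψ))⟩
    (isometryOn_subset (zspanOn_subset_zspanOn hUS _) hS.isometry)
    (fun α hα => hS.map_one α (zspanOn_subset_zspanOn hUS _ hα)) hσ hστ hτ₁ hτ₁τ
  set ξ := τ₁ ψ with hξdef
  have hξ : Cfsg.IsGeneralizedCharacter G ξ := hτ₁.2.2.2 _ (subset_zspan hψ)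
  set ξL : L → ℂ := fun x => ξ x with hξL
  have hdeg : ∀ φ ∈ X, φ 1 = (cdeg φ : ℂ) := fun φ hφ => irr_apply_one_eq_cdeg (hirr φ hφ)
  have hcoef : ∀ φ ∈ X, (cdeg x₀ : ℂ) * Cfsg.classInner ξL φ = (cdeg φ : ℂ) * Cfsg.classInner ξL x₀ := by
    intro φ hφ
    have hmem : (cdeg x₀ : ℤ) • φ - (cdeg φ : ℤ) • x₀ ∈ Cfsg.zspanOn X ({1}ᶜ : Set L) :=
      mem_zspanOn_one.2 ⟨Submodule.sub_mem _ (Submodule.smul_mem _ _ (subset_zspan hφ))
        (Submodule.smul_mem _ _ (subset_zspan hx₀)), by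
        rw [Pi.sub_apply, Pi.smul_apply, Pi.smul_apply, hdeg φ hφ, hdeg x₀ hx₀, zsmul_eq_mul, zsmul_eq_mul,
          Int.cast_natCast, Int.cast_natCast]
        ring⟩
    have h := hrec _ (zspanOn_subset_zspanOn hXS _ hmem) ξ hξ
    rw [← hστ _ hmem, isometry_map_sub (M := Submodule.span ℤ X) hσ
      (Submodule.smul_mem _ _ (subset_zspan hφ)) (Submodule.smul_mem _ _ (subset_zspan hx₀)),
      hσ.2.1 _ (subset_zspan hφ), hσ.2.1 _ (subset_zspan hx₀), ← hξL] at h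
    simp only [← Int.cast_smul_eq_zsmul ℂ, classInner_sub_left, classInner_smul_left, hξdef,
      horth φ hφ ψ hψ, horth x₀ hx₀ ψ hψ, mul_zero, sub_zero, Int.cast_natCast] at h
    have h' := congrArg conj h.symm
    simp only [map_sub, map_mul, map_natCast, classInner_conj, map_zero] at h'
    exact sub_eq_zero.1 h'
  have hξLc : Cfsg.IsClassFunction L ξL := IsGeneralized.isClassFunction (IsGeneralized.restrict hξ L)
  set F : Finset (L → ℂ) := (irrFinset L).filter (· ∈ X) with hF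
  have hFX : ∀ φ, φ ∈ F ↔ φ ∈ X := fun φ => by
    rw [hF, Finset.mem_filter]
    exact ⟨fun h => h.2, fun h => ⟨mem_irrFinset.2 (hirr φ h), h⟩⟩
  have hdrop : ∀ z ∈ Z, z ≠ 1 →
      (cdeg x₀ : ℂ) * (ξL 1 - ξL z) = Cfsg.classInner ξL x₀ * (Nat.card L : ℂ) := by
    intro z hz hz1
    have htriv : ∀ φ ∈ irrFinset L, φ ∉ F → φ z = φ 1 := fun φ hφ hn => by
      by_contra hne
      exact hn ((hFX φ).2 (by rw [hXeq]; exact ⟨mem_irrFinset.1 hφ, z, hz, hne⟩))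
    have hsub : F ⊆ irrFinset L := Finset.filter_subset _ _
    have e1 := congrFun (eq_sum_irr hξLc) 1
    have e2 := congrFun (eq_sum_irr hξLc) z
    simp only [Finset.sum_apply, Pi.smul_apply, smul_eq_mul] at e1 e2
    have r1 := congrFun (leftRegular_eq_sum (G := L)) 1
    have r2 := congrFun (leftRegular_eq_sum (G := L)) z
    rw [leftRegular_character, Finset.sum_apply] at r1 r2
    rw [if_pos rfl] at r1
    rw [if_neg hz1] at r2
    simp only [Pi.smul_apply, smul_eq_mul] at r1 r2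
    have hreg : ∑ φ ∈ F, φ 1 * (φ 1 - φ z) = (Nat.card L : ℂ) := by
      rw [Finset.sum_subset hsub fun φ hφ hn => by rw [htriv φ hφ hn, sub_self, mul_zero]]
      simp only [mul_sub, Finset.sum_sub_distrib]
      rw [← r1, ← r2, sub_zero, Nat.card_eq_fintype_card]
    rw [e1, e2, ← Finset.sum_sub_distrib, ← Finset.sum_subset hsub fun φ hφ hn => by
      rw [htriv φ hφ hn, sub_self], ← hreg, Finset.mul_sum, Finset.mul_sum]
    refine Finset.sum_congr rfl fun φ hφ => ?_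
    have h1 := hcoef φ ((hFX φ).1 hφ)
    rw [hdeg φ ((hFX φ).1 hφ)]
    linear_combination ((cdeg φ : ℂ) - φ z) * h1
  intro z hz z' hz' h h'
  have e := mul_left_cancel₀ (Nat.cast_ne_zero.2 (cdeg_pos (hirr x₀ hx₀)).ne')
    ((hdrop z hz h).trans (hdrop z' hz' h').symm)
  exact sub_right_injective e

/-- With `Z` of prime order, the images of the linear part under the Dade map are constant on the
non-identity elements of `Z`. -/
theorem const_of_prime {A : Set G} {Rd : G → Subgroup G} (hD : Cfsg.DadeHypothesis A L Rd)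
    (hS : Cfsg.IsCoherenceSystem (Cfsg.inducedIrrAbove K ⊥) (Cfsg.dadeIsometry A L Rd) R)
    (hH₁K : ⁅K, K⁆ < K)
    (hYirr : ∀ φ ∈ Cfsg.inducedIrrAbove K ⁅K, K⁆, Cfsg.IsIrrCharacter L φ)
    (Z : Subgroup L) (hp : (Nat.card Z).Prime) (hZD : Z ≤ ⁅K, K⁆)
    (hZA : ∀ z ∈ Z, z ≠ 1 → (z : G) ∈ A)
    {τ₁ : (L → ℂ) → G → ℂ}
    (hτ₁ : Cfsg.IsLinearIsometryOn (Cfsg.zspan (Cfsg.inducedIrrAbove K ⁅K, K⁆)) τ₁)
    (hτ₁τ : ∀ α ∈ Cfsg.zspanOn (Cfsg.inducedIrrAbove K ⁅K, K⁆) ({1}ᶜ : Set L),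
      τ₁ α = Cfsg.dadeIsometry A L Rd α)
    {ψ : L → ℂ} (hψ : ψ ∈ Cfsg.inducedIrrAbove K ⁅K, K⁆) :
    ∀ z ∈ Z, ∀ z' ∈ Z, z ≠ 1 → z' ≠ 1 → τ₁ ψ (z : L) = τ₁ ψ (z' : L) := by
  classical
  set Y := Cfsg.inducedIrrAbove K ⁅K, K⁆
  have hZK : Z ≤ K := hZD.trans hH₁K.le
  have hDn : (⁅K, K⁆ : Subgroup L).Normal := inferInstance
  have hY1 : ∀ η ∈ Y, η 1 = (K.index : ℂ) ∧ ∀ z ∈ Z, η z = η 1 := by
    rintro η ⟨θ, h1, -, h3, rfl⟩
    refine ⟨?_, fun z hz => ?_⟩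
    · rw [indFun_one, IsIrrCharacter.apply_one_eq_one_of_commutators h1 fun a b =>
        h3 _ (Subgroup.commutator_mem_commutator a.2 b.2), mul_one]
    · have e1 := indFun_apply_normal θ (⟨z, hZK hz⟩ : K)
      have e2 := indFun_apply_normal θ (1 : K)
      simp only [OneMemClass.coe_one] at e1 e2
      rw [e1, e2]
      congr 1
      refine Finset.sum_congr rfl fun x _ => ?_
      rw [h3 _ (hDn.conj_mem z (hZD hz) x)]
      exact congrArg θ (Subtype.ext (by simp))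
  have hdiffmem : ∀ η ∈ Y, ∀ ζ ∈ Y, η - ζ ∈ Cfsg.zspanOn Y ({1}ᶜ : Set L) := fun η hη ζ hζ =>
    mem_zspanOn_one.2 ⟨Submodule.sub_mem _ (subset_zspan hη) (subset_zspan hζ), by
      rw [Pi.sub_apply, (hY1 η hη).1, (hY1 ζ hζ).1, sub_self]⟩
  have hcl : ∀ η ∈ Y, ∀ ζ ∈ Y, Cfsg.IsClassFunction L (η - ζ) := fun η hη ζ hζ x y => by
    rw [Pi.sub_apply, Pi.sub_apply, IsIrrCharacter.isClassFunction (hYirr η hη) x y,
      IsIrrCharacter.isClassFunction (hYirr ζ hζ) x y]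
  have hdiff : ∀ η ∈ Y, ∀ ζ ∈ Y, Cfsg.dadeIsometry A L Rd (η - ζ) = τ₁ η - τ₁ ζ := fun η hη ζ hζ => by
    rw [← hτ₁τ _ (hdiffmem η hη ζ hζ),
      isometry_map_sub (M := Submodule.span ℤ Y) hτ₁ (subset_zspan hη) (subset_zspan hζ)]
  have hone : ∀ η ∈ Y, τ₁ η 1 = τ₁ ψ 1 := fun η hη => by
    have := congrFun (hdiff η hη ψ hψ) 1
    rw [dadeIsometry_apply_one hD, Pi.sub_apply] at this
    exact sub_eq_zero.1 this.symm
  have hat : ∀ η ∈ Y, ∀ z ∈ Z, z ≠ 1 → τ₁ η (z : L) = τ₁ ψ (z : L) := fun η hη z hz hz1 => by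
    have := congrFun (hdiff η hη ψ hψ) (z : G)
    rw [dadeIsometry_apply hD (hcl η hη ψ hψ) (a := z) (hZA z hz hz1) (Rd (z : G)).one_mem (x := 1) (by group),
      Pi.sub_apply, Pi.sub_apply, (hY1 η hη).2 z hz, (hY1 ψ hψ).2 z hz, (hY1 η hη).1, (hY1 ψ hψ).1,
      sub_self] at this
    exact sub_eq_zero.1 this.symm
  have hsigned : ∀ η ∈ Y, IsSignedIrr (τ₁ η) := fun η hη =>
    IsGeneralized.isIrr_or_neg (hτ₁.2.2.2 _ (subset_zspan hη)) (by
      rw [hτ₁.2.2.1 _ (subset_zspan hη) _ (subset_zspan hη), IsIrrCharacter.classInner_self (hYirr η hη)])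
  intro z hz z' hz' h h'
  -- some automorphism carries `z` to `z'`
  haveI := Fact.mk hp
  have hord : orderOf z = Nat.card Z :=
    ((Nat.dvd_prime hp).1 (Z.orderOf_dvd_natCard hz)).resolve_left fun e => h (orderOf_eq_one_iff.1 e)
  obtain ⟨i, hi⟩ : ∃ i : ℕ, z ^ i = z' := by
    have hz2 : Subgroup.zpowers (⟨z, hz⟩ : Z) = ⊤ :=
      zpowers_eq_top_of_prime_card rfl fun e => h (congrArg Subtype.val e)
    obtain ⟨i, hi⟩ := ((isOfFinOrder_of_finite (⟨z, hz⟩ : Z)).mem_powers_iff_mem_zpowers).2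
      (hz2.symm ▸ Subgroup.mem_top (⟨z', hz'⟩ : Z) : (⟨z', hz'⟩ : Z) ∈ _)
    exact ⟨i, congrArg Subtype.val hi⟩
  have hcop : i.Coprime (Nat.card Z) := ((hp.coprime_iff_not_dvd).2 fun ⟨m, hm⟩ => h' (by
    rw [← hi, hm, pow_mul, ← hord, pow_orderOf_eq_one, one_pow])).symm
  obtain ⟨σ, hσ⟩ := exists_ringEquiv_pow Nat.card_pos hcop
  have hmap : ∀ η ∈ Y, (fun x => σ (η x)) ∈ Y := by
    rintro η ⟨θ, h1, h2, h3, rfl⟩
    refine ⟨fun a => σ (θ a), IsIrrCharacter.map_ringEquiv h1 σ, fun e => h2 (funext fun a => σ.injective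
      (by rw [map_one]; exact congrFun e a)), fun a ha => congrArg σ (h3 a ha),
      funext fun x => indFun_map_ringEquiv σ K θ x⟩
  set ψ' := Cfsg.conjFun ψ
  have hψ' : ψ' ∈ Y := conjFun_mem_inducedIrrAbove hψ
  have hne : ψ' ≠ ψ := hS.conj_ne ψ (inducedIrrAbove_subset_bot K _ hψ)
  have e : τ₁ (fun x => σ (ψ x)) - τ₁ (fun x => σ (ψ' x)) =
      (fun g => σ (τ₁ ψ g)) - fun g => σ (τ₁ ψ' g) := by
    rw [← hdiff _ (hmap ψ hψ) _ (hmap ψ' hψ')]
    funext g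
    rw [show ((fun x => σ (ψ x)) - fun x => σ (ψ' x)) = fun x => σ ((ψ - ψ') x) from
      funext fun x => (map_sub σ _ _).symm, dade_map_ringEquiv hD (hcl ψ hψ ψ' hψ') σ g,
      hdiff ψ hψ ψ' hψ', Pi.sub_apply, Pi.sub_apply, map_sub]
  have horth : Cfsg.classInner (fun g => σ (τ₁ ψ' g)) (fun g => σ (τ₁ ψ g)) = 0 := by
    by_contra hn
    obtain ⟨k, hk, hk', -⟩ := IsSignedIrr.eq_smul_of_classInner_ne (signed_map_ringEquiv (hsigned ψ' hψ') σ)
      (signed_map_ringEquiv (hsigned ψ hψ) σ) hn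
    have hkσ : σ k = k := by rcases hk with rfl | rfl <;> simp
    have he : τ₁ ψ = k • τ₁ ψ' := funext fun g => σ.injective (by
      rw [Pi.smul_apply, smul_eq_mul, map_mul, hkσ]; exact congrFun hk' g)
    have h0 := hτ₁.2.2.1 _ (subset_zspan hψ) _ (subset_zspan hψ')
    rw [IsIrrCharacter.classInner_of_ne (hYirr ψ hψ) (hYirr ψ' hψ') (Ne.symm hne), he, classInner_smul_left,
      IsSignedIrr.classInner_self (hsigned ψ' hψ'), mul_one] at h0
    rcases hk with rfl | rfl <;> norm_num at h0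
  have hdeg1 : σ (τ₁ ψ 1) = τ₁ ψ 1 := by
    rcases hsigned ψ hψ with hi' | hi' <;> obtain ⟨d, -, hd⟩ := IsIrrCharacter.exists_degree hi'
    · rw [hd, map_natCast]
    · rw [Pi.neg_apply] at hd
      rw [show τ₁ ψ 1 = -(d : ℂ) by rw [← hd, neg_neg], map_neg, map_natCast]
  have key := eq_of_pair_diff (signed_map_ringEquiv (hsigned ψ hψ) σ) (hsigned _ (hmap ψ hψ))
    (hsigned _ (hmap ψ' hψ')) horth e (hdeg1.trans (hone _ (hmap ψ hψ)).symm)
    ((hone _ (hmap ψ hψ)).trans (hone _ (hmap ψ' hψ')).symm)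
  -- apply to the two elements
  have hzσ : σ (τ₁ ψ (z : G)) = τ₁ ψ ((z : G) ^ i) := by
    have ho : orderOf (z : G) = Nat.card Z := by rw [Subgroup.orderOf_coe, hord]
    have hroot : ∀ x : ℂ, x ^ orderOf (z : G) = 1 → σ x = x ^ i := fun x hx => hσ x (ho ▸ hx)
    rcases hsigned ψ hψ with hi' | hi'
    · exact IsCharacter.map_ringEquiv_eq_pow (IsIrrCharacter.isCharacter hi') σ hroot
    · have := IsCharacter.map_ringEquiv_eq_pow (IsIrrCharacter.isCharacter hi') σ hroot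
      rwa [Pi.neg_apply, Pi.neg_apply, map_neg, neg_inj] at this
  have := congrFun key (z : G)
  rw [hat _ (hmap ψ hψ) z hz h, hzσ, ← Subgroup.coe_pow, hi] at this
  exact this

omit [Fintype L] in
/-- A signed irreducible constant on a central `Z` of a TI Sylow subgroup is congruent there to its degree
modulo the order of that subgroup. -/
theorem dvd_of_const {p : ℕ} [Fact p.Prime] {H : Subgroup G} (hHp : IsPGroup p H) (hnd : ¬ p ∣ H.index)
    (hTI : Cfsg.IsTISubset (H : Set G)) (hN : Subgroup.normalizer (H : Set G) = L) (hodd : Odd (Nat.card L))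
    (Z : Subgroup L) [hZn : Z.Normal] (hZ1 : Z ≠ ⊥) (hZH : ∀ z ∈ Z, (z : G) ∈ H)
    (hZc : ∀ z ∈ Z, ∀ h ∈ H, (z : G) * h = h * z) {C : ℕ}
    (hC : ∀ z ∈ Z, z ≠ 1 → Nat.card ↥(L ⊓ Subgroup.centralizer ({(z : G)} : Set G)) = C)
    {ξ : G → ℂ} (hξ : IsSignedIrr ξ)
    (hconst : ∀ z ∈ Z, ∀ z' ∈ Z, z ≠ 1 → z' ≠ 1 → ξ (z : L) = ξ (z' : L)) :
    ∃ t : ℤ, ∀ z ∈ Z, z ≠ 1 → ξ 1 - ξ (z : L) = ((Nat.card H : ℤ) * t : ℤ) := by
  set P : Sylow p G := hHp.toSylow hnd with hP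
  have hPeq : ((P : Subgroup G) : Set G) = (H : Set G) := rfl
  obtain ⟨ε, hε, ψ', hψ', hψε⟩ : ∃ ε : ℤ, (ε = 1 ∨ ε = -1) ∧ ∃ ψ' : G → ℂ,
      Cfsg.IsIrrCharacter G ψ' ∧ ∀ g, ξ g = (ε : ℂ) * ψ' g := by
    rcases hξ with h | h
    · exact ⟨1, Or.inl rfl, ξ, h, fun g => by simp⟩
    · exact ⟨-1, Or.inr rfl, -ξ, h, fun g => by simp⟩
  have hε0 : (ε : ℂ) ≠ 0 := by rcases hε with rfl | rfl <;> simp
  obtain ⟨z₀, hz₀⟩ := Subgroup.ne_bot_iff_exists_ne_one.1 hZ1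
  have hz₀' : (z₀ : L) ≠ 1 := fun e => hz₀ (Subtype.ext e)
  have hne : ∀ w : L, (w : G) ≠ 1 → w ≠ 1 := fun w hw e => hw (by rw [e]; rfl)
  obtain ⟨n, d, hn, hd, t, ht⟩ := Cfsg.Agent.S1523.result p P
    (by rw [hPeq]; exact hTI) (by rw [hPeq, hN]; exact hodd) (Z.map L.subtype)
    (fun h => hZ1 ((Subgroup.map_eq_bot_iff_of_injective _ L.subtype_injective).1 h))
    (by rintro _ ⟨y, hy, rfl⟩; exact hZH y hy)
    (fun x hx w hw => by
      rw [hPeq, hN] at hx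
      obtain ⟨y, hy, rfl⟩ := hw
      exact ⟨_, hZn.conj_mem y hy ⟨x, hx⟩, rfl⟩)
    (fun w hw h hh => by
      obtain ⟨y, hy, rfl⟩ := hw
      exact hZc y hy h hh)
    (by
      rintro _ ⟨y, hy, rfl⟩ _ ⟨y', hy', rfl⟩ h h'
      rw [hPeq, hN]
      exact (hC y hy (hne y h)).trans (hC y' hy' (hne y' h')).symm)
    ψ' hψ' (by
      rintro _ ⟨y, hy, rfl⟩ _ ⟨y', hy', rfl⟩ h h'
      refine mul_left_cancel₀ hε0 ?_
      rw [← hψε, ← hψε]
      exact hconst y hy y' hy' (hne y h) (hne y' h'))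
    ((z₀ : L) : G) (Subgroup.mem_map_of_mem _ z₀.2) fun h => hz₀' (Subtype.ext h)
  refine ⟨ε * t, fun z hz hz1 => ?_⟩
  rw [hconst z hz z₀ z₀.2 hz1 hz₀', hψε, hψε, hn, hd, ← mul_sub, ← Int.cast_sub, ht]
  have hc : Nat.card (P : Subgroup G) = Nat.card H := rfl
  rw [hc]
  push_cast
  ring

end CfsgLib.OddEnd
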