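import Cfsg.Agent.Char.InducedAbove
import Cfsg.Agent.Char.CoherenceOddKernel
import Cfsg.Agent.Char.Coherence
import Cfsg.Agent.S1515

/-!
Coherence through one pivot character, and the sign and size of the coefficient it measures (Peterfalvi 10.10).
-/

set_option autoImplicit false
set_option linter.unusedSectionVars false

namespace CfsgLib.OddEnd

open CfsgLib.Char
open scoped ComplexConjugate

universe u v

variable {L : Type u} [Group L] [Fintype L] {G : Type v} [Group G] [Fintype G]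

/-- A signed irreducible `ξ` with `⟨τ(φ - dψ), ξ⟩ = ⟨φ, ψ⟩ - d` on all members makes the set coherent. -/
theorem coherent_of_pivot {T : Set (L → ℂ)} {τ : (L → ℂ) → G → ℂ}
    (hτ : Cfsg.IsLinearIsometryOn (Cfsg.zspanOn T ({1}ᶜ : Set L)) τ)
    (hne : ∃ α ∈ Cfsg.zspanOn T ({1}ᶜ : Set L), α ≠ 0)
    {ψ : L → ℂ} (hψT : ψ ∈ T) (hψ : Cfsg.classInner ψ ψ = 1) (hψ1 : ψ 1 ≠ 0)
    (hdeg : ∀ φ ∈ T, ∃ d : ℤ, φ 1 = (d : ℂ) * ψ 1) {ξ : G → ℂ} (hξ : Cfsg.IsGeneralizedCharacter G ξ)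
    (hξξ : Cfsg.classInner ξ ξ = 1)
    (hpiv : ∀ φ ∈ T, ∀ d : ℤ, φ 1 = (d : ℂ) * ψ 1 →
      Cfsg.classInner (τ (φ - d • ψ)) ξ = Cfsg.classInner φ ψ - d) :
    Cfsg.IsCoherent T ({1}ᶜ : Set L) τ := by
  classical
  set Z := zspanOnSub T ({1}ᶜ : Set L) with hZ
  have hτ' : Cfsg.IsLinearIsometryOn (Z : Set (L → ℂ)) τ := hτ
  have hmem : ∀ {α : L → ℂ} {n : ℤ}, α ∈ Cfsg.zspan T → α 1 = (n : ℂ) * ψ 1 → α - n • ψ ∈ Z :=
    fun {α n} hα h => mem_zspanOn_one.2 ⟨Submodule.sub_mem _ hα (Submodule.smul_mem _ _ (subset_zspan hψT)), by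
      rw [Pi.sub_apply, Pi.smul_apply, zsmul_eq_mul, h, sub_self]⟩
  have key : ∀ α ∈ Cfsg.zspan T, ∃ n : ℤ, α 1 = (n : ℂ) * ψ 1 ∧
      Cfsg.classInner (τ (α - n • ψ)) ξ = Cfsg.classInner α ψ - n := by
    intro α hα
    induction hα using Submodule.span_induction with
    | mem φ hφ =>
      obtain ⟨d, hd⟩ := hdeg φ hφ
      exact ⟨d, hd, hpiv φ hφ d hd⟩
    | zero =>
      refine ⟨0, by simp, ?_⟩
      have h0 : τ (0 : L → ℂ) = 0 := by
        have := hτ.2.1 _ Z.zero_mem (0 : ℤ)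
        rwa [zero_smul, zero_smul] at this
      simp [h0, classInner_zero_left]
    | add a b ha hb iha ihb =>
      obtain ⟨n, hn, hna⟩ := iha
      obtain ⟨m, hm, hmb⟩ := ihb
      refine ⟨n + m, by rw [Pi.add_apply, hn, hm]; push_cast; ring, ?_⟩
      rw [show a + b - (n + m) • ψ = (a - n • ψ) + (b - m • ψ) by rw [add_smul]; abel,
        hτ.1 _ (hmem ha hn) _ (hmem hb hm), classInner_add_left, hna, hmb, classInner_add_left]
      push_cast; ring
    | smul c a ha iha =>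
      obtain ⟨n, hn, hna⟩ := iha
      refine ⟨c * n, by rw [Pi.smul_apply, zsmul_eq_mul, hn]; push_cast; ring, ?_⟩
      rw [show c • a - (c * n) • ψ = c • (a - n • ψ) by rw [smul_sub, mul_smul],
        hτ.2.1 _ (hmem ha hn) c]
      simp only [← Int.cast_smul_eq_zsmul ℂ, classInner_smul_left] at hna ⊢
      rw [hna]
      push_cast; ring
  refine ⟨hne, ?_⟩
  set σ : (L → ℂ) → G → ℂ := fun α => τ (α - (α 1 / ψ 1) • ψ) + (α 1 / ψ 1) • ξ with hσ
  have hval : ∀ α ∈ Cfsg.zspan T, ∃ n : ℤ, α 1 = (n : ℂ) * ψ 1 ∧ σ α = τ (α - n • ψ) + n • ξ ∧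
      Cfsg.classInner (τ (α - n • ψ)) ξ = Cfsg.classInner α ψ - n := fun α hα => by
    obtain ⟨n, hn, hna⟩ := key α hα
    refine ⟨n, hn, ?_, hna⟩
    simp only [hσ]
    rw [hn, mul_div_cancel_right₀ _ hψ1, ← Int.cast_smul_eq_zsmul ℂ, ← Int.cast_smul_eq_zsmul ℂ]
  refine ⟨σ, ⟨fun α hα β hβ => ?_, fun α hα c => ?_, fun α hα β hβ => ?_, fun α hα => ?_⟩, fun α hα => ?_⟩
  · obtain ⟨n, hn, ha, -⟩ := hval α hα
    obtain ⟨m, hm, hb, -⟩ := hval β hβ
    obtain ⟨k, hk, hab, -⟩ := hval (α + β) (Submodule.add_mem _ hα hβ)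
    have hkn : k = n + m := by
      rw [Pi.add_apply, hn, hm, ← add_mul] at hk
      exact_mod_cast (mul_right_cancel₀ hψ1 hk).symm
    subst hkn
    rw [hab, ha, hb, show α + β - (n + m) • ψ = (α - n • ψ) + (β - m • ψ) by rw [add_smul]; abel,
      hτ.1 _ (hmem hα hn) _ (hmem hβ hm), add_smul]
    abel
  · obtain ⟨n, hn, ha, -⟩ := hval α hα
    obtain ⟨k, hk, hab, -⟩ := hval (c • α) (Submodule.smul_mem _ c hα)
    have hkn : k = c * n := by
      rw [Pi.smul_apply, zsmul_eq_mul, hn, ← mul_assoc] at hk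
      exact_mod_cast (mul_right_cancel₀ hψ1 hk).symm
    subst hkn
    rw [hab, ha, show c • α - (c * n) • ψ = c • (α - n • ψ) by rw [smul_sub, mul_smul],
      hτ.2.1 _ (hmem hα hn) c, mul_smul, smul_add]
  · obtain ⟨n, hn, ha, hna⟩ := hval α hα
    obtain ⟨m, hm, hb, hmb⟩ := hval β hβ
    have hmb' : Cfsg.classInner ξ (τ (β - m • ψ)) = Cfsg.classInner ψ β - m := by
      rw [← classInner_conj, hmb, map_sub, classInner_conj, map_intCast]
    rw [ha, hb]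
    simp only [← Int.cast_smul_eq_zsmul ℂ] at hna hmb' ⊢
    rw [classInner_add_left, classInner_add_right, classInner_add_right, classInner_smul_left,
      classInner_smul_right, classInner_smul_right, classInner_smul_left, hna, hmb', hξξ, map_intCast]
    have e := hτ.2.2.1 _ (hmem hα hn) _ (hmem hβ hm)
    simp only [← Int.cast_smul_eq_zsmul ℂ] at e
    rw [e, classInner_sub_left, classInner_sub_right, classInner_sub_right, classInner_smul_left,
      classInner_smul_left, classInner_smul_right, classInner_smul_right, hψ, map_intCast]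
    ring
  · obtain ⟨n, hn, ha, -⟩ := hval α hα
    rw [ha]
    exact IsGeneralized.add (hτ.2.2.2 _ (hmem hα hn)) (IsGeneralized.zsmul hξ n)
  · obtain ⟨h1, h0⟩ := mem_zspanOn_one.1 hα
    simp only [hσ]
    rw [h0, zero_div, zero_smul, zero_smul, sub_zero, add_zero]

variable {K : Subgroup L} {τ : (L → ℂ) → G → ℂ} {R : (L → ℂ) → Finset (G → ℂ)}

/-- The coefficient of a member on the images of a coherent set of equal degree lies between `0` and `2d/n`. -/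
theorem pivot_bound {S : Set (L → ℂ)} (hS : Cfsg.IsCoherenceSystem S τ R) {Y : Finset (L → ℂ)}
    (hYS : ↑Y ⊆ S) (hYirr : ∀ η ∈ Y, Cfsg.IsIrrCharacter L η) (hYc : ∀ η ∈ Y, Cfsg.conjFun η ∈ Y)
    {ψ : L → ℂ} (hψ : ψ ∈ Y) (hYdeg : ∀ η ∈ Y, η 1 = ψ 1)
    {τ₁ : (L → ℂ) → G → ℂ} (hτ₁ : Cfsg.IsLinearIsometryOn (Cfsg.zspan (↑Y : Set (L → ℂ))) τ₁)
    (hτ₁τ : ∀ α ∈ Cfsg.zspanOn (↑Y : Set (L → ℂ)) ({1}ᶜ : Set L), τ₁ α = τ α)
    {φ : L → ℂ} (hφ : φ ∈ S) (hφY : φ ∉ Y) {d : ℕ} (hd : φ 1 = (d : ℂ) * ψ 1) :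
    ∃ A : ℤ, Cfsg.classInner (τ (φ - (d : ℤ) • ψ)) (τ₁ ψ) = (A : ℂ) - d ∧
      (∀ η ∈ Y, η ≠ ψ → Cfsg.classInner (τ (φ - (d : ℤ) • ψ)) (τ₁ η) = (A : ℂ)) ∧
      (Y.card : ℤ) * A ^ 2 ≤ 2 * d * A := by
  classical
  set α := φ - (d : ℤ) • ψ with hα
  have hS1 := hS.isometry
  have hαS : α ∈ Cfsg.zspanOn S ({1}ᶜ : Set L) := mem_zspanOn_one.2
    ⟨Submodule.sub_mem _ (subset_zspan hφ) (Submodule.smul_mem _ _ (subset_zspan (hYS hψ))), by
      rw [hα, Pi.sub_apply, Pi.smul_apply, zsmul_eq_mul, hd, Int.cast_natCast, sub_self]⟩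
  have hτgen : Cfsg.IsGeneralizedCharacter G (τ α) := hS1.2.2.2 _ hαS
  have hdiffY : ∀ η ∈ Y, ∀ ζ ∈ Y, η - ζ ∈ Cfsg.zspanOn (↑Y : Set (L → ℂ)) ({1}ᶜ : Set L) := fun η hη ζ hζ =>
    mem_zspanOn_one.2 ⟨Submodule.sub_mem _ (subset_zspan hη) (subset_zspan hζ), by
      rw [Pi.sub_apply, hYdeg η hη, hYdeg ζ hζ, sub_self]⟩
  have hτdiff : ∀ η ∈ Y, ∀ ζ ∈ Y, τ (η - ζ) = τ₁ η - τ₁ ζ := fun η hη ζ hζ => by
    rw [← hτ₁τ _ (hdiffY η hη ζ hζ), isometry_map_sub (M := Submodule.span ℤ (↑Y : Set (L → ℂ))) hτ₁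
      (subset_zspan hη) (subset_zspan hζ)]
  have h11 : ∀ η ∈ Y, ∀ ζ ∈ Y, Cfsg.classInner (τ₁ η) (τ₁ ζ) = if η = ζ then 1 else 0 := fun η hη ζ hζ => by
    rw [hτ₁.2.2.1 _ (subset_zspan hη) _ (subset_zspan hζ), IsIrrCharacter.classInner_eq (hYirr η hη) (hYirr ζ hζ)]
  have hgen1 : ∀ η ∈ Y, Cfsg.IsGeneralizedCharacter G (τ₁ η) := fun η hη => hτ₁.2.2.2 _ (subset_zspan hη)
  have hsigned : ∀ η ∈ Y, IsSignedIrr (τ₁ η) := fun η hη =>
    IsGeneralized.isIrr_or_neg (hgen1 η hη) (by rw [h11 η hη η hη, if_pos rfl])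
  have hφη : ∀ η ∈ Y, Cfsg.classInner φ η = 0 := fun η hη =>
    hS.orthogonal φ hφ η (hYS hη) fun e => hφY (e ▸ hη)
  obtain ⟨A₁, hA₁⟩ := IsGeneralized.exists_classInner_eq_int hτgen (hgen1 ψ hψ)
  refine ⟨A₁ + d, by rw [hA₁]; push_cast; ring, ?_⟩
  have hoth : ∀ η ∈ Y, η ≠ ψ → Cfsg.classInner (τ α) (τ₁ η) = ((A₁ + d : ℤ) : ℂ) := fun η hη hne => by
    have h := hS1.2.2.1 _ hαS _ (show η - ψ ∈ Cfsg.zspanOn S ({1}ᶜ : Set L) from
      ⟨zspan_mono hYS (hdiffY η hη ψ hψ).1, (hdiffY η hη ψ hψ).2⟩)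
    rw [hτdiff η hη ψ hψ, classInner_sub_right, hA₁, hα] at h
    simp only [← Int.cast_smul_eq_zsmul ℂ, classInner_sub_left, classInner_sub_right, classInner_smul_left,
      hφη η hη, hφη ψ hψ, IsIrrCharacter.classInner_of_ne (hYirr ψ hψ) (hYirr η hη) (Ne.symm hne),
      IsIrrCharacter.classInner_self (hYirr ψ hψ)] at h
    push_cast
    simp only [hα, ← Int.cast_smul_eq_zsmul ℂ]
    linear_combination h
  refine ⟨hoth, ?_⟩
  -- Bessel on the union of the two orthonormal families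
  set E := Y.image τ₁ with hE
  have hinj : Set.InjOn τ₁ ↑Y := fun η hη ζ hζ e => by
    by_contra hne
    have h := h11 η hη ζ hζ
    rw [if_neg hne, e, h11 ζ hζ ζ hζ, if_pos rfl] at h
    exact one_ne_zero h
  have hRE : ∀ r ∈ R φ, ∀ η ∈ Y, Cfsg.classInner r (τ₁ η) = 0 := by
    intro r hr η hη
    have hηc := hYc η hη
    have hz : Cfsg.classInner r (τ (η - Cfsg.conjFun η)) = 0 := by
      rw [hS.sum_eq η (hYS hη), classInner_sum_right]
      exact Finset.sum_eq_zero fun s hs => hS.disjoint η (hYS hη) φ hφ (hφη η hη) (hφη _ hηc) r hr s hs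
    rw [hτdiff η hη _ hηc, classInner_sub_right] at hz
    by_contra h0
    have hr1 : IsSignedIrr r := IsGeneralized.isIrr_or_neg (hS.virtual φ hφ r hr)
      (by rw [hS.orthonormal φ hφ r hr r hr, if_pos rfl])
    obtain ⟨s, -, hs, -⟩ := IsSignedIrr.eq_smul_of_classInner_ne hr1 (hsigned η hη) h0
    have hne : η ≠ Cfsg.conjFun η := Ne.symm (hS.conj_ne η (hYS hη))
    have hrc : Cfsg.classInner r (τ₁ (Cfsg.conjFun η)) = 0 := by
      have h' := h11 η hη _ hηc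
      rw [if_neg hne, hs, classInner_smul_left] at h'
      rcases mul_eq_zero.1 h' with h'' | h''
      · exfalso
        rw [h'', zero_smul] at hs
        have h1 := h11 η hη η hη
        rw [if_pos rfl, hs, classInner_zero_left] at h1
        exact zero_ne_one h1
      · exact h''
    rw [hrc, sub_zero] at hz
    exact h0 hz
  have horth : ∀ a ∈ R φ ∪ E, ∀ b ∈ R φ ∪ E, Cfsg.classInner a b = if a = b then 1 else 0 := by
    intro a ha b hb
    rcases Finset.mem_union.1 ha with ha | ha <;> rcases Finset.mem_union.1 hb with hb | hb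
    · exact hS.orthonormal φ hφ a ha b hb
    · obtain ⟨η, hη, rfl⟩ := Finset.mem_image.1 hb
      rw [hRE a ha η hη, if_neg fun e => ?_]
      have h := hRE a ha η hη
      rw [e, h11 η hη η hη, if_pos rfl] at h
      exact one_ne_zero h
    · obtain ⟨η, hη, rfl⟩ := Finset.mem_image.1 ha
      rw [← classInner_conj, hRE b hb η hη, map_zero, if_neg fun e => ?_]
      have h := hRE b hb η hη
      rw [← e, h11 η hη η hη, if_pos rfl] at h
      exact one_ne_zero h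
    · obtain ⟨η, hη, rfl⟩ := Finset.mem_image.1 ha
      obtain ⟨ζ, hζ, rfl⟩ := Finset.mem_image.1 hb
      rw [h11 η hη ζ hζ]
      exact if_congr ⟨congrArg τ₁, fun e => hinj hη hζ e⟩ rfl rfl
  have hdis : Disjoint (R φ) E := Finset.disjoint_left.2 fun a ha haE => by
    obtain ⟨η, hη, rfl⟩ := Finset.mem_image.1 haE
    have h := hRE _ ha η hη
    rw [h11 η hη η hη, if_pos rfl] at h
    exact one_ne_zero h
  have hb := bessel (R φ ∪ E) horth (τ α)
  rw [Finset.sum_union hdis] at hb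
  -- the part in `R φ`
  have hlow : (Cfsg.classInner φ φ).re ≤ ∑ r ∈ R φ, ‖Cfsg.classInner (τ α) r‖ ^ 2 := by
    have hψ' : Cfsg.classInner (Cfsg.conjFun φ) ψ = 0 := hS.orthogonal _ (hS.conj_mem φ hφ) ψ (hYS hψ) fun e =>
      hφY (by
        have := hYc ψ hψ
        rwa [← e, conjFun_conjFun] at this)
    have hsub : Cfsg.zspan {φ - (d : ℤ) • ψ, φ - Cfsg.conjFun φ} ⊆ Cfsg.zspanOn S ({1}ᶜ : Set L) := by
      refine (Submodule.span_le (p := zspanOnSub S ({1}ᶜ : Set L))).2 ?_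
      rintro x (rfl | rfl)
      · exact hαS
      · refine mem_zspanOn_one.2 ⟨Submodule.sub_mem _ (subset_zspan hφ) (subset_zspan (hS.conj_mem φ hφ)), ?_⟩
        obtain ⟨e, he⟩ := IsCharacter.exists_degree (hS.isCharacter φ hφ)
        show φ 1 - conj (φ 1) = 0
        rw [he, map_natCast, sub_self]
    refine (Cfsg.Agent.S1515.result S τ R hS φ hφ ((d : ℤ) • ψ)
      (Submodule.smul_mem _ _ (subset_zspan (hYS hψ))) ?_ ?_ τ
      ⟨fun a ha b hb => hS1.1 a (hsub ha) b (hsub hb), fun a ha => hS1.2.1 a (hsub ha),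
        fun a ha b hb => hS1.2.2.1 a (hsub ha) b (hsub hb), fun a ha => hS1.2.2.2 a (hsub ha)⟩
      fun n => rfl).1
    · rw [← Int.cast_smul_eq_zsmul ℂ, classInner_smul_right, hφη ψ hψ, mul_zero]
    · rw [← Int.cast_smul_eq_zsmul ℂ, classInner_smul_right, hψ', mul_zero]
  have hnorm : (Cfsg.classInner (τ α) (τ α)).re = (Cfsg.classInner φ φ).re + (d : ℝ) ^ 2 := by
    rw [hS1.2.2.1 _ hαS _ hαS, hα]
    simp only [← Int.cast_smul_eq_zsmul ℂ, classInner_sub_left, classInner_sub_right, classInner_smul_left,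
      classInner_smul_right, hφη ψ hψ, IsIrrCharacter.classInner_self (hYirr ψ hψ),
      show Cfsg.classInner ψ φ = 0 by rw [← classInner_conj, hφη ψ hψ, map_zero], map_intCast]
    simp [sq]
  rw [Finset.sum_image hinj, hnorm, ← Finset.add_sum_erase Y _ hψ, hA₁,
    Finset.sum_congr (s₁ := Y.erase ψ) rfl (g := fun _ => ((A₁ + d : ℤ) : ℝ) ^ 2) fun η hη => by
      rw [hoth η (Finset.mem_of_mem_erase hη) (Finset.ne_of_mem_erase hη), Complex.norm_intCast, sq_abs],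
    Finset.sum_const, Finset.card_erase_of_mem hψ, nsmul_eq_mul, Complex.norm_intCast, sq_abs] at hb
  have hn : 1 ≤ Y.card := Finset.card_pos.2 ⟨ψ, hψ⟩
  rw [Nat.cast_sub hn, Nat.cast_one] at hb
  have hfin : ((Y.card : ℝ)) * ((A₁ + d : ℤ) : ℝ) ^ 2 ≤ 2 * d * ((A₁ + d : ℤ) : ℝ) := by
    push_cast at hb ⊢
    nlinarith
  exact_mod_cast hfin

end CfsgLib.OddEnd
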