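import Cfsg.Agent.OddEnd.TenFiveStruct
import Cfsg.Agent.OddEnd.TenFivePivot

/-!
Coherence of `S` when `M_σ` has order `p³` and `|K|` divides `p + 1` (Peterfalvi 10.10).
-/

set_option autoImplicit false
set_option linter.style.haveILetI false

namespace CfsgLib.OddEnd

open CfsgLib.Char
open scoped ComplexConjugate commutatorElement

universe u

/-- A group of order `p³` whose derived group is nontrivial has derived group of order `p`. -/
theorem card_commutator_cube {Q : Type u} [Group Q] [Finite Q] {p : ℕ} [Fact p.Prime]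
    (hc : Nat.card Q = p ^ 3) (h : commutator Q ≠ ⊥) : Nat.card (commutator Q) = p := by
  have hp : p.Prime := Fact.out
  have hnil : Group.IsNilpotent Q := (IsPGroup.of_card hc).isNilpotent
  haveI : Nontrivial Q := Finite.one_lt_card_iff_nontrivial.1 (hc ▸ Nat.one_lt_pow (by norm_num) hp.one_lt)
  obtain ⟨i, hi, hci⟩ := (Nat.dvd_prime_pow hp).1 (hc ▸ (commutator Q).card_subgroup_dvd_card)
  interval_cases i
  · exact absurd (Subgroup.card_eq_one.1 (hci.trans (pow_zero p))) h
  · rw [hci, pow_one]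
  · exfalso
    have hidx : (commutator Q).index = p := by
      refine Nat.eq_of_mul_eq_mul_left (Nat.card_pos (α := commutator Q)) ?_
      rw [(commutator Q).card_mul_index, hc, hci]; ring
    obtain ⟨x, hx⟩ : ∃ x, x ∉ commutator Q := by
      by_contra hh
      push Not at hh
      exact (Group.IsSolvable.commutator_lt_top_of_nontrivial Q).ne (eq_top_iff.2 fun g _ => hh g)
    have htop : Subgroup.zpowers x ⊔ commutator Q = ⊤ := by
      have hd : (Subgroup.zpowers x ⊔ commutator Q).index ∣ p := hidx ▸ Subgroup.index_dvd_of_le le_sup_right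
      refine Subgroup.index_eq_one.1 (((Nat.dvd_prime hp).1 hd).resolve_right fun e => hx ?_)
      have heq : commutator Q = Subgroup.zpowers x ⊔ commutator Q := Subgroup.eq_of_le_of_card_ge le_sup_right
        (Nat.le_of_eq (Nat.eq_of_mul_eq_mul_right hp.pos (by
          conv_rhs => rw [← hidx, Subgroup.card_mul_index]
          conv_lhs => rw [← e, Subgroup.card_mul_index])))
      exact heq ▸ (le_sup_left : Subgroup.zpowers x ≤ _) (Subgroup.mem_zpowers x)
    have hab := commutative_of_nilpotent_generated x htop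
    refine h ?_
    rw [commutator_def, Subgroup.commutator_eq_bot_iff_le_centralizer]
    exact fun a _ => Subgroup.mem_centralizer_iff.2 fun b _ => hab b a
  · exact absurd (Subgroup.eq_top_of_card_eq _ (hci.trans hc.symm))
      (Group.IsSolvable.commutator_lt_top_of_nontrivial Q).ne

/-- The bound on the array of the image of `μ_j - pζ` leaves no room for a nonzero column sum. -/
theorem cube_rows {R : Type*} [Fintype R] (t : R → ℤ) (c d p S n : ℤ)
    (hd : d * d = 1) (hS : ∑ r, t r = S) (hR : 3 ≤ Fintype.card R) (hp : 5 ≤ p) (hn : 2 * (p - 1) ≤ n)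
    (hle : ∑ r, (t r * t r + (t r + c + d) * (t r + c + d) + (p - 2) * ((t r + c) * (t r + c))) +
      (n * (S * S) - 2 * p * S) ≤ (Fintype.card R : ℤ)) : S = 0 := by
  classical
  set e : R → ℤ := fun r => t r * t r + (t r + c + d) * (t r + c + d) + (p - 2) * ((t r + c) * (t r + c)) - 1
    with he
  have he0 : ∀ r, 0 ≤ e r := fun r => by
    simp only [he]
    by_cases h : t r + c = 0
    · rw [h]; nlinarith
    · have := one_le_mul_self h
      nlinarith [mul_self_nonneg (t r), mul_self_nonneg (t r + c + d)]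
  have hsum : ∑ r, e r + (n * (S * S) - 2 * p * S) ≤ 0 := by
    simp only [he, Finset.sum_sub_distrib, Finset.sum_const, Finset.card_univ, nsmul_one] at hle ⊢
    linarith
  have hnn : 0 ≤ ∑ r, e r := Finset.sum_nonneg fun r _ => he0 r
  by_contra hS0
  have hS1 : S = 1 := by
    have h1 : n * (S * S) ≤ 2 * p * S := by linarith
    have h2 : 2 * (p - 1) * (S * S) ≤ n * (S * S) := mul_le_mul_of_nonneg_right hn (mul_self_nonneg S)
    have h3 : 0 < S := by
      by_contra h3
      nlinarith [one_le_mul_self hS0]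
    by_contra hne
    have hS2 : 2 ≤ S := by omega
    nlinarith [mul_le_mul_of_nonneg_left hS2 (show 0 ≤ 2 * (p - 1) * S by nlinarith)]
  have hle2 : ∑ r, e r ≤ 2 := by rw [hS1] at hsum; linarith
  by_cases hc : c = 0
  · subst hc
    obtain ⟨r, hr⟩ : ∃ r, t r ≠ 0 := by
      by_contra hh
      push Not at hh
      rw [Finset.sum_eq_zero fun r _ => hh r] at hS
      exact hS0 hS.symm
    have h1 := Finset.single_le_sum (fun r _ => he0 r) (Finset.mem_univ r)
    have h2 := one_le_mul_self hr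
    simp only [he, add_zero] at h1 hle2
    nlinarith [mul_self_nonneg (t r + d)]
  · have hone : ∀ r, 1 ≤ e r := fun r => by
      simp only [he]
      by_cases h : t r + c = 0
      · rw [h, show t r = -c by linarith]
        nlinarith [one_le_mul_self hc]
      · have := one_le_mul_self h
        nlinarith [mul_self_nonneg (t r), mul_self_nonneg (t r + c + d)]
    have h3 : (Fintype.card R : ℤ) ≤ ∑ r, e r := by
      calc (Fintype.card R : ℤ) = ∑ _r : R, (1 : ℤ) := by simp
        _ ≤ _ := Finset.sum_le_sum fun r _ => hone r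
    have h4 : (3 : ℤ) ≤ Fintype.card R := by exact_mod_cast hR
    linarith

variable {G : Type u} [Group G] [Fintype G]

namespace TenPair

variable {M N K Ks V : Subgroup G} (P : TenPair M N K Ks V) [Fintype M]
include P

theorem tau_inner_one {α : M → ℂ} (hα : α ∈ Cfsg.zspanOn (tenS M) ({1}ᶜ : Set M)) :
    Cfsg.classInner (tenTau M α) (fun _ : G => 1) = 0 := by
  haveI := Fintype.ofFinite ↥((Cfsg.sigmaCore M).subgroupOf M)
  obtain ⟨hg, hA⟩ := P.zspanOn_props hα
  rw [tenTau, classInner_dadeIsometry P.dade_A (IsGeneralized.isClassFunction hg) hA (fun _ _ => rfl)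
    (ψ := fun _ => 1) fun a ha => ?_]
  · have h0 := (mem_zspanOn_one.1 hα).1
    clear hα hg hA
    induction h0 using Submodule.span_induction with
    | mem φ hφ =>
      obtain ⟨θ, h1, h2, -, rfl⟩ := hφ
      rw [classInner_indFun θ (fun _ _ => rfl)]
      exact IsIrrCharacter.classInner_of_ne h1 isIrrCharacter_one h2
    | zero => exact classInner_zero_left _
    | add a b _ _ ha hb => rw [classInner_add_left, ha, hb, add_zero]
    | smul n a _ ha => rw [← Int.cast_smul_eq_zsmul ℂ, classInner_smul_left, ha, mul_zero]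
  · rw [finsum_mem_eq_finite_toFinset_sum _ (Set.toFinite _), Finset.sum_const, nsmul_eq_mul, mul_one,
      ← Set.ncard_eq_toFinset_card, ← Nat.card_coe_set_eq]
    exact (inv_mul_cancel₀ (by exact_mod_cast (Nat.card_pos (α := ↥(Cfsg.supportR M (a : G)))).ne')).symm

/-- The array of the image of a combination of degree zero of members of `S`. -/
theorem zspanOn_array {χ : (↥(K ⊔ Ks) →* ℂˣ) → G → ℂ} (hχ : Cfsg.IsCyclicTIFamily K Ks χ) {α : M → ℂ}
    (hα : α ∈ Cfsg.zspanOn (tenS M) ({1}ᶜ : Set M)) :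
    ∃ (t : Row K Ks → ℤ) (u : Col K Ks → ℤ), t row₀ = 0 ∧ u col₀ = 0 ∧
      ∀ r l, Cfsg.classInner (tenTau M α) (χ (cell r l)) = ((t r + u l : ℤ) : ℂ) := by
  obtain ⟨n, t, u, hn, ht, hu, hadd⟩ := grid_additive hχ (P.tau_isometry.1.2.2.2 _ hα)
    fun w h1 h2 => P.tau_mixed h1 h2
  rw [hχ.map_one, P.tau_inner_one hα] at hn
  have hn0 : n = 0 := by exact_mod_cast hn.symm
  exact ⟨t, u, ht.trans hn0, hu, hadd⟩

/-- The images of differences of irreducible members miss the family. -/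
theorem diff_orth_family {χ : (↥(K ⊔ Ks) →* ℂˣ) → G → ℂ} (hχ : Cfsg.IsCyclicTIFamily K Ks χ) {η ζ : M → ℂ}
    (hη : η ∈ tenS M) (hζ : ζ ∈ tenS M) (hηi : Cfsg.IsIrrCharacter M η) (hζi : Cfsg.IsIrrCharacter M ζ)
    (hd : η 1 = ζ 1) (ω : ↥(K ⊔ Ks) →* ℂˣ) : Cfsg.classInner (tenTau M (η - ζ)) (χ ω) = 0 := by
  classical
  have := Fintype.ofFinite (Row K Ks)
  have := Fintype.ofFinite (Col K Ks)
  have hα : η - ζ ∈ Cfsg.zspanOn (tenS M) ({1}ᶜ : Set M) := mem_zspanOn_one.2
    ⟨Submodule.sub_mem _ (subset_zspan hη) (subset_zspan hζ), by rw [Pi.sub_apply, hd, sub_self]⟩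
  by_cases he : η = ζ
  · subst he
    rw [sub_self, show tenTau M (0 : M → ℂ) = 0 from ?_, classInner_zero_left]
    have := P.tau_zsmul (α := (0 : M → ℂ)) (fun _ _ => rfl) 0
    rwa [zero_smul, zero_smul] at this
  obtain ⟨t, u, ht, hu, hadd⟩ := P.zspanOn_array hχ hα
  have hN : Cfsg.classInner (tenTau M (η - ζ)) (tenTau M (η - ζ)) = ((2 : ℤ) : ℂ) := by
    rw [P.tau_isometry.1.2.2.1 _ hα _ hα, classInner_sub_left, classInner_sub_right, classInner_sub_right,
      IsIrrCharacter.classInner_self hηi, IsIrrCharacter.classInner_self hζi,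
      IsIrrCharacter.classInner_of_ne hηi hζi he, IsIrrCharacter.classInner_of_ne hζi hηi (Ne.symm he)]
    norm_num
  obtain ⟨ht0, hu0⟩ := additive_two row₀ col₀ t u ht hu
    (by rw [← Nat.card_eq_fintype_card, (card_trivL P.W_M).2]; exact three_le_card_of_odd P.W_M.1 (P.oddG K))
    (by rw [← Nat.card_eq_fintype_card, (card_trivL P.W_M).1]; exact three_le_card_of_odd P.W_M.2.1 (P.oddG Ks))
    (grid_bessel' hχ _ hadd hN)
  obtain ⟨r, l, rfl⟩ := exists_cell P.W_M ω
  rw [hadd, ht0, hu0, add_zero, Int.cast_zero]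

/-- `S` is coherent when `|M_σ| = p³` and `|K|` divides `p + 1`. -/
theorem coherent_cube (hp3 : Nat.card ↥(Cfsg.sigmaCore M) = Nat.card Ks ^ 3)
    (hw : Nat.card K ∣ Nat.card Ks + 1) : Cfsg.IsCoherent (tenS M) ({1}ᶜ : Set M) (tenTau M) := by
  classical
  set p := Nat.card Ks with hpdef
  set w := Nat.card K with hwdef
  have hp : p.Prime := P.Ks_prime
  haveI := Fact.mk hp
  have hpodd : Odd p := P.oddG Ks
  have hwodd : Odd w := P.oddG K
  have hw3 : 3 ≤ w := three_le_card_of_odd P.hK1 hwodd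
  obtain ⟨m, hm⟩ := hw
  have hm2 : 2 ≤ m := by
    obtain ⟨a, ha⟩ := hpodd
    obtain ⟨b, hb⟩ := hwodd
    by_contra hlt
    have : m = 0 ∨ m = 1 := by omega
    rcases this with rfl | rfl
    · rw [Nat.mul_zero] at hm; omega
    · rw [Nat.mul_one] at hm; omega
  have h2w : 2 * w ≤ p + 1 := by rw [hm, mul_comm]; exact Nat.mul_le_mul_left _ hm2
  have hlt : w < p := by omega
  have hp5 : 5 ≤ p := by omega
  set H := (Cfsg.sigmaCore M).subgroupOf M with hH
  haveI : H.Normal := P.normal_core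
  haveI := Fintype.ofFinite H
  haveI hsolv : Group.IsSolvable H := P.core_solvable
  have hcard : Nat.card H = p ^ 3 :=
    (Nat.card_congr (Subgroup.subgroupOfEquivOfLe (show Cfsg.sigmaCore M ≤ M from Subgroup.map_subtype_le _)).toEquiv).trans hp3
  have hmap : (commutator H).map H.subtype = ⁅H, H⁆ := by
    rw [commutator_def, Subgroup.map_commutator, ← MonoidHom.range_eq_map, Subgroup.range_subtype]
  have hcD : Nat.card ↥(⁅H, H⁆ : Subgroup M) = p := by
    rw [← hmap, Subgroup.card_map_of_injective H.subtype_injective]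
    refine card_commutator_cube hcard fun e => P.Ks_ne ?_
    have h1 := P.Ks_le_derived
    rw [← hH, ← hmap, e, Subgroup.map_bot, le_bot_iff] at h1
    rw [← Subgroup.card_eq_one, ← Nat.card_congr (Subgroup.subgroupOfEquivOfLe
      (le_sup_right.trans P.le_M : Ks ≤ M)).toEquiv, h1, Subgroup.card_bot]
  have hidx : H.index = w := P.index_core
  have hrel : (⁅H, H⁆ : Subgroup M).relIndex H = p ^ 2 := by
    have h1 := ((⁅H, H⁆ : Subgroup M).subgroupOf H).card_mul_index
    rw [Nat.card_congr (Subgroup.subgroupOfEquivOfLe P.derived_core_lt.le).toEquiv, hcD, hcard] at h1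
    exact Nat.eq_of_mul_eq_mul_left hp.pos (by rw [Subgroup.relIndex, h1]; ring)
  -- the members
  obtain ⟨χ, hχ⟩ := exists_cyclicTIFamily P.W_M P.primeDade_M.odd
  obtain ⟨μ, δ, hμ⟩ := P.primeDade_M.exists_isMuG
  have := Fintype.ofFinite (Row K Ks)
  have := Fintype.ofFinite (Col K Ks)
  have hRc : Fintype.card (Row K Ks) = w := by rw [← Nat.card_eq_fintype_card, (card_trivL P.W_M).2]
  have hCc : Fintype.card (Col K Ks) = p := by rw [← Nat.card_eq_fintype_card, (card_trivL P.W_M).1]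
  obtain ⟨R, hS⟩ := P.exists_system hχ hμ
    (let ⟨ζ, hζ, _⟩ := P.exists_zeta; ⟨ζ, hζ⟩)
  obtain ⟨ψ, hψ, hψd⟩ := exists_linear_aboveInd (L := M) (K := H) (A := ⁅H, H⁆) hsolv P.derived_core_lt
  set Y := aboveInd H ⁅H, H⁆ with hYdef
  have hYS : ∀ η ∈ Y, η ∈ tenS M := fun η hη => inducedIrrAbove_subset_bot H _ (mem_aboveInd.1 hη)
  have hYirr : ∀ η ∈ Y, Cfsg.IsIrrCharacter M η := fun η hη => P.linear_irr η (mem_aboveInd.1 hη)
  have hYdeg : ∀ η ∈ Y, η 1 = (w : ℂ) := fun η hη => by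
    obtain ⟨θ, h1, -, h3, rfl⟩ := mem_aboveInd.1 hη
    rw [indFun_one, IsIrrCharacter.apply_one_eq_one_of_commutators h1 fun a b =>
      h3 _ (Subgroup.commutator_mem_commutator a.2 b.2), mul_one, hidx]
  let col : Col K Ks → M → ℂ := fun l => ∑ r : Row K Ks, μ (cell r l)
  have hcolinner : ∀ l l', Cfsg.classInner (col l) (col l') = if l = l' then (w : ℂ) else 0 := by
    intro l l'
    simp only [col, classInner_sum_left, classInner_sum_right]
    split_ifs with h
    · subst h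
      rw [Finset.sum_congr rfl (g := fun _ => (1 : ℂ)) fun r _ => ?_, Finset.sum_const, Finset.card_univ, hRc,
        nsmul_one]
      rw [Finset.sum_eq_single r (fun s _ hs => IsIrrCharacter.classInner_of_ne (hμ.irr _) (hμ.irr _) fun e =>
        hs (cell_injective (hμ.inj e)).1) (fun h' => absurd (Finset.mem_univ r) h'),
        IsIrrCharacter.classInner_self (hμ.irr _)]
    · exact Finset.sum_eq_zero fun r _ => Finset.sum_eq_zero fun s _ =>
        IsIrrCharacter.classInner_of_ne (hμ.irr _) (hμ.irr _) fun e =>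
          h (cell_injective (hμ.inj e)).2
  have hcolS : ∀ l, l ≠ col₀ → col l ∈ tenS M := fun l hl => P.col_mem hμ hl
  have hcolY : ∀ l, l ≠ col₀ → col l ∉ Y := fun l _ hm => P.irr_ne_col hμ (hYS _ hm) (hYirr _ hm) l rfl
  have hcolp : ∀ l, l ≠ col₀ → ∃ d : ℕ, p ≤ d ∧ col l 1 = ((w * d : ℕ) : ℂ) := fun l hl => by
    obtain ⟨θ, h1, h2, -, hθ⟩ := hcolS l hl
    refine ⟨cdeg θ, ?_, by rw [hθ, indFun_one, irr_apply_one_eq_cdeg h1, Nat.cast_mul, ← hidx]⟩
    obtain ⟨i, -, hi⟩ := (Nat.dvd_prime_pow hp).1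
      (hcard ▸ (cdeg_dvd_index_center h1).trans (Subgroup.index_dvd_card _))
    rcases Nat.eq_zero_or_pos i with rfl | hi0
    · exfalso
      refine hcolY l hl (mem_aboveInd.2 ⟨θ, h1, h2, fun a ha => ?_, hθ⟩)
      rw [pow_zero] at hi
      obtain ⟨lam, hlam⟩ := IsCharacter.exists_hom (IsIrrCharacter.isCharacter h1)
        (by rw [irr_apply_one_eq_cdeg h1, hi, Nat.cast_one])
      rw [← hmap] at ha
      obtain ⟨b, hb, hba⟩ := ha
      rw [show a = b from Subtype.ext hba.symm, congrFun hlam b, congrFun hlam 1, map_one,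
        MonoidHom.mem_ker.1 (Abelianization.commutator_subset_ker lam hb)]
    · rw [hi]; exact Nat.le_self_pow hi0.ne' p
  choose! dl hdl hdl1 using hcolp
  set C := (Finset.univ.erase col₀).image col with hCdef
  have hcolinj : Function.Injective col := fun l l' e => by
    by_contra hne
    have h := hcolinner l l
    conv_lhs at h => arg 2; rw [e]
    rw [hcolinner, if_neg hne, if_pos rfl] at h
    exact (Nat.cast_ne_zero (R := ℂ)).2 (show w ≠ 0 by omega) h.symm
  have hdisj : Disjoint Y C := Finset.disjoint_right.2 fun φ hφ => by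
    obtain ⟨l, hl, rfl⟩ := Finset.mem_image.1 hφ
    exact hcolY l (Finset.ne_of_mem_erase hl)
  have hsubS : Y ∪ C ⊆ aboveInd H ⊥ := fun φ hφ => by
    rcases Finset.mem_union.1 hφ with h | h
    · exact mem_aboveInd.2 (hYS _ h)
    · obtain ⟨l, hl, rfl⟩ := Finset.mem_image.1 h
      exact mem_aboveInd.2 (hcolS l (Finset.ne_of_mem_erase hl))
  have hYcnorm : ∀ η ∈ Y, cnorm η = 1 := fun η hη => by
    have h := classInner_eq_cnorm (IsIrrCharacter.isCharacter (hYirr η hη))
    rw [IsIrrCharacter.classInner_self (hYirr η hη)] at h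
    exact_mod_cast h.symm
  have hYw : ∀ η ∈ Y, cdeg η = w := fun η hη => by
    have h := apply_one_eq_cdeg (IsIrrCharacter.isCharacter (hYirr η hη))
    rw [hYdeg η hη] at h
    exact_mod_cast h.symm
  have hwR : (0 : ℝ) < w := by exact_mod_cast (show 0 < w by omega)
  have hYsum : ∑ η ∈ Y, ((cdeg η : ℝ) ^ 2 / (cnorm η : ℝ)) = (Y.card : ℝ) * (w : ℝ) ^ 2 := by
    rw [Finset.sum_congr rfl (g := fun _ => (w : ℝ) ^ 2) fun η hη => by
      rw [hYw η hη, hYcnorm η hη, Nat.cast_one, div_one], Finset.sum_const, nsmul_eq_mul]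
  have hYall : (Y.card : ℝ) * (w : ℝ) ^ 2 = (w : ℝ) * ((p : ℝ) ^ 2 - 1) := by
    rw [← hYsum, hYdef, sum_weight_aboveInd, hrel, hidx]; push_cast; rfl
  have hn : 2 * ((p : ℤ) - 1) ≤ (Y.card : ℤ) := by
    have h1 : (Y.card : ℝ) * w = (p : ℝ) ^ 2 - 1 := mul_left_cancel₀ hwR.ne' (by rw [← hYall]; ring)
    have h2 : (Y.card : ℤ) * w = (p : ℤ) ^ 2 - 1 := by exact_mod_cast h1
    have h3 : 2 * (w : ℤ) ≤ p + 1 := by exact_mod_cast h2w
    have h4 : (0 : ℤ) < p + 1 := by positivity
    refine le_of_mul_le_mul_right ?_ h4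
    have h5 : (Y.card : ℤ) * (2 * w) ≤ (Y.card : ℤ) * (p + 1) :=
      mul_le_mul_of_nonneg_left h3 (Int.natCast_nonneg _)
    nlinarith
  have hCw : ∀ l, l ≠ col₀ →
      (cdeg (col l) : ℝ) ^ 2 / (cnorm (col l) : ℝ) = (w : ℝ) * (dl l : ℝ) ^ 2 := fun l hl => by
    have hch : Cfsg.IsCharacter M (col l) := tenS_char (hcolS l hl)
    have h1 := apply_one_eq_cdeg hch
    rw [hdl1 l hl] at h1
    have h1' : cdeg (col l) = w * dl l := by exact_mod_cast h1.symm
    have h2 := classInner_eq_cnorm hch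
    rw [hcolinner, if_pos rfl] at h2
    have h2' : cnorm (col l) = w := by exact_mod_cast h2.symm
    rw [h1', h2', Nat.cast_mul]
    field_simp
  have hCsum : ∑ φ ∈ C, ((cdeg φ : ℝ) ^ 2 / (cnorm φ : ℝ)) =
      ∑ l ∈ Finset.univ.erase col₀, (w : ℝ) * (dl l : ℝ) ^ 2 := by
    rw [hCdef, Finset.sum_image fun a _ b _ e => hcolinj e]
    exact Finset.sum_congr rfl fun l hl => hCw l (Finset.ne_of_mem_erase hl)
  have htot : ∑ φ ∈ aboveInd H ⊥, ((cdeg φ : ℝ) ^ 2 / (cnorm φ : ℝ)) = (w : ℝ) * ((p : ℝ) ^ 3 - 1) := by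
    rw [sum_weight_aboveInd, Subgroup.relIndex_bot_left, hcard, hidx]; push_cast; rfl
  have hCge : (w : ℝ) * ((p : ℝ) ^ 3 - (p : ℝ) ^ 2) ≤
      ∑ l ∈ Finset.univ.erase col₀, (w : ℝ) * (dl l : ℝ) ^ 2 := by
    have h1 : ∑ _l ∈ Finset.univ.erase (col₀ : Col K Ks), (w : ℝ) * (p : ℝ) ^ 2 ≤
        ∑ l ∈ Finset.univ.erase col₀, (w : ℝ) * (dl l : ℝ) ^ 2 := Finset.sum_le_sum fun l hl => by
      have : (p : ℝ) ≤ (dl l : ℝ) := by exact_mod_cast hdl l (Finset.ne_of_mem_erase hl)
      gcongr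
    rw [Finset.sum_const, Finset.card_erase_of_mem (Finset.mem_univ _), Finset.card_univ, hCc, nsmul_eq_mul,
      Nat.cast_sub hp.pos, Nat.cast_one] at h1
    linarith
  have hsplit := Finset.sum_sdiff (f := fun φ => (cdeg φ : ℝ) ^ 2 / (cnorm φ : ℝ)) hsubS
  rw [Finset.sum_union hdisj, hYsum, hYall, hCsum, htot] at hsplit
  have hrest0 : 0 ≤ ∑ φ ∈ aboveInd H ⊥ \ (Y ∪ C), (cdeg φ : ℝ) ^ 2 / (cnorm φ : ℝ) :=
    Finset.sum_nonneg fun _ _ => by positivity
  have hmem : ∀ φ ∈ tenS M, φ ∈ Y ∨ ∃ l, l ≠ col₀ ∧ dl l = p ∧ φ = col l := by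
    have hdeq : ∀ l, l ≠ col₀ → dl l = p := fun l hl => by
      refine le_antisymm ?_ (hdl l hl)
      by_contra hlt'
      rw [not_le] at hlt'
      have h1 : ∑ _l ∈ Finset.univ.erase (col₀ : Col K Ks), (w : ℝ) * (p : ℝ) ^ 2 <
          ∑ l ∈ Finset.univ.erase col₀, (w : ℝ) * (dl l : ℝ) ^ 2 :=
        Finset.sum_lt_sum (fun j hj => by
          have : (p : ℝ) ≤ (dl j : ℝ) := by exact_mod_cast hdl j (Finset.ne_of_mem_erase hj)
          gcongr) ⟨l, Finset.mem_erase.2 ⟨hl, Finset.mem_univ _⟩, by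
          have : (p : ℝ) < (dl l : ℝ) := by exact_mod_cast hlt'
          gcongr⟩
      rw [Finset.sum_const, Finset.card_erase_of_mem (Finset.mem_univ _), Finset.card_univ, hCc, nsmul_eq_mul,
        Nat.cast_sub hp.pos, Nat.cast_one] at h1
      linarith
    intro φ hφ
    by_contra hn'
    rw [not_or, not_exists] at hn'
    have hm' : φ ∈ aboveInd H ⊥ \ (Y ∪ C) := Finset.mem_sdiff.2 ⟨mem_aboveInd.2 hφ, fun hm => by
      rcases Finset.mem_union.1 hm with h | h
      · exact hn'.1 h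
      · obtain ⟨l, hl, rfl⟩ := Finset.mem_image.1 h
        exact hn'.2 l ⟨Finset.ne_of_mem_erase hl, hdeq l (Finset.ne_of_mem_erase hl), rfl⟩⟩
    have hpos : 0 < (cdeg φ : ℝ) ^ 2 / (cnorm φ : ℝ) := by
      obtain ⟨θ, h1, -, -, rfl⟩ := hφ
      have hd : 0 < cdeg (Cfsg.indFun H θ) := by
        rw [cdeg_indFun h1]
        exact Nat.mul_pos (Nat.pos_of_ne_zero Subgroup.index_ne_zero_of_finite) (cdeg_pos h1)
      have hc0 : cnorm (Cfsg.indFun H θ) ≠ 0 := fun e => by
        have h2 := classInner_eq_cnorm (IsCharacter.indFun (G := M) (IsIrrCharacter.isCharacter h1))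
        rw [e, Nat.cast_zero] at h2
        have h3 := congrFun (classInner_self_eq_zero h2) 1
        rw [Pi.zero_apply, apply_one_eq_cdeg (IsCharacter.indFun (G := M) (IsIrrCharacter.isCharacter h1)),
          Nat.cast_eq_zero] at h3
        exact hd.ne' h3
      positivity
    have := Finset.single_le_sum (f := fun φ => (cdeg φ : ℝ) ^ 2 / (cnorm φ : ℝ))
      (fun _ _ => by positivity) hm'
    linarith
  -- the pivot
  have hψS := hYS ψ hψ
  have hψi := hYirr ψ hψ
  have hψw := hYdeg ψ hψ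
  obtain ⟨X, hX, hXη, himg, hXconj⟩ := P.alpha_image hχ hψS hψi hψw
    (P.alpha_ne_of_lt hχ hψS hψi hψw hlt)
  have hXg : Cfsg.IsGeneralizedCharacter G X := IsSignedIrr.isGeneralized hX
  have hXX : Cfsg.classInner X X = 1 := IsSignedIrr.classInner_self hX
  have hdiff : ∀ {φ : M → ℂ}, φ ∈ tenS M → ∀ {d : ℤ}, φ 1 = (d : ℂ) * ψ 1 →
      φ - d • ψ ∈ Cfsg.zspanOn (tenS M) ({1}ᶜ : Set M) := fun {φ} hφ {d} hd => mem_zspanOn_one.2
    ⟨Submodule.sub_mem _ (subset_zspan hφ) (Submodule.smul_mem _ _ (subset_zspan hψS)), by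
      rw [Pi.sub_apply, Pi.smul_apply, hd, zsmul_eq_mul, sub_self]⟩
  have hkey : ∀ {φ : M → ℂ}, φ ∈ tenS M → ∀ {d : ℤ}, φ 1 = (d : ℂ) * ψ 1 →
      Cfsg.classInner (tenTau M (φ - d • ψ)) X =
        ∑ r : Row K Ks, Cfsg.classInner (tenTau M (φ - d • ψ)) (χ (cell r col₀)) +
          Cfsg.classInner φ ψ - d := by
    intro φ hφ d hd
    have hα := hdiff hφ hd
    have h := classInner_dadeIsometry_dadeIsometry P.dade_A
      (IsGeneralized.isClassFunction (P.zspanOn_props hα).1) (P.zspanOn_props hα).2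
      (IsGeneralized.isClassFunction (P.alpha_gen hψS))
    rw [show Cfsg.dadeIsometry (Cfsg.typeA M) M (Cfsg.supportR M) = tenTau M from rfl, himg,
      classInner_sub_right, classInner_sum_right] at h
    have h' : Cfsg.classInner (φ - d • ψ) (tenAlpha M ψ) = -Cfsg.classInner φ ψ + d := by
      rw [← classInner_conj]
      simp only [← Int.cast_smul_eq_zsmul ℂ, classInner_sub_right, classInner_smul_right, P.alpha_inner hφ,
        P.alpha_inner hψS, IsIrrCharacter.classInner_self hψi, map_intCast]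
      simp only [map_sub, map_neg, map_mul, map_intCast, map_one, classInner_conj]
      ring
    rw [h'] at h
    linear_combination -h
  have hYrow : ∀ η ∈ Y, ∀ ω, Cfsg.classInner (tenTau M (η - ψ)) (χ ω) = 0 := fun η hη ω =>
    P.diff_orth_family hχ (hYS η hη) hψS (hYirr η hη) hψi (by rw [hYdeg η hη, hψw]) ω
  have hYX : ∀ η ∈ Y, Cfsg.classInner (tenTau M (η - ψ)) X = Cfsg.classInner η ψ - 1 := fun η hη => by
    have h := hkey (hYS η hη) (d := 1) (by rw [hYdeg η hη, hψw, Int.cast_one, one_mul])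
    rw [one_smul] at h
    rw [h, Finset.sum_eq_zero fun r _ => hYrow η hη _, zero_add, Int.cast_one]
  show Cfsg.IsCoherent (tenS M) ({1}ᶜ : Set M) (tenTau M)
  refine coherent_of_pivot P.tau_isometry.1
    (system_exists_ne_zero hS Set.Subset.rfl (fun φ hφ => tenS_conj hφ) ⟨ψ, hψS⟩) hψS
    (IsIrrCharacter.classInner_self hψi) (IsIrrCharacter.apply_one_ne_zero hψi) (fun φ hφ => ?_) hXg hXX
    fun φ hφ d hd => ?_
  · rcases hmem φ hφ with h | ⟨l, hl, hlp, rfl⟩
    · exact ⟨1, by rw [hYdeg φ h, hψw, Int.cast_one, one_mul]⟩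
    · exact ⟨p, by rw [hdl1 l hl, hlp, hψw, Nat.cast_mul, Int.cast_natCast, mul_comm]⟩
  rcases hmem φ hφ with h | ⟨j, hj, hjp, rfl⟩
  · have hd1 : d = 1 := by
      rw [hYdeg φ h, hψw] at hd
      exact_mod_cast (mul_eq_right₀ ((Nat.cast_ne_zero (R := ℂ)).2 (show w ≠ 0 by omega))).1 hd.symm
    subst hd1
    rw [one_smul, hYX φ h, Int.cast_one]
  have hdp : d = p := by
    rw [hdl1 j hj, hjp, hψw, Nat.cast_mul, mul_comm (w : ℂ)] at hd
    exact_mod_cast (mul_right_cancel₀ ((Nat.cast_ne_zero (R := ℂ)).2 (show w ≠ 0 by omega)) hd).symm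
  subst hdp
  rw [hkey hφ hd]
  have hjψ : Cfsg.classInner (col j) ψ = 0 :=
    P.tenS_orth hφ hψS (Ne.symm (P.irr_ne_col hμ hψS hψi j))
  suffices hzero : ∑ r : Row K Ks,
      Cfsg.classInner (tenTau M (col j - (p : ℤ) • ψ)) (χ (cell r col₀)) = 0 by rw [hzero, zero_add]
  have hα := hdiff hφ hd
  set θ := tenTau M (col j - (p : ℤ) • ψ) with hθ
  obtain ⟨t, u, ht, hu, hadd⟩ := P.zspanOn_array hχ hα
  rw [← hθ] at hadd
  set S := ∑ r, t r with hSdef
  have hsum0 : ∑ r : Row K Ks, Cfsg.classInner θ (χ (cell r col₀)) = (S : ℂ) := by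
    rw [hSdef, Int.cast_sum]
    exact Finset.sum_congr rfl fun r _ => by rw [hadd, hu, add_zero]
  rw [hsum0]
  suffices S = 0 by rw [this, Int.cast_zero]
  -- the other columns
  have hdsign : ∃ e : ℤ, e * e = 1 ∧ δ j.1 = (e : ℂ) := by
    rcases hμ.sign j.1 with h | h
    · exact ⟨1, by norm_num, by rw [h, Int.cast_one]⟩
    · exact ⟨-1, by norm_num, by rw [h, Int.cast_neg, Int.cast_one]⟩
  obtain ⟨e, he2, heδ⟩ := hdsign
  have hcdiff : ∀ k, k ≠ col₀ → k ≠ j → u k = u j - e := by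
    intro k hk hkj
    have hjk : j ≠ k := Ne.symm hkj
    have hz : col j - col k ∈ Cfsg.zspanOn (tenS M) ({1}ᶜ : Set M) := by
      refine mem_zspanOn_one.2 ⟨Submodule.sub_mem _ (subset_zspan hφ) (subset_zspan (hcolS k hk)), ?_⟩
      simp only [col, Pi.sub_apply, Finset.sum_apply, ← Finset.sum_sub_distrib]
      exact Finset.sum_eq_zero fun r _ => sub_eq_zero.2 (P.col_const hμ hj hk r).1
    have h := P.tau_isometry.1.2.2.1 _ hα _ hz
    have htc : tenTau M (col j - col k) = δ j.1 • ∑ r : Row K Ks, (χ (cell r j) - χ (cell r k)) :=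
      P.tau_col hχ hμ hjk hj hk hφ (hcolS k hk)
    rw [htc, ← hθ, classInner_smul_right, classInner_sum_right, heδ, map_intCast] at h
    have hψj : Cfsg.classInner ψ (col j) = 0 := P.tenS_orth hψS hφ (P.irr_ne_col hμ hψS hψi j)
    have hψk : Cfsg.classInner ψ (col k) = 0 := P.tenS_orth hψS (hcolS k hk) (P.irr_ne_col hμ hψS hψi k)
    simp only [← Int.cast_smul_eq_zsmul ℂ, classInner_sub_left, classInner_sub_right, classInner_smul_left,
      hcolinner, if_neg hjk, hψj, hψk, sub_zero, mul_zero, sub_self, hadd] at h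
    rw [Finset.sum_congr rfl (g := fun _ => ((u j - u k : ℤ) : ℂ)) fun r _ => by push_cast; ring,
      Finset.sum_const, Finset.card_univ, hRc, nsmul_eq_mul] at h
    have h2 : e * ((w : ℤ) * (u j - u k)) = w := by exact_mod_cast h
    have h3 : (w : ℤ) * (e * (u j - u k) - 1) = 0 := by linear_combination h2
    have h4 := (mul_eq_zero.1 h3).resolve_left (by exact_mod_cast (show w ≠ 0 by omega))
    linear_combination (-e) * h4 + (u j - u k) * he2
  -- the norm
  let f : (M → ℂ) → G → ℂ := fun η => tenTau M (η - ψ) + X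
  have hYp : ∀ η ∈ Y, ∀ η' ∈ Y, Cfsg.classInner (f η) (f η') = if η = η' then 1 else 0 := by
    intro η hη η' hη'
    have hm : ∀ {η : M → ℂ}, η ∈ Y → η - ψ ∈ Cfsg.zspanOn (tenS M) ({1}ᶜ : Set M) := fun {η} hη => by
      have := hdiff (hYS η hη) (d := 1) (by rw [hYdeg η hη, hψw, Int.cast_one, one_mul])
      rwa [one_smul] at this
    have h1 : ∀ {a b : M → ℂ}, a ∈ Y → b ∈ Y → Cfsg.classInner a b = if a = b then 1 else 0 := fun ha hb =>
      IsIrrCharacter.classInner_eq (hYirr _ ha) (hYirr _ hb)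
    have h2 : Cfsg.classInner X (tenTau M (η' - ψ)) = Cfsg.classInner ψ η' - 1 := by
      rw [← classInner_conj, hYX η' hη', map_sub, map_one, classInner_conj]
    simp only [f, classInner_add_left, classInner_add_right, P.tau_isometry.1.2.2.1 _ (hm hη) _ (hm hη'),
      hYX η hη, h2, hXX, classInner_sub_left, classInner_sub_right, IsIrrCharacter.classInner_self hψi]
    rw [h1 hη hη']
    ring
  have hfinj : Set.InjOn f ↑Y := fun η hη η' hη' e' => by
    by_contra hne
    have h := hYp η hη η hη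
    rw [if_pos rfl] at h
    conv_lhs at h => arg 2; rw [e']
    rw [hYp η hη η' hη', if_neg hne] at h
    exact zero_ne_one h
  have hcoef : ∀ η ∈ Y, Cfsg.classInner θ (f η) =
      ((S - if η = ψ then (p : ℤ) else 0 : ℤ) : ℂ) := by
    intro η hη
    have hm : η - ψ ∈ Cfsg.zspanOn (tenS M) ({1}ᶜ : Set M) := by
      have := hdiff (hYS η hη) (d := 1) (by rw [hYdeg η hη, hψw, Int.cast_one, one_mul])
      rwa [one_smul] at this
    have hjη : Cfsg.classInner (col j) η = 0 :=
      P.tenS_orth hφ (hYS η hη) (Ne.symm (P.irr_ne_col hμ (hYS η hη) (hYirr η hη) j))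
    simp only [f, classInner_add_right]
    rw [hθ, P.tau_isometry.1.2.2.1 _ hα _ hm, hkey hφ hd, ← hθ, hsum0, hjψ]
    simp only [← Int.cast_smul_eq_zsmul ℂ, classInner_sub_left, classInner_sub_right, classInner_smul_left,
      hjη, hjψ, IsIrrCharacter.classInner_self hψi, IsIrrCharacter.classInner_eq hψi (hYirr η hη)]
    by_cases he' : η = ψ
    · subst he'; simp
    · rw [if_neg he', if_neg (Ne.symm he')]; push_cast; ring
  let g : (G → ℂ) → ℤ := fun a =>
    if h : ∃ η ∈ Y, f η = a then (S - if h.choose = ψ then (p : ℤ) else 0) else 0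
  have hg : ∀ η ∈ Y, g (f η) = S - if η = ψ then (p : ℤ) else 0 := fun η hη => by
    have h : ∃ η' ∈ Y, f η' = f η := ⟨η, hη, rfl⟩
    simp only [g, dif_pos h]
    rw [show h.choose = η from hfinj h.choose_spec.1 hη h.choose_spec.2]
  have hb := grid_bessel hχ (fun r l => t r + u l) hadd (Y.image f)
    (fun a ha b hb hab => by
      obtain ⟨η, hη, rfl⟩ := Finset.mem_image.1 ha
      obtain ⟨η', hη', rfl⟩ := Finset.mem_image.1 hb
      rw [hYp η hη η' hη', if_neg fun e' => hab (congrArg f e')])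
    (fun a ha => by
      obtain ⟨η, hη, rfl⟩ := Finset.mem_image.1 ha
      rw [hYp η hη η hη, if_pos rfl])
    (fun a ha ω => by
      obtain ⟨η, hη, rfl⟩ := Finset.mem_image.1 ha
      simp only [f, classInner_add_left]
      rw [hYrow η hη ω, hXη ω, add_zero])
    g (fun a ha => by
      obtain ⟨η, hη, rfl⟩ := Finset.mem_image.1 ha
      rw [hcoef η hη, hg η hη])
  have hnorm : Cfsg.classInner θ θ = (((w : ℤ) + (p : ℤ) ^ 2 : ℤ) : ℂ) := by
    rw [hθ, P.tau_isometry.1.2.2.1 _ hα _ hα]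
    have hψj : Cfsg.classInner ψ (col j) = 0 := P.tenS_orth hψS hφ (P.irr_ne_col hμ hψS hψi j)
    simp only [← Int.cast_smul_eq_zsmul ℂ, classInner_sub_left, classInner_sub_right, classInner_smul_left,
      classInner_smul_right, hcolinner, hjψ, hψj, IsIrrCharacter.classInner_self hψi, map_intCast]
    push_cast
    ring
  rw [hnorm, Complex.intCast_re, Finset.sum_image hfinj,
    Finset.sum_congr (s₁ := Y) rfl fun η hη => by rw [hg η hη]] at hb
  have hb' : ∑ l : Col K Ks, ∑ r, (t r + u l) * (t r + u l) +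
      ∑ η ∈ Y, (S - if η = ψ then (p : ℤ) else 0) * (S - if η = ψ then (p : ℤ) else 0) ≤
        (w : ℤ) + (p : ℤ) ^ 2 := by exact_mod_cast hb
  have hYsq : ∑ η ∈ Y, (S - if η = ψ then (p : ℤ) else 0) * (S - if η = ψ then (p : ℤ) else 0) =
      (Y.card : ℤ) * (S * S) - 2 * p * S + (p : ℤ) ^ 2 := by
    rw [Finset.sum_congr rfl (g := fun η => S * S + if η = ψ then (p : ℤ) ^ 2 - 2 * p * S else 0) fun η _ => by
      split_ifs <;> ring, Finset.sum_add_distrib, Finset.sum_const, Finset.sum_ite_eq', if_pos hψ, nsmul_eq_mul]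
    ring
  have hgrid : ∑ l : Col K Ks, ∑ r, (t r + u l) * (t r + u l) =
      ∑ r, (t r * t r + (t r + (u j - e) + e) * (t r + (u j - e) + e) +
        ((p : ℤ) - 2) * ((t r + (u j - e)) * (t r + (u j - e)))) := by
    rw [Finset.sum_comm]
    refine Finset.sum_congr rfl fun r _ => ?_
    rw [← Finset.add_sum_erase _ _ (Finset.mem_univ col₀), hu,
      ← Finset.add_sum_erase _ _ (Finset.mem_erase.2 ⟨hj, Finset.mem_univ j⟩),
      Finset.sum_congr rfl (g := fun _ => (t r + (u j - e)) * (t r + (u j - e))) fun l hl => ?_,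
      Finset.sum_const, Finset.card_erase_of_mem (Finset.mem_erase.2 ⟨hj, Finset.mem_univ j⟩),
      Finset.card_erase_of_mem (Finset.mem_univ _), Finset.card_univ, hCc, nsmul_eq_mul]
    · rw [show p - 1 - 1 = p - 2 by omega, Nat.cast_sub (show 2 ≤ p by omega)]
      push_cast
      ring
    · rw [Finset.mem_erase, Finset.mem_erase] at hl
      rw [hcdiff l hl.2.1 hl.1]
  refine cube_rows t (u j - e) e p S Y.card he2 hSdef.symm (by rw [hRc]; exact hw3)
    (by exact_mod_cast hp5) hn ?_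
  rw [hRc]
  rw [hgrid, hYsq] at hb'
  linarith

end TenPair

end CfsgLib.OddEnd
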