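import Cfsg.Agent.OddEnd.TenFiveCentral
import Cfsg.Agent.OddEnd.TenFiveConst
import Cfsg.Agent.OddEnd.TenFiveCube
import Cfsg.Agent.Char.CoherenceOddKernel
import Cfsg.Agent.S1383

/-!
The set `S` of a maximal subgroup of type V is coherent (Peterfalvi 10.10).
-/

set_option autoImplicit false
set_option linter.style.haveILetI false

namespace CfsgLib.OddEnd

section Central

open CfsgLib.Char

universe v

variable {Q : Type v} [Group Q] [Fintype Q] {θ : Q → ℂ} {z : Q}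

/-- An irreducible character is multiplicative on central elements, up to its degree. -/
theorem central_mul (hθ : Cfsg.IsIrrCharacter Q θ) (hz : ∀ b : Q, z * b = b * z) (y : Q) :
    θ 1 * θ (z * y) = θ z * θ y := by
  classical
  have hcl : Cfsg.IsClassFunction Q fun x => if x = z then (1 : ℂ) else 0 := fun g h => by
    simp only
    refine if_congr ⟨fun e => ?_, fun e => ?_⟩ rfl rfl
    · rw [show g = h⁻¹ * (h * g * h⁻¹) * h by group, e, mul_assoc, hz h, inv_mul_cancel_left]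
    · rw [e, ← hz h, mul_inv_cancel_right]
  have h := IsIrrCharacter.sum_mul_apply_mul hθ hcl y
  simp only [ite_mul, one_mul, zero_mul, Finset.sum_ite_eq', Finset.mem_univ, if_true] at h
  rw [h, mul_div_cancel₀ _ (IsIrrCharacter.apply_one_ne_zero hθ)]

theorem central_ne_zero (hθ : Cfsg.IsIrrCharacter Q θ) (hz : ∀ b : Q, z * b = b * z) : θ z ≠ 0 := fun h0 => by
  have h := central_mul hθ hz z⁻¹
  rw [mul_inv_cancel, h0, zero_mul, mul_self_eq_zero] at h
  exact IsIrrCharacter.apply_one_ne_zero hθ h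

end Central

end CfsgLib.OddEnd

namespace CfsgLib.OddEnd.TenPair

open Cfsg CfsgLib.Char CfsgLib.OddLocal
open scoped commutatorElement

universe u

variable {G : Type u} [Group G] [Fintype G] {M N K Ks V : Subgroup G} (P : TenPair M N K Ks V) [Fintype M]
include P

omit [Fintype M] in
/-- The facts read off from type V. -/
theorem typeV_facts (hV : Cfsg.IsOfTypeV M) :
    Cfsg.fittingHallOf M = Cfsg.sigmaCore M ∧ Group.IsNilpotent ↥(Cfsg.sigmaCore M) ∧
      (Cfsg.IsTISubset (Cfsg.sigmaCore M : Set G) ∨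
        (∃ q : ℕ, q.Prime ∧ q ∣ Nat.card ↥(Cfsg.sigmaCore M) ∧ Nat.card K ∣ q - 1) ∨
        ∃ q : ℕ, q.Prime ∧ q ∣ Nat.card ↥(Cfsg.sigmaCore M) ∧
          Nat.card (Cfsg.pCore q ↥(Cfsg.sigmaCore M)) = q ^ 3 ∧ Nat.card K ∣ q + 1) := by
  obtain ⟨W₁, U, W₂, h, rfl, hcases⟩ := hV
  have hHM : Cfsg.fittingHallOf M = Cfsg.sigmaCore M := by
    obtain ⟨hle, -, -, hfac⟩ := h.U_compl
    rw [← P.derived_M]
    refine le_antisymm hle fun x hx => ?_
    obtain ⟨a, ha, b, hb, e⟩ := hfac x hx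
    rw [Subgroup.mem_bot.1 hb, mul_one] at e
    exact e ▸ ha
  have hw : Nat.card W₁ = Nat.card K := by
    have h1 := FittingHall.card_complIn h.W₁_compl
    have h2 := FittingHall.card_complIn P.compl_M
    rw [P.derived_M] at h1
    exact Nat.eq_of_mul_eq_mul_left Nat.card_pos (h1.symm.trans h2)
  refine ⟨hHM, hHM ▸ FittingHall.nilpotent_of M, ?_⟩
  rw [hHM, hw] at hcases
  rcases hcases with h1 | ⟨q, hq, hqd, h1, -⟩ | ⟨q, hq, hqd, h1, h2, -⟩
  · exact Or.inl h1
  · exact Or.inr (Or.inl ⟨q, hq, hqd, h1⟩)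
  · exact Or.inr (Or.inr ⟨q, hq, hqd, h1, h2⟩)

omit [Fintype M] in
/-- The centralizers of the non-identity elements of a TI core lie in `M`. -/
theorem centralizer_le_of_TI (hTI : Cfsg.IsTISubset (Cfsg.sigmaCore M : Set G)) {x : G}
    (hx : x ∈ Cfsg.sigmaCore M) (hx1 : x ≠ 1) : Subgroup.centralizer ({x} : Set G) ≤ M := by
  intro c hc
  have hN := Uniq.coatom_normalizer_eq P.hG P.hM (Subgroup.map_subtype_le _) (TH.le_normalizer_core M)
    (fun e => hx1 (Subgroup.mem_bot.1 (e ▸ hx)))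
  by_contra hcM
  refine hx1 (hTI c (fun h => hcM (hN.le h)) x hx ?_)
  rwa [Subgroup.mem_centralizer_singleton_iff.1 hc, mul_inv_cancel_right]

/-- The Dade map is adjoint to restriction when `M_σ` is a TI set. -/
theorem tau_reciprocity (hTI : Cfsg.IsTISubset (Cfsg.sigmaCore M : Set G)) {α : M → ℂ}
    (hα : α ∈ Cfsg.zspanOn (tenS M) ({1}ᶜ : Set M)) {ξ : G → ℂ} (hξ : Cfsg.IsGeneralizedCharacter G ξ) :
    Cfsg.classInner (tenTau M α) ξ = Cfsg.classInner α fun x : M => ξ x := by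
  obtain ⟨hg, hA⟩ := P.zspanOn_props hα
  refine classInner_dadeIsometry P.dade_A (IsGeneralized.isClassFunction hg) hA
    (IsGeneralized.isClassFunction hξ) fun a ha => ?_
  have hR : Cfsg.supportR M (a : G) = ⊥ := Kap.supportR_eq_bot P.hG
    (P.centralizer_le_of_TI hTI (P.typeA_M.le ha).1 (fun e => (P.typeA_M.le ha).2 e))
  rw [hR, Subgroup.card_bot, Nat.cast_one, inv_one, one_mul, Subgroup.coe_bot, finsum_mem_singleton, mul_one]

/-- A TI core whose order is a prime power is a Sylow subgroup. -/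
theorem core_sylow {m : ℕ}
    (hm : Nat.card ↥(Cfsg.sigmaCore M) = Nat.card Ks ^ m) :
    Subgroup.normalizer (Cfsg.sigmaCore M : Set G) = M ∧ ¬ Nat.card Ks ∣ (Cfsg.sigmaCore M).index := by
  have hle : Cfsg.sigmaCore M ≤ M := Subgroup.map_subtype_le _
  have hN := Uniq.coatom_normalizer_eq P.hG P.hM hle (TH.le_normalizer_core M)
    (fun e => P.Ks_ne (le_bot_iff.1 (e ▸ P.Ks_le)))
  haveI := Fact.mk P.Ks_prime
  refine ⟨hN, fun hd => ?_⟩
  have h1 : Nat.card Ks ^ (m + 1) ∣ Nat.card G := by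
    rw [← (Cfsg.sigmaCore M).card_mul_index, hm, pow_succ]
    exact mul_dvd_mul_left _ hd
  have h2 := Sylow.prime_dvd_card_quotient_normalizer h1 hm
  rw [← Subgroup.index_eq_card] at h2
  have h3 : Nat.card Ks ∣ (Cfsg.sigmaCore M).relIndex (Subgroup.normalizer (Cfsg.sigmaCore M : Set G)) := h2
  rw [hN, Subgroup.relIndex, P.index_core] at h3
  have h4 : (Nat.card K).Coprime (Nat.card Ks) := coprime_of_cyclic_sup P.W_M.2.2.1 P.W_M.2.2.2.1 P.W_M.2.2.2.2.1
  exact P.Ks_prime.one_lt.ne' (Nat.eq_one_of_dvd_coprimes h4 h3 dvd_rfl)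

/-- The set `S` of a maximal subgroup of type V is coherent. -/
theorem coherent_typeV (hV : Cfsg.IsOfTypeV M) : Cfsg.IsCoherent (tenS M) ({1}ᶜ : Set M) (tenTau M) := by
  classical
  obtain ⟨hHM, hnilσ, hcases⟩ := P.typeV_facts hV
  have hle : Cfsg.sigmaCore M ≤ M := Subgroup.map_subtype_le _
  set H := (Cfsg.sigmaCore M).subgroupOf M with hH
  haveI : H.Normal := P.normal_core
  haveI hnil : Group.IsNilpotent H :=
    @Group.nilpotent_of_mulEquiv _ _ _ _ hnilσ (Subgroup.subgroupOfEquivOfLe hle).symm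
  haveI hsolv : Group.IsSolvable H := P.core_solvable
  haveI : Group.IsNilpotent (↥H ⧸ (⊥ : Subgroup M).subgroupOf H) := inferInstance
  obtain ⟨χ, hχ⟩ := exists_cyclicTIFamily P.W_M P.primeDade_M.odd
  obtain ⟨μ, δ, hμ⟩ := P.primeDade_M.exists_isMuG
  obtain ⟨R, hS⟩ := P.exists_system hχ hμ (let ⟨ζ, hζ, _⟩ := P.exists_zeta; ⟨ζ, hζ⟩)
  have hS' : Cfsg.IsCoherenceSystem (Cfsg.inducedIrrAbove H ⊥) (tenTau M) R := hS
  have hD := P.derived_core_lt
  have hKL : H < ⊤ := lt_top_iff_ne_top.2 fun e => P.hK1 (by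
    rw [← Subgroup.card_eq_one, ← P.index_core, ← hH, e, Subgroup.index_top])
  have hidx : H.index = Nat.card K := P.index_core
  set p := Nat.card Ks with hpdef
  have hp : p.Prime := P.Ks_prime
  haveI := Fact.mk hp
  set w := Nat.card K with hwdef
  have hcardH : Nat.card H = Nat.card ↥(Cfsg.sigmaCore M) :=
    Nat.card_congr (Subgroup.subgroupOfEquivOfLe hle).toEquiv
  by_cases hgood : (∃ N : Subgroup M, N.Normal ∧ ⁅H, H⁆ < N ∧ N < H) ∨
      4 * H.index ^ 2 + 1 < (⁅H, H⁆ : Subgroup M).relIndex H ∨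
      (¬ ∃ q m : ℕ, q.Prime ∧ (⊥ : Subgroup M).relIndex H = q ^ m) ∨ ⁅H, H⁆ ≤ ⊥ ∨
      (∃ q m : ℕ, q.Prime ∧ (⊥ : Subgroup M).relIndex H = q ^ m ∧ H.index ∣ q - 1)
  · exact coherent_odd_nilpotent hsolv hS' (P.oddG M) ⊥ bot_le inferInstance ⁅H, H⁆ (sup_bot_eq _).symm hD hKL
      P.frob hgood
  simp only [not_or, not_not] at hgood
  obtain ⟨-, -, ⟨q, m, hq, hqm⟩, hnab, hnd⟩ := hgood
  have hnd' : ¬ H.index ∣ q - 1 := fun hd => hnd ⟨q, m, hq, hqm, hd⟩
  rw [Subgroup.relIndex_bot_left, hcardH] at hqm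
  have hqp : q = p := by
    have h1 : p ∣ q ^ m := hqm ▸ Subgroup.card_dvd_of_le P.Ks_le
    exact ((Nat.prime_dvd_prime_iff_eq hp hq).1 (hp.dvd_of_dvd_pow h1)).symm
  subst hqp
  rw [hidx] at hnd'
  have hsame : ∀ {r : ℕ}, r.Prime → r ∣ Nat.card ↥(Cfsg.sigmaCore M) → r = p := fun {r} hr hd =>
    (Nat.prime_dvd_prime_iff_eq hr hq).1 (hr.dvd_of_dvd_pow (hqm ▸ hd))
  rcases hcases with hTI | ⟨r, hr, hrd, h1⟩ | ⟨r, hr, hrd, h1, h2⟩
  rotate_left
  · rw [hsame hr hrd] at h1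
    exact absurd h1 hnd'
  · rw [hsame hr hrd] at h1 h2
    refine P.coherent_cube ?_ (hpdef ▸ h2)
    have htop : Cfsg.pCore p ↥(Cfsg.sigmaCore M) = ⊤ :=
      eq_top_iff.2 (le_sSup ⟨inferInstance, (IsPGroup.of_card hqm).to_subgroup ⊤⟩)
    rw [htop, Subgroup.card_top] at h1
    rw [← hpdef]; exact h1
  -- a TI Sylow subgroup
  obtain ⟨hN, hndvd⟩ := P.core_sylow (m := m) (hpdef ▸ hqm)
  rw [← hpdef] at hndvd
  have hHp : IsPGroup p ↥(Cfsg.sigmaCore M) := IsPGroup.of_card hqm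
  have hrec : ∀ α ∈ Cfsg.zspanOn (Cfsg.inducedIrrAbove H ⊥) ({1}ᶜ : Set M), ∀ ξ : G → ℂ,
      Cfsg.IsGeneralizedCharacter G ξ → Cfsg.classInner (tenTau M α) ξ = Cfsg.classInner α fun x : M => ξ x :=
    fun α hα ξ hξ => P.tau_reciprocity hTI hα hξ
  have hYirr := P.linear_irr
  have hYS : Cfsg.inducedIrrAbove H ⁅H, H⁆ ⊆ tenS M := inducedIrrAbove_subset_bot H _
  have hsigned : ∀ τ₁ : (M → ℂ) → G → ℂ,
      Cfsg.IsLinearIsometryOn (Cfsg.zspan (Cfsg.inducedIrrAbove H ⁅H, H⁆)) τ₁ →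
      ∀ ψ ∈ Cfsg.inducedIrrAbove H ⁅H, H⁆, IsSignedIrr (τ₁ ψ) := fun τ₁ hτ₁ ψ hψ =>
    IsGeneralized.isIrr_or_neg (hτ₁.2.2.2 _ (subset_zspan hψ)) (by
      rw [hτ₁.2.2.1 _ (subset_zspan hψ) _ (subset_zspan hψ),
        IsIrrCharacter.classInner_self (hYirr ψ hψ)])
  have hKcomm : ∀ c ∈ K, ∀ s ∈ Ks, c * s = s * c := P.W_M.2.2.2.1
  by_cases hcen : ∀ s ∈ Ks, ∀ h ∈ Cfsg.sigmaCore M, s * h = h * s
  · -- `Z = Ks` is central in `M`
    set Z := Ks.subgroupOf M with hZdef
    have hcenM : ∀ z ∈ Z, ∀ x : M, z * x = x * z := by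
      intro z hz x
      obtain ⟨-, -, -, hfac⟩ := P.compl_M
      obtain ⟨a, ha, b, hb, e⟩ := hfac x x.2
      refine Subtype.ext ?_
      show (z : G) * x = x * z
      have hzs : (z : G) ∈ Ks := hz
      rw [e, ← mul_assoc, hcen _ hzs a ha, mul_assoc, ← hKcomm b hb _ hzs, ← mul_assoc]
    haveI : Z.Normal := ⟨fun z hz x => by
      rw [← hcenM z hz x, mul_inv_cancel_right]; exact hz⟩
    have hZc : Nat.card Z = p := (Nat.card_congr
      (Subgroup.subgroupOfEquivOfLe (le_sup_right.trans P.le_M : Ks ≤ M)).toEquiv).trans hpdef.symm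
    have hZ1 : Z ≠ ⊥ := fun e => hq.one_lt.ne' (by rw [← hZc, e, Subgroup.card_bot])
    have hZD : Z ≤ ⁅H, H⁆ := P.Ks_le_derived
    refine coherent_of_central hsolv hS' hD hYirr hrec Z hZ1 hZD (fun τ₁ hτ₁ hτ₁τ ψ hψ => ?_) ?_
    · obtain ⟨t, ht⟩ := dvd_of_const hHp hndvd hTI hN (P.oddG M) Z hZ1 (fun z hz => P.Ks_le hz)
        (fun z hz h hh => hcen _ hz h hh) (C := Nat.card M) (fun z hz _ => by
          rw [inf_eq_left.2 fun x hx => Subgroup.mem_centralizer_singleton_iff.2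
            (congrArg Subtype.val (hcenM z hz ⟨x, hx⟩)).symm])
        (hsigned τ₁ hτ₁ ψ hψ)
        (const_of_prime P.dade_A hS' hD hYirr Z (hZc ▸ hq) hZD
          (fun z hz hz1 => P.mem_A (P.Ks_le hz) fun e => hz1 (Subtype.ext e)) hτ₁ hτ₁τ hψ)
      exact ⟨t, fun z hz hz1 => by rw [hcardH]; exact ht z hz hz1⟩
    · by_cases hDZ : ⁅H, H⁆ ≤ Z
      · exact Or.inr (Or.inr hDZ)
      refine Or.inr (Or.inl ?_)
      rw [hidx, ← Subgroup.relIndex_mul_relIndex Z ⁅H, H⁆ H hZD hD.le, sq]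
      have hwodd : Odd w := P.oddG K
      have hbound : ∀ a : ℕ, w ∣ a - 1 → 1 < a → Odd a → 2 * w + 1 ≤ a := by
        intro a ⟨t, ht⟩ ha ⟨s, hs⟩
        obtain ⟨l, hl⟩ := hwodd
        have ht2 : 2 ≤ t := by
          by_contra hlt
          have : t = 0 ∨ t = 1 := by omega
          rcases this with rfl | rfl
          · rw [Nat.mul_zero] at ht; omega
          · rw [Nat.mul_one] at ht; omega
        have := Nat.mul_le_mul_left w ht2
        omega
      have hWK : Nat.card (K.subgroupOf M) = w :=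
        Nat.card_congr (Subgroup.subgroupOfEquivOfLe P.hKU.hall.1).toEquiv
      have hone : ∀ A B : Subgroup M, A ≤ B → ¬ B ≤ A → 1 < A.relIndex B := fun A B _ h => by
        have e1 : A.relIndex B ≠ 1 := fun e => h (Subgroup.relIndex_eq_one.1 e)
        have e2 : A.relIndex B ≠ 0 := Subgroup.index_ne_zero_of_finite
        omega
      have hoddsub : ∀ A B : Subgroup M, Odd (A.relIndex B) := fun A B =>
        (P.oddG M).of_dvd_nat ((Subgroup.index_dvd_card _).trans (Subgroup.card_subgroup_dvd_card B))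
      have c1 : w ∣ (⁅H, H⁆ : Subgroup M).relIndex H - 1 :=
        hWK ▸ card_dvd_relIndex_sub_one P.primeDade_M.action hsolv ⁅H, H⁆ hD.le P.Ks_le_derived
      have c2 : w ∣ Z.relIndex H - 1 :=
        hWK ▸ card_dvd_relIndex_sub_one P.primeDade_M.action hsolv Z (hZD.trans hD.le) le_rfl
      have o1 := hone ⁅H, H⁆ H hD.le hD.not_ge
      have o2 := hone Z ⁅H, H⁆ hZD hDZ
      have c3 : w ∣ Z.relIndex ⁅H, H⁆ - 1 := by
        rw [← Subgroup.relIndex_mul_relIndex Z ⁅H, H⁆ H hZD hD.le] at c2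
        have o3 : 1 ≤ Z.relIndex ⁅H, H⁆ * (⁅H, H⁆ : Subgroup M).relIndex H :=
          Nat.one_le_iff_ne_zero.2 (by positivity)
        have e1 := (Nat.modEq_iff_dvd' o1.le).2 c1
        have e2 := (Nat.modEq_iff_dvd' o3).2 c2
        exact (Nat.modEq_iff_dvd' o2.le).1 (e2.trans ((e1.symm.mul_left _).trans (by rw [mul_one])))
      exact Nat.mul_le_mul (hbound _ c3 o2 (hoddsub _ _)) (hbound _ c1 o1 (hoddsub _ _))
  · -- `Ks` is not central: the centre inside the derived group avoids it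
    set Z : Subgroup M := (commutator H ⊓ Subgroup.center H).map H.subtype with hZdef
    haveI hZn : Z.Normal := by
      haveI : (commutator H ⊓ Subgroup.center H).Characteristic :=
        Subgroup.characteristic_iff_map_eq.2 fun e => by
          rw [Subgroup.map_inf _ _ _ e.injective,
            Subgroup.characteristic_iff_map_eq.1 inferInstance e,
            Subgroup.characteristic_iff_map_eq.1 inferInstance e]
      exact ConjAct.normal_of_characteristic_of_normal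
    have hmapD : (commutator H).map H.subtype = ⁅H, H⁆ := by
      rw [commutator_def, Subgroup.map_commutator, ← MonoidHom.range_eq_map, Subgroup.range_subtype]
    have hZ1 : Z ≠ ⊥ := fun e => by
      haveI : Fact p.Prime := ⟨hq⟩
      have hHq : IsPGroup p H := IsPGroup.of_card (hcardH.trans hqm)
      refine CfsgLib.PGroupBasic.inf_center_ne_bot (commutator H) (fun e0 => hnab ?_)
        ((Subgroup.map_eq_bot_iff_of_injective _ H.subtype_injective).1 e)
      rw [← hmapD, e0, Subgroup.map_bot]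
    have hZD : Z ≤ ⁅H, H⁆ := hmapD ▸ Subgroup.map_mono inf_le_left
    have hZH : Z ≤ H := Subgroup.map_subtype_le _
    have hZc : ∀ z ∈ Z, ∀ k ∈ H, z * k = k * z := by
      rintro _ ⟨z, hz, rfl⟩ k hk
      exact congrArg Subtype.val (Subgroup.mem_center_iff.1 hz.2 ⟨k, hk⟩).symm
    have hfree : ∀ z ∈ Z, z ≠ 1 → (z : G) ∉ Ks := fun z hz hz1 hzs => by
      refine hcen fun s hs h hh => ?_
      obtain ⟨i, rfl⟩ : ∃ i : ℤ, (z : G) ^ i = s := by
        have hz2 : Subgroup.zpowers (⟨(z : G), hzs⟩ : Ks) = ⊤ :=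
          zpowers_eq_top_of_prime_card hpdef.symm fun e =>
            hz1 (Subtype.ext ((congrArg Subtype.val e).trans rfl : (z : G) = ((1 : M) : G)))
        obtain ⟨i, hi⟩ := Subgroup.mem_zpowers_iff.1 (hz2.symm ▸ Subgroup.mem_top (⟨s, hs⟩ : Ks) :
          (⟨s, hs⟩ : Ks) ∈ _)
        exact ⟨i, congrArg Subtype.val hi⟩
      exact (show Commute (z : G) h from congrArg Subtype.val (hZc z hz ⟨h, hle hh⟩ hh)).zpow_left i
    have hfix : ∀ c ∈ K.subgroupOf M, c ≠ 1 → ∀ z ∈ Z, c * z * c⁻¹ = z → z = 1 := fun c hc hc1 z hz e => by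
      by_contra hz1
      refine hfree z hz hz1 ?_
      have := (P.primeDade_M.action.centralizer_eq c hc hc1).le
        ⟨hZH hz, Subgroup.mem_centralizer_singleton_iff.2 (mul_inv_eq_iff_eq_mul.1 e).symm⟩
      exact this
    have hirr : ∀ φ ∈ Cfsg.inducedIrrAbove H ⊥ \ Cfsg.inducedIrrAbove H Z, Cfsg.IsIrrCharacter M φ := by
      rintro φ ⟨⟨θ, h1, h2, -, rfl⟩, hnot⟩
      refine P.primeDade_M.action.invariant_chars.1 θ h1 ?_
      by_contra hall
      push Not at hall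
      refine hnot ⟨θ, h1, h2, ?_, rfl⟩
      obtain ⟨c, hc, hc1⟩ := (Subgroup.bot_or_exists_ne_one (K.subgroupOf M)).resolve_left
        P.primeDade_M.action.ne_bot₁
      -- `θ` is invariant under `c`, whose commutators fill `Z`
      haveI := Fintype.ofFinite H
      set ZH := Z.subgroupOf H
      haveI := Fintype.ofFinite ZH
      intro a ha
      let f : Z → Z := fun z => ⟨c * z * c⁻¹ * (z : M)⁻¹, Z.mul_mem (hZn.conj_mem z z.2 c) (Z.inv_mem z.2)⟩
      have hinj : Function.Injective f := fun y z e => by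
        have e' : c * (y : M) * c⁻¹ * (y : M)⁻¹ = c * (z : M) * c⁻¹ * (z : M)⁻¹ := congrArg Subtype.val e
        refine Subtype.ext (inv_mul_eq_one.1 (hfix c hc hc1 ((y : M)⁻¹ * z) (Z.mul_mem (Z.inv_mem y.2) z.2) ?_))
        calc c * ((y : M)⁻¹ * z) * c⁻¹
            = (c * y * c⁻¹ * (y : M)⁻¹ * y)⁻¹ * (c * z * c⁻¹ * (z : M)⁻¹ * z) := by group
          _ = (c * z * c⁻¹ * (z : M)⁻¹ * y)⁻¹ * (c * z * c⁻¹ * (z : M)⁻¹ * z) := by rw [e']
          _ = (y : M)⁻¹ * z := by group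
      obtain ⟨z, hz⟩ := Finite.surjective_of_injective hinj ⟨a, ha⟩
      have hz' : c * (z : M) * c⁻¹ * (z : M)⁻¹ = a := congrArg Subtype.val hz
      set zH : H := ⟨z, hZH z.2⟩
      have hcz : θ ⟨c * z * c⁻¹, ‹H.Normal›.conj_mem _ (hZH z.2) c⟩ = θ zH :=
        (mem_inertia_iff θ c).1 (hall c hc) zH
      have hlin : ∀ (x y : H), (x : M) ∈ Z → θ 1 * θ (x * y) = θ x * θ y := fun x y hx => by
        refine central_mul h1 (fun b => Subtype.ext (hZc x hx b b.2)) y
      have hz0 : θ zH ≠ 0 := central_ne_zero h1 (fun b => Subtype.ext (hZc z z.2 b b.2))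
      have e := hlin a zH ha
      rw [show a * zH = ⟨c * z * c⁻¹, ‹H.Normal›.conj_mem _ (hZH z.2) c⟩ from Subtype.ext (by
        show (a : M) * z = c * z * c⁻¹
        rw [← hz']; group), hcz] at e
      exact (mul_right_cancel₀ hz0 e.symm)
    refine coherent_of_central hsolv hS' hD hYirr hrec Z hZ1 hZD (fun τ₁ hτ₁ hτ₁τ ψ hψ => ?_) ?_
    · obtain ⟨t, ht⟩ := dvd_of_const hHp hndvd hTI hN (P.oddG M) Z hZ1 (fun z hz => hZH hz)
        (fun z hz h hh => congrArg Subtype.val (hZc z hz ⟨h, hle hh⟩ hh))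
        (C := Nat.card ↥(Cfsg.sigmaCore M)) (fun z hz hz1 => by
          refine congrArg (fun X : Subgroup G => Nat.card X) (le_antisymm ?_ fun h hh => ⟨hle hh,
            Subgroup.mem_centralizer_singleton_iff.2
              (congrArg Subtype.val (hZc z hz ⟨h, hle hh⟩ hh)).symm⟩)
          rintro x ⟨hxM, hxc⟩
          obtain ⟨k₀, hk₀, c, hc, e⟩ := P.primeDade_M.action.exists_factor ⟨x, hxM⟩
          by_cases hc1 : c = 1
          · rw [hc1, mul_one] at e
            have : (x : G) = (k₀ : G) := congrArg Subtype.val e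
            exact this ▸ hk₀
          refine absurd (hfix c hc hc1 z hz ?_) hz1
          have hxz : (⟨x, hxM⟩ : M) * z = z * ⟨x, hxM⟩ :=
            Subtype.ext (Subgroup.mem_centralizer_singleton_iff.1 hxc)
          rw [e, mul_assoc, ← mul_assoc z k₀, hZc z hz k₀ hk₀, mul_assoc] at hxz
          rw [mul_left_cancel hxz, mul_inv_cancel_right])
        (hsigned τ₁ hτ₁ ψ hψ)
        (const_of_irreducible hsolv hS' (P.oddG M) hnil hD hKL P.frob hYirr hrec Z hZ1 hZD hZc hirr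
          hτ₁ hτ₁τ hψ)
      exact ⟨t, fun z hz hz1 => by rw [hcardH]; exact ht z hz hz1⟩
    · refine Or.inl ?_
      rw [hidx]
      have h1 := card_dvd_sub_one_of_fixed_free (K.subgroupOf M) Z hfix
      rw [Nat.card_congr (Subgroup.subgroupOfEquivOfLe P.hKU.hall.1).toEquiv] at h1
      obtain ⟨t, ht⟩ := h1
      have hzodd : Odd (Nat.card Z) := (P.oddG M).of_dvd_nat (Subgroup.card_subgroup_dvd_card Z)
      have hz1 : 1 < Nat.card Z := by
        have e1 : Nat.card Z ≠ 1 := fun h => hZ1 (Subgroup.card_eq_one.1 h)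
        have := Nat.card_pos (α := Z)
        omega
      obtain ⟨u, hu⟩ := hzodd
      obtain ⟨v, hv⟩ := P.oddG K
      have ht2 : 2 ≤ t := by
        by_contra hlt
        have : t = 0 ∨ t = 1 := by omega
        rcases this with rfl | rfl
        · rw [Nat.mul_zero] at ht; omega
        · rw [Nat.mul_one] at ht; omega
      have := Nat.mul_le_mul_left (Nat.card K) ht2
      omega

end CfsgLib.OddEnd.TenPair
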