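import Cfsg.Agent.OddEnd.TenFive
import Cfsg.Agent.OddLocal.TauTwoFrobenius
import Cfsg.Agent.OddLocal.KappaTypeF

/-!
No maximal subgroup is of type V, given that `S` is never coherent when `U = 1` (Peterfalvi 10.10).
-/

set_option autoImplicit false

namespace CfsgLib.OddEnd

open Cfsg CfsgLib.OddLocal

universe u

variable {G : Type u} [Group G] [Fintype G]

/-- Non-coherence for every pair with `U = 1` excludes type V. -/
theorem no_typeV_of (hG : Cfsg.IsMinSimpleOddOrder G)
    (hnc : ∀ {M N K Ks V : Subgroup G}, TenPair M N K Ks V → ∀ [Fintype M],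
      ¬ Cfsg.IsCoherent (tenS M) ({1}ᶜ : Set M) (tenTau M)) :
    ∀ M : Subgroup G, IsCoatom M → ¬ Cfsg.IsOfTypeV M := by
  intro M hM hV
  obtain ⟨E, hE, -⟩ := Tau.exists_complement_of hG hM (X := ⊥) bot_le fun q hq h => by
    rw [Subgroup.card_bot, Nat.dvd_one] at h; exact absurd h hq.ne_one
  obtain ⟨K, U, hKU, -, -⟩ := Kap.exists_decomp_in hG hM hE
  obtain ⟨hK1, hU, -⟩ := (Cfsg.Agent.S1383.result hG M hM K U hKU).1 hV
  subst hU
  obtain ⟨N, V, P⟩ := exists_tenPair hG hM hKU hK1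
  have := Fintype.ofFinite M
  exact hnc P (P.coherent_typeV hV)

end CfsgLib.OddEnd
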