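import Cfsg.Agent.OddEnd.TenFivePivot

/-!
Coherence when one constituent of the image of the linear part has the divisibility of a TI Sylow subgroup
on a normal subgroup inside the derived group of the kernel (Peterfalvi 6.8).
-/

set_option autoImplicit false
set_option linter.style.haveILetI false

namespace CfsgLib.OddEnd

open CfsgLib.Char
open scoped ComplexConjugate

universe u v

/-- An irreducible character not trivial on a normal subgroup sums to zero over it. -/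
theorem sum_normal_eq_zero {K : Type u} [Group K] [Fintype K] {N : Subgroup K} [N.Normal] [Fintype N]
    {θ : K → ℂ} (hθ : Cfsg.IsIrrCharacter K θ) (h : ¬ ∀ n ∈ N, θ n = θ 1) : ∑ n : N, θ n = 0 := by
  classical
  have h0 : Cfsg.classInner (fun n : N => θ n) (fun _ : N => (1 : ℂ)) = 0 := by
    by_contra hne
    refine h fun n hn => ?_
    have hr := restrict_eq_smul_sum hθ isIrrCharacter_one hne
    have horb : ∀ ψ ∈ conjOrbit (G := K) (fun _ : N => (1 : ℂ)), ∀ m : N, ψ m = ψ 1 := fun ψ hψ m => by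
      obtain ⟨g, rfl⟩ := mem_conjOrbit.1 hψ
      rw [conjOn_apply, conjOn_apply_one]
    have e1 := congrFun hr ⟨n, hn⟩
    have e2 := congrFun hr 1
    simp only [Pi.smul_apply, Finset.sum_apply, OneMemClass.coe_one] at e1 e2
    rw [e1, e2, Finset.sum_congr rfl fun ψ hψ => horb ψ hψ ⟨n, hn⟩]
  rw [classInner_def] at h0
  simpa [Fintype.card_ne_zero] using h0

variable {G : Type v} [Group G] [Fintype G] {L : Subgroup G} [Fintype L] {K : Subgroup L} [hK : K.Normal]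
  {τ : (L → ℂ) → G → ℂ} {R : (L → ℂ) → Finset (G → ℂ)}

/-- `S` is coherent when the images of the linear part take a value congruent to their degree modulo `|K|`
on a normal `Z` inside `[K, K]`, and `Z` or `K / Z` is large enough. -/
theorem coherent_of_central (hsolv : Group.IsSolvable K)
    (hS : Cfsg.IsCoherenceSystem (Cfsg.inducedIrrAbove K ⊥) τ R) (hH₁K : ⁅K, K⁆ < K)
    (hYirr : ∀ φ ∈ Cfsg.inducedIrrAbove K ⁅K, K⁆, Cfsg.IsIrrCharacter L φ)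
    (hrec : ∀ α ∈ Cfsg.zspanOn (Cfsg.inducedIrrAbove K ⊥) ({1}ᶜ : Set L), ∀ ξ : G → ℂ,
      Cfsg.IsGeneralizedCharacter G ξ → Cfsg.classInner (τ α) ξ = Cfsg.classInner α fun x : L => ξ x)
    (Z : Subgroup L) [Z.Normal] (hZ1 : Z ≠ ⊥) (hZD : Z ≤ ⁅K, K⁆)
    (hdvd : ∀ τ₁ : (L → ℂ) → G → ℂ,
      Cfsg.IsLinearIsometryOn (Cfsg.zspan (Cfsg.inducedIrrAbove K ⁅K, K⁆)) τ₁ →
      (∀ α ∈ Cfsg.zspanOn (Cfsg.inducedIrrAbove K ⁅K, K⁆) ({1}ᶜ : Set L), τ₁ α = τ α) →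
      ∀ ψ ∈ Cfsg.inducedIrrAbove K ⁅K, K⁆, ∃ t : ℤ, ∀ z ∈ Z, z ≠ 1 →
        τ₁ ψ 1 - τ₁ ψ (z : L) = ((Nat.card K : ℤ) * t : ℤ))
    (hgrow : 2 * K.index + 1 ≤ Nat.card Z ∨ (2 * K.index + 1) ^ 2 ≤ Z.relIndex K ∨ ⁅K, K⁆ ≤ Z) :
    Cfsg.IsCoherent (Cfsg.inducedIrrAbove K ⊥) ({1}ᶜ : Set L) τ := by
  classical
  have hZK : Z ≤ K := hZD.trans hH₁K.le
  have hcY := coherent_above_commutator hsolv hS ⁅K, K⁆ hH₁K le_rfl
  obtain ⟨-, τ₁, hτ₁, hτ₁τ⟩ := hcY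
  obtain ⟨ψ, hψ, hψd⟩ := exists_linear_aboveInd (L := L) (K := K) (A := ⁅K, K⁆) hsolv hH₁K
  set S := Cfsg.inducedIrrAbove K ⊥ with hSdef
  set w := K.index with hw
  have hw0 : 0 < w := Nat.pos_of_ne_zero Subgroup.index_ne_zero_of_finite
  set Y : Finset (L → ℂ) := aboveInd K ⁅K, K⁆ with hYdef
  set X : Finset (L → ℂ) := aboveInd K ⊥ \ aboveInd K Z with hXdef
  have hYcoe : (↑Y : Set (L → ℂ)) = Cfsg.inducedIrrAbove K ⁅K, K⁆ := coe_aboveInd _ _
  have hYS : ↑Y ⊆ S := hYcoe ▸ inducedIrrAbove_subset_bot K _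
  have hYirr' : ∀ φ ∈ Y, Cfsg.IsIrrCharacter L φ := fun φ hφ => hYirr φ (mem_aboveInd.1 hφ)
  have hYc : ∀ φ ∈ Y, Cfsg.conjFun φ ∈ Y := fun φ hφ =>
    mem_aboveInd.2 (conjFun_mem_inducedIrrAbove (mem_aboveInd.1 hφ))
  have hXS : ↑X ⊆ S := fun φ hφ => mem_aboveInd.1 (Finset.mem_sdiff.1 hφ).1
  have hXc : ∀ φ ∈ X, Cfsg.conjFun φ ∈ X := fun φ hφ => by
    rw [hXdef, Finset.mem_sdiff, mem_aboveInd, mem_aboveInd] at hφ ⊢
    exact ⟨conjFun_mem_inducedIrrAbove hφ.1, fun h => hφ.2 (by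
      simpa [conjFun_conjFun] using conjFun_mem_inducedIrrAbove h)⟩
  have hXY : ∀ φ ∈ X, φ ∉ Y := fun φ hφ hφ' =>
    (Finset.mem_sdiff.1 hφ).2 (mem_aboveInd.2
      (inducedIrrAbove_anti (inf_le_left.trans hZD) (mem_aboveInd.1 hφ')))
  have hψirr := hYirr' ψ hψ
  have hψ1 : ψ 1 = (w : ℂ) := by rw [irr_apply_one_eq_cdeg hψirr, hψd]
  have hYdeg : ∀ η ∈ Y, η 1 = ψ 1 := fun η hη => by
    obtain ⟨θ, h1, -, h3, rfl⟩ := mem_aboveInd.1 hη
    rw [hψ1, indFun_one, IsIrrCharacter.apply_one_eq_one_of_commutators h1 fun a b =>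
      h3 _ (Subgroup.commutator_mem_commutator a.2 b.2), mul_one]
  set ξ : G → ℂ := τ₁ ψ with hξdef
  rw [← hYcoe] at hτ₁ hτ₁τ
  have hξ : Cfsg.IsGeneralizedCharacter G ξ := hτ₁.2.2.2 _ (subset_zspan hψ)
  obtain ⟨t, ht⟩ := hdvd τ₁ (hYcoe ▸ hτ₁) (hYcoe ▸ hτ₁τ) ψ (mem_aboveInd.1 hψ)
  set ξL : L → ℂ := fun x => ξ x with hξL
  have hξLg : Cfsg.IsGeneralizedCharacter L ξL := IsGeneralized.restrict hξ L
  set ξK : K → ℂ := fun x => ξL x with hξK
  have hξKg : Cfsg.IsGeneralizedCharacter K ξK := IsGeneralized.restrict hξLg K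
  obtain ⟨c, hc⟩ := IsGeneralized.exists_classInner_eq_int hξLg (IsIrrCharacter.isGeneralized hψirr)
  -- the characters of `K` not trivial on `Z`
  set ZK := Z.subgroupOf K with hZKdef
  set T : Finset (K → ℂ) := (irrFinset K).filter fun θ => ¬ ∀ a ∈ ZK, θ a = θ 1 with hT
  have hmemT : ∀ θ, θ ∈ T ↔ Cfsg.IsIrrCharacter K θ ∧ ¬ ∀ a ∈ ZK, θ a = θ 1 := fun θ => by
    simp only [hT, Finset.mem_filter, mem_irrFinset]
  have hTX : ∀ θ ∈ T, Cfsg.indFun K θ ∈ X := fun θ hθ => by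
    obtain ⟨h1, h2⟩ := (hmemT θ).1 hθ
    refine Finset.mem_sdiff.2 ⟨mem_aboveInd.2 ⟨θ, h1, fun h => h2 fun a _ => by rw [h], fun a ha => by
      rw [show a = 1 from Subtype.ext (Subgroup.mem_bot.1 ha)], rfl⟩, fun hm => ?_⟩
    obtain ⟨θ', hθ', -, hker', he⟩ := mem_aboveInd.1 hm
    have hmem : θ ∈ conjOrbit θ' := by
      by_contra hne
      have h3 := classInner_indFun_indFun h1 hθ'
      rw [if_neg hne, he, classInner_indFun_self hθ', div_eq_zero_iff] at h3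
      rcases h3 with h3 | h3 <;> exact Nat.card_pos.ne' (Nat.cast_eq_zero.1 h3)
    obtain ⟨g, rfl⟩ := mem_conjOrbit.1 hmem
    refine h2 fun a ha => ?_
    rw [conjOn_apply, conjOn_apply_one]
    exact hker' _ ((inferInstance : Z.Normal).conj_mem _ (Subgroup.mem_subgroupOf.1 ha) g)
  have hXT : ∀ φ ∈ X, ∃ θ ∈ T, φ = Cfsg.indFun K θ := fun φ hφ => by
    obtain ⟨hφ1, hφ2⟩ := Finset.mem_sdiff.1 hφ
    obtain ⟨θ, h1, h2, -, rfl⟩ := mem_aboveInd.1 hφ1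
    exact ⟨θ, (hmemT θ).2 ⟨h1, fun h => hφ2 (mem_aboveInd.2 ⟨θ, h1, h2, h, rfl⟩)⟩, rfl⟩
  have hdegφ : ∀ θ ∈ T, Cfsg.indFun K θ 1 = (cdeg θ : ℂ) * ψ 1 := fun θ hθ => by
    rw [indFun_one, irr_apply_one_eq_cdeg ((hmemT θ).1 hθ).1, hψ1, mul_comm]
  have hall : ∀ θ ∈ T, ∃ A a : ℤ, Cfsg.classInner ξK θ = (a : ℂ) ∧
      A = a + (cdeg θ : ℤ) * (1 - c) ∧
      Cfsg.classInner (τ (Cfsg.indFun K θ - (cdeg θ : ℤ) • ψ)) ξ = (A : ℂ) - (cdeg θ : ℤ) ∧
      (∀ η ∈ Y, η ≠ ψ →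
        Cfsg.classInner (τ (Cfsg.indFun K θ - (cdeg θ : ℤ) • ψ)) (τ₁ η) = (A : ℂ)) ∧
      (Y.card : ℤ) * A ^ 2 ≤ 2 * (cdeg θ : ℤ) * A := by
    intro θ hθ
    have hφX := hTX θ hθ
    obtain ⟨A, hA1, hA2, hA3⟩ := pivot_bound hS hYS hYirr' hYc hψ hYdeg hτ₁ hτ₁τ (hXS hφX)
      (hXY _ hφX) (hdegφ θ hθ)
    obtain ⟨a, ha⟩ := IsGeneralized.exists_classInner_eq_int hξKg
      (IsIrrCharacter.isGeneralized ((hmemT θ).1 hθ).1)
    refine ⟨A, a, ha, ?_, by exact_mod_cast hA1, hA2, hA3⟩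
    have hα : Cfsg.indFun K θ - (cdeg θ : ℤ) • ψ ∈ Cfsg.zspanOn S ({1}ᶜ : Set L) := mem_zspanOn_one.2
      ⟨Submodule.sub_mem _ (subset_zspan (hXS hφX)) (Submodule.smul_mem _ _ (subset_zspan (hYS hψ))), by
        rw [Pi.sub_apply, Pi.smul_apply, hdegφ θ hθ, zsmul_eq_mul, Int.cast_natCast, sub_self]⟩
    rw [hrec _ hα ξ hξ, ← hξL, ← classInner_conj] at hA1
    simp only [← Int.cast_smul_eq_zsmul ℂ, classInner_sub_right, classInner_smul_right] at hA1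
    rw [hc, classInner_indFun_right (IsGeneralized.isClassFunction hξLg), ← hξK, ha] at hA1
    simp only [map_sub, map_mul, map_intCast, Int.cast_natCast, map_natCast] at hA1
    have : (A : ℂ) = ((a + (cdeg θ : ℤ) * (1 - c) : ℤ) : ℂ) := by
      push_cast
      linear_combination -hA1
    exact_mod_cast this
  choose! A a haK hAa hAψ hAη hAb using hall
  set N : ℤ := ∑ θ ∈ T, (cdeg θ : ℤ) ^ 2 with hN
  -- counting on `Z`
  haveI : Fintype ZK := Fintype.ofFinite _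
  have hcardZ : Nat.card ZK = Nat.card Z := Nat.card_congr (Subgroup.subgroupOfEquivOfLe hZK).toEquiv
  have hKQ : Nat.card K = Nat.card Z * Z.relIndex K := by
    rw [Subgroup.relIndex, ← hcardZ, ← hZKdef, Subgroup.card_mul_index]
  have hN' : N + (Z.relIndex K : ℤ) = Nat.card K := by
    have h : ∑ θ ∈ T, cdeg θ ^ 2 + Z.relIndex K = Nat.card K := by
      rw [Subgroup.relIndex, ← hZKdef, ← sum_cdeg_sq_kernel ZK, ← sum_cdeg_sq (G := K), hT, add_comm]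
      exact Finset.sum_filter_add_sum_filter_not _ _ _
    rw [hN]
    exact_mod_cast h
  have hmom : ∑ θ ∈ T, (cdeg θ : ℤ) * a θ = N * t := by
    have hsum : ∑ z : ZK, (ξK 1 - ξK z) = ((Nat.card Z : ℂ) - 1) * ((Nat.card K : ℤ) * t : ℤ) := by
      rw [← Finset.add_sum_erase _ _ (Finset.mem_univ (1 : ZK)), OneMemClass.coe_one, sub_self, zero_add,
        Finset.sum_congr rfl (g := fun _ => (((Nat.card K : ℤ) * t : ℤ) : ℂ)) fun z hz => ?_,
        Finset.sum_const, Finset.card_erase_of_mem (Finset.mem_univ _), Finset.card_univ,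
        ← Nat.card_eq_fintype_card, hcardZ, nsmul_eq_mul, Nat.cast_sub Nat.card_pos, Nat.cast_one]
      have hz1 : ((z : K) : L) ≠ 1 := fun e =>
        Finset.ne_of_mem_erase hz (Subtype.ext (Subtype.ext e))
      have := ht _ z.2 hz1
      simpa [hξK, hξL] using this
    have hpt : ∀ z : ZK, ξK 1 - ξK z = ∑ θ ∈ irrFinset K, Cfsg.classInner ξK θ * (θ 1 - θ z) := fun z => by
      have e1 := congrFun (eq_sum_irr (IsGeneralized.isClassFunction hξKg)) 1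
      have e2 := congrFun (eq_sum_irr (IsGeneralized.isClassFunction hξKg)) (z : K)
      simp only [Finset.sum_apply, Pi.smul_apply, smul_eq_mul] at e1 e2
      rw [e1, e2, ← Finset.sum_sub_distrib]
      exact Finset.sum_congr rfl fun θ _ => by ring
    rw [Finset.sum_congr rfl fun z _ => hpt z, Finset.sum_comm,
      ← Finset.sum_subset (Finset.filter_subset _ _ : T ⊆ irrFinset K) fun θ hθ hn =>
        Finset.sum_eq_zero fun z _ => by
          have : ∀ a ∈ ZK, θ a = θ 1 := not_not.1 fun h => hn ((hmemT θ).2 ⟨mem_irrFinset.1 hθ, h⟩)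
          rw [this _ z.2, sub_self, mul_zero],
      Finset.sum_congr rfl (g := fun θ => ((Nat.card Z : ℂ)) * (((cdeg θ : ℤ) * a θ : ℤ) : ℂ)) fun θ hθ => ?_,
      ← Finset.mul_sum, ← Int.cast_sum] at hsum
    · have h : (Nat.card Z : ℤ) * ∑ θ ∈ T, (cdeg θ : ℤ) * a θ =
          ((Nat.card Z : ℤ) - 1) * ((Nat.card K : ℤ) * t) := by exact_mod_cast hsum
      refine mul_left_cancel₀ (show (Nat.card Z : ℤ) ≠ 0 by exact_mod_cast Nat.card_pos.ne') ?_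
      rw [h]
      have hKQ' : (Nat.card K : ℤ) = Nat.card Z * Z.relIndex K := by exact_mod_cast hKQ
      linear_combination (-(Nat.card Z : ℤ) * t) * hN' + (-t) * hKQ'
    · obtain ⟨h1, h2⟩ := (hmemT θ).1 hθ
      rw [← Finset.mul_sum, Finset.sum_sub_distrib, sum_normal_eq_zero h1 h2, sub_zero, Finset.sum_const,
        Finset.card_univ, ← Nat.card_eq_fintype_card, hcardZ, nsmul_eq_mul, haK θ hθ,
        irr_apply_one_eq_cdeg h1]
      push_cast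
      ring
  have hsumA : ∑ θ ∈ T, (cdeg θ : ℤ) * A θ = N * (t + 1 - c) := by
    rw [Finset.sum_congr rfl (g := fun θ => (cdeg θ : ℤ) * a θ + (1 - c) * (cdeg θ : ℤ) ^ 2) fun θ hθ => by
      rw [hAa θ hθ]; ring, Finset.sum_add_distrib, hmom, ← Finset.mul_sum, ← hN]
    ring
  have hY2 : 2 ≤ Y.card :=
    (Finset.card_pair (Ne.symm (hS.conj_ne ψ (hYS hψ)))).ge.trans
      (Finset.card_le_card (Finset.insert_subset hψ (Finset.singleton_subset_iff.2 (hYc ψ hψ))))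
  have hn2 : (2 : ℤ) ≤ Y.card := by exact_mod_cast hY2
  have hA0 : ∀ θ ∈ T, 0 ≤ A θ ∧ (Y.card : ℤ) * A θ ≤ 2 * cdeg θ := fun θ hθ => by
    have hb := hAb θ hθ
    have hd0 : (0 : ℤ) ≤ cdeg θ := Int.natCast_nonneg _
    rcases lt_trichotomy (A θ) 0 with h | h | h
    · nlinarith [mul_pos (show (0 : ℤ) < Y.card by linarith) (mul_pos_of_neg_of_neg h h)]
    · rw [h, mul_zero]; exact ⟨le_rfl, by positivity⟩
    · exact ⟨h.le, le_of_mul_le_mul_right (by nlinarith) h⟩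
  -- the pivot
  have hYeq : ∀ η ∈ Y, ∀ ζ ∈ Y, Cfsg.classInner η ζ = if η = ζ then 1 else 0 := fun η hη ζ hζ =>
    IsIrrCharacter.classInner_eq (hYirr' η hη) (hYirr' ζ hζ)
  have hdiff : ∀ η ∈ Y, ∀ η' ∈ Y,
      Cfsg.classInner (τ (η - ψ)) (τ₁ η') = Cfsg.classInner η η' - Cfsg.classInner ψ η' := fun η hη η' hη' => by
    rw [← hτ₁τ _ (mem_zspanOn_one.2 ⟨Submodule.sub_mem _ (subset_zspan hη) (subset_zspan hψ), by
      rw [Pi.sub_apply, hYdeg η hη, sub_self]⟩),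
      isometry_map_sub (M := Submodule.span ℤ (↑Y : Set (L → ℂ))) hτ₁ (subset_zspan hη) (subset_zspan hψ),
      classInner_sub_left, hτ₁.2.2.1 _ (subset_zspan hη) _ (subset_zspan hη'),
      hτ₁.2.2.1 _ (subset_zspan hψ) _ (subset_zspan hη')]
  have hpivot : ∃ ξ' : G → ℂ, Cfsg.IsGeneralizedCharacter G ξ' ∧ Cfsg.classInner ξ' ξ' = 1 ∧
      (∀ θ ∈ T, Cfsg.classInner (τ (Cfsg.indFun K θ - (cdeg θ : ℤ) • ψ)) ξ' = -((cdeg θ : ℤ) : ℂ)) ∧
      ∀ η ∈ Y, Cfsg.classInner (τ (η - ψ)) ξ' = Cfsg.classInner η ψ - 1 := by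
    have hξ1 : Cfsg.classInner ξ ξ = 1 := by
      rw [hξdef, hτ₁.2.2.1 _ (subset_zspan hψ) _ (subset_zspan hψ), IsIrrCharacter.classInner_self hψirr]
    by_cases hz : ∀ θ ∈ T, A θ = 0
    · refine ⟨ξ, hξ, hξ1, fun θ hθ => by rw [hAψ θ hθ, hz θ hθ, Int.cast_zero, zero_sub], fun η hη => ?_⟩
      rw [hξdef, hdiff η hη ψ hψ, IsIrrCharacter.classInner_self hψirr]
    push Not at hz
    obtain ⟨θ₀, hθ₀, hne⟩ := hz
    have hd0 : ∀ θ ∈ T, (1 : ℤ) ≤ cdeg θ := fun θ hθ => by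
      exact_mod_cast cdeg_pos ((hmemT θ).1 hθ).1
    have hpos : 0 < ∑ θ ∈ T, (cdeg θ : ℤ) * A θ :=
      lt_of_lt_of_le (mul_pos (lt_of_lt_of_le one_pos (hd0 θ₀ hθ₀)) (lt_of_le_of_ne (hA0 θ₀ hθ₀).1 (Ne.symm hne)))
        (Finset.single_le_sum (fun θ hθ => mul_nonneg (Int.natCast_nonneg _) (hA0 θ hθ).1) hθ₀)
    have hN0 : 0 < N := hN ▸ lt_of_lt_of_le (pow_pos (lt_of_lt_of_le one_pos (hd0 θ₀ hθ₀)) 2)
      (Finset.single_le_sum (f := fun θ : K → ℂ => (cdeg θ : ℤ) ^ 2) (fun θ _ => sq_nonneg _) hθ₀)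
    have hB : 1 ≤ t + 1 - c := by
      rw [hsumA] at hpos
      exact pos_of_mul_pos_right hpos hN0.le
    have hge : N ≤ ∑ θ ∈ T, (cdeg θ : ℤ) * A θ := by rw [hsumA]; exact le_mul_of_one_le_right hN0.le hB
    have hle : (Y.card : ℤ) * ∑ θ ∈ T, (cdeg θ : ℤ) * A θ ≤ 2 * N := by
      rw [hN, Finset.mul_sum, Finset.mul_sum]
      refine Finset.sum_le_sum fun θ hθ => ?_
      have := mul_le_mul_of_nonneg_left (hA0 θ hθ).2 (Int.natCast_nonneg (cdeg θ))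
      nlinarith
    have hn : (Y.card : ℤ) = 2 := by nlinarith
    have hfull : ∀ θ ∈ T, A θ = cdeg θ := fun θ hθ => by
      have hnn : ∀ θ ∈ T, 0 ≤ (cdeg θ : ℤ) ^ 2 - (cdeg θ : ℤ) * A θ := fun θ hθ => by
        have h := (hA0 θ hθ).2
        rw [hn] at h
        nlinarith [hd0 θ hθ]
      have hs : ∑ θ ∈ T, ((cdeg θ : ℤ) ^ 2 - (cdeg θ : ℤ) * A θ) = 0 := by
        refine le_antisymm ?_ (Finset.sum_nonneg hnn)
        rw [Finset.sum_sub_distrib, ← hN]; linarith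
      have h := (Finset.sum_eq_zero_iff_of_nonneg hnn).1 hs θ hθ
      refine (mul_left_cancel₀ (ne_of_gt (lt_of_lt_of_le one_pos (hd0 θ hθ))) ?_).symm
      rw [← sq]; linarith
    have hψ'Y := hYc ψ hψ
    have hψne : Cfsg.conjFun ψ ≠ ψ := hS.conj_ne ψ (hYS hψ)
    have hYpair : Y = {ψ, Cfsg.conjFun ψ} :=
      (Finset.eq_of_subset_of_card_le (Finset.insert_subset hψ (Finset.singleton_subset_iff.2 hψ'Y)) (by
        rw [Finset.card_pair (Ne.symm hψne)]; exact_mod_cast hn.le)).symm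
    refine ⟨-τ₁ (Cfsg.conjFun ψ), IsGeneralized.neg (hτ₁.2.2.2 _ (subset_zspan hψ'Y)), ?_, fun θ hθ => ?_,
      fun η hη => ?_⟩
    · rw [classInner_neg_left, classInner_neg_right, neg_neg,
        hτ₁.2.2.1 _ (subset_zspan hψ'Y) _ (subset_zspan hψ'Y),
        IsIrrCharacter.classInner_self (hYirr' _ hψ'Y)]
    · rw [classInner_neg_right, hAη θ hθ _ hψ'Y hψne, hfull θ hθ]
    · rw [classInner_neg_right, hdiff η hη _ hψ'Y, hYeq η hη _ hψ'Y, hYeq ψ hψ _ hψ'Y, hYeq η hη ψ hψ]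
      rw [hYpair] at hη
      rcases Finset.mem_insert.1 hη with rfl | h
      · simp [Ne.symm hψne]
      · rw [Finset.mem_singleton] at h
        subst h
        simp [hψne, Ne.symm hψne]
  obtain ⟨ξ', hξ', hξ'1, hpX, hpY⟩ := hpivot
  have hXYS : ↑(X ∪ Y) ⊆ S := by rw [Finset.coe_union]; exact Set.union_subset hXS hYS
  have hcoh : Cfsg.IsCoherent (↑(X ∪ Y) : Set (L → ℂ)) ({1}ᶜ : Set L) τ := by
    refine coherent_of_pivot (isometryOn_subset (zspanOn_subset_zspanOn hXYS _) hS.isometry)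
      (system_exists_ne_zero hS hXYS (fun φ hφ => ?_) ⟨ψ, Finset.mem_coe.2 (Finset.mem_union_right _ hψ)⟩)
      (Finset.mem_coe.2 (Finset.mem_union_right _ hψ)) (IsIrrCharacter.classInner_self hψirr)
      (IsIrrCharacter.apply_one_ne_zero hψirr) (fun φ hφ => ?_) hξ' hξ'1 fun φ hφ d hd => ?_
    · rcases Finset.mem_union.1 (Finset.mem_coe.1 hφ) with h | h
      · exact Finset.mem_coe.2 (Finset.mem_union_left _ (hXc φ h))
      · exact Finset.mem_coe.2 (Finset.mem_union_right _ (hYc φ h))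
    · rcases Finset.mem_union.1 (Finset.mem_coe.1 hφ) with h | h
      · obtain ⟨θ, hθ, rfl⟩ := hXT φ h
        exact ⟨cdeg θ, by rw [hdegφ θ hθ, Int.cast_natCast]⟩
      · exact ⟨1, by rw [hYdeg φ h, Int.cast_one, one_mul]⟩
    · have hu : ∀ e : ℤ, φ 1 = (e : ℂ) * ψ 1 → d = e := fun e he => by
        exact_mod_cast mul_right_cancel₀ (IsIrrCharacter.apply_one_ne_zero hψirr) (hd.symm.trans he)
      rcases Finset.mem_union.1 (Finset.mem_coe.1 hφ) with h | h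
      · obtain ⟨θ, hθ, rfl⟩ := hXT φ h
        rw [hu _ (by rw [hdegφ θ hθ, Int.cast_natCast]), hpX θ hθ,
          hS.orthogonal _ (hXS h) ψ (hYS hψ) fun e => hXY _ h (e.symm ▸ hψ), zero_sub]
      · rw [hu 1 (by rw [hYdeg φ h, Int.cast_one, one_mul]), one_smul, hpY φ h, Int.cast_one]
  -- the rest
  rw [hSdef, ← coe_aboveInd]
  refine coherent_grow hS (X ∪ Y) _ ?_ (coe_aboveInd K ⊥).le ?_
    (fun φ hφ => mem_aboveInd.2 (conjFun_mem_inducedIrrAbove (mem_aboveInd.1 hφ))) hcoh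
    (Finset.mem_union_right _ hψ) fun χ hχ hχn => ?_
  · refine Finset.union_subset Finset.sdiff_subset fun φ hφ => ?_
    exact mem_aboveInd.2 (inducedIrrAbove_subset_bot K _ (mem_aboveInd.1 hφ))
  · intro φ hφ
    rcases Finset.mem_union.1 hφ with h | h
    · exact Finset.mem_union_left _ (hXc φ h)
    · exact Finset.mem_union_right _ (hYc φ h)
  have hχZ : χ ∈ aboveInd K Z := by
    by_contra h
    exact hχn (Finset.mem_union_left _ (Finset.mem_sdiff.2 ⟨hχ, h⟩))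
  obtain ⟨θ, h1, h2, h3, rfl⟩ := mem_aboveInd.1 hχZ
  rw [hψd, cdeg_indFun h1]
  refine ⟨dvd_mul_right _ _, ?_⟩
  refine lt_of_lt_of_le ?_ (Finset.sum_le_sum_of_subset_of_nonneg
    (Finset.subset_union_left (s₁ := X) (s₂ := Y)) fun φ _ _ => by positivity)
  have hsubZ : aboveInd K Z ⊆ aboveInd K ⊥ := fun φ hφ =>
    mem_aboveInd.2 (inducedIrrAbove_subset_bot K Z (mem_aboveInd.1 hφ))
  have hsum : ∑ φ ∈ X, (cdeg φ : ℝ) ^ 2 / (cnorm φ : ℝ) =
      (w : ℝ) * ((Nat.card K : ℝ) - 1) - (w : ℝ) * ((Z.relIndex K : ℝ) - 1) := by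
    have e := sum_weight_aboveInd (K := K) (⊥ : Subgroup L)
    rw [← Finset.sum_sdiff hsubZ, sum_weight_aboveInd Z, Subgroup.relIndex_bot_left, ← hw, ← hXdef] at e
    linarith
  set Q := Z.relIndex K with hQ
  set d := cdeg θ with hdd
  have hd2 : d ^ 2 + 1 ≤ Q := by
    rw [hQ, ← sum_cdeg_sq_aboveChars (K := K) Z]
    exact Nat.add_le_add_right (Finset.single_le_sum (f := fun ψ => cdeg ψ ^ 2)
      (fun _ _ => Nat.zero_le _) (mem_aboveChars.2 ⟨h1, h2, h3⟩)) 1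
  have hzc : 2 ≤ Nat.card Z := by
    have h1' : Nat.card Z ≠ 1 := fun h => hZ1 (Subgroup.card_eq_one.1 h)
    have := Nat.card_pos (α := Z)
    omega
  have hkey : 2 * w * d + Q < Nat.card Z * Q := by
    rcases hgrow with hz | hq | hd'
    · have hdQ : d < Q := lt_of_le_of_lt (Nat.le_self_pow (by norm_num) d) hd2
      have e1 : (2 * w + 1) * Q ≤ Nat.card Z * Q := Nat.mul_le_mul_right _ hz
      nlinarith
    · have hsq : (2 * w * d) ^ 2 < Q ^ 2 := by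
        have e1 : 4 * w ^ 2 * d ^ 2 ≤ 4 * w ^ 2 * Q := Nat.mul_le_mul_left _ (by omega)
        have e2 : 4 * w ^ 2 * Q < (2 * w + 1) ^ 2 * Q := Nat.mul_lt_mul_of_pos_right (by nlinarith) (by omega)
        have e3 : (2 * w + 1) ^ 2 * Q ≤ Q * Q := Nat.mul_le_mul_right _ hq
        nlinarith
      have hlt := (Nat.pow_lt_pow_iff_left (by norm_num)).1 hsq
      have e4 : 2 * Q ≤ Nat.card Z * Q := Nat.mul_le_mul_right _ hzc
      omega
    · exact absurd (Finset.mem_union_right _ (mem_aboveInd.2 (inducedIrrAbove_anti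
        (inf_le_left.trans hd') (mem_aboveInd.1 hχZ)))) hχn
  rw [hsum, hKQ]
  have h' : ((w * (2 * w * d + Q) : ℕ) : ℝ) < ((w * (Nat.card Z * Q) : ℕ) : ℝ) := by
    exact_mod_cast Nat.mul_lt_mul_of_pos_left hkey hw0
  push_cast at h' ⊢
  linarith

end CfsgLib.OddEnd
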