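import Cfsg.Agent.OddEnd.TenArray
import Cfsg.Agent.Char.CyclicSemiChars
import Cfsg.Agent.Char.CoherenceOddKernel
import Cfsg.Agent.Coprime.Basic

/-!
The linear part of a maximal subgroup with `U = 1` (Peterfalvi 10.10): the kernel modulo its derived group is
Frobenius, so the linear characters induce irreducibly.
-/

set_option autoImplicit false
set_option linter.style.haveILetI false

namespace CfsgLib.OddEnd

open CfsgLib.Char
open scoped commutatorElement

universe u

/-- Coprime action: modulo a normal subgroup containing the fixed subgroup of a prime action, a nontrivial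
element of the complement fixes no nontrivial element of the kernel. -/
theorem mem_of_commute_mod {L : Type u} [Group L] [Finite L] {K W₁ W₂ : Subgroup L} [hK : K.Normal]
    (h : IsPrimeAction K W₁ W₂) (hsolv : Group.IsSolvable K) (D : Subgroup L) [hDn : D.Normal] (hDK : D ≤ K)
    (hW : W₂ ≤ D) {c : L} (hc : c ∈ W₁) (hc1 : c ≠ 1) {k : L} (hk : k ∈ K)
    (hck : c * k * c⁻¹ * k⁻¹ ∈ D) : k ∈ D := by
  let A : Subgroup (MulAut L) := Subgroup.zpowers (MulAut.conj c)
  have hinv : CfsgLib.Coprime.IsInvariant A D := by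
    rintro ⟨a, ha⟩ y hy
    obtain ⟨i, rfl⟩ := Subgroup.mem_zpowers_iff.1 ha
    show ((MulAut.conj c) ^ i) y ∈ D
    rw [← map_zpow, MulAut.conj_apply]
    exact hDn.conj_mem y hy _
  have hcA : MulAut.conj c ∈ A := Subgroup.mem_zpowers _
  haveI : Finite (MulAut L) := Finite.of_injective (fun f : MulAut L => (f : L → L)) DFunLike.coe_injective
  haveI : Group.IsSolvable D := Group.isSolvable_of_isSolvable_injective (Subgroup.inclusion_injective hDK)
  have hcop : (Nat.card A).Coprime (Nat.card D) := by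
    refine (h.coprime.coprime_dvd_left ?_).coprime_dvd_right (Subgroup.card_dvd_of_le hDK)
    rw [Nat.card_zpowers]
    exact (orderOf_map_dvd MulAut.conj c).trans (W₁.orderOf_dvd_natCard hc)
  obtain ⟨k', hk', hk'D⟩ := CfsgLib.Coprime.exists_fixed_mem_coset_of_isSolvable' D hinv hcop k fun a => by
    obtain ⟨a, ha⟩ := a
    obtain ⟨i, hi⟩ := ((isOfFinOrder_of_finite (MulAut.conj c)).mem_powers_iff_mem_zpowers).2 ha
    simp only at hi
    show k⁻¹ * a k ∈ D
    subst hi
    induction i with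
    | zero => simp
    | succ i ih =>
      rw [pow_succ', MulAut.mul_apply, MulAut.conj_apply,
        show k⁻¹ * (c * ((MulAut.conj c ^ i) k) * c⁻¹) =
          k⁻¹ * (c * k * c⁻¹ * k⁻¹) * k * (c * (k⁻¹ * (MulAut.conj c ^ i) k) * c⁻¹) by group]
      refine D.mul_mem ?_ (hDn.conj_mem _ (ih (pow_mem hcA i)) c)
      simpa using hDn.conj_mem _ hck k⁻¹
  have hk'W : k' ∈ W₂ := by
    rw [← h.centralizer_eq c hc hc1]
    refine ⟨?_, Subgroup.mem_centralizer_singleton_iff.2 ?_⟩
    · have := K.mul_mem hk (hDK hk'D)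
      rwa [mul_inv_cancel_left] at this
    · have := hk' ⟨_, hcA⟩
      have hc' : c * k' * c⁻¹ = k' := this
      exact (mul_inv_eq_iff_eq_mul.1 hc').symm
  have := D.mul_mem (hW hk'W) (D.inv_mem hk'D)
  simpa using this

/-- The order of a subgroup acting fixed-point-freely on a normal subgroup divides its order minus one. -/
theorem card_dvd_sub_one_of_fixed_free {L : Type u} [Group L] [Finite L] (A X : Subgroup L) [hX : X.Normal]
    (hfix : ∀ a ∈ A, a ≠ 1 → ∀ x ∈ X, a * x * a⁻¹ = x → x = 1) : Nat.card A ∣ Nat.card X - 1 := by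
  classical
  let Y := {x : X // x ≠ 1}
  let _ : MulAction A Y :=
    { smul := fun g a => ⟨⟨(g : L) * (a.1 : L) * (g : L)⁻¹, hX.conj_mem _ a.1.2 g⟩, fun h => a.2 (by
        have h' : (g : L) * (a.1 : L) * (g : L)⁻¹ = 1 := congrArg Subtype.val h
        exact Subtype.ext (by simpa using h'))⟩
      one_smul := fun a => Subtype.ext (Subtype.ext (by change (1 : L) * _ * (1 : L)⁻¹ = _; group))
      mul_smul := fun m n a => Subtype.ext (Subtype.ext (by
        change ((m : L) * n) * _ * ((m : L) * n)⁻¹ = (m : L) * ((n : L) * _ * (n : L)⁻¹) * (m : L)⁻¹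
        group)) }
  have := Fintype.ofFinite X
  have hY : Nat.card Y = Nat.card X - 1 := by
    rw [Nat.card_eq_fintype_card, Fintype.card_subtype_compl, Nat.card_eq_fintype_card,
      Fintype.card_subtype_eq]
  rw [← hY, Nat.card_congr (MulAction.selfEquivSigmaOrbits A Y), Nat.card_sigma]
  refine Finset.dvd_sum fun q _ => ?_
  rw [Nat.card_coe_set_eq, ← MulAction.index_stabilizer,
    show MulAction.stabilizer A q.out = ⊥ from ?_, Subgroup.index_bot]
  refine eq_bot_iff.2 fun a ha => Subgroup.mem_bot.2 (Subtype.ext (by_contra fun ha1 => ?_))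
  refine q.out.2 (Subtype.ext (hfix a a.2 ha1 _ q.out.1.2 ?_))
  exact congrArg (fun y : Y => (y.1 : L)) ha

/-- The order of the complement divides `|K / D| - 1` for a normal `D` containing the fixed subgroup. -/
theorem card_dvd_relIndex_sub_one {L : Type u} [Group L] [Finite L] {K W₁ W₂ : Subgroup L} [hK : K.Normal]
    (h : IsPrimeAction K W₁ W₂) (hsolv : Group.IsSolvable K) (D : Subgroup L) [hDn : D.Normal] (hDK : D ≤ K)
    (hW : W₂ ≤ D) : Nat.card W₁ ∣ D.relIndex K - 1 := by
  set π := QuotientGroup.mk' D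
  haveI : (K.map π).Normal := Subgroup.Normal.map hK _ (QuotientGroup.mk'_surjective _)
  have hA : Nat.card (W₁.map π) = Nat.card W₁ :=
    (Nat.card_congr (Equiv.ofBijective (π.subgroupMap W₁) ⟨?_, π.subgroupMap_surjective W₁⟩)).symm
  · rw [← card_map_quotient D K, ← hA]
    refine card_dvd_sub_one_of_fixed_free _ _ ?_
    rintro _ ⟨c, hc, rfl⟩ hc1 _ ⟨k, hk, rfl⟩ he
    refine (QuotientGroup.eq_one_iff k).2 (mem_of_commute_mod h hsolv D hDK hW hc (fun e => hc1 (by rw [e, map_one])) hk ?_)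
    refine (QuotientGroup.eq_one_iff _).1 ?_
    show π (c * k * c⁻¹ * k⁻¹) = 1
    rw [map_mul, map_mul, map_mul, map_inv, map_inv, he, mul_inv_cancel]
  · intro a b e
    have e' : π a = π b := congrArg Subtype.val e
    have hm : (a : L)⁻¹ * b ∈ D := (QuotientGroup.eq (s := D)).1 e'
    have hb : (a : L)⁻¹ * b ∈ K ⊓ W₁ := ⟨hDK hm, W₁.mul_mem (W₁.inv_mem a.2) b.2⟩
    rw [h.inf_eq, Subgroup.mem_bot] at hb
    exact Subtype.ext (inv_mul_eq_one.1 hb)

/-- A prime action whose fixed subgroup lies in the derived group is Frobenius modulo the derived group. -/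
theorem frob_mod_derived {L : Type u} [Group L] [Finite L] {K W₁ W₂ : Subgroup L} [hK : K.Normal]
    (h : IsPrimeAction K W₁ W₂) (hsolv : Group.IsSolvable K) (hW : W₂ ≤ ⁅K, K⁆) :
    ∀ k ∈ K, k ∉ ⁅K, K⁆ → ∀ x : L, x * k * x⁻¹ * k⁻¹ ∈ ⁅K, K⁆ → x ∈ K := by
  intro k hk hkD x hx
  have hDK : (⁅K, K⁆ : Subgroup L) ≤ K := Subgroup.commutator_le.2 fun a ha b hb =>
    K.mul_mem (K.mul_mem (K.mul_mem ha hb) (K.inv_mem ha)) (K.inv_mem hb)
  obtain ⟨k₀, hk₀, c, hc, rfl⟩ := h.exists_factor x
  by_cases hc1 : c = 1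
  · rw [hc1, mul_one]; exact hk₀
  refine absurd (mem_of_commute_mod h hsolv ⁅K, K⁆ hDK hW hc hc1 hk ?_) hkD
  have e : c * k * c⁻¹ * k⁻¹ =
      ⁅k₀⁻¹, k₀ * c * k * (k₀ * c)⁻¹⁆ * (k₀ * c * k * (k₀ * c)⁻¹ * k⁻¹) := by
    rw [commutatorElement_def]; group
  rw [e]
  exact Subgroup.mul_mem _ (Subgroup.commutator_mem_commutator (K.inv_mem hk₀) (hK.conj_mem k hk _)) hx

variable {L : Type u} [Group L] [Fintype L] {K : Subgroup L} [hK : K.Normal]

/-- With the kernel Frobenius modulo its derived group, the linear characters induce irreducibly. -/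
theorem irr_above_derived (hfrob : ∀ k ∈ K, k ∉ ⁅K, K⁆ → ∀ x : L, x * k * x⁻¹ * k⁻¹ ∈ ⁅K, K⁆ → x ∈ K) :
    ∀ φ ∈ Cfsg.inducedIrrAbove K ⁅K, K⁆, Cfsg.IsIrrCharacter L φ := by
  classical
  rintro φ ⟨θ, hθ, hθ1, hker, rfl⟩
  have hone : θ 1 = 1 := IsIrrCharacter.apply_one_eq_one_of_commutators hθ fun a b =>
    hker _ (Subgroup.commutator_mem_commutator a.2 b.2)
  obtain ⟨lam, hlam⟩ := IsCharacter.exists_hom (IsIrrCharacter.isCharacter hθ) hone
  refine isIrrCharacter_indFun_of_inertia_le hθ fun x hx => ?_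
  by_contra hxK
  refine hθ1 (funext fun k => ?_)
  let e : K → K := fun a => ⟨x * a * x⁻¹, hK.conj_mem a a.2 x⟩ * a⁻¹
  have hinv : ∀ a : K, θ ⟨x * a * x⁻¹, hK.conj_mem a a.2 x⟩ = θ a := fun a =>
    (mem_inertia_iff θ x).1 hx a
  have hl : ∀ a : K, lam (e a) = 1 := fun a => by
    refine Units.ext ?_
    have h' := hinv a
    simp only [hlam] at h'
    simp only [e, map_mul, map_inv, Units.val_mul, Units.val_one]
    rw [h', ← Units.val_mul, mul_inv_cancel, Units.val_one]
  set D := commutator K with hD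
  have hmap : ∀ a : K, a ∈ D ↔ (a : L) ∈ ⁅K, K⁆ := fun a => by
    have h1 : D.map K.subtype = ⁅K, K⁆ := by
      rw [hD, commutator_def, Subgroup.map_commutator, ← MonoidHom.range_eq_map, Subgroup.range_subtype]
    rw [← h1]
    exact (Subgroup.mem_map_iff_mem K.subtype_injective).symm
  let π := QuotientGroup.mk' D
  have hcomm : ∀ a b : K ⧸ D, a * b = b * a := fun a b => by
    obtain ⟨a, rfl⟩ := QuotientGroup.mk'_surjective D a
    obtain ⟨b, rfl⟩ := QuotientGroup.mk'_surjective D b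
    rw [← map_mul, ← map_mul, QuotientGroup.mk'_eq_mk']
    exact ⟨⁅b⁻¹, a⁻¹⁆, Subgroup.commutator_mem_commutator trivial trivial, by
      rw [commutatorElement_def]; group⟩
  let c : K →* K := (MulAut.conjNormal x : K ≃* K).toMonoidHom
  have hec : ∀ a, π (e a) = π (c a) * (π a)⁻¹ := fun a => by
    rw [← map_inv, ← map_mul]
    congr 1
  let F : K ⧸ D → K ⧸ D := fun q => π (e q.out)
  have hinj : Function.Injective F := fun q r hqr => by
    by_contra hne
    have hd : q.out * r.out⁻¹ ∉ D := fun hm => hne (by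
      rw [← q.out_eq, ← r.out_eq]
      have := (QuotientGroup.eq_one_iff (N := D) _).2 hm
      change π (q.out * r.out⁻¹) = 1 at this
      rw [map_mul, map_inv, mul_inv_eq_one] at this
      exact this)
    refine hxK (hfrob _ (q.out * r.out⁻¹).2 (fun hm => hd ((hmap _).2 hm)) x ?_)
    have h1 : π (e (q.out * r.out⁻¹)) = 1 := by
      have h2 : π (c q.out) * (π q.out)⁻¹ = π (c r.out) * (π r.out)⁻¹ := by rw [← hec, ← hec]; exact hqr
      rw [hec]
      simp only [map_mul, map_inv, mul_inv_rev]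
      calc _ = π (c q.out) * ((π (c r.out))⁻¹ * π r.out) * (π q.out)⁻¹ := by group
        _ = π (c q.out) * (π q.out)⁻¹ * ((π (c r.out))⁻¹ * π r.out) := by
            rw [mul_assoc, hcomm ((π (c r.out))⁻¹ * π r.out), ← mul_assoc]
        _ = π (c r.out) * (π r.out)⁻¹ * ((π (c r.out))⁻¹ * π r.out) := by rw [h2]
        _ = 1 := by rw [hcomm (π (c r.out)) (π r.out)⁻¹]; group
    have h3 := (hmap _).1 ((QuotientGroup.eq_one_iff (N := D) _).1 h1)
    simpa [e] using h3
  obtain ⟨q, hq⟩ := Finite.surjective_of_injective hinj (π k)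
  obtain ⟨d, hd, hde⟩ := (QuotientGroup.mk'_eq_mk' (N := D)).1 hq
  rw [congrFun hlam k, ← hde, map_mul, hl, one_mul,
    MonoidHom.mem_ker.1 (Abelianization.commutator_subset_ker lam hd), Units.val_one]

end CfsgLib.OddEnd

namespace CfsgLib.OddEnd.TenPair

open Cfsg CfsgLib.Char
open scoped commutatorElement

universe v

variable {G : Type v} [Group G] [Fintype G] {M N K Ks V : Subgroup G} (P : TenPair M N K Ks V) [Fintype M]
include P

omit [Fintype M] in
/-- `C_{M_σ}(K)` lies in the derived group of `M_σ`. -/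
theorem Ks_le_derived :
    Ks.subgroupOf M ≤ ⁅(Cfsg.sigmaCore M).subgroupOf M, (Cfsg.sigmaCore M).subgroupOf M⁆ := by
  have h : Ks ≤ ⁅⁅M, M⁆, ⁅M, M⁆⁆ := P.hKs.trans_le (Cfsg.Agent.S1365.result P.hG M P.hM K ⊥ P.hKU P.hK1).2
  rw [P.derived_M] at h
  intro x hx
  rw [← Subgroup.mem_map_iff_mem M.subtype_injective, Subgroup.map_commutator,
    Subgroup.map_subgroupOf_eq_of_le (show Cfsg.sigmaCore M ≤ M from Subgroup.map_subtype_le _)]
  exact h hx

omit [Fintype G] [Fintype M] in
theorem core_solvable : Group.IsSolvable ↥((Cfsg.sigmaCore M).subgroupOf M) := by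
  have := P.hG.2.2.2 M P.hM.1
  infer_instance

omit [Fintype M] in
/-- `M / M_σ'` is Frobenius with kernel `M_σ / M_σ'`. -/
theorem frob : ∀ k ∈ (Cfsg.sigmaCore M).subgroupOf M,
    k ∉ ⁅(Cfsg.sigmaCore M).subgroupOf M, (Cfsg.sigmaCore M).subgroupOf M⁆ →
    ∀ x : M, x * k * x⁻¹ * k⁻¹ ∈ ⁅(Cfsg.sigmaCore M).subgroupOf M, (Cfsg.sigmaCore M).subgroupOf M⁆ →
      x ∈ (Cfsg.sigmaCore M).subgroupOf M := by
  have := P.normal_core
  exact frob_mod_derived P.primeDade_M.action P.core_solvable P.Ks_le_derived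

/-- The members above the derived group are irreducible. -/
theorem linear_irr : ∀ φ ∈ Cfsg.inducedIrrAbove ((Cfsg.sigmaCore M).subgroupOf M)
    ⁅(Cfsg.sigmaCore M).subgroupOf M, (Cfsg.sigmaCore M).subgroupOf M⁆, Cfsg.IsIrrCharacter M φ := by
  have := P.normal_core
  exact irr_above_derived P.frob

omit [Fintype M] in
theorem core_ne_bot : (Cfsg.sigmaCore M).subgroupOf M ≠ ⊥ := fun e => P.Ks_ne (by
  rw [← Subgroup.card_eq_one, ← Nat.card_congr (Subgroup.subgroupOfEquivOfLe
    (P.Ks_le.trans (Subgroup.map_subtype_le _))).toEquiv, Subgroup.card_eq_one, eq_bot_iff]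
  exact fun x hx => e ▸ (P.Ks_le hx))

omit [Fintype M] in
theorem derived_core_lt :
    ⁅(Cfsg.sigmaCore M).subgroupOf M, (Cfsg.sigmaCore M).subgroupOf M⁆ < (Cfsg.sigmaCore M).subgroupOf M := by
  set H := (Cfsg.sigmaCore M).subgroupOf M
  haveI : Group.IsSolvable H := P.core_solvable
  haveI : Nontrivial H := (Subgroup.nontrivial_iff_ne_bot H).2 P.core_ne_bot
  have hmap : (commutator H).map H.subtype = ⁅H, H⁆ := by
    rw [commutator_def, Subgroup.map_commutator, ← MonoidHom.range_eq_map, Subgroup.range_subtype]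
  rw [← hmap]
  refine lt_of_le_of_ne (Subgroup.map_subtype_le _) fun h => ?_
  refine (Group.IsSolvable.commutator_lt_top_of_nontrivial H).ne (Subgroup.map_injective H.subtype_injective ?_)
  rw [h, ← MonoidHom.range_eq_map, Subgroup.range_subtype]

end CfsgLib.OddEnd.TenPair
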