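import Cfsg.Agent.OddEnd.TenRigid
import Cfsg.Agent.OddEnd.TenCount

/-!
# `S` is not coherent when `U = 1` (Peterfalvi 10.7, 10.8), given the twin characters of the partner
-/

set_option autoImplicit false
set_option linter.unusedSectionVars false

namespace CfsgLib.OddEnd

open CfsgLib.Char
open scoped commutatorElement

universe u

variable {G : Type u} [Group G] [Fintype G]

/-- Existence of a fixed and a non-fixed character of one degree when `V` is not fixed-point-free. -/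
def TwinChars (N Ks V : Subgroup G) [Fintype N] [((⁅N, N⁆ : Subgroup G).subgroupOf N).Normal] : Prop :=
  ∀ {v h : G}, v ∈ V → v ≠ 1 → h ∈ Cfsg.sigmaCore N → h ≠ 1 → v * h = h * v →
    ∃ θ θ' : ↥((⁅N, N⁆ : Subgroup G).subgroupOf N) → ℂ, Cfsg.IsIrrCharacter _ θ ∧ Cfsg.IsIrrCharacter _ θ' ∧
      θ 1 = θ' 1 ∧
      (∃ a : ↥((⁅N, N⁆ : Subgroup G).subgroupOf N), ((a : N) : G) ∈ Cfsg.sigmaCore N ∧ θ a ≠ θ 1) ∧
      (∃ a : ↥((⁅N, N⁆ : Subgroup G).subgroupOf N), ((a : N) : G) ∈ Cfsg.sigmaCore N ∧ θ' a ≠ θ' 1) ∧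
      (∀ x ∈ Ks.subgroupOf N, conjOn x θ = θ) ∧ ∃ x ∈ Ks.subgroupOf N, conjOn x θ' ≠ θ'

namespace TenPair

variable {M N K Ks V : Subgroup G} (P : TenPair M N K Ks V)
include P

theorem normal_derived_N : ((⁅N, N⁆ : Subgroup G).subgroupOf N).Normal := P.primeDade_N.normal

variable [Fintype M] [Fintype N] [((⁅N, N⁆ : Subgroup G).subgroupOf N).Normal]

/-- Peterfalvi (10.8), given the twins. -/
theorem not_coherent_of (htw : TwinChars N Ks V) :
    ¬ Cfsg.IsCoherent (tenS M) ({1}ᶜ : Set M) (tenTau M) := by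
  rintro ⟨-, τ₁, h1, h2⟩
  classical
  have := Fintype.ofFinite (Row K Ks)
  obtain ⟨χ, hχ⟩ := exists_cyclicTIFamily P.W_M (P.oddG _)
  obtain ⟨ζ, hζ, hirr, hd, hder⟩ := P.exists_zeta
  obtain ⟨himg, hρ, -⟩ := P.rho_images hχ h1 h2 hζ hirr hd
  have hg := h1.2.2.2 _ (subset_zspan hζ)
  have hn : Cfsg.classInner (τ₁ ζ) (τ₁ ζ) = 1 := by
    rw [h1.2.2.1 _ (subset_zspan hζ) _ (subset_zspan hζ), IsIrrCharacter.classInner_self hirr]
  refine P.count_absurd hχ (fun v hv hv1 h hh hvh => ?_) hζ hirr hd hder (IsGeneralized.isClassFunction hg) hn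
    himg hρ
  by_contra hh1
  obtain ⟨θ, θ', a1, a2, a3, a4, a5, a6, a7⟩ := htw hv hv1 hh hh1 hvh
  have hz : ζ - Cfsg.conjFun ζ ∈ Cfsg.zspanOn (tenS M) ({1}ᶜ : Set M) := by
    refine mem_zspanOn_one.2 ⟨Submodule.sub_mem _ (subset_zspan hζ) (subset_zspan (tenS_conj hζ)), ?_⟩
    simp [Cfsg.conjFun, hd]
  refine P.twins_absurd hχ hζ hirr (IsGeneralized.isIrr_or_neg hg hn) himg ?_ a1 a2 a3 a4 a5 a6 a7
  rw [← h2 _ hz, h1.2.2.1 _ (subset_zspan hζ) _ hz.1, classInner_sub_right,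
    IsIrrCharacter.classInner_self hirr, P.tenS_orth hζ (tenS_conj hζ) (Ne.symm (P.tenS_conj_ne hζ)), sub_zero]

omit [Fintype N] [((⁅N, N⁆ : Subgroup G).subgroupOf N).Normal] in
/-- Combinations of `S` vanish off `M' = M_σ`, so both supports give one notion of coherence. -/
theorem zspanOn_support : Cfsg.zspanOn (tenS M) {x : M | (x : G) ∈ ⁅M, M⁆ ∧ x ≠ 1} =
    Cfsg.zspanOn (tenS M) ({1}ᶜ : Set M) := by
  ext α
  refine ⟨fun ⟨h1, h2⟩ => ⟨h1, fun x hx => h2 x fun h => hx h.2⟩, fun ⟨h1, h2⟩ => ⟨h1, fun x hx => ?_⟩⟩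
  by_cases hx1 : x = 1
  · exact h2 x fun h => h hx1
  · exact (P.zspan_props h1).2 x fun h => hx ⟨by rw [P.derived_M]; exact h, hx1⟩

omit [Fintype N] [((⁅N, N⁆ : Subgroup G).subgroupOf N).Normal] in
theorem isCoherent_support (τ : (M → ℂ) → G → ℂ) :
    Cfsg.IsCoherent (tenS M) {x : M | (x : G) ∈ ⁅M, M⁆ ∧ x ≠ 1} τ ↔
      Cfsg.IsCoherent (tenS M) ({1}ᶜ : Set M) τ := by
  rw [Cfsg.IsCoherent, Cfsg.IsCoherent, P.zspanOn_support]

end TenPair

end CfsgLib.OddEnd
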