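import Cfsg.Agent.Char.CyclicSemiChars
import Cfsg.Agent.Char.CosetConj

/-!
# The characters `μ_ω` of a prime action, with their Galois conjugates and columns

Complements to `CfsgLib.Char.IsPrimeAction.exists_mu` (Peterfalvi 4.3, 4.5).
-/

set_option autoImplicit false

namespace CfsgLib.OddEnd

open CfsgLib.Char
open scoped ComplexConjugate

universe u

variable {L : Type u} [Group L]

/-- The data `μ`, `δ` attached to a prime action `L = K W₁`. -/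
structure IsMu (K W₁ W₂ : Subgroup L) (μ : (↥(W₁ ⊔ W₂) →* ℂˣ) → L → ℂ)
    (δ : (↥(W₁ ⊔ W₂) →* ℂˣ) → ℂ) : Prop where
  inj : Function.Injective μ
  irr : ∀ ω, Cfsg.IsIrrCharacter L (μ ω)
  sign : ∀ ω, δ ω = 1 ∨ δ ω = -1
  sign_eq : ∀ ω ω' : ↥(W₁ ⊔ W₂) →* ℂˣ,
    (∀ w : ↥(W₁ ⊔ W₂), (w : L) ∈ W₂ → ω w = ω' w) → δ ω = δ ω'
  restrict_eq : ∀ ω ω' : ↥(W₁ ⊔ W₂) →* ℂˣ,
    (∀ w : ↥(W₁ ⊔ W₂), (w : L) ∈ W₂ → ω w = ω' w) → ∀ k : L, k ∈ K → μ ω k = μ ω' k
  value : ∀ ω, ∀ w : ↥(W₁ ⊔ W₂), (w : L) ∉ W₂ → μ ω w = δ ω * (ω w : ℂ)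
  vanish : ∀ θ : L → ℂ, Cfsg.IsIrrCharacter L θ → (∀ ω, θ ≠ μ ω) →
    ∀ w : ↥(W₁ ⊔ W₂), (w : L) ∉ W₂ → θ w = 0

variable {K W₁ W₂ : Subgroup L} [hK : K.Normal]

section

variable (h : IsPrimeAction K W₁ W₂)
include h

omit hK in
/-- Elements of `W` inside `K` lie in `W₂`. -/
theorem mem_right_of_mem_kernel {w : L} (hw : w ∈ W₁ ⊔ W₂) (hwK : w ∈ K) : w ∈ W₂ := by
  obtain ⟨e, he⟩ := exists_prod_equiv h.disjoint₁₂ fun a ha b hb => h.commute ha hb
  obtain ⟨⟨a, b⟩, hab⟩ := e.surjective ⟨w, hw⟩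
  have hval : w = (a : L) * b := by rw [← he (a, b), hab]
  have ha : (a : L) ∈ K ⊓ W₁ := Subgroup.mem_inf.2
    ⟨by have := K.mul_mem hwK (K.inv_mem (h.le b.2)); rwa [hval, mul_assoc, mul_inv_cancel, mul_one] at this,
      a.2⟩
  rw [h.inf_eq, Subgroup.mem_bot] at ha
  rw [hval, ha, one_mul]
  exact b.2

/-- Elements outside `K` are conjugate into `W` outside `W₂`. -/
theorem exists_conj_mem [Finite L] {x : L} (hx : x ∉ K) :
    ∃ g : L, g * x * g⁻¹ ∈ W₁ ⊔ W₂ ∧ g * x * g⁻¹ ∉ W₂ := by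
  obtain ⟨k, hk, c, hc, rfl⟩ := h.exists_factor x
  have hc1 : c ≠ 1 := fun e => hx (by rw [e, mul_one]; exact hk)
  have hcop : Nat.Coprime (orderOf c) (Nat.card K) :=
    h.coprime.coprime_dvd_left (W₁.orderOf_dvd_natCard hc)
  obtain ⟨g, hg, d, hd, hdc, e⟩ := exists_conj_mem_centralizer_mul K c
    (fun y hy => hK.conj_mem y hy c) hcop k hk
  have hd2 : d ∈ W₂ := by
    rw [← h.centralizer_eq c hc hc1]
    exact Subgroup.mem_inf.2 ⟨hd, Subgroup.mem_centralizer_singleton_iff.2 hdc⟩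
  refine ⟨g, by rw [e]; exact Subgroup.mul_mem _ (Subgroup.mem_sup_right hd2) (Subgroup.mem_sup_left hc), ?_⟩
  intro hm
  have : g⁻¹ * (g * (k * c) * g⁻¹) * g⁻¹⁻¹ ∈ K := hK.conj_mem _ (h.le hm) g⁻¹
  exact hx (by rwa [show g⁻¹ * (g * (k * c) * g⁻¹) * g⁻¹⁻¹ = k * c by group] at this)

theorem exists_isMu [Fintype L] : ∃ μ δ, IsMu K W₁ W₂ μ δ := by
  classical
  obtain ⟨μ, δ, h1, h2, h3, h4, h5, h6, -⟩ := h.exists_mu
  refine ⟨μ, δ, h1, h2, h3, fun ω ω' e => (h4 ω ω' e).1, fun ω ω' e k hk => ?_, h5, h6⟩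
  have h0 : Cfsg.indFun (W₁ ⊔ W₂) (fun w => (ω w : ℂ) - (ω' w : ℂ)) k = 0 := by
    rw [indFun_def, Finset.sum_eq_zero, mul_zero]
    intro x _
    by_cases hm : x⁻¹ * k * x ∈ W₁ ⊔ W₂
    · rw [extendByZero_of_mem _ hm, e ⟨_, hm⟩ (mem_right_of_mem_kernel h hm (hK.conj_mem' k hk x)), sub_self]
    · rw [extendByZero_of_not_mem _ hm]
  rw [(h4 ω ω' e).2, Pi.smul_apply, Pi.sub_apply, smul_eq_mul, mul_eq_zero, sub_eq_zero] at h0
  exact h0.resolve_left (by rcases h3 ω with e' | e' <;> rw [e'] <;> norm_num)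

omit hK in
/-- Two linear characters of `W` proportional outside `W₂` are equal. -/
theorem hom_eq_of_prop {ω η : ↥(W₁ ⊔ W₂) →* ℂˣ} {κ : ℂ}
    (he : ∀ w : ↥(W₁ ⊔ W₂), (w : L) ∉ W₂ → (η w : ℂ) = κ * (ω w : ℂ)) : η = ω ∧ κ = 1 := by
  obtain ⟨c, hc, hc1⟩ := (Subgroup.bot_or_exists_ne_one W₁).resolve_left h.ne_bot₁
  have hout : ∀ {a : L}, a ∈ W₁ → a ≠ 1 → ∀ {b : L}, b ∈ W₂ → a * b ∉ W₂ := fun {a} ha ha1 {b} hb hm => by
    have h' : a ∈ W₁ ⊓ W₂ := Subgroup.mem_inf.2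
      ⟨ha, by simpa using W₂.mul_mem hm (W₂.inv_mem hb)⟩
    rw [h.disjoint₁₂, Subgroup.mem_bot] at h'
    exact ha1 h'
  set C : ↥(W₁ ⊔ W₂) := ⟨c, Subgroup.mem_sup_left hc⟩
  have hC : (C : L) ∉ W₂ := by simpa using hout hc hc1 W₂.one_mem
  have hc2 : c * c ≠ 1 := fun e => hc1 (by
    have h2 : orderOf C ∣ 2 := orderOf_dvd_of_pow_eq_one (Subtype.ext (by simpa [pow_two] using e))
    rcases (Nat.dvd_prime Nat.prime_two).1 h2 with h3 | h3
    · exact congrArg Subtype.val (orderOf_eq_one_iff.1 h3)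
    · exact absurd (h3 ▸ orderOf_dvd_natCard C) (by
        intro h4; obtain ⟨m, hm⟩ := h.odd; omega))
  have hC2 : ((C * C : ↥(W₁ ⊔ W₂)) : L) ∉ W₂ := by simpa [C] using hout (W₁.mul_mem hc hc) hc2 W₂.one_mem
  have e1 := he C hC
  have e2 := he (C * C) hC2
  rw [map_mul, map_mul, Units.val_mul, Units.val_mul, e1] at e2
  have hω0 : (ω C : ℂ) * (ω C : ℂ) ≠ 0 := mul_ne_zero (Units.ne_zero _) (Units.ne_zero _)
  have hκ0 : κ ≠ 0 := fun e => Units.ne_zero (η C) (by rw [e1, e, zero_mul])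
  have hκ : κ = 1 := by
    have : κ * ((ω C : ℂ) * (ω C : ℂ)) * (κ - 1) = 0 := by linear_combination e2
    exact sub_eq_zero.1 ((mul_eq_zero.1 this).resolve_left (mul_ne_zero hκ0 hω0))
  have hout' : ∀ w : ↥(W₁ ⊔ W₂), (w : L) ∉ W₂ → η w = ω w := fun w hw =>
    Units.ext (by rw [he w hw, hκ, one_mul])
  refine ⟨?_, hκ⟩
  ext w
  congr 1
  by_cases hw : (w : L) ∈ W₂
  · have h1 := hout' (C * w) (by simpa [C] using hout hc hc1 hw)
    rwa [map_mul, map_mul, hout' C hC, mul_right_inj] at h1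
  · exact hout' w hw

end

namespace IsMu

variable {μ : (↥(W₁ ⊔ W₂) →* ℂˣ) → L → ℂ} {δ : (↥(W₁ ⊔ W₂) →* ℂˣ) → ℂ}
variable (hμ : IsMu K W₁ W₂ μ δ) (h : IsPrimeAction K W₁ W₂)
include hμ h

omit hK in
/-- An irreducible character proportional to `ω` outside `W₂` is `μ_ω`. -/
theorem unique {θ : L → ℂ} (hθ : Cfsg.IsIrrCharacter L θ) {ω : ↥(W₁ ⊔ W₂) →* ℂˣ} {e : ℂ} (he : e ≠ 0)
    (hv : ∀ w : ↥(W₁ ⊔ W₂), (w : L) ∉ W₂ → θ w = e * (ω w : ℂ)) : θ = μ ω ∧ e = δ ω := by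
  obtain ⟨c, hc, hc1⟩ := (Subgroup.bot_or_exists_ne_one W₁).resolve_left h.ne_bot₁
  have hC : c ∉ W₂ := fun hm => hc1 (by
    have h' : c ∈ W₁ ⊓ W₂ := Subgroup.mem_inf.2 ⟨hc, hm⟩
    rwa [h.disjoint₁₂, Subgroup.mem_bot] at h')
  by_cases hex : ∃ η, θ = μ η
  · obtain ⟨η, rfl⟩ := hex
    have hδ : δ η * δ η = 1 := by rcases hμ.sign η with e' | e' <;> rw [e'] <;> ring
    obtain ⟨rfl, hκ⟩ := hom_eq_of_prop h (ω := ω) (η := η) (κ := δ η * e) fun w hw => by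
      rw [mul_assoc, ← hv w hw, hμ.value η w hw, ← mul_assoc, hδ, one_mul]
    refine ⟨rfl, ?_⟩
    have : δ η * (δ η * e) = δ η * 1 := by rw [hκ]
    rwa [← mul_assoc, hδ, one_mul, mul_one] at this
  · have h0 := hμ.vanish θ hθ (fun η e' => hex ⟨η, e'⟩) ⟨c, Subgroup.mem_sup_left hc⟩ hC
    rw [hv _ hC, mul_eq_zero] at h0
    exact absurd h0 (not_or.2 ⟨he, Units.ne_zero _⟩)

omit hK in
theorem map_one : μ 1 = (fun _ => (1 : ℂ)) ∧ δ 1 = 1 := by
  have h0 := hμ.unique h (θ := fun _ => (1 : ℂ)) isIrrCharacter_one (ω := 1) (e := 1) one_ne_zero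
    fun w _ => by simp
  exact ⟨h0.1.symm, h0.2.symm⟩

omit hK in
/-- Galois conjugation permutes the `μ_ω`. -/
theorem map_ringEquiv [Finite L] (σ : ℂ ≃+* ℂ) (ω : ↥(W₁ ⊔ W₂) →* ℂˣ) :
    μ (mapHom σ ω) = (fun x => σ (μ ω x)) ∧ δ (mapHom σ ω) = δ ω := by
  have h0 := hμ.unique h (θ := fun x => σ (μ ω x)) (IsIrrCharacter.map_ringEquiv (hμ.irr ω) σ)
    (ω := mapHom σ ω) (e := δ ω) (by rcases hμ.sign ω with e | e <;> rw [e] <;> norm_num)
    fun w hw => by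
      rw [mapHom_apply, hμ.value ω w hw, map_mul]
      rcases hμ.sign ω with e | e <;> rw [e] <;> simp
  exact ⟨h0.1.symm, h0.2.symm⟩

variable [Fintype L]

/-- A constituent of the restriction to `K` of some `μ_ω` is invariant and induces the sum of a column. -/
theorem column_of_constituent {θ : K → ℂ} [Fintype K] (hθ : Cfsg.IsIrrCharacter K θ)
    {ω : ↥(W₁ ⊔ W₂) →* ℂˣ} (hne : Cfsg.classInner (fun k : K => μ ω k) θ ≠ 0)
    [Fintype {η : ↥(W₁ ⊔ W₂) →* ℂˣ // ∀ w : ↥(W₁ ⊔ W₂), (w : L) ∈ W₂ → η w = ω w}] :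
    (∀ x ∈ W₁, conjOn x θ = θ) ∧ Cfsg.indFun K θ =
      ∑ η : {η : ↥(W₁ ⊔ W₂) →* ℂˣ // ∀ w : ↥(W₁ ⊔ W₂), (w : L) ∈ W₂ → η w = ω w}, μ η.1 := by
  classical
  obtain ⟨hind, -, hcol⟩ := h.invariant_chars
  have hfix : ∀ x ∈ W₁, conjOn x θ = θ := by
    by_contra hh
    push Not at hh
    have hi := hind θ hθ hh
    have heq : Cfsg.indFun K θ = μ ω := by
      by_contra hh'
      have := IsIrrCharacter.classInner_of_ne hi (hμ.irr ω) hh'
      rw [classInner_indFun θ (IsIrrCharacter.isClassFunction (hμ.irr ω)), ← classInner_conj,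
        map_eq_zero] at this
      exact hne this
    obtain ⟨c, hc, hc1⟩ := (Subgroup.bot_or_exists_ne_one W₁).resolve_left h.ne_bot₁
    have hcK : c ∉ K := fun hm => hc1 (by
      have h' : c ∈ K ⊓ W₁ := Subgroup.mem_inf.2 ⟨hm, hc⟩
      rwa [h.inf_eq, Subgroup.mem_bot] at h')
    have h0 := hμ.value ω ⟨c, Subgroup.mem_sup_left hc⟩ fun hm => hcK (h.le hm)
    rw [← heq, indFun_eq_zero_of_normal θ hcK] at h0
    exact mul_ne_zero (by rcases hμ.sign ω with e | e <;> rw [e] <;> norm_num) (Units.ne_zero _) h0.symm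
  refine ⟨hfix, ?_⟩
  obtain ⟨C, hC, hCirr, hCsum⟩ := hcol θ hθ hfix
  obtain ⟨⟨-, -, hdisj, hcomm, hcyc, -⟩, -⟩ := h.selfNormalizing
  set T := {η : ↥(W₁ ⊔ W₂) →* ℂˣ // ∀ w : ↥(W₁ ⊔ W₂), (w : L) ∈ W₂ → η w = ω w}
  have hmem : ∀ η : T, μ η.1 ∈ C := fun η => by
    have h1 : Cfsg.classInner (Cfsg.indFun K θ) (μ η.1) ≠ 0 := by
      rw [classInner_indFun θ (IsIrrCharacter.isClassFunction (hμ.irr η.1)), ← classInner_conj, map_ne_zero,
        show (fun k : K => μ η.1 k) = fun k : K => μ ω k from funext fun k => hμ.restrict_eq _ _ η.2 k k.2]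
      exact hne
    by_contra hn
    rw [hCsum, classInner_sum_left] at h1
    exact h1 (Finset.sum_eq_zero fun ξ hξ => IsIrrCharacter.classInner_of_ne (hCirr ξ hξ) (hμ.irr _)
      fun e => hn (e ▸ hξ))
  have hcard : Fintype.card T = Nat.card W₁ := by
    rw [← card_trivial_on_right hdisj hcomm (fun a b => by
      have := h.cyclic₁; exact (IsCyclic.commGroup (α := W₁)).mul_comm a b), ← Nat.card_eq_fintype_card]
    refine Nat.card_congr
      { toFun := fun η => ⟨η.1 * ω⁻¹, fun w hw => by simp [η.2 w hw]⟩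
        invFun := fun φ => ⟨φ.1 * ω, fun w hw => by simp [φ.2 w hw]⟩
        left_inv := fun η => Subtype.ext (MonoidHom.ext fun w => by simp)
        right_inv := fun φ => Subtype.ext (MonoidHom.ext fun w => by simp) }
  have hC' : C = Finset.univ.image fun η : T => μ η.1 := (Finset.eq_of_subset_of_card_le
    (fun ξ hξ => by obtain ⟨η, -, rfl⟩ := Finset.mem_image.1 hξ; exact hmem η)
    (by rw [hC, Finset.card_image_of_injective _ (fun a b e => Subtype.ext (hμ.inj e)), Finset.card_univ,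
      hcard])).symm
  rw [hCsum, hC', Finset.sum_image fun a _ b _ e => Subtype.ext (hμ.inj e)]
  exact Finset.sum_congr (by ext; simp) fun _ _ => rfl

/-- An invariant irreducible character of `K` induces a column. -/
theorem exists_column [Fintype K] {θ : K → ℂ} (hθ : Cfsg.IsIrrCharacter K θ)
    (hfix : ∀ x ∈ W₁, conjOn x θ = θ) :
    ∃ ω, Cfsg.classInner (fun k : K => μ ω k) θ ≠ 0 := by
  classical
  obtain ⟨-, -, hcol⟩ := h.invariant_chars
  obtain ⟨C, hC, hCirr, hCsum⟩ := hcol θ hθ hfix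
  have hW1 : 1 < Nat.card W₁ := (Subgroup.one_lt_card_iff_ne_bot W₁).2 h.ne_bot₁
  obtain ⟨ξ, hξ⟩ := Finset.card_pos.1 (show 0 < C.card by omega)
  have hξi : Cfsg.classInner (Cfsg.indFun K θ) ξ = 1 := by
    rw [hCsum, classInner_sum_left, Finset.sum_eq_single ξ (fun η hη hne' =>
      IsIrrCharacter.classInner_of_ne (hCirr η hη) (hCirr ξ hξ) hne') (fun h' => absurd hξ h')]
    exact IsIrrCharacter.classInner_self (hCirr ξ hξ)
  have hres : Cfsg.classInner (fun k : K => ξ k) θ = 1 := by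
    rw [← classInner_conj, ← classInner_indFun θ (IsIrrCharacter.isClassFunction (hCirr ξ hξ)), hξi]
    exact _root_.map_one _
  by_cases hex : ∃ ω, ξ = μ ω
  · obtain ⟨ω, rfl⟩ := hex
    exact ⟨ω, by rw [hres]; exact one_ne_zero⟩
  exfalso
  have hvan : ∀ x : L, x ∉ K → ξ x = 0 := fun x hx => by
    obtain ⟨g, hg, hg2⟩ := exists_conj_mem h hx
    have := hμ.vanish ξ (hCirr ξ hξ) (fun η e => hex ⟨η, e⟩) ⟨_, hg⟩ hg2
    rwa [IsIrrCharacter.isClassFunction (hCirr ξ hξ) x g] at this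
  have horb : conjOrbit θ = {θ} := by
    ext ψ
    rw [mem_conjOrbit, Finset.mem_singleton]
    constructor
    · rintro ⟨g, rfl⟩
      have htop : inertia θ = ⊤ := by
        rw [eq_top_iff, ← h.sup_eq]
        exact sup_le (le_inertia (IsIrrCharacter.isClassFunction hθ)) fun x hx => hfix x hx
      exact (mem_inertia θ g).1 (htop ▸ Subgroup.mem_top g)
    · rintro rfl; exact ⟨1, (conjOn_one _).symm⟩
  have hresθ : (fun k : K => ξ k) = θ := by
    rw [restrict_eq_smul_sum (hCirr ξ hξ) hθ (by rw [hres]; exact one_ne_zero), hres, horb,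
      Finset.sum_singleton, one_smul]
  -- the norm of `ξ`
  have h1 := IsIrrCharacter.classInner_self (hCirr ξ hξ)
  have h2 := IsIrrCharacter.classInner_self hθ
  rw [classInner_def] at h1 h2
  have hsum : ∑ x : L, ξ x * conj (ξ x) = ∑ k : K, θ k * conj (θ k) := by
    rw [← Finset.sum_filter_add_sum_filter_not Finset.univ (fun x => x ∈ K),
      Finset.sum_eq_zero (s := Finset.univ.filter fun x => ¬ x ∈ K) (fun x hx => by
        rw [hvan x (Finset.mem_filter.1 hx).2, zero_mul]), add_zero,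
      Finset.sum_subtype (p := fun x => x ∈ K) (Finset.univ.filter fun x => x ∈ K) (fun x => by simp)
        (fun x => ξ x * conj (ξ x))]
    exact Fintype.sum_congr _ _ fun k => by rw [← hresθ]
  rw [hsum] at h1
  have hkL : (Nat.card L : ℂ) = Nat.card K * Nat.card W₁ := by
    rw [← Nat.cast_mul, h.isComplement.card_mul_card]
  have hS : ∑ k : K, θ k * conj (θ k) = (Nat.card K : ℂ) := by
    have := congrArg ((Nat.card K : ℂ) * ·) h2
    rwa [← mul_assoc, mul_inv_cancel₀ (by exact_mod_cast (Nat.card_pos (α := K)).ne'), one_mul, mul_one] at this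
  rw [hS, hkL, mul_inv, mul_comm ((Nat.card K : ℂ)⁻¹), mul_assoc,
    inv_mul_cancel₀ (by exact_mod_cast (Nat.card_pos (α := K)).ne'), mul_one, inv_eq_one] at h1
  have : Nat.card W₁ = 1 := by exact_mod_cast h1
  omega

end IsMu

end CfsgLib.OddEnd
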