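import Cfsg.Agent.OddEnd.TenRho
import Mathlib.Data.Nat.ChineseRemainder
import Mathlib.Data.ZMod.Basic

/-!
# The members of the family trivial on `C_{M_σ}(K)` at elements of order prime to `|K|`
-/

set_option autoImplicit false
set_option linter.unusedSectionVars false

namespace CfsgLib.OddEnd

open CfsgLib.Char
open scoped ComplexConjugate

universe u

variable {G : Type u} [Group G] [Fintype G]

namespace TenPair

variable {M N K Ks V : Subgroup G} (P : TenPair M N K Ks V)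
  {χ : (↥(K ⊔ Ks) →* ℂˣ) → G → ℂ}
include P

theorem row_fixed {σ : ℂ ≃+* ℂ} (hσ : ∀ z : ℂ, z ^ Nat.card K = 1 → σ z = z) (r : Row K Ks) :
    mapHom σ (cell r col₀) = cell r col₀ := by
  refine hom_ext_sup (fun w hw => Units.ext ?_) fun w hw => Units.ext ?_
  · rw [mapHom_apply]
    refine hσ _ ?_
    rw [← Units.val_pow_eq_pow_val, ← map_pow,
      show w ^ Nat.card K = 1 from Subtype.ext (show (w : G) ^ Nat.card K = 1 from
        congrArg Subtype.val (pow_card_eq_one' (x := (⟨(w : G), hw⟩ : K)))), map_one]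
    rfl
  · rw [mapHom_apply, cell_col₀, r.2 w hw, Units.val_one, map_one]

/-- A member trivial on `C_{M_σ}(K)` is rational at elements of order prime to `|K|`. -/
theorem row_rational (hχ : Cfsg.IsCyclicTIFamily K Ks χ) (r : Row K Ks) {g : G}
    (hg : (orderOf g).Coprime (Nat.card K)) : ∃ m : ℤ, χ (cell r col₀) g = (m : ℂ) := by
  obtain ⟨a, b, ha, hb, hab⟩ := isGeneralized_family hχ (cell r col₀)
  have hint : IsIntegral ℤ (χ (cell r col₀) g) := by
    rw [hab]; exact (IsCharacter.isIntegral ha g).sub (IsCharacter.isIntegral hb g)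
  refine exists_int_of_fixed hint fun σ => ?_
  obtain ⟨t, ht, hσ⟩ := exists_pow_of_ringEquiv (Nat.card_pos (α := G)) σ
  obtain ⟨t', h1, h2⟩ := Nat.chineseRemainder hg t 1
  have hto : t.Coprime (orderOf g) := ht.coprime_dvd_right (orderOf_dvd_natCard g)
  have htc : t'.Coprime (orderOf g * Nat.card K) := by
    rw [Nat.coprime_mul_iff_right]
    refine ⟨?_, ?_⟩
    · rw [Nat.Coprime, Nat.ModEq.gcd_eq h1]; exact hto
    · rw [Nat.Coprime, Nat.ModEq.gcd_eq h2]; exact Nat.gcd_one_left _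
  obtain ⟨σ', hσ'⟩ := exists_ringEquiv_pow (Nat.mul_pos (orderOf_pos g) Nat.card_pos) htc
  have hfix : ∀ z : ℂ, z ^ Nat.card K = 1 → σ' z = z := fun z hz => by
    rw [hσ' z (by rw [mul_comm, pow_mul, hz, one_pow]), pow_eq_pow_mod t' hz,
      show t' % Nat.card K = 1 % Nat.card K from h2, ← pow_eq_pow_mod 1 hz, pow_one]
  have hroot : ∀ z : ℂ, z ^ orderOf g = 1 → σ' z = z ^ t := fun z hz => by
    rw [hσ' z (by rw [pow_mul, hz, one_pow]), pow_eq_pow_mod t' hz,
      show t' % orderOf g = t % orderOf g from h1, ← pow_eq_pow_mod t hz]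
  have hrootσ : ∀ z : ℂ, z ^ orderOf g = 1 → σ z = z ^ t := fun z hz => hσ z (by
    obtain ⟨c, hc⟩ := orderOf_dvd_natCard g
    rw [hc, pow_mul, hz, one_pow])
  have e : σ (χ (cell r col₀) g) = σ' (χ (cell r col₀) g) := by
    rw [hab, Pi.sub_apply, map_sub, map_sub, IsCharacter.map_ringEquiv_eq_pow ha σ hrootσ,
      IsCharacter.map_ringEquiv_eq_pow hb σ hrootσ, IsCharacter.map_ringEquiv_eq_pow ha σ' hroot,
      IsCharacter.map_ringEquiv_eq_pow hb σ' hroot]
  rw [e, cyclicTI_map P.W_M (P.oddG _) hχ σ', P.row_fixed hfix]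

variable [Fintype (Row K Ks)]

/-- Their sum is an odd integer there. -/
theorem rows_odd (hχ : Cfsg.IsCyclicTIFamily K Ks χ) {g : G} (hg : (orderOf g).Coprime (Nat.card K)) :
    ∃ m : ℤ, Odd m ∧ (∑ r : Row K Ks, χ (cell r col₀) g) = (m : ℂ) := by
  classical
  choose f hf using fun r : Row K Ks => P.row_rational hχ r hg
  refine ⟨∑ r, f r, ?_, by push_cast; exact Finset.sum_congr rfl fun r _ => hf r⟩
  let ι : Row K Ks → Row K Ks := fun r => ⟨r.1⁻¹, fun w hw => by rw [MonoidHom.inv_apply, r.2 w hw, inv_one]⟩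
  have hι : ∀ r, f (ι r) = f r := fun r => by
    have h1 := cyclicTI_map P.W_M (P.oddG _) hχ conjAut (cell r col₀) g
    rw [mapHom_conjAut, show (cell r col₀)⁻¹ = cell (ι r) col₀ by rw [cell_col₀, cell_col₀], hf, hf, conjAut_apply,
      map_intCast] at h1
    exact_mod_cast h1.symm
  have hinv : ∀ r, ι (ι r) = r := fun r => Subtype.ext (MonoidHom.ext fun w => inv_inv (r.1 w))
  have hfix : ∀ r, ι r = r → r = row₀ := fun r h => by
    refine Subtype.ext (MonoidHom.ext fun w => ?_)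
    have h1 : (r.1 w)⁻¹ = r.1 w := DFunLike.congr_fun (congrArg Subtype.val h) w
    have h2 : (r.1 w) ^ 2 = 1 := by rw [pow_two]; nth_rewrite 1 [← h1]; exact inv_mul_cancel _
    have h3 : (r.1 w) ^ Nat.card ↥(K ⊔ Ks) = 1 := by rw [← map_pow, pow_card_eq_one', map_one]
    obtain ⟨m, hm⟩ := P.oddG (K ⊔ Ks)
    rw [hm, pow_succ, pow_mul, h2, one_pow, one_mul] at h3
    exact h3
  have h0 : f row₀ = 1 := by
    have h := hf row₀
    rw [show cell row₀ col₀ = (1 : ↥(K ⊔ Ks) →* ℂˣ) by rw [cell_row₀]; rfl, hχ.map_one] at h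
    simp only at h
    exact_mod_cast h.symm
  have hrest : ∑ r ∈ Finset.univ.erase row₀, ((f r : ℤ) : ZMod 2) = 0 := by
    refine Finset.sum_involution (fun r _ => ι r) (fun r _ => ?_)
      (fun r hr _ h => Finset.ne_of_mem_erase hr (hfix r h))
      (fun r hr => Finset.mem_erase.2 ⟨fun h => Finset.ne_of_mem_erase hr ?_, Finset.mem_univ _⟩) fun r _ => hinv r
    · rw [hι]; exact CharTwo.add_self_eq_zero _
    · rw [← hinv r, h]
      exact Subtype.ext (MonoidHom.ext fun w => inv_one)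
  rw [← Finset.add_sum_erase _ _ (Finset.mem_univ row₀), h0, ← ZMod.intCast_eq_one_iff_odd, Int.cast_add,
    Int.cast_one, Int.cast_sum, hrest, add_zero]

/-- A value at a non-identity element of `C_{M_σ}(K)` is an integer congruent to one modulo each prime
divisor of `|K|`. -/
theorem row_cong [Fintype M] (hχ : Cfsg.IsCyclicTIFamily K Ks χ) (r : Row K Ks) {z : G} (hz : z ∈ Ks) (hz1 : z ≠ 1)
    {p : ℕ} (hp : p.Prime) (hpK : p ∣ Nat.card K) :
    ∃ m : ℤ, χ (cell r col₀) z = (m : ℂ) ∧ (p : ℤ) ∣ m - 1 := by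
  have hcop : (orderOf z).Coprime (Nat.card K) :=
    ((coprime_of_cyclic_sup P.W_M.2.2.1 P.W_M.2.2.2.1 P.W_M.2.2.2.2.1).symm).coprime_dvd_left
      (Ks.orderOf_dvd_natCard hz)
  obtain ⟨m, hm⟩ := P.row_rational hχ r hcop
  refine ⟨m, hm, int_cong_iff hp ?_⟩
  have h := P.family_cong hχ r hz hz1 hp hpK
  rw [hm] at h
  simpa using h

end TenPair

end CfsgLib.OddEnd
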