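import Cfsg.Agent.OddEnd.TenCoherent
import Cfsg.Agent.OddEnd.Cong

/-!
# The adjoint of the Dade map at the images (Peterfalvi 10.5, 10.6)
-/

set_option autoImplicit false
set_option linter.unusedSectionVars false

namespace CfsgLib.OddEnd

open CfsgLib.Char
open scoped ComplexConjugate

universe u

variable {G : Type u} [Group G] [Fintype G]

namespace TenPair

variable {M N K Ks V : Subgroup G} (P : TenPair M N K Ks V) [Fintype M]
  {χ : (↥(K ⊔ Ks) →* ℂˣ) → G → ℂ} {ζ : M → ℂ} {τ₁ : (M → ℂ) → G → ℂ}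
include P

theorem mem_zspanOn_diff {φ : M → ℂ} (hφ : φ ∈ tenS M) (hζ : ζ ∈ tenS M) {a : ℕ}
    (ha : φ 1 = (a : ℂ) * ζ 1) : φ - (a : ℤ) • ζ ∈ Cfsg.zspanOn (tenS M) ({1}ᶜ : Set M) := by
  refine mem_zspanOn_one.2 ⟨Submodule.sub_mem _ (subset_zspan hφ) (Submodule.smul_mem _ _ (subset_zspan hζ)), ?_⟩
  rw [Pi.sub_apply, Pi.smul_apply, zsmul_eq_mul, ha]
  push_cast
  ring

/-- A function on `M_σ#` orthogonal to the degree zero combinations is constant there. -/
theorem const_of_orth (hζd : ζ 1 = (Nat.card K : ℂ)) {f : M → ℂ} (hf : Cfsg.IsClassFunction M f)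
    (hoff : ∀ x : M, (x : G) ∉ Cfsg.typeA M → f x = 0)
    (horth : ∀ φ ∈ tenS M, ∀ a : ℕ, φ 1 = (a : ℂ) * ζ 1 →
      Cfsg.classInner (φ - (a : ℤ) • ζ) f = 0) :
    ∃ e : ℂ, ∀ x : M, (x : G) ∈ Cfsg.sigmaCore M → x ≠ 1 → f x = e := by
  classical
  set H := (Cfsg.sigmaCore M).subgroupOf M with hH
  have := Fintype.ofFinite H
  have := P.normal_core
  set g : H → ℂ := fun h => f h with hg
  have hgc : Cfsg.IsClassFunction H g := fun a b => hf a b
  set k := Cfsg.classInner ζ f with hk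
  have hcoef : ∀ θ : H → ℂ, Cfsg.IsIrrCharacter H θ → θ ≠ (fun _ => 1) →
      Cfsg.classInner g θ = conj k * θ 1 := by
    intro θ h1 h2
    have hmem : Cfsg.indFun H θ ∈ tenS M :=
      ⟨θ, h1, h2, fun a ha => by rw [show a = 1 from Subtype.ext (Subgroup.mem_bot.1 ha)], rfl⟩
    obtain ⟨d, -, hd⟩ := IsIrrCharacter.exists_degree h1
    have hdeg : Cfsg.indFun H θ 1 = (d : ℂ) * ζ 1 := by
      rw [indFun_one, show H.index = Nat.card K from P.index_core, hd, hζd, mul_comm]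
    have h := horth _ hmem d hdeg
    rw [classInner_sub_left, ← Int.cast_smul_eq_zsmul ℂ, classInner_smul_left, classInner_indFun θ hf,
      sub_eq_zero] at h
    rw [← classInner_conj θ g, show Cfsg.classInner θ g = _ from h, map_mul, map_intCast, hd]
    push_cast
    ring
  refine ⟨Cfsg.classInner g (fun _ => 1) - conj k, fun x hx hx1 => ?_⟩
  have h1 := congrFun (eq_sum_irr hgc) ⟨x, hx⟩
  have h2 := congrFun (leftRegular_eq_sum (G := H)) ⟨x, hx⟩
  rw [leftRegular_character, if_neg (fun e => hx1 (congrArg Subtype.val e)), Finset.sum_apply] at h2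
  simp only [Finset.sum_apply, Pi.smul_apply, smul_eq_mul] at h1 h2
  rw [show f x = g ⟨x, hx⟩ from rfl, h1,
    ← Finset.add_sum_erase _ _ (mem_irrFinset.2 (isIrrCharacter_one (G := H)))]
  rw [← Finset.add_sum_erase _ _ (mem_irrFinset.2 (isIrrCharacter_one (G := H))), one_mul] at h2
  rw [Finset.sum_congr rfl fun θ hθ => by
    rw [hcoef θ (mem_irrFinset.1 (Finset.mem_of_mem_erase hθ)) (Finset.ne_of_mem_erase hθ), mul_assoc],
    ← Finset.mul_sum]
  linear_combination -(conj k) * h2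

/-- The value at `1^M - ζ` of a function constant on `M_σ#`. -/
theorem inner_alpha_const (hζ : ζ ∈ tenS M) (hd : ζ 1 = (Nat.card K : ℂ)) {f : M → ℂ} {e : ℂ}
    (he : ∀ x : M, (x : G) ∈ Cfsg.sigmaCore M → x ≠ 1 → f x = e) :
    Cfsg.classInner (tenAlpha M ζ) f = conj e := by
  classical
  have h : Cfsg.classInner (tenAlpha M ζ) f = Cfsg.classInner (tenAlpha M ζ) (e • fun _ : M => (1 : ℂ)) := by
    rw [classInner_def, classInner_def]
    congr 1
    refine Finset.sum_congr rfl fun x _ => ?_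
    by_cases hx : (x : G) ∈ Cfsg.typeA M
    · rw [he x (P.typeA_M.le hx).1 fun e' => (P.typeA_M.le hx).2 (by simp [e'])]
      simp
    · rw [P.alpha_supp hζ hd hx, zero_mul, zero_mul]
  rw [h, classInner_smul_right, tenAlpha, classInner_sub_left, P.inner_ind_one_one]
  have h1 : Cfsg.classInner ζ (fun _ : M => (1 : ℂ)) = 0 := by
    obtain ⟨θ, h1, h2, -, rfl⟩ := hζ
    have := Fintype.ofFinite ↥((Cfsg.sigmaCore M).subgroupOf M)
    rw [classInner_indFun θ (fun _ _ => rfl)]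
    exact IsIrrCharacter.classInner_of_ne h1 isIrrCharacter_one h2
  rw [h1, sub_zero, mul_one]

/-- The adjoint is a class function supported on `A(M)`, and is the adjoint. -/
theorem rho_props {g : G → ℂ} (hg : Cfsg.IsClassFunction G g) :
    Cfsg.IsClassFunction M (rhoOn (Cfsg.typeA M) M (Cfsg.supportR M) g) ∧
      ∀ α : M → ℂ, Cfsg.IsClassFunction M α → (∀ x : M, (x : G) ∉ Cfsg.typeA M → α x = 0) →
        Cfsg.classInner α (rhoOn (Cfsg.typeA M) M (Cfsg.supportR M) g) = Cfsg.classInner (tenTau M α) g :=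
  ⟨rhoOn_isClassFunction P.dade_A hg, fun _ hα hαA => (classInner_dade_rhoOn P.dade_A hα hαA hg).symm⟩

/-- The support subgroup of a non-identity element of `C_{M_σ}(K)` is trivial. -/
theorem supportR_Ks {z : G} (hz : z ∈ Ks) (hz1 : z ≠ 1) : Cfsg.supportR M z = ⊥ :=
  CfsgLib.OddLocal.Kap.supportR_eq_bot P.hG (P.centralizer_le hz hz1)

theorem rho_Ks {g : G → ℂ} {z : M} (hz : (z : G) ∈ Ks) (hz1 : z ≠ 1) :
    rhoOn (Cfsg.typeA M) M (Cfsg.supportR M) g z = g z := by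
  rw [rhoOn_of_mem (P.mem_A (P.Ks_le hz) fun e => hz1 (Subtype.ext e)), rho,
    P.supportR_Ks hz fun e => hz1 (Subtype.ext e)]
  simp

/-- The value of a member of the family at a non-identity element of `C_{M_σ}(K)` is congruent to one. -/
theorem family_cong (hχ : Cfsg.IsCyclicTIFamily K Ks χ) (r : Row K Ks) {z : G} (hz : z ∈ Ks) (hz1 : z ≠ 1)
    {p : ℕ} (hp : p.Prime) (hpK : p ∣ Nat.card K) : Cong p (χ (cell r col₀) z) 1 := by
  classical
  have := Fact.mk hp
  obtain ⟨y, hy⟩ := exists_prime_orderOf_dvd_card' p hpK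
  set w : ↥(K ⊔ Ks) := ⟨(y : G), Subgroup.mem_sup_left y.2⟩
  set v : ↥(K ⊔ Ks) := ⟨z, Subgroup.mem_sup_right hz⟩
  have hyo : orderOf (y : G) = p := by rw [Subgroup.orderOf_coe, hy]
  have hy1 : (y : G) ≠ 1 := fun e => hp.ne_one (by rw [← hyo, e, orderOf_one])
  have hyKs : (y : G) ∉ Ks := fun hm => hy1 (by
    have h' : (y : G) ∈ K ⊓ Ks := ⟨y.2, hm⟩
    rwa [P.W_M.2.2.1, Subgroup.mem_bot] at h')
  have h1 : ((w * v : ↥(K ⊔ Ks)) : G) ∉ K := fun hm => hz1 (by
    have h' : z ∈ K ⊓ Ks := ⟨by simpa [w, v] using K.mul_mem (K.inv_mem y.2) hm, hz⟩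
    rwa [P.W_M.2.2.1, Subgroup.mem_bot] at h')
  have h2 : ((w * v : ↥(K ⊔ Ks)) : G) ∉ Ks := fun hm => hyKs (by
    simpa [w, v] using Ks.mul_mem hm (Ks.inv_mem hz))
  have hcomm : Commute (y : G) z := P.W_M.2.2.2.1 _ y.2 _ hz
  have e1 : Cong p (χ (cell r col₀) ((y : G) * z)) (χ (cell r col₀) z) :=
    cong_apply_mul (isGeneralized_family hχ _) hp hyo hcomm
  have e2 : χ (cell r col₀) ((y : G) * z) = ((r.1 w : ℂˣ) : ℂ) := by
    rw [show (y : G) * z = ((w * v : ↥(K ⊔ Ks)) : G) from rfl, hχ.eq_on _ _ h1 h2, cell_col₀, map_mul,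
      r.2 v hz, mul_one]
  have e3 : Cong p ((r.1 w : ℂˣ) : ℂ) ((r.1 1 : ℂˣ) : ℂ) :=
    cong_apply_one (IsIrrCharacter.isGeneralized (isIrrCharacter_ofHom r.1)) hp
      (show orderOf w = p by rw [← Subgroup.orderOf_coe]; exact hyo)
  rw [e2] at e1
  have e4 := Cong.trans hp e1.symm e3
  simpa using e4

variable [Fintype (Row K Ks)]

/-- Under coherence: the image of `1^M - ζ`, and the adjoints of its constituents on `M_σ#`. -/
theorem rho_images (hχ : Cfsg.IsCyclicTIFamily K Ks χ)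
    (h1 : Cfsg.IsLinearIsometryOn (Cfsg.zspan (tenS M)) τ₁)
    (h2 : ∀ α ∈ Cfsg.zspanOn (tenS M) ({1}ᶜ : Set M), τ₁ α = tenTau M α)
    (hζ : ζ ∈ tenS M) (hirr : Cfsg.IsIrrCharacter M ζ) (hd : ζ 1 = (Nat.card K : ℂ)) :
    tenTau M (tenAlpha M ζ) = (∑ r : Row K Ks, χ (cell r col₀)) - τ₁ ζ ∧
      (∀ x : M, (x : G) ∈ Cfsg.sigmaCore M → x ≠ 1 →
        rhoOn (Cfsg.typeA M) M (Cfsg.supportR M) (τ₁ ζ) x = ζ x) ∧
      ∀ (r : Row K Ks) (x : M), (x : G) ∈ Cfsg.sigmaCore M → x ≠ 1 →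
        rhoOn (Cfsg.typeA M) M (Cfsg.supportR M) (χ (cell r col₀)) x = 1 := by
  classical
  have := Fintype.ofFinite (Col K Ks)
  obtain ⟨μ, δ, hμ⟩ := P.primeDade_M.exists_isMuG
  have hαc := IsGeneralized.isClassFunction (P.alpha_gen hζ)
  have hαA : ∀ x : M, (x : G) ∉ Cfsg.typeA M → tenAlpha M ζ x = 0 := fun x hx => P.alpha_supp hζ hd hx
  have hτ : ∀ φ ∈ tenS M, ∀ a : ℕ, φ 1 = (a : ℂ) * ζ 1 →
      tenTau M (φ - (a : ℤ) • ζ) = τ₁ φ - (a : ℤ) • τ₁ ζ := fun φ hφ a ha => by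
    rw [← h2 _ (P.mem_zspanOn_diff hφ hζ ha), isometry_map_sub (M := Submodule.span ℤ (tenS M)) h1 (subset_zspan hφ)
      (Submodule.smul_mem _ _ (subset_zspan hζ)), h1.2.1 _ (subset_zspan hζ)]
  have hηc : ∀ ω, Cfsg.IsClassFunction G (χ ω) := fun ω => IsGeneralized.isClassFunction (isGeneralized_family hχ ω)
  -- the rows are constant on the kernel
  have hc : ∀ r : Row K Ks, ∀ x : M, (x : G) ∈ Cfsg.sigmaCore M → x ≠ 1 →
      rhoOn (Cfsg.typeA M) M (Cfsg.supportR M) (χ (cell r col₀)) x =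
        Cfsg.classInner (tenTau M (tenAlpha M ζ)) (χ (cell r col₀)) := by
    intro r
    obtain ⟨hcl, hadj⟩ := P.rho_props (hηc (cell r col₀))
    obtain ⟨e, he⟩ := P.const_of_orth hd hcl (fun x hx => rhoOn_of_not_mem hx) fun φ hφ a ha => by
      obtain ⟨hg, hA⟩ := P.zspanOn_props (P.mem_zspanOn_diff hφ hζ ha)
      rw [hadj _ (IsGeneralized.isClassFunction hg) hA, hτ φ hφ a ha, classInner_sub_left,
        ← Int.cast_smul_eq_zsmul ℂ, classInner_smul_left, P.tau1_row hχ hμ h1 h2 hφ r,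
        P.tau1_row hχ hμ h1 h2 hζ r, mul_zero, sub_zero]
    have h0 := P.inner_alpha_const hζ hd he
    rw [hadj _ hαc hαA] at h0
    obtain ⟨m, hm⟩ := IsGeneralized.exists_classInner_eq_int (P.tau_alpha_props hζ hirr hd).1
      (isGeneralized_family hχ (cell r col₀))
    have hem : e = (m : ℂ) := by
      have := congrArg conj (h0.symm.trans hm)
      simpa using this
    intro x hx hx1
    rw [he x hx hx1, hem, hm]
  -- so none of them vanishes
  have hne : ∀ r : Row K Ks, Cfsg.classInner (tenTau M (tenAlpha M ζ)) (χ (cell r col₀)) ≠ 0 := by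
    intro r h0
    obtain ⟨z, hz, hz1⟩ := (Subgroup.bot_or_exists_ne_one Ks).resolve_left P.Ks_ne
    set zM : M := ⟨z, P.le_M (Subgroup.mem_sup_right hz)⟩
    have hzM : zM ≠ 1 := fun e => hz1 (congrArg Subtype.val e)
    have h := hc r zM (P.Ks_le hz) hzM
    rw [P.rho_Ks (z := zM) hz hzM, h0] at h
    have hp := Nat.minFac_prime (Subgroup.one_lt_card_iff_ne_bot K |>.2 P.hK1).ne'
    have hcong := P.family_cong hχ r hz hz1 hp (Nat.minFac_dvd _)
    rw [show χ (cell r col₀) z = ((0 : ℤ) : ℂ) by rw [Int.cast_zero]; exact h,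
      show (1 : ℂ) = ((1 : ℤ) : ℂ) by simp] at hcong
    exact hp.not_dvd_one (by
      have := int_cong_iff hp hcong
      rw [zero_sub, dvd_neg] at this
      exact_mod_cast this)
  obtain ⟨X, hXs, hXη, himg, hXν⟩ := P.alpha_image hχ hζ hirr hd hne
  -- the signed character is the image of `ζ`
  have hζ' := tenS_conj hζ
  have hzz : ζ - Cfsg.conjFun ζ ∈ Cfsg.zspanOn (tenS M) ({1}ᶜ : Set M) := by
    refine mem_zspanOn_one.2 ⟨Submodule.sub_mem _ (subset_zspan hζ) (subset_zspan hζ'), ?_⟩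
    simp [Cfsg.conjFun, hd]
  rw [← h2 _ hzz, isometry_map_sub (M := Submodule.span ℤ (tenS M)) h1 (subset_zspan hζ) (subset_zspan hζ'),
    classInner_sub_right] at hXν
  obtain ⟨l, hl⟩ : ∃ l : Col K Ks, l ≠ col₀ := by
    have h3 : 3 ≤ Nat.card (Col K Ks) := by
      rw [(card_trivL P.W_M).1]
      exact three_le_card_of_odd P.W_M.2.1 (P.oddG Ks)
    rw [Nat.card_eq_fintype_card] at h3
    exact Fintype.exists_ne_of_one_lt_card (by omega) _
  set φ := ∑ r : Row K Ks, μ (cell r l) with hφdef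
  have hφS : φ ∈ tenS M := P.col_mem hμ hl
  have hφζ : φ ≠ ζ := Ne.symm (P.irr_ne_col hμ hζ hirr l)
  have hφζ' : φ ≠ Cfsg.conjFun ζ := Ne.symm (P.irr_ne_col hμ hζ' (IsIrrCharacter.conj hirr) l)
  have hXφ : Cfsg.classInner X (τ₁ φ) = 0 := by
    have horth : ∀ {ψ : M → ℂ}, ψ ∈ tenS M → ψ ≠ φ → Cfsg.classInner X (τ₁ ψ) ≠ 0 →
        Cfsg.IsIrrCharacter M ψ → Cfsg.classInner X (τ₁ φ) = 0 := fun {ψ} hψ hne' h0 hi => by
      obtain ⟨s, -, hs, hval⟩ := IsSignedIrr.eq_smul_of_classInner_ne hXs (P.tau1_irr hχ h1 h2 hψ hi).1 h0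
      have h := h1.2.2.1 _ (subset_zspan hψ) _ (subset_zspan hφS)
      rw [P.tenS_orth hψ hφS hne', hs, classInner_smul_left] at h
      exact (mul_eq_zero.1 h).resolve_left fun e => h0 (by rw [hval, e])
    by_cases h0 : Cfsg.classInner X (τ₁ ζ) = 0
    · exact horth hζ' (Ne.symm hφζ') (fun e => by rw [h0, e, sub_zero] at hXν; exact zero_ne_one hXν)
        (IsIrrCharacter.conj hirr)
    · exact horth hζ (Ne.symm hφζ) h0 hirr
  have hT : ∀ {ψ : M → ℂ}, ψ ∈ tenS M → Cfsg.classInner (∑ r : Row K Ks, χ (cell r col₀)) (τ₁ ψ) = 0 := fun {ψ} hψ => by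
    rw [classInner_sum_left]
    exact Finset.sum_eq_zero fun r _ => by rw [← classInner_conj, P.tau1_row hχ hμ h1 h2 hψ r, map_zero]
  have hX : X = τ₁ ζ := by
    obtain ⟨a, ha0, ha⟩ := P.tau1_degree hφS hd
    have hz := P.mem_zspanOn_diff hφS hζ ha
    obtain ⟨hg, hA⟩ := P.zspanOn_props hz
    have h := classInner_dadeIsometry_dadeIsometry P.dade_A hαc hαA (IsGeneralized.isClassFunction hg)
    change Cfsg.classInner (tenTau M (tenAlpha M ζ)) (tenTau M (φ - (a : ℤ) • ζ)) = _ at h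
    rw [hτ φ hφS a ha, himg, ← Int.cast_smul_eq_zsmul ℂ, ← Int.cast_smul_eq_zsmul ℂ, classInner_sub_left,
      classInner_sub_right, classInner_sub_right, classInner_smul_right, classInner_smul_right, hT hφS, hT hζ, hXφ,
      classInner_sub_right, classInner_smul_right, P.alpha_inner hφS, P.alpha_inner hζ,
      P.tenS_orth hζ hφS (Ne.symm hφζ), IsIrrCharacter.classInner_self hirr, map_intCast] at h
    have hXζ : Cfsg.classInner X (τ₁ ζ) = 1 := by
      refine mul_left_cancel₀ (show ((a : ℤ) : ℂ) ≠ 0 by exact_mod_cast ha0.ne') ?_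
      linear_combination h
    obtain ⟨s, -, hs, hval⟩ := IsSignedIrr.eq_smul_of_classInner_ne hXs (P.tau1_irr hχ h1 h2 hζ hirr).1
      (by rw [hXζ]; exact one_ne_zero)
    rw [hs, ← hval, hXζ, one_smul]
  subst hX
  have hrow : ∀ r : Row K Ks, Cfsg.classInner (tenTau M (tenAlpha M ζ)) (χ (cell r col₀)) = 1 := fun r => by
    rw [himg, classInner_sub_left, hXη, sub_zero, classInner_sum_left]
    rw [Finset.sum_congr rfl fun s _ => hχ.orthonormal _ _]
    exact (Finset.sum_eq_single r (fun s _ hs => if_neg fun e => hs (cell_injective e).1)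
      (fun h' => absurd (Finset.mem_univ r) h')).trans (if_pos rfl)
  refine ⟨himg, ?_, fun r x hx hx1 => by rw [hc r x hx hx1, hrow]⟩
  -- the image of `ζ`
  have hXc : Cfsg.IsClassFunction G (τ₁ ζ) := IsGeneralized.isClassFunction (h1.2.2.2 _ (subset_zspan hζ))
  obtain ⟨hcl, hadj⟩ := P.rho_props hXc
  set z' : M → ℂ := fun x => if (x : G) ∈ Cfsg.typeA M then ζ x else 0 with hz'
  have hz'c : Cfsg.IsClassFunction M z' := fun a b => by
    have hiff : ∀ b a : M, (a : G) ∈ Cfsg.typeA M → ((b * a * b⁻¹ : M) : G) ∈ Cfsg.typeA M :=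
      fun b a h => P.dade_A.conj_mem (b : G) b.2 _ h
    have hζc := IsIrrCharacter.isClassFunction hirr
    simp only [z']
    by_cases h : (a : G) ∈ Cfsg.typeA M
    · rw [if_pos h, if_pos (hiff b a h), hζc a b]
    · rw [if_neg h, if_neg fun h' => h (by have := hiff b⁻¹ _ h'; simpa [mul_assoc] using this)]
  have hz'i : ∀ α : M → ℂ, (∀ x : M, (x : G) ∉ Cfsg.typeA M → α x = 0) →
      Cfsg.classInner α z' = Cfsg.classInner α ζ := fun α hα => by
    rw [classInner_def, classInner_def]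
    congr 1
    refine Finset.sum_congr rfl fun x _ => ?_
    by_cases h : (x : G) ∈ Cfsg.typeA M
    · simp [z', h]
    · rw [hα x h, zero_mul, zero_mul]
  set f := rhoOn (Cfsg.typeA M) M (Cfsg.supportR M) (τ₁ ζ) - z' with hf
  obtain ⟨e, he⟩ := P.const_of_orth hd (f := f) (fun a b => by rw [hf, Pi.sub_apply, Pi.sub_apply, hcl a b, hz'c a b])
    (fun x hx => by rw [hf, Pi.sub_apply, rhoOn_of_not_mem hx]; simp [z', hx]) fun φ hφ a ha => by
      obtain ⟨hg, hA⟩ := P.zspanOn_props (P.mem_zspanOn_diff hφ hζ ha)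
      rw [hf, classInner_sub_right, hadj _ (IsGeneralized.isClassFunction hg) hA, hτ φ hφ a ha, hz'i _ hA,
        ← Int.cast_smul_eq_zsmul ℂ, ← Int.cast_smul_eq_zsmul ℂ, classInner_sub_left, classInner_sub_left,
        classInner_smul_left, classInner_smul_left, h1.2.2.1 _ (subset_zspan hφ) _ (subset_zspan hζ),
        h1.2.2.1 _ (subset_zspan hζ) _ (subset_zspan hζ), sub_self]
  have he0 : e = 0 := by
    have h := P.inner_alpha_const hζ hd he
    rw [hf, classInner_sub_right, hadj _ hαc hαA, hz'i _ hαA, P.alpha_inner hζ,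
      IsIrrCharacter.classInner_self hirr, himg, classInner_sub_left, hT hζ,
      h1.2.2.1 _ (subset_zspan hζ) _ (subset_zspan hζ), IsIrrCharacter.classInner_self hirr] at h
    simpa using congrArg conj h.symm
  intro x hx hx1
  have h := he x hx hx1
  rw [he0, hf, Pi.sub_apply, sub_eq_zero] at h
  rw [h]
  exact if_pos (P.mem_A hx fun e => hx1 (Subtype.ext e))

end TenPair

end CfsgLib.OddEnd
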