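import Cfsg.Agent.OddEnd.TenArray
import Cfsg.Agent.OddEnd.TenGroup
import Cfsg.Agent.Char.Inflation

/-!
# Twin characters of the partner are absurd (Peterfalvi 10.7)
-/

set_option autoImplicit false
set_option linter.unusedSectionVars false
set_option linter.style.haveILetI false

namespace CfsgLib.OddEnd

open CfsgLib.Char
open scoped ComplexConjugate commutatorElement

universe u

variable {G : Type u} [Group G] [Fintype G]

namespace TenPair

variable {M N K Ks V : Subgroup G} (P : TenPair M N K Ks V) [Fintype M] [Fintype N]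
include P

/-- The Dade images on the supports of `N` and of `M` are orthogonal. -/
theorem dade_disjoint {f : N → ℂ} (hfc : Cfsg.IsClassFunction N f)
    (hf : ∀ x : N, (x : G) ∉ Cfsg.typeA N → f x = 0) (g : M → ℂ) :
    Cfsg.classInner (Cfsg.dadeIsometry (Cfsg.typeA0 N) N (Cfsg.supportR N) f) (tenTau M g) = 0 := by
  rw [classInner_def, Finset.sum_eq_zero, mul_zero]
  intro x _
  by_cases h1 : Cfsg.dadeIsometry (Cfsg.typeA0 N) N (Cfsg.supportR N) f x = 0
  · rw [h1, zero_mul]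
  · obtain ⟨a, ha, u, hu, y, hy⟩ := not_not.1 fun hg => h1 (dadeIsometry_eq_zero P.dade_N hg)
    rw [dadeIsometry_apply P.dade_N hfc (a := ⟨a, P.dade_N.subset ha⟩) ha hu hy] at h1
    have haA : a ∈ Cfsg.typeA N := by_contra fun hn => h1 (hf _ hn)
    rw [P.supportR_N ha, Subgroup.mem_bot] at hu
    have h2 : tenTau M g x = 0 := dadeIsometry_eq_zero P.dade_A
      (P.not_support (x := y) (by rw [hy, hu, mul_one]; exact (P.typeA_N.le haA).1))
    rw [h2, map_zero, mul_zero]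

/-- A character of `N'` nontrivial on `N_σ` vanishes off `A(N)`. -/
theorem vanish_off {θ : ↥((⁅N, N⁆ : Subgroup G).subgroupOf N) → ℂ}
    (hθ : Cfsg.IsIrrCharacter ↥((⁅N, N⁆ : Subgroup G).subgroupOf N) θ)
    (hker : ∃ a : ↥((⁅N, N⁆ : Subgroup G).subgroupOf N), ((a : N) : G) ∈ Cfsg.sigmaCore N ∧ θ a ≠ θ 1)
    (g : ↥((⁅N, N⁆ : Subgroup G).subgroupOf N)) (hg1 : ((g : N) : G) ≠ 1)
    (hg : ((g : N) : G) ∉ Cfsg.typeA N) : θ g = 0 := by
  set H := ((Cfsg.sigmaCore N).subgroupOf N).subgroupOf ((⁅N, N⁆ : Subgroup G).subgroupOf N)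
  haveI : H.Normal := ⟨fun k hk x => (Subgroup.mem_normalizer_iff.1
    (CfsgLib.OddLocal.TH.le_normalizer_core N (x : N).2) _).1 hk⟩
  obtain ⟨a, ha, hne⟩ := hker
  refine IsIrrCharacter.apply_eq_zero_of_not_centralized H hθ ⟨a, ha, hne⟩ fun h hh hcomm => ?_
  by_contra h1
  refine hg (P.typeA_N.ge ⟨g.2, hg1, ((h : N) : G), hh, fun e => h1 (Subtype.ext (Subtype.ext e)), ?_⟩)
  exact (congrArg (fun z : ((⁅N, N⁆ : Subgroup G).subgroupOf N) => ((z : N) : G)) hcomm).symm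

variable {χ : (↥(K ⊔ Ks) →* ℂˣ) → G → ℂ} [Fintype (Row K Ks)]

/-- A fixed and a non-fixed character of `N'` of one degree, nontrivial on `N_σ`, are absurd. -/
theorem twins_absurd (hχ : Cfsg.IsCyclicTIFamily K Ks χ) {ζ : M → ℂ} (hζ : ζ ∈ tenS M)
    (hirr : Cfsg.IsIrrCharacter M ζ)
    {X : G → ℂ} (hXs : Cfsg.IsIrrCharacter G X ∨ Cfsg.IsIrrCharacter G (-X))
    (himg : tenTau M (tenAlpha M ζ) = (∑ r : Row K Ks, χ (cell r col₀)) - X)
    (hXν : Cfsg.classInner X (tenTau M (ζ - Cfsg.conjFun ζ)) = 1)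
    {θ θ' : ↥((⁅N, N⁆ : Subgroup G).subgroupOf N) → ℂ}
    (hθ : Cfsg.IsIrrCharacter ↥((⁅N, N⁆ : Subgroup G).subgroupOf N) θ)
    (hθ' : Cfsg.IsIrrCharacter ↥((⁅N, N⁆ : Subgroup G).subgroupOf N) θ')
    (hdeg : θ 1 = θ' 1)
    (hker : ∃ a : ↥((⁅N, N⁆ : Subgroup G).subgroupOf N), ((a : N) : G) ∈ Cfsg.sigmaCore N ∧ θ a ≠ θ 1)
    (hker' : ∃ a : ↥((⁅N, N⁆ : Subgroup G).subgroupOf N), ((a : N) : G) ∈ Cfsg.sigmaCore N ∧ θ' a ≠ θ' 1)
    [hnor : ((⁅N, N⁆ : Subgroup G).subgroupOf N).Normal]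
    (hfix : ∀ x ∈ Ks.subgroupOf N, conjOn x θ = θ)
    (hnfix : ∃ x ∈ Ks.subgroupOf N, conjOn x θ' ≠ θ') : False := by
  classical
  have := Fintype.ofFinite (Row Ks K)
  have := Fintype.ofFinite (Col Ks K)
  have := Fintype.ofFinite ↥((⁅N, N⁆ : Subgroup G).subgroupOf N)
  obtain ⟨μ, δ, hμ⟩ := P.primeDade_N.exists_isMuG
  have hχ' := family_swap hχ
  set χ' : (↥(Ks ⊔ K) →* ℂˣ) → G → ℂ := fun ω => χ (ω.comp (swapHom K Ks)) with hχ'def
  obtain ⟨hind, -, hcol⟩ := P.primeDade_N.action.invariant_chars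
  -- the two induced characters
  set ψ := Cfsg.indFun ((⁅N, N⁆ : Subgroup G).subgroupOf N) θ' with hψdef
  have hψ : Cfsg.IsIrrCharacter N ψ := hind θ' hθ' hnfix
  have hψ' : Cfsg.IsIrrCharacter N (Cfsg.conjFun ψ) := IsIrrCharacter.conj hψ
  have hpR : Nat.card (Row Ks K) = Nat.card Ks := (card_trivL P.W_N).2
  have hp3 : 3 ≤ Nat.card Ks := three_le_card_of_odd P.Ks_ne (P.oddG Ks)
  obtain ⟨i, hφ, hres⟩ : ∃ i : Col Ks K, Cfsg.indFun ((⁅N, N⁆ : Subgroup G).subgroupOf N) θ = ∑ r : Row Ks K, μ (cell r i) ∧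
      ∀ (r : Row Ks K) (k : ((⁅N, N⁆ : Subgroup G).subgroupOf N)), μ (cell r i) k = θ k := by
    refine (P.primeDade_N.ind_cases hμ hθ).resolve_left fun h => ?_
    obtain ⟨C, hC, hCirr, hCsum⟩ := hcol θ hθ hfix
    have h1 := IsIrrCharacter.classInner_self h
    rw [hCsum, classInner_sum_left, Finset.sum_congr rfl fun a ha => by
      rw [classInner_sum_right, Finset.sum_eq_single a (fun b hb hba =>
        IsIrrCharacter.classInner_of_ne (hCirr a ha) (hCirr b hb) (Ne.symm hba)) (fun h' => absurd ha h'),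
        IsIrrCharacter.classInner_self (hCirr a ha)],
      Finset.sum_const, nsmul_one, hC, ← Nat.card_congr (Subgroup.subgroupOfEquivOfLe P.hNV.hall.1).symm.toEquiv] at h1
    have : Nat.card Ks = 1 := by exact_mod_cast h1
    omega
  have hi : i ≠ col₀ := by
    intro e
    obtain ⟨a, -, ha⟩ := hker
    refine ha ?_
    rw [← hres row₀ a, ← hres row₀ 1, e]
    have h1 : μ (cell (row₀ : Row Ks K) col₀) = fun _ => (1 : ℂ) := by
      rw [show cell (row₀ : Row Ks K) col₀ = (1 : ↥(Ks ⊔ K) →* ℂˣ) by rw [cell_row₀]; rfl, hμ.one.1]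
    rw [h1]
  set φ := ∑ r : Row Ks K, μ (cell r i) with hφdef
  set β := ψ - φ with hβ
  -- supports
  have hA0 : Cfsg.typeA N ⊆ Cfsg.typeA0 N := Set.subset_union_left
  have hAconj : ∀ (x : N) (a : G), a ∈ Cfsg.typeA N → (x : G) * a * (x : G)⁻¹ ∈ Cfsg.typeA N := by
    intro x a ha
    obtain ⟨h1, h2, h, hh, hh1, hcomm⟩ := P.typeA_N.le ha
    refine P.typeA_N.ge ⟨(Subgroup.mem_normalizer_iff.1 (CfsgLib.OddLocal.Kap.le_normalizer_derived N x.2) a).1 h1,
      fun e => h2 (conj_eq_one_iff.1 e), (x : G) * h * (x : G)⁻¹,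
      (Subgroup.mem_normalizer_iff.1 (CfsgLib.OddLocal.TH.le_normalizer_core N x.2) h).1 hh,
      fun e => hh1 (conj_eq_one_iff.1 e), ?_⟩
    exact ((show Commute a h from hcomm).map (MulAut.conj (x : G)).toMonoidHom).eq
  have hvan : ∀ (η : ((⁅N, N⁆ : Subgroup G).subgroupOf N) → ℂ), Cfsg.IsIrrCharacter ((⁅N, N⁆ : Subgroup G).subgroupOf N) η →
      (∃ a : ((⁅N, N⁆ : Subgroup G).subgroupOf N), ((a : N) : G) ∈ Cfsg.sigmaCore N ∧ η a ≠ η 1) →
      ∀ x : N, x ≠ 1 → (x : G) ∉ Cfsg.typeA N → Cfsg.indFun ((⁅N, N⁆ : Subgroup G).subgroupOf N) η x = 0 := by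
    intro η hη hk x hx1 hxA
    rw [indFun_def, Finset.sum_eq_zero, mul_zero]
    intro y _
    by_cases hy : y⁻¹ * x * y ∈ ((⁅N, N⁆ : Subgroup G).subgroupOf N)
    · rw [extendByZero_of_mem _ hy]
      refine P.vanish_off hη hk ⟨_, hy⟩ (fun e => hx1 ?_) fun hA => hxA ?_
      · have : y⁻¹ * x * y = 1 := Subtype.ext e
        calc x = y * (y⁻¹ * x * y) * y⁻¹ := by group
          _ = 1 := by rw [this]; group
      · have := hAconj y _ hA
        simpa [mul_assoc] using this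
    · exact extendByZero_of_not_mem _ hy
  have hψoff : ∀ x : N, (x : G) ∉ ⁅N, N⁆ → ψ x = 0 := fun x hx => indFun_eq_zero_of_normal _ hx
  have hφoff : ∀ x : N, (x : G) ∉ ⁅N, N⁆ → φ x = 0 := fun x hx => by
    rw [← hφ]; exact indFun_eq_zero_of_normal _ hx
  have hφg : Cfsg.IsGeneralizedCharacter N φ :=
    isGeneralized_sum _ fun r _ => IsIrrCharacter.isGeneralized (hμ.irr _)
  have hβg : Cfsg.IsGeneralizedCharacter N β := IsGeneralized.sub (IsIrrCharacter.isGeneralized hψ) hφg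
  have hβc := IsGeneralized.isClassFunction hβg
  have hβA : ∀ x : N, (x : G) ∉ Cfsg.typeA N → β x = 0 := fun x hx => by
    rw [hβ, Pi.sub_apply]
    by_cases hx1 : x = 1
    · rw [hx1, hψdef, ← hφ, indFun_one, indFun_one, hdeg, sub_self]
    · rw [hψdef, ← hφ, hvan θ' hθ' hker' x hx1 hx, hvan θ hθ hker x hx1 hx, sub_self]
  have hβ0 : ∀ x : N, (x : G) ∉ Cfsg.typeA0 N → β x = 0 := fun x hx => hβA x fun h => hx (hA0 h)
  set τ := Cfsg.dadeIsometry (Cfsg.typeA0 N) N (Cfsg.supportR N) with hτ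
  set Θ := τ β with hΘ
  have hΘg : Cfsg.IsGeneralizedCharacter G Θ := isGeneralized_dadeIsometry P.dade_N hβg hβ0
  have hmix : ∀ {f : N → ℂ}, Cfsg.IsClassFunction N f → (∀ x : N, (x : G) ∉ ⁅N, N⁆ → f x = 0) →
      ∀ w : ↥(Ks ⊔ K), (w : G) ∉ Ks → (w : G) ∉ K → τ f w = 0 := fun {f} hfc hf w h1 h2 => by
    rw [hτ, P.primeDade_N.dade_mixed hfc h1 h2]
    exact hf _ fun hw => h2 (mem_right_of_mem_kernel P.primeDade_N.action
      (w := (⟨(w : G), P.le_N w.2⟩ : N)) ((P.primeDade_N.mem_sup_iff _).2 w.2) hw)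
  obtain ⟨n, t, u, hn, ht, hu, hadd⟩ := grid_additive hχ' hΘg
    (hmix hβc fun x hx => by rw [hβ, Pi.sub_apply, hψoff x hx, hφoff x hx, sub_self])
  -- members off the columns
  have hne : ∀ {η : N → ℂ}, (∀ x : N, (x : G) ∉ ⁅N, N⁆ → η x = 0) → ∀ ω, η ≠ μ ω := fun {η} hoff ω e => by
    obtain ⟨c, hc, hc1⟩ := (Subgroup.bot_or_exists_ne_one Ks).resolve_left P.Ks_ne
    have hcD : c ∉ ⁅N, N⁆ := fun hm => hc1 (by
      have h' : c ∈ ⁅N, N⁆ ⊓ Ks := ⟨hm, hc⟩
      rw [(CfsgLib.OddLocal.Kap.derived_compl P.hG P.hN P.hNV P.Ks_ne).2.2.1, Subgroup.mem_bot] at h'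
      exact h')
    have h0 := hμ.value ω ⟨c, P.le_N (Subgroup.mem_sup_left hc)⟩ (Subgroup.mem_sup_left hc)
      fun hm => hcD (P.primeDade_N.right_le hm)
    rw [← e, hoff _ hcD] at h0
    exact mul_ne_zero (by rcases hμ.sign ω with e | e <;> rw [e] <;> norm_num) (Units.ne_zero _) h0.symm
  have hψ'off : ∀ x : N, (x : G) ∉ ⁅N, N⁆ → Cfsg.conjFun ψ x = 0 := fun x hx => by
    simp [Cfsg.conjFun, hψoff x hx]
  have hμψ : ∀ ω, Cfsg.classInner (μ ω) ψ = 0 := fun ω =>
    IsIrrCharacter.classInner_of_ne (hμ.irr ω) hψ fun e => hne hψoff ω e.symm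
  have hμψ' : ∀ ω, Cfsg.classInner (μ ω) (Cfsg.conjFun ψ) = 0 := fun ω =>
    IsIrrCharacter.classInner_of_ne (hμ.irr ω) hψ' fun e => hne hψ'off ω e.symm
  have hφψ : Cfsg.classInner φ ψ = 0 := by
    rw [hφdef, classInner_sum_left]; exact Finset.sum_eq_zero fun r _ => hμψ _
  have hφψ' : Cfsg.classInner φ (Cfsg.conjFun ψ) = 0 := by
    rw [hφdef, classInner_sum_left]; exact Finset.sum_eq_zero fun r _ => hμψ' _
  have hφμ : ∀ (r : Row Ks K) (l : Col Ks K), Cfsg.classInner φ (μ (cell r l)) = if i = l then 1 else 0 := by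
    intro r l
    rw [hφdef, classInner_sum_left]
    by_cases e : i = l
    · subst e
      rw [if_pos rfl, Finset.sum_eq_single r (fun s _ hs => IsIrrCharacter.classInner_of_ne (hμ.irr _) (hμ.irr _)
        fun e => hs (cell_injective (hμ.inj e)).1) (fun h' => absurd (Finset.mem_univ r) h'),
        IsIrrCharacter.classInner_self (hμ.irr _)]
    · rw [if_neg e]
      exact Finset.sum_eq_zero fun s _ => IsIrrCharacter.classInner_of_ne (hμ.irr _) (hμ.irr _)
        fun e' => e (cell_injective (hμ.inj e')).2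
  have hφφ : Cfsg.classInner φ φ = (Nat.card Ks : ℂ) := by
    conv_lhs => arg 2; rw [hφdef]
    rw [classInner_sum_right, Finset.sum_congr rfl fun r _ => by rw [hφμ r i, if_pos rfl], Finset.sum_const,
      Finset.card_univ, nsmul_one, ← Nat.card_eq_fintype_card, hpR]
  have hone : Cfsg.classInner β (fun _ => 1) = 0 := by
    rw [hβ, classInner_sub_left, hφdef, classInner_sum_left,
      IsIrrCharacter.classInner_of_ne hψ isIrrCharacter_one (fun e => hne hψoff 1 (e.trans hμ.one.1.symm)),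
      Finset.sum_eq_zero fun r _ => IsIrrCharacter.classInner_of_ne (hμ.irr _) isIrrCharacter_one fun e => ?_,
      sub_zero]
    rw [← hμ.one.1] at e
    have e2 := hμ.inj e
    rw [show (1 : ↥(Ks ⊔ K) →* ℂˣ) = cell row₀ col₀ from (hom_one_mul' _).symm] at e2
    exact hi (cell_injective e2).2
  have hn0 : n = 0 := by
    rw [hχ'.map_one, hΘ, hτ, classInner_dadeIsometry P.dade_N hβc hβ0 (fun _ _ => rfl) (ψ := fun _ => 1) (fun a _ => ?_),
      hone] at hn
    · exact_mod_cast hn.symm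
    · rw [finsum_mem_eq_finite_toFinset_sum _ (Set.toFinite _), Finset.sum_const, nsmul_eq_mul, mul_one,
        ← Set.ncard_eq_toFinset_card, ← Nat.card_coe_set_eq]
      exact (inv_mul_cancel₀ (by exact_mod_cast (Nat.card_pos (α := ↥(Cfsg.supportR N (a : G)))).ne')).symm
  subst hn0
  have hΘΘ : Cfsg.classInner Θ Θ = (((Nat.card Ks : ℤ) + 1 : ℤ) : ℂ) := by
    rw [hΘ, hτ, classInner_dadeIsometry_dadeIsometry P.dade_N hβc hβ0 hβc, hβ, classInner_sub_left,
      classInner_sub_right, classInner_sub_right, IsIrrCharacter.classInner_self hψ, hφψ, hφφ,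
      ← classInner_conj φ ψ, hφψ, map_zero]
    push_cast
    ring
  -- two conjugate columns give two different rows
  set k : Col Ks K := ⟨i.1⁻¹, fun w hw => by rw [MonoidHom.inv_apply, i.2 w hw, inv_one]⟩ with hk
  have hik : i ≠ k := fun e => hi (Subtype.ext (MonoidHom.ext fun w => by
    have h1 : (i.1 w) ^ 2 = 1 := by
      rw [pow_two]
      nth_rewrite 1 [show i.1 w = (i.1 w)⁻¹ from DFunLike.congr_fun (congrArg Subtype.val e) w]
      exact inv_mul_cancel _
    have h2 : (i.1 w) ^ Nat.card ↥(Ks ⊔ K) = 1 := by rw [← map_pow, pow_card_eq_one', map_one]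
    obtain ⟨m, hm⟩ := P.oddG (Ks ⊔ K)
    rw [hm, pow_succ, pow_mul, h1, one_pow, one_mul] at h2
    exact h2))
  have hk0 : k ≠ col₀ := fun e => hi (Subtype.ext (MonoidHom.ext fun w => by
    exact inv_eq_one.1 (DFunLike.congr_fun (congrArg Subtype.val e) w)))
  have hmapk : μ (cell row₀ k) = (fun x => conj (μ (cell row₀ i) x)) ∧ δ (cell row₀ k) = δ (cell row₀ i) := by
    have h := hμ.map conjAut (cell row₀ i)
    rw [mapHom_conjAut, show (cell row₀ i)⁻¹ = cell row₀ k by rw [cell_row₀, cell_row₀]] at h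
    exact h
  obtain ⟨hsup, hpair⟩ := P.primeDade_N.pair hχ' hμ hik hi hk0 hmapk.2.symm fun x hxD hxA => by
    rw [hmapk.1]
    show μ (cell row₀ i) x = conj (μ (cell row₀ i) x)
    rw [show μ (cell row₀ i) x = θ ⟨x, hxD⟩ from hres row₀ ⟨x, hxD⟩]
    by_cases hx1 : (x : G) = 1
    · obtain ⟨d, -, hd⟩ := IsIrrCharacter.exists_degree hθ
      rw [show (⟨x, hxD⟩ : ((⁅N, N⁆ : Subgroup G).subgroupOf N)) = 1 from Subtype.ext (Subtype.ext hx1), hd, map_natCast]
    · rw [P.vanish_off hθ hker ⟨x, hxD⟩ hx1 fun h => hxA (hA0 h), map_zero]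
  have htu : u i ≠ u k := by
    have h1 : Cfsg.classInner Θ (τ (μ (cell row₀ i) - μ (cell row₀ k))) = -1 := by
      rw [hΘ, hτ, classInner_dadeIsometry_dadeIsometry P.dade_N hβc hβ0
        (IsGeneralized.isClassFunction (IsGeneralized.sub (IsIrrCharacter.isGeneralized (hμ.irr _))
          (IsIrrCharacter.isGeneralized (hμ.irr _)))), hβ, classInner_sub_left, classInner_sub_right,
        classInner_sub_right, ← classInner_conj (μ (cell row₀ i)) ψ, ← classInner_conj (μ (cell row₀ k)) ψ,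
        hμψ, hμψ, hφμ, hφμ, if_pos rfl, if_neg hik, map_zero]
      ring
    rw [hτ, hpair, classInner_smul_right, classInner_sub_right, hadd, hadd] at h1
    intro e
    rw [e] at h1
    simp at h1
  -- the pair of images of `ψ`
  have hψsupp : ∀ x : N, x ≠ 1 → (x : G) ∉ Cfsg.typeA0 N → ψ x = 0 := fun x hx1 hxA =>
    hvan θ' hθ' hker' x hx1 fun h => hxA (hA0 h)
  obtain ⟨ξ, hξ, heξ⟩ := dade_exists_conj_pair P.dade_N hψ hψsupp
  change τ (ψ - Cfsg.conjFun ψ) = ξ - Cfsg.conjFun ξ at heξ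
  have hξ' : Cfsg.IsIrrCharacter G (Cfsg.conjFun ξ) := IsIrrCharacter.conj hξ
  have hpc : Cfsg.IsClassFunction N (ψ - Cfsg.conjFun ψ) := IsGeneralized.isClassFunction
    (IsGeneralized.sub (IsIrrCharacter.isGeneralized hψ) (IsIrrCharacter.isGeneralized hψ'))
  have hpA : ∀ x : N, (x : G) ∉ Cfsg.typeA N → (ψ - Cfsg.conjFun ψ) x = 0 := fun x hx => by
    rw [Pi.sub_apply]
    by_cases hx1 : x = 1
    · obtain ⟨d, -, hd⟩ := IsIrrCharacter.exists_degree hψ
      simp [hx1, Cfsg.conjFun, hd]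
    · simp [Cfsg.conjFun, show ψ x = 0 from hvan θ' hθ' hker' x hx1 hx]
  have hψne : Cfsg.classInner ψ (Cfsg.conjFun ψ) = 0 := by
    have h : Cfsg.classInner (Cfsg.conjFun ψ) ψ = 0 := classInner_conj_indFun_eq_zero (P.oddG N) hθ' (fun e => by
      obtain ⟨a, -, ha⟩ := hker'
      exact ha (by rw [e]))
    rw [← classInner_conj (Cfsg.conjFun ψ) ψ, h, map_zero]
  have hβψ : Cfsg.classInner Θ (ξ - Cfsg.conjFun ξ) = 1 := by
    rw [← heξ, hΘ, hτ, classInner_dadeIsometry_dadeIsometry P.dade_N hβc hβ0 hpc, hβ, classInner_sub_left,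
      classInner_sub_right, classInner_sub_right, IsIrrCharacter.classInner_self hψ, hψne, hφψ, hφψ']
    ring
  have hξne : Cfsg.conjFun ξ ≠ ξ := fun e => by
    rw [e, sub_self, classInner_zero_right] at hβψ
    exact zero_ne_one hβψ
  have hξorth := orth_family_of_pair P.W_N (P.oddG _) hχ' hξ hξne fun w h1 h2 => by
    rw [← heξ]
    exact hmix hpc (fun x hx => by rw [Pi.sub_apply, hψoff x hx, hψ'off x hx, sub_self]) w h1 h2
  -- the side of `M`
  obtain ⟨ν, hν, hνne, he, hνorth⟩ := P.tau_irr hχ hζ hirr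
  have hν' : Cfsg.IsIrrCharacter G (Cfsg.conjFun ν) := IsIrrCharacter.conj hν
  have hξν : Cfsg.classInner (ξ - Cfsg.conjFun ξ) (ν - Cfsg.conjFun ν) = 0 := by
    rw [← heξ, ← he]; exact P.dade_disjoint hpc hpA _
  obtain ⟨o1, o2, o3, o4⟩ := conj_pairs_orth hξ hξne hν hνne hξν
  have hΘν : Cfsg.classInner Θ ν = Cfsg.classInner Θ (Cfsg.conjFun ν) := by
    rw [← sub_eq_zero, ← classInner_sub_right, ← he]
    exact P.dade_disjoint hβc hβA _
  obtain ⟨s, hs⟩ := IsGeneralized.exists_classInner_eq_int hΘg (IsIrrCharacter.isGeneralized hν)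
  have hs' : Cfsg.classInner Θ (Cfsg.conjFun ν) = (s : ℂ) := hΘν ▸ hs
  have hΘX : Cfsg.classInner Θ X = (s : ℂ) ∨ Cfsg.classInner Θ X = ((-s : ℤ) : ℂ) := by
    rw [he, classInner_sub_right] at hXν
    have key : ∀ η : G → ℂ, Cfsg.IsIrrCharacter G η → Cfsg.classInner Θ η = (s : ℂ) →
        Cfsg.classInner X η ≠ 0 → Cfsg.classInner Θ X = (s : ℂ) ∨ Cfsg.classInner Θ X = ((-s : ℤ) : ℂ) := by
      intro η hη hΘη hne0
      obtain ⟨c, hc, hcη, -⟩ := IsSignedIrr.eq_smul_of_classInner_ne hXs (Or.inl hη) hne0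
      rw [hcη, classInner_smul_right] at hΘη
      rcases hc with rfl | rfl
      · left; simpa using hΘη
      · right; rw [Int.cast_neg, ← hΘη]; simp
    by_cases h0 : Cfsg.classInner X ν = 0
    · exact key _ hν' hs' fun e => by rw [h0, e, sub_zero] at hXν; exact zero_ne_one hXν
    · exact key _ hν hs h0
  have hT : Cfsg.classInner Θ (∑ r : Row K Ks, χ (cell r col₀)) = ((∑ l : Col Ks K, u l : ℤ) : ℂ) := by
    rw [classInner_sum_right]
    push_cast
    refine Fintype.sum_bijective (fun r : Row K Ks => (⟨r.1.comp (swapHom Ks K), fun w hw =>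
      r.2 _ (by simpa [swapHom_coe] using hw)⟩ : Col Ks K)) ?_ _ _ fun r => ?_
    · refine ⟨fun a b e => ?_, fun l => ⟨⟨l.1.comp (swapHom K Ks), fun w hw =>
        l.2 _ (by simpa [swapHom_coe] using hw)⟩, ?_⟩⟩
      · refine Subtype.ext (MonoidHom.ext fun w => ?_)
        exact DFunLike.congr_fun (congrArg Subtype.val e) (swapHom K Ks w)
      · exact Subtype.ext (MonoidHom.ext fun w => rfl)
    · set l : Col Ks K := ⟨r.1.comp (swapHom Ks K), _⟩
      have h := hadd row₀ l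
      rw [ht, zero_add] at h
      refine Eq.trans ?_ h
      congr 1
      show χ (cell r col₀) = χ ((cell row₀ l).comp (swapHom K Ks))
      rw [cell_col₀, cell_row₀]
      congr 1
  have hsum : ∑ l : Col Ks K, u l = s ∨ ∑ l : Col Ks K, u l = -s := by
    have h0 : Cfsg.classInner Θ (tenTau M (tenAlpha M ζ)) = 0 := P.dade_disjoint hβc hβA _
    rw [himg, classInner_sub_right, sub_eq_zero, hT] at h0
    rcases hΘX with h | h <;> rw [h] at h0
    · left; exact_mod_cast h0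
    · right; exact_mod_cast h0
  -- Bessel
  obtain ⟨m₁, hm₁⟩ := IsGeneralized.exists_classInner_eq_int hΘg (IsIrrCharacter.isGeneralized hξ)
  obtain ⟨m₂, hm₂⟩ := IsGeneralized.exists_classInner_eq_int hΘg (IsIrrCharacter.isGeneralized hξ')
  have hm : m₁ - m₂ = 1 := by
    rw [classInner_sub_right, hm₁, hm₂] at hβψ
    exact_mod_cast hβψ
  have hνχ : ∀ ω, Cfsg.classInner ν (χ' ω) = 0 ∧ Cfsg.classInner (Cfsg.conjFun ν) (χ' ω) = 0 :=
    fun ω => hνorth _
  have hd1 : ξ ≠ Cfsg.conjFun ξ := Ne.symm hξne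
  have hd2 : ν ≠ Cfsg.conjFun ν := Ne.symm hνne
  have hz : ∀ {a b : G → ℂ}, Cfsg.IsIrrCharacter G a → Cfsg.classInner a b = 0 → a ≠ b := fun {a b} ha h0 e => by
    subst e; rw [IsIrrCharacter.classInner_self ha] at h0; exact one_ne_zero h0
  have e13 := hz hξ o1
  have e14 := hz hξ o2
  have e23 := hz hξ' o3
  have e24 := hz hξ' o4
  let m : (G → ℂ) → ℤ := fun α => if α = ξ then m₁ else if α = Cfsg.conjFun ξ then m₂ else s
  have hb := grid_bessel hχ' (fun r l => t r + u l) hadd {ξ, Cfsg.conjFun ξ, ν, Cfsg.conjFun ν}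
    (fun α hα β hβ hne' => by
      simp only [Finset.mem_insert, Finset.mem_singleton] at hα hβ
      have hi : ∀ a, a = ξ ∨ a = Cfsg.conjFun ξ ∨ a = ν ∨ a = Cfsg.conjFun ν → Cfsg.IsIrrCharacter G a := by
        rintro a (rfl | rfl | rfl | rfl) <;> assumption
      exact IsIrrCharacter.classInner_of_ne (hi α hα) (hi β hβ) hne')
    (fun α hα => by
      simp only [Finset.mem_insert, Finset.mem_singleton] at hα
      rcases hα with rfl | rfl | rfl | rfl <;> exact IsIrrCharacter.classInner_self (by assumption))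
    (fun α hα ω => by
      simp only [Finset.mem_insert, Finset.mem_singleton] at hα
      rcases hα with rfl | rfl | rfl | rfl
      · exact (hξorth ω).1
      · exact (hξorth ω).2
      · exact (hνχ ω).1
      · exact (hνχ ω).2)
    m (fun α hα => by
      simp only [Finset.mem_insert, Finset.mem_singleton] at hα
      rcases hα with rfl | rfl | rfl | rfl
      · simpa [m] using hm₁
      · simpa [m, hξne] using hm₂
      · simpa [m, e13.symm, e23.symm] using hs
      · simpa [m, e14.symm, e24.symm] using hs')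
  rw [hΘΘ, Complex.intCast_re, Finset.sum_insert (by simp [hd1, e13, e14]), Finset.sum_insert (by simp [e23, e24]),
    Finset.sum_pair hd2] at hb
  simp only [m, if_true, if_neg hξne, if_neg e13.symm, if_neg e23.symm, if_neg e14.symm, if_neg e24.symm] at hb
  have hb' : ∑ l : Col Ks K, ∑ r : Row Ks K, (t r + u l) * (t r + u l) +
      (m₁ * m₁ + (m₂ * m₂ + (s * s + s * s))) ≤ (Nat.card Ks : ℤ) + 1 := by exact_mod_cast hb
  have h5 : 1 ≤ m₁ * m₁ + m₂ * m₂ := by nlinarith [mul_self_nonneg (m₁ + m₂)]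
  have hss : (∑ l : Col Ks K, u l) * ∑ l : Col Ks K, u l = s * s := by rcases hsum with h | h <;> rw [h] <;> ring
  refine two_rows_absurd (R := Col Ks K) (C := Row Ks K) row₀ u t ht i k htu ?_
  rw [Finset.sum_comm, ← Nat.card_eq_fintype_card, hpR, hss]
  have : ∀ (l : Col Ks K) (r : Row Ks K), (u l + t r) * (u l + t r) = (t r + u l) * (t r + u l) := fun l r => by ring
  simp only [this]
  linarith

end TenPair

end CfsgLib.OddEnd
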