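import Cfsg.Agent.OddEnd.TenSystem

/-!
# The coherence system `(S, τ, R)` of `M` with `U = 1`
-/

set_option autoImplicit false

namespace CfsgLib.OddEnd

open CfsgLib.Char
open scoped ComplexConjugate

universe u

variable {G : Type u} [Group G] [Fintype G]

theorem classInner_smul_sign {α β : G → ℂ} {a b : ℂ} (h : Cfsg.classInner α β = 0) :
    Cfsg.classInner (a • α) (b • β) = 0 := by
  rw [classInner_smul_left, classInner_smul_right, h, mul_zero, mul_zero]

/-- Two orthogonal pairs with orthogonal differences are orthogonal memberwise. -/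
theorem conj_pairs_orth {ν ρ : G → ℂ} (hν : Cfsg.IsIrrCharacter G ν) (hν' : Cfsg.conjFun ν ≠ ν)
    (hρ : Cfsg.IsIrrCharacter G ρ) (hρ' : Cfsg.conjFun ρ ≠ ρ)
    (h : Cfsg.classInner (ν - Cfsg.conjFun ν) (ρ - Cfsg.conjFun ρ) = 0) :
    Cfsg.classInner ν ρ = 0 ∧ Cfsg.classInner ν (Cfsg.conjFun ρ) = 0 ∧
      Cfsg.classInner (Cfsg.conjFun ν) ρ = 0 ∧ Cfsg.classInner (Cfsg.conjFun ν) (Cfsg.conjFun ρ) = 0 := by
  obtain ⟨a, -, ha⟩ := IsIrrCharacter.exists_degree hν
  obtain ⟨b, -, hb⟩ := IsIrrCharacter.exists_degree hρ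
  refine four_signed (Or.inl hν) (Or.inl (IsIrrCharacter.conj hν)) (Or.inl hρ) (Or.inl (IsIrrCharacter.conj hρ))
    one_ne_zero one_ne_zero (IsIrrCharacter.classInner_of_ne hν (IsIrrCharacter.conj hν) (Ne.symm hν'))
    (IsIrrCharacter.classInner_of_ne hρ (IsIrrCharacter.conj hρ) (Ne.symm hρ'))
    (by simpa using h) (by simp [Cfsg.conjFun, ha]) (by simp [Cfsg.conjFun, hb])

namespace TenPair

variable {M N K Ks V : Subgroup G} (P : TenPair M N K Ks V) [Fintype M]
  {χ : (↥(K ⊔ Ks) →* ℂˣ) → G → ℂ} {μ : (↥(K ⊔ Ks) →* ℂˣ) → M → ℂ} {δ : (↥(K ⊔ Ks) →* ℂˣ) → ℂ}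
include P

omit P [Fintype G] [Fintype M] in
theorem cell_inv (r : Row K Ks) (l : Col K Ks) :
    ∃ (r' : Row K Ks) (l' : Col K Ks), r'.1 = r.1⁻¹ ∧ l'.1 = l.1⁻¹ ∧ (cell r l)⁻¹ = cell r' l' :=
  ⟨⟨r.1⁻¹, fun w hw => by rw [MonoidHom.inv_apply, r.2 w hw, inv_one]⟩,
    ⟨l.1⁻¹, fun w hw => by rw [MonoidHom.inv_apply, l.2 w hw, inv_one]⟩, rfl, rfl,
    MonoidHom.ext fun w => by simp [cell, mul_comm]⟩

/-- The conjugate of a nontrivial column is a different nontrivial column. -/
theorem conj_col [Fintype (Row K Ks)] (hμ : IsMuG M (Cfsg.sigmaCore M) K Ks μ δ) {l : Col K Ks} (hl : l ≠ col₀) :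
    ∃ l' : Col K Ks, l'.1 = l.1⁻¹ ∧ l' ≠ l ∧ l' ≠ col₀ ∧
      Cfsg.conjFun (∑ r : Row K Ks, μ (cell r l)) = ∑ r : Row K Ks, μ (cell r l') := by
  classical
  obtain ⟨-, l', -, hl', -⟩ := cell_inv row₀ l
  have hcube : ∀ {ψ : ↥(K ⊔ Ks) →* ℂˣ}, ψ * ψ = 1 → ψ = 1 := fun {ψ} h => by
    refine MonoidHom.ext fun w => ?_
    have h1 : (ψ w) ^ 2 = 1 := by rw [pow_two]; exact DFunLike.congr_fun h w
    have h2 : (ψ w) ^ Nat.card ↥(K ⊔ Ks) = 1 := by rw [← map_pow, pow_card_eq_one', map_one]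
    obtain ⟨m, hm⟩ := P.primeDade_M.odd
    rw [hm, pow_succ, pow_mul, h1, one_pow, one_mul] at h2
    exact h2
  refine ⟨l', hl', fun e => hl (Subtype.ext (hcube ?_)), fun e => hl (Subtype.ext ?_), ?_⟩
  · rw [e] at hl'
    conv_lhs => arg 1; rw [hl']
    exact MonoidHom.ext fun w => inv_mul_cancel (l.1 w)
  · rw [e] at hl'
    exact MonoidHom.ext fun w => inv_eq_one.1 (DFunLike.congr_fun hl' w).symm
  funext x
  simp only [Cfsg.conjFun, Finset.sum_apply, map_sum]
  refine Fintype.sum_bijective (fun r : Row K Ks => (⟨r.1⁻¹, fun w hw => by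
      rw [MonoidHom.inv_apply, r.2 w hw, inv_one]⟩ : Row K Ks)) ?_ _ _ fun r => ?_
  · exact Function.Involutive.bijective fun r => Subtype.ext (MonoidHom.ext fun w => inv_inv (r.1 w))
  · have h := congrFun (hμ.map conjAut (cell r l)).1 x
    rw [conjAut_apply, mapHom_conjAut] at h
    rw [← h]
    congr 2
    refine MonoidHom.ext fun w => ?_
    simp [cell, hl', mul_comm]

/-- A column meets an irreducible member trivially. -/
theorem irr_ne_col [Fintype (Row K Ks)] (hμ : IsMuG M (Cfsg.sigmaCore M) K Ks μ δ) {φ : M → ℂ}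
    (hφ : φ ∈ tenS M) (hirr : Cfsg.IsIrrCharacter M φ) (l : Col K Ks) : φ ≠ ∑ r : Row K Ks, μ (cell r l) := by
  intro e
  have h : Cfsg.classInner φ φ = Cfsg.classInner (∑ r : Row K Ks, μ (cell r l)) (∑ r : Row K Ks, μ (cell r l)) := by
    rw [← e]
  rw [IsIrrCharacter.classInner_self hirr, classInner_sum_left, Finset.sum_congr rfl fun r _ => by
    rw [classInner_sum_right, Finset.sum_eq_single r (fun s _ hs =>
      IsIrrCharacter.classInner_of_ne (hμ.irr _) (hμ.irr _) fun e' => hs (cell_injective (hμ.inj e')).1.symm)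
      (fun h' => absurd (Finset.mem_univ r) h'), IsIrrCharacter.classInner_self (hμ.irr _)],
    Finset.sum_const, Finset.card_univ, nsmul_one, ← Nat.card_eq_fintype_card, (card_trivL P.W_M).2] at h
  have hK : Nat.card K = 1 := by exact_mod_cast h.symm
  exact P.hK1 (Subgroup.eq_bot_of_card_eq _ hK)

open scoped Classical in
/-- The coherence system of `S` and the Dade map on `A(M)`. -/
theorem exists_system (hχ : Cfsg.IsCyclicTIFamily K Ks χ) (hμ : IsMuG M (Cfsg.sigmaCore M) K Ks μ δ)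
    (hne : (tenS M).Nonempty) :
    ∃ R : (M → ℂ) → Finset (G → ℂ), Cfsg.IsCoherenceSystem (tenS M) (tenTau M) R := by
  have := Fintype.ofFinite (Row K Ks)
  let Gd : (M → ℂ) → Finset (G → ℂ) → Prop := fun φ F =>
    (∀ α ∈ F, ∀ β ∈ F, Cfsg.classInner α β = if α = β then 1 else 0) ∧
    (∀ α ∈ F, Cfsg.IsGeneralizedCharacter G α) ∧ tenTau M (φ - Cfsg.conjFun φ) = ∑ α ∈ F, α ∧
    ((∃ ν : G → ℂ, Cfsg.IsIrrCharacter G ν ∧ Cfsg.conjFun ν ≠ ν ∧ Cfsg.IsIrrCharacter M φ ∧
        tenTau M (φ - Cfsg.conjFun φ) = ν - Cfsg.conjFun ν ∧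
        (∀ ω, Cfsg.classInner ν (χ ω) = 0 ∧ Cfsg.classInner (Cfsg.conjFun ν) (χ ω) = 0) ∧
        ∀ α ∈ F, α = ν ∨ α = -Cfsg.conjFun ν) ∨
      ∃ l l' : Col K Ks, l'.1 = l.1⁻¹ ∧ φ = (∑ r : Row K Ks, μ (cell r l)) ∧
        Cfsg.conjFun φ = (∑ r : Row K Ks, μ (cell r l')) ∧
        ∀ α ∈ F, ∃ (c : ℂ) (r : Row K Ks) (m : Col K Ks), (m = l ∨ m = l') ∧ α = c • χ (cell r m))
  have hGd : ∀ φ ∈ tenS M, ∃ F, Gd φ F := by
    intro φ hφ
    rcases P.tenS_cases hμ hφ with hirr | ⟨l, hl, hcol⟩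
    · obtain ⟨ν, hν, hνne, he, horth⟩ := P.tau_irr hχ hφ hirr
      have hν' : Cfsg.IsIrrCharacter G (Cfsg.conjFun ν) := IsIrrCharacter.conj hν
      have h0 := IsIrrCharacter.classInner_of_ne hν hν' (Ne.symm hνne)
      have h0' := IsIrrCharacter.classInner_of_ne hν' hν hνne
      have hd : ν ≠ -Cfsg.conjFun ν := fun e => by
        have := IsIrrCharacter.classInner_self hν
        conv_lhs at this => arg 2; rw [e]
        rw [classInner_neg_right, h0, neg_zero] at this
        exact zero_ne_one this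
      refine ⟨{ν, -Cfsg.conjFun ν}, ?_, ?_, ?_, Or.inl ⟨ν, hν, hνne, hirr, he, horth, by simp⟩⟩
      · intro α hα β hβ
        rw [Finset.mem_insert, Finset.mem_singleton] at hα hβ
        rcases hα with rfl | rfl <;> rcases hβ with rfl | rfl
        · rw [if_pos rfl, IsIrrCharacter.classInner_self hν]
        · rw [if_neg hd, classInner_neg_right, h0, neg_zero]
        · rw [if_neg hd.symm, classInner_neg_left, h0', neg_zero]
        · rw [if_pos rfl, classInner_neg_left, classInner_neg_right, neg_neg, IsIrrCharacter.classInner_self hν']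
      · intro α hα
        rw [Finset.mem_insert, Finset.mem_singleton] at hα
        rcases hα with rfl | rfl
        · exact IsIrrCharacter.isGeneralized hν
        · exact IsGeneralized.neg (IsIrrCharacter.isGeneralized hν')
      · rw [he, Finset.sum_pair hd, sub_eq_add_neg]
    · obtain ⟨l', hl', hll, hl0, hconj⟩ := P.conj_col hμ hl
      rw [← hcol] at hconj
      have hd2 : δ l.1 * δ l.1 = 1 := by rcases hμ.sign l.1 with e | e <;> rw [e] <;> ring
      have hdne : δ l.1 ≠ 0 := by rcases hμ.sign l.1 with e | e <;> rw [e] <;> norm_num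
      let g : Row K Ks × Bool → G → ℂ := fun p =>
        if p.2 then δ l.1 • χ (cell p.1 l) else (-δ l.1) • χ (cell p.1 l')
      have hinner : ∀ p p', Cfsg.classInner (g p) (g p') = if p = p' then 1 else 0 := by
        rintro ⟨r, b⟩ ⟨r', b'⟩
        have hcl : ∀ r r' : Row K Ks, cell r l ≠ cell r' l' := fun r r' e => hll (cell_injective e).2.symm
        have hconjδ : conj (δ l.1) = δ l.1 := by rcases hμ.sign l.1 with e | e <;> rw [e] <;> simp
        rcases b <;> rcases b' <;>
          simp only [g, if_true, Bool.false_eq_true, if_false, classInner_smul_left, classInner_smul_right,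
            hχ.orthonormal, map_neg, hconjδ, Prod.mk.injEq, and_false, and_true]
        · by_cases e : r = r'
          · subst e; simp [hd2]
          · rw [if_neg fun e' => e (cell_injective e').1, if_neg e]; ring
        · rw [if_neg fun e => hcl r' r e.symm]; ring
        · rw [if_neg (hcl r r'), if_neg (by simp)]; ring
        · by_cases e : r = r'
          · subst e; simp [hd2]
          · rw [if_neg fun e' => e (cell_injective e').1, if_neg e]; ring
      have hinj : Function.Injective g := fun p p' e => by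
        have := hinner p p'
        rw [e, hinner, if_pos rfl] at this
        by_contra hne'
        rw [if_neg hne'] at this
        exact one_ne_zero this
      refine ⟨Finset.univ.image g, ?_, ?_, ?_, Or.inr ⟨l, l', hl', hcol, hconj, ?_⟩⟩
      · intro α hα β hβ
        obtain ⟨p, -, rfl⟩ := Finset.mem_image.1 hα
        obtain ⟨p', -, rfl⟩ := Finset.mem_image.1 hβ
        rw [hinner]
        exact if_congr hinj.eq_iff.symm rfl rfl
      · intro α hα
        obtain ⟨⟨r, b⟩, -, rfl⟩ := Finset.mem_image.1 hα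
        rcases b <;> simp only [g, if_true, Bool.false_eq_true, if_false]
        · rcases hμ.sign l.1 with e | e <;> rw [e]
          · rw [show ((-1 : ℂ)) • χ (cell r l') = -χ (cell r l') by simp]
            exact IsGeneralized.neg (isGeneralized_family hχ _)
          · rw [neg_neg, one_smul]; exact isGeneralized_family hχ _
        · rcases hμ.sign l.1 with e | e <;> rw [e]
          · rw [one_smul]; exact isGeneralized_family hχ _
          · rw [show ((-1 : ℂ)) • χ (cell r l) = -χ (cell r l) by simp]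
            exact IsGeneralized.neg (isGeneralized_family hχ _)
      · rw [hconj, hcol, P.tau_col hχ hμ (Ne.symm hll) hl hl0 (hcol ▸ hφ)
          (hconj ▸ tenS_conj hφ), Finset.sum_image fun p _ p' _ e => hinj e, Fintype.sum_prod_type,
          Finset.smul_sum]
        refine Finset.sum_congr rfl fun r _ => ?_
        simp [g, sub_eq_add_neg]
      · intro α hα
        obtain ⟨⟨r, b⟩, -, rfl⟩ := Finset.mem_image.1 hα
        rcases b
        · exact ⟨-δ l.1, r, l', Or.inr rfl, rfl⟩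
        · exact ⟨δ l.1, r, l, Or.inl rfl, rfl⟩
  choose! R hR using hGd
  refine ⟨R, hne, fun φ hφ => tenS_char hφ, fun φ hφ => tenS_conj hφ, fun φ hφ => P.tenS_conj_ne hφ,
    P.tau_isometry.1, P.tau_isometry.2, fun φ hφ ψ hψ h => P.tenS_orth hφ hψ h,
    fun φ hφ => (hR φ hφ).1, fun φ hφ => (hR φ hφ).2.1, fun φ hφ => (hR φ hφ).2.2.1, ?_⟩
  intro ψ hψ φ hφ h1 h2 α hα β hβ
  have hself : ∀ {f : M → ℂ}, f ∈ tenS M → Cfsg.classInner f f ≠ 0 := fun {f} hf h0 =>
    P.tenS_conj_ne hf (by rw [classInner_self_eq_zero h0]; funext x; simp [Cfsg.conjFun])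
  have hne1 : φ ≠ ψ := fun e => hself hφ (by rw [← e] at h1; exact h1)
  have hne2 : φ ≠ Cfsg.conjFun ψ := fun e => hself hφ (by rw [← e] at h2; exact h2)
  obtain ⟨-, -, -, hcφ⟩ := hR φ hφ
  obtain ⟨-, -, -, hcψ⟩ := hR ψ hψ
  rcases hcφ with ⟨ν, hν, hνne, hirr, he, horth, hF⟩ | ⟨l, l', hl', hcol, hconj, hF⟩ <;>
    rcases hcψ with ⟨ρ, hρ, hρne, hirr', he', horth', hF'⟩ | ⟨m, m', hm', hcol', hconj', hF'⟩
  · have hzero : Cfsg.classInner (ν - Cfsg.conjFun ν) (ρ - Cfsg.conjFun ρ) = 0 := by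
      have hz : ∀ {f : M → ℂ}, f ∈ tenS M → Cfsg.IsIrrCharacter M f →
          f - Cfsg.conjFun f ∈ Cfsg.zspanOn (tenS M) ({1}ᶜ : Set M) := fun {f} hf hfi => by
        refine mem_zspanOn_one.2 ⟨Submodule.sub_mem _ (subset_zspan hf) (subset_zspan (tenS_conj hf)), ?_⟩
        obtain ⟨d, -, hd⟩ := IsIrrCharacter.exists_degree hfi
        simp [Cfsg.conjFun, hd]
      have hne1' : Cfsg.conjFun φ ≠ Cfsg.conjFun ψ := fun e => hne1 (by
        have := congrArg Cfsg.conjFun e
        rwa [conjFun_conjFun, conjFun_conjFun] at this)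
      have hne2' : Cfsg.conjFun φ ≠ ψ := fun e => hne2 (by rw [← e, conjFun_conjFun])
      rw [← he, ← he', P.tau_isometry.1.2.2.1 _ (hz hφ hirr) _ (hz hψ hirr'), classInner_sub_left,
        classInner_sub_right, classInner_sub_right, P.tenS_orth hφ hψ hne1,
        P.tenS_orth hφ (tenS_conj hψ) hne2, P.tenS_orth (tenS_conj hφ) hψ hne2',
        P.tenS_orth (tenS_conj hφ) (tenS_conj hψ) hne1']
      ring
    obtain ⟨a, b, c, d⟩ := conj_pairs_orth hν hνne hρ hρne hzero
    rcases hF α hα with rfl | rfl <;> rcases hF' β hβ with rfl | rfl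
    · exact a
    · rw [classInner_neg_right, b, neg_zero]
    · rw [classInner_neg_left, c, neg_zero]
    · rw [classInner_neg_left, classInner_neg_right, d, neg_zero, neg_zero]
  · obtain ⟨c, r, n, -, rfl⟩ := hF' β hβ
    rcases hF α hα with rfl | rfl
    · rw [classInner_smul_right, (horth _).1, mul_zero]
    · rw [classInner_neg_left, classInner_smul_right, (horth _).2, mul_zero, neg_zero]
  · obtain ⟨c, r, n, -, rfl⟩ := hF α hα
    rw [← classInner_conj]
    rcases hF' β hβ with rfl | rfl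
    · rw [classInner_smul_right, (horth' _).1, mul_zero, map_zero]
    · rw [classInner_neg_left, classInner_smul_right, (horth' _).2, mul_zero, neg_zero, map_zero]
  · obtain ⟨c, r, n, hn, rfl⟩ := hF α hα
    obtain ⟨c', r', n', hn', rfl⟩ := hF' β hβ
    refine classInner_smul_sign ?_
    rw [hχ.orthonormal, if_neg fun e => ?_]
    obtain ⟨-, e'⟩ := cell_injective e
    subst e'
    have hinv : ∀ {a b a' b' : Col K Ks}, a' = b' → a'.1 = a.1⁻¹ → b'.1 = b.1⁻¹ → a = b := fun {a b a' b'} e1 e2 e3 =>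
      Subtype.ext (inv_injective (by rw [← e2, ← e3, e1]))
    rcases hn with rfl | rfl <;> rcases hn' with h' | h'
    · exact hne1 (by rw [hcol, hcol', h'])
    · exact hne2 (by rw [hcol, hconj', h'])
    · refine hne2 ?_
      rw [hcol, hconj']
      have : l = m' := Subtype.ext (inv_injective (by rw [← hl', h', hm']; exact (inv_inv m.1).symm))
      rw [this]
    · exact hne1 (by rw [hcol, hcol', hinv h' hl' hm'])

end TenPair

end CfsgLib.OddEnd
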