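import Cfsg.Agent.OddEnd.TenTwinsModule
import Cfsg.Agent.Char.Linear
import Cfsg.Agent.Coprime.Basic

/-!
# Fixed linear characters of the kernel (for Peterfalvi 10.7)

`D = H A` with `A` abelian, `H = ker π` of coprime order, and `σ` an automorphism of prime order `p` prime to
`|H|`, fixed-point-free on `A`, whose fixed points in `H` form a cyclic group.  If an element of `A` has no
fixed point on `H#`, then `H` has a non-trivial linear character `φ` of prime order fixed by `σ`, and every
fixed character of that exponent is a power of `φ`.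
-/

set_option autoImplicit false
set_option linter.style.haveILetI false

namespace CfsgLib.OddEnd.Twins

open Subgroup

universe u v

/-- Automorphisms acting on linear characters. -/
def dual (H : Type u) [Group H] : MulAut H →* MulAut (H →* ℂˣ) where
  toFun e := e.monoidHomCongrLeft
  map_one' := by ext f x; rfl
  map_mul' e₁ e₂ := by ext f x; rfl

theorem dual_apply {H : Type u} [Group H] (e : MulAut H) (f : H →* ℂˣ) (x : H) :
    dual H e f x = f (e⁻¹ x) := rfl

/-- A fixed point in a coset of the commutator subgroup. -/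
theorem exists_fixed_lift {H : Type u} [Group H] [Finite H] [Group.IsSolvable H] (e : MulAut H)
    (hcop : (orderOf e).Coprime (Nat.card H)) (h : H)
    (he : Abelianization.of (e h) = Abelianization.of h) :
    ∃ c, e c = c ∧ Abelianization.of c = Abelianization.of h := by
  let St : Subgroup (MulAut H) :=
    { carrier := {f | Abelianization.of (f h) = Abelianization.of h}
      one_mem' := rfl
      mul_mem' := fun {f g} hf hg => by
        change Abelianization.of (f (g h)) = Abelianization.of h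
        have h1 := congrArg (Abelianization.map f.toMonoidHom) hg
        rw [Abelianization.map_of, Abelianization.map_of] at h1
        exact h1.trans hf
      inv_mem' := fun {f} hf => by
        change Abelianization.of (f⁻¹ h) = Abelianization.of h
        have h1 := congrArg (Abelianization.map (f⁻¹ : MulAut H).toMonoidHom) hf
        rw [Abelianization.map_of, Abelianization.map_of] at h1
        refine Eq.trans h1.symm ?_
        exact congrArg Abelianization.of (f.symm_apply_apply h) }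
  have hle : zpowers e ≤ St := zpowers_le.2 he
  haveI : (commutator H).Characteristic := inferInstance
  obtain ⟨c, hc, hc'⟩ := Coprime.exists_fixed_mem_coset_of_isSolvable' (A := zpowers e) (G := H) (commutator H)
    (fun a n hn => by
      have := Subgroup.characteristic_iff_map_eq.1 (inferInstance : (commutator H).Characteristic) (a : MulAut H)
      exact this.le ⟨n, hn, rfl⟩)
    (by
      rw [Nat.card_zpowers]
      exact hcop.coprime_dvd_right (commutator H).card_subgroup_dvd_card)
    h (fun a => by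
      refine (QuotientGroup.eq (s := commutator H)).1 ?_
      exact (hle a.2).symm)
  exact ⟨c, hc ⟨e, mem_zpowers e⟩, ((QuotientGroup.eq (s := commutator H)).2 hc').symm⟩

variable {D : Type u} [Group D] {A : Type v} [CommGroup A]

/-- The split extension with an automorphism. -/
structure Data (π : D →* A) (ι : A →* D) (σ : MulAut D) (σA : MulAut A) (p : ℕ) : Prop where
  sec : ∀ a, π (ι a) = a
  proj : ∀ d, π (σ d) = σA (π d)
  lift : ∀ a, ι (σA a) = σ (ι a)
  prime : p.Prime
  pow_eq : σ ^ p = 1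
  free : ∀ a, σA a = a → a = 1
  copA : (Nat.card π.ker).Coprime (Nat.card A)
  copp : (Nat.card π.ker).Coprime p
  cyc : ∃ g ∈ π.ker, σ g = g ∧ ∀ x ∈ π.ker, σ x = x → x ∈ zpowers g
  odd : Odd (Nat.card D)
  solvable : Group.IsSolvable D

namespace Data

variable {π : D →* A} {ι : A →* D} {σ : MulAut D} {σA : MulAut A} {p : ℕ} (S : Data π ι σ σA p)
include S

/-- The automorphism restricted to the kernel. -/
def kerAut : MulAut π.ker where
  toFun x := ⟨σ x, by rw [MonoidHom.mem_ker, S.proj, (MonoidHom.mem_ker.1 x.2), map_one]⟩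
  invFun x := ⟨σ.symm x, by
    rw [MonoidHom.mem_ker, ← σA.injective.eq_iff, ← S.proj, σ.apply_symm_apply, map_one]
    exact x.2⟩
  left_inv x := Subtype.ext (σ.symm_apply_apply _)
  right_inv x := Subtype.ext (σ.apply_symm_apply _)
  map_mul' x y := Subtype.ext (map_mul σ (x : D) y)

/-- The automorphism on linear characters: `φ ↦ φ ∘ σ`. -/
def tau : MulAut (π.ker →* ℂˣ) := dual π.ker S.kerAut⁻¹

theorem tau_apply (φ : π.ker →* ℂˣ) (x : π.ker) : S.tau φ x = φ (S.kerAut x) := rfl

/-- The action of `A` on linear characters. -/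
def act (_S : Data π ι σ σA p) : A →* MulAut (π.ker →* ℂˣ) :=
  (dual π.ker).comp ((MulAut.conjNormal (H := π.ker)).comp ι)

theorem act_apply (a : A) (φ : π.ker →* ℂˣ) (x : π.ker) :
    S.act a φ x = φ (MulAut.conjNormal (ι a)⁻¹ x) := by
  change φ (((MulAut.conjNormal (H := π.ker)) (ι a))⁻¹ x) = _
  rw [map_inv]

theorem tau_act (a : A) (φ : π.ker →* ℂˣ) : S.tau (S.act a φ) = S.act (σA⁻¹ a) (S.tau φ) := by
  refine MonoidHom.ext fun x => ?_
  rw [tau_apply, act_apply, act_apply, tau_apply]
  congr 1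
  refine Subtype.ext ?_
  have h : σ (ι (σA⁻¹ a)) = ι a := by rw [← S.lift]; exact congrArg ι (σA.apply_symm_apply a)
  simp only [MulAut.conjNormal_apply, kerAut, MulEquiv.coe_mk, Equiv.coe_fn_mk, map_mul, inv_inv]
  rw [map_inv σ, h]

theorem tau_pow_act (i : ℕ) (a : A) (φ : π.ker →* ℂˣ) :
    (S.tau ^ i) (S.act a φ) = S.act ((σA⁻¹ ^ i) a) ((S.tau ^ i) φ) := by
  induction i generalizing a φ with
  | zero => rfl
  | succ i ih => rw [pow_succ', MulAut.mul_apply, ih, S.tau_act, pow_succ' (σA⁻¹), MulAut.mul_apply,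
      MulAut.mul_apply]

theorem act_act (a b : A) (φ : π.ker →* ℂˣ) : S.act a (S.act b φ) = S.act (a * b) φ := by
  rw [map_mul, MulAut.mul_apply]

omit S in
theorem apply_pow (f : MulAut (π.ker →* ℂˣ)) (φ : π.ker →* ℂˣ) (n : ℕ) : f (φ ^ n) = f φ ^ n := map_pow f φ n

theorem kerAut_pow (i : ℕ) (x : π.ker) : ((S.kerAut ^ i) x : D) = (σ ^ i) x := by
  induction i generalizing x with
  | zero => rfl
  | succ i ih => rw [pow_succ, MulAut.mul_apply, ih, pow_succ, MulAut.mul_apply]; rfl

theorem kerAut_pow_eq : S.kerAut ^ p = 1 := by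
  refine MulEquiv.ext fun x => Subtype.ext ?_
  rw [S.kerAut_pow, S.pow_eq]
  rfl

theorem powA : σA ^ p = 1 := by
  have h : ∀ i (a : A), ι ((σA ^ i) a) = (σ ^ i) (ι a) := fun i => by
    induction i with
    | zero => intro a; rfl
    | succ i ih => intro a; rw [pow_succ, MulAut.mul_apply, ih, S.lift, pow_succ, MulAut.mul_apply]
  refine MulEquiv.ext fun a => ?_
  have := congrArg π (h p a)
  rw [S.sec, S.pow_eq, MulAut.one_apply, S.sec] at this
  exact this

theorem tau_pow_eq : S.tau ^ p = 1 := by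
  rw [tau, ← map_pow, inv_pow, S.kerAut_pow_eq, inv_one, map_one]

/-- A proper power of the automorphism has no fixed point in `A`. -/
theorem free_pow {i : ℕ} (hi : 0 < i) (hip : i < p) (a : A) (ha : (σA⁻¹ ^ i) a = a) : a = 1 := by
  refine S.free a ?_
  have hco : i.Coprime p := ((S.prime.coprime_iff_not_dvd).2 fun h => absurd (Nat.le_of_dvd hi h) (by omega)).symm
  obtain ⟨m, -, hm⟩ := Nat.exists_mul_mod_eq_one_of_coprime hco S.prime.one_lt
  have hp1 : (σA⁻¹) ^ p = 1 := by rw [inv_pow, S.powA, inv_one]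
  have h1 : (σA⁻¹) ^ (i * m) = σA⁻¹ := by rw [pow_eq_pow_mod _ hp1, hm, pow_one]
  have h2 : ∀ j, (σA⁻¹ ^ (i * j)) a = a := fun j => by
    induction j with
    | zero => rfl
    | succ j ih => rw [Nat.mul_succ, pow_add, MulAut.mul_apply, ha, ih]
  have h3 := h2 m
  rw [h1] at h3
  conv_lhs => rw [← h3]
  exact σA.apply_symm_apply a

theorem char_pow_card [Finite D] (φ : π.ker →* ℂˣ) : φ ^ Nat.card π.ker = 1 :=
  MonoidHom.ext fun x => by rw [MonoidHom.pow_apply, ← map_pow, pow_card_eq_one', map_one, MonoidHom.one_apply]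

/-- The norm trick: without fixed characters the `|A|`-th power of a character is its norm. -/
theorem act_fixed_of_norm [Finite D] [Finite A]
    (hP : ∀ φ : π.ker →* ℂˣ, ∏ i ∈ Finset.range p, (S.tau ^ i) φ = 1) (b : A) (φ : π.ker →* ℂˣ) :
    S.act b φ = φ := by
  classical
  haveI := Fintype.ofFinite A
  set Nm : (π.ker →* ℂˣ) → (π.ker →* ℂˣ) := fun μ => ∏ a : A, S.act a μ with hNm
  have e1 : ∀ a : A, ∏ i ∈ Finset.range p, S.act (a * ((σA⁻¹ ^ i) a)⁻¹) ((S.tau ^ i) φ) = 1 := fun a => by
    have := congrArg (S.act a) (hP (S.act a⁻¹ φ))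
    rw [map_one, map_prod] at this
    rw [← this]
    refine Finset.prod_congr rfl fun i _ => ?_
    rw [S.tau_pow_act, S.act_act, map_inv]
  have e2 : ∏ i ∈ Finset.range p, ∏ a : A, S.act (a * ((σA⁻¹ ^ i) a)⁻¹) ((S.tau ^ i) φ) = 1 := by
    rw [Finset.prod_comm]
    exact Finset.prod_eq_one fun a _ => e1 a
  have e3 : ∀ i ∈ Finset.range p, i ≠ 0 →
      ∏ a : A, S.act (a * ((σA⁻¹ ^ i) a)⁻¹) ((S.tau ^ i) φ) = Nm ((S.tau ^ i) φ) := by
    intro i hi h0
    let f : A →* A := { toFun := fun a => a * ((σA⁻¹ ^ i) a)⁻¹, map_one' := by simp,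
                        map_mul' := fun x y => by rw [map_mul, mul_inv, mul_mul_mul_comm] }
    have hf : Function.Injective f := (injective_iff_map_eq_one f).2 fun a ha =>
      S.free_pow (Nat.pos_of_ne_zero h0) (Finset.mem_range.1 hi) a (mul_inv_eq_one.1 ha).symm
    exact Fintype.prod_bijective f (Finite.injective_iff_bijective.1 hf) _ _ fun a => rfl
  have e4 : ∏ i ∈ Finset.range p, Nm ((S.tau ^ i) φ) = 1 := by
    simp only [hNm]
    rw [Finset.prod_comm]
    refine Finset.prod_eq_one fun a _ => ?_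
    rw [← map_prod, hP, map_one]
  have h0 : 0 ∈ Finset.range p := Finset.mem_range.2 S.prime.pos
  rw [← Finset.mul_prod_erase _ _ h0, Finset.prod_congr rfl fun i hi =>
    e3 i (Finset.mem_of_mem_erase hi) (Finset.ne_of_mem_erase hi)] at e2
  rw [← Finset.mul_prod_erase _ _ h0] at e4
  have e5 : φ ^ Fintype.card A = Nm φ := by
    have h := mul_right_cancel (e2.trans e4.symm)
    simp only [pow_zero, MulAut.one_apply, mul_inv_cancel, map_one, Finset.prod_const, Finset.card_univ] at h
    exact h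
  have e6 : S.act b (Nm φ) = Nm φ := by
    simp only [hNm, map_prod, S.act_act]
    exact Fintype.prod_equiv (Equiv.mulLeft b) _ _ fun a => rfl
  rw [← e5, apply_pow] at e6
  refine mul_inv_eq_one.1 (eq_one_of_pow_coprime S.copA (S.char_pow_card _) ?_)
  rw [Nat.card_eq_fintype_card, mul_pow, e6, inv_pow, mul_inv_cancel]

/-- A fixed character trivial on the fixed points is trivial. -/
theorem eq_one_of_fixed [Finite D] {ψ : π.ker →* ℂˣ} (hψ : S.tau ψ = ψ)
    (hfix : ∀ x : π.ker, S.kerAut x = x → ψ x = 1) : ψ = 1 := by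
  classical
  haveI := S.solvable
  refine MonoidHom.ext fun x => ?_
  set Y : Abelianization π.ker := ∏ i ∈ Finset.range p, Abelianization.of ((S.kerAut ^ i) x) with hY
  obtain ⟨y, hy⟩ := QuotientGroup.mk_surjective Y
  replace hy : Abelianization.of y = Y := hy
  have hmap : Abelianization.map S.kerAut.toMonoidHom Y = Y := by
    have h := Finset.prod_range_succ (fun i => Abelianization.of ((S.kerAut ^ i) x)) p
    rw [Finset.prod_range_succ' (fun i => Abelianization.of ((S.kerAut ^ i) x)) p, S.kerAut_pow_eq, pow_zero] at h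
    rw [hY, map_prod]
    refine Eq.trans (Finset.prod_congr rfl fun i _ => ?_) (mul_right_cancel h)
    rw [Abelianization.map_of, pow_succ', MulAut.mul_apply]
    rfl
  have hord : (orderOf S.kerAut).Coprime (Nat.card π.ker) :=
    (S.copp.coprime_dvd_right (orderOf_dvd_of_pow_eq_one S.kerAut_pow_eq)).symm
  obtain ⟨c, hc, hcy⟩ := exists_fixed_lift S.kerAut hord y (by
    refine (Abelianization.map_of S.kerAut.toMonoidHom y).symm.trans ?_
    rw [hy, hmap])
  have hpow : ∀ i, ψ ((S.kerAut ^ i) x) = ψ x := fun i => by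
    induction i with
    | zero => rfl
    | succ i ih => rw [pow_succ', MulAut.mul_apply, ← S.tau_apply, hψ, ih]
  have h1 : ψ x ^ p = 1 := by
    have := congrArg (Abelianization.lift ψ) (hcy.trans hy)
    rw [hY, map_prod, Abelianization.lift_apply_of, hfix c hc] at this
    simp only [Abelianization.lift_apply_of, hpow, Finset.prod_const, Finset.card_range] at this
    exact this.symm
  have h2 : ψ x ^ Nat.card π.ker = 1 := by rw [← map_pow, pow_card_eq_one', map_one]
  exact eq_one_of_pow_coprime S.copp h2 h1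

/-- Existence and uniqueness of the fixed character. -/
theorem exists_fixed_char [Finite D] [Finite A] (hH : π.ker ≠ ⊥) {u : A}
    (hu : ∀ x ∈ π.ker, ι u * x = x * ι u → x = 1) :
    ∃ (φ : π.ker →* ℂˣ) (r : ℕ), r.Prime ∧ r ∣ Nat.card π.ker ∧ φ ^ r = 1 ∧ φ ≠ 1 ∧ S.tau φ = φ ∧
      ∀ ψ, S.tau ψ = ψ → ψ ^ r = 1 → ∃ k : ℕ, ψ = φ ^ k := by
  classical
  haveI := S.solvable
  obtain ⟨l, hl⟩ : ∃ l : π.ker →* ℂˣ, ∏ i ∈ Finset.range p, (S.tau ^ i) l ≠ 1 := by
    by_contra hP
    push Not at hP
    haveI : Nontrivial π.ker := π.ker.nontrivial_iff_ne_bot.2 hH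
    refine (Group.IsSolvable.commutator_lt_top_of_nontrivial π.ker).ne (eq_top_iff.2 fun x _ => ?_)
    set e : MulAut π.ker := MulAut.conjNormal (ι u) with he
    have hord : (orderOf e).Coprime (Nat.card π.ker) := by
      refine (S.copA.coprime_dvd_right ?_).symm
      exact ((orderOf_map_dvd ((MulAut.conjNormal (H := π.ker)).comp ι) u).trans (orderOf_dvd_natCard u))
    have hx : Abelianization.of (e x) = Abelianization.of x := by
      by_contra hne
      obtain ⟨lam, hlam⟩ := Char.exists_hom_ne_one (G := π.ker) (g := e x * x⁻¹) fun hm => hne (by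
        rw [← mul_inv_eq_one, ← map_inv, ← map_mul]
        exact (QuotientGroup.eq_one_iff (N := commutator π.ker) _).2 hm)
      refine hlam ?_
      have := DFunLike.congr_fun (S.act_fixed_of_norm hP u⁻¹ lam) x
      rw [act_apply, map_inv ι, inv_inv] at this
      rw [map_mul, map_inv, mul_inv_eq_one]
      exact this
    obtain ⟨c, hc, hcx⟩ := exists_fixed_lift e hord x hx
    have hc1 : c = 1 := by
      refine Subtype.ext (hu c c.2 ?_)
      have h := congrArg Subtype.val hc
      rw [he, MulAut.conjNormal_apply] at h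
      exact mul_inv_eq_iff_eq_mul.1 h
    rw [hc1, map_one] at hcx
    exact (QuotientGroup.eq_one_iff (N := commutator π.ker) x).1 hcx.symm
  set ψ := ∏ i ∈ Finset.range p, (S.tau ^ i) l with hψdef
  have hψ : S.tau ψ = ψ := by
    rw [hψdef, map_prod]
    have h := Finset.prod_range_succ (fun i => (S.tau ^ i) l) p
    rw [Finset.prod_range_succ' (fun i => (S.tau ^ i) l) p, S.tau_pow_eq, pow_zero] at h
    refine Eq.trans (Finset.prod_congr rfl fun i _ => ?_) (mul_right_cancel h)
    rw [pow_succ', MulAut.mul_apply]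
  have hfin : IsOfFinOrder ψ := isOfFinOrder_iff_pow_eq_one.2 ⟨_, Nat.card_pos, S.char_pow_card ψ⟩
  have hn1 : orderOf ψ ≠ 1 := fun e => hl (orderOf_eq_one_iff.1 e)
  set r := (orderOf ψ).minFac with hr
  have hrd : r ∣ orderOf ψ := Nat.minFac_dvd _
  set φ := ψ ^ (orderOf ψ / r) with hφ
  have hrp : r.Prime := Nat.minFac_prime hn1
  have hφo : orderOf φ = r := orderOf_pow_orderOf_div hfin.orderOf_pos.ne' hrd
  have hφτ : S.tau φ = φ := by rw [hφ, apply_pow, hψ]
  have hφr : φ ^ r = 1 := hφo ▸ pow_orderOf_eq_one φ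
  have hφ1 : φ ≠ 1 := fun e => hrp.ne_one (by rw [← hφo, e, orderOf_one])
  refine ⟨φ, r, hrp, hrd.trans (orderOf_dvd_of_pow_eq_one (S.char_pow_card ψ)), hφr, hφ1, hφτ,
    fun μ hμ hμr => ?_⟩
  obtain ⟨g, hg, hgfix, hgen⟩ := S.cyc
  have hgen' : ∀ x : π.ker, S.kerAut x = x → ∃ n : ℤ, x = (⟨g, hg⟩ : π.ker) ^ n := fun x hx => by
    obtain ⟨n, hn⟩ := hgen x x.2 (congrArg Subtype.val hx)
    exact ⟨n, Subtype.ext hn.symm⟩
  haveI : NeZero r := ⟨hrp.ne_zero⟩
  haveI := Fact.mk hrp
  have hne : φ ⟨g, hg⟩ ≠ 1 := fun e => hφ1 (S.eq_one_of_fixed hφτ fun x hx => by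
    obtain ⟨n, rfl⟩ := hgen' x hx
    rw [map_zpow, e, one_zpow])
  have hprim : IsPrimitiveRoot ((φ ⟨g, hg⟩ : ℂˣ) : ℂ) r := by
    refine IsPrimitiveRoot.coe_units_iff.2 ?_
    have ho : orderOf (φ ⟨g, hg⟩) = r := orderOf_eq_prime (by rw [← MonoidHom.pow_apply, hφr]; rfl) hne
    exact ho ▸ IsPrimitiveRoot.orderOf _
  obtain ⟨k, -, hk⟩ := hprim.eq_pow_of_pow_eq_one (ξ := ((μ ⟨g, hg⟩ : ℂˣ) : ℂ)) (by
    rw [← Units.val_pow_eq_pow_val, ← MonoidHom.pow_apply, hμr]; rfl)
  refine ⟨k, mul_inv_eq_one.1 (S.eq_one_of_fixed (by rw [map_mul, map_inv, apply_pow, hμ, hφτ]) fun x hx => ?_)⟩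
  obtain ⟨n, rfl⟩ := hgen' x hx
  rw [map_zpow]
  have : (μ * (φ ^ k)⁻¹) ⟨g, hg⟩ = 1 := by
    rw [MonoidHom.mul_apply, MonoidHom.inv_apply, MonoidHom.pow_apply, mul_inv_eq_one]
    refine Units.ext ?_
    rw [Units.val_pow_eq_pow_val]
    exact hk.symm
  rw [this, one_zpow]

end Data

end CfsgLib.OddEnd.Twins
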