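import Cfsg.Agent.OddEnd.TenTwinsFixed
import Cfsg.Agent.Char.Clifford
import Cfsg.Agent.Char.CoherenceNontrivialZ

/-!
# Two twin characters of `D = H A` (existence half of Peterfalvi 10.7)

Both are induced from a linear character, have the same degree and are non-trivial on `H`; the automorphism
fixes one of them and moves the other one.
-/

set_option autoImplicit false
set_option linter.style.haveILetI false
set_option linter.unusedSectionVars false

namespace CfsgLib.OddEnd.Twins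

open Subgroup CfsgLib.Char

universe u v

variable {D : Type u} [Group D]

/-- Induction commutes with an automorphism stabilizing the subgroup. -/
theorem indFun_comp_aut [Fintype D] (σ : MulAut D) {T : Subgroup D} (hT : ∀ d, σ d ∈ T ↔ d ∈ T) (θ : T → ℂ)
    (d : D) : Cfsg.indFun T θ (σ d) = Cfsg.indFun T (fun t : T => θ ⟨σ t, (hT t).2 t.2⟩) d := by
  rw [indFun_def, indFun_def]
  congr 1
  refine (Fintype.sum_equiv σ.toEquiv _ _ fun y => ?_).symm
  change _ = Cfsg.extendByZero T θ ((σ y)⁻¹ * σ d * σ y)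
  rw [← map_inv, ← map_mul, ← map_mul]
  by_cases h : y⁻¹ * d * y ∈ T
  · rw [extendByZero_of_mem _ h, extendByZero_of_mem _ ((hT _).2 h)]
  · rw [extendByZero_of_not_mem _ h, extendByZero_of_not_mem _ fun h' => h ((hT _).1 h')]

variable {A : Type v} [CommGroup A]

namespace Data

variable {π : D →* A} {ι : A →* D} {σ : MulAut D} {σA : MulAut A} {p : ℕ} (S : Data π ι σ σA p)
include S

/-- The `H`-part of an element. -/
def kerPart (d : D) : π.ker := ⟨d * (ι (π d))⁻¹, by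
  rw [MonoidHom.mem_ker, map_mul, map_inv, S.sec, mul_inv_cancel]⟩

theorem kerPart_mul (a b : D) :
    S.kerPart (a * b) = S.kerPart a * MulAut.conjNormal (ι (π a)) (S.kerPart b) := by
  refine Subtype.ext ?_
  simp only [kerPart, map_mul, Subgroup.coe_mul, MulAut.conjNormal_apply]
  group

theorem kerPart_of_mem {d : D} (h : π d = 1) : S.kerPart d = ⟨d, h⟩ := by
  refine Subtype.ext ?_
  simp [kerPart, h]

theorem kerPart_lift (a : A) : S.kerPart (ι a) = 1 := by
  refine Subtype.ext ?_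
  simp [kerPart, S.sec]

theorem kerPart_aut (d : D) : S.kerPart (σ d) = S.kerAut (S.kerPart d) := by
  refine Subtype.ext ?_
  simp [kerPart, kerAut, S.proj, S.lift]

/-- The extension of a linear character of `H` to `H Q`, for `Q` fixing it. -/
def hat {Q : Subgroup A} (φ : π.ker →* ℂˣ) (hφ : ∀ a ∈ Q, S.act a φ = φ) : Q.comap π →* ℂˣ where
  toFun t := φ (S.kerPart t)
  map_one' := by rw [OneMemClass.coe_one, S.kerPart_of_mem (map_one π), show (⟨1, map_one π⟩ : π.ker) = 1 from rfl,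
    map_one]
  map_mul' t t' := by
    rw [Subgroup.coe_mul, S.kerPart_mul, map_mul]
    congr 1
    have h := DFunLike.congr_fun (hφ (π (t : D))⁻¹ (Q.inv_mem t.2)) (S.kerPart t')
    rwa [act_apply, map_inv ι, inv_inv] at h

variable {Q : Subgroup A} {φ : π.ker →* ℂˣ}

/-- The linear character of `H Q` given by `φ` and a character of `Q`. -/
def mu (hφ : ∀ a ∈ Q, S.act a φ = φ) (lam : Q →* ℂˣ) : Q.comap π →* ℂˣ :=
  S.hat φ hφ * lam.comp ((π.comp (Q.comap π).subtype).codRestrict Q fun t => t.2)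

theorem mu_apply (hφ : ∀ a ∈ Q, S.act a φ = φ) (lam : Q →* ℂˣ) (t : Q.comap π) :
    S.mu hφ lam t = φ (S.kerPart t) * lam ⟨π (t : D), t.2⟩ := rfl

theorem mu_apply_ker (hφ : ∀ a ∈ Q, S.act a φ = φ) (lam : Q →* ℂˣ) (t : Q.comap π) (ht : π (t : D) = 1) :
    S.mu hφ lam t = φ ⟨t, ht⟩ := by
  rw [mu_apply, S.kerPart_of_mem ht, show (⟨π (t : D), t.2⟩ : Q) = 1 from Subtype.ext ht, map_one, mul_one]

theorem aut_mem (hQ : ∀ a, σA a ∈ Q ↔ a ∈ Q) (d : D) : σ d ∈ Q.comap π ↔ d ∈ Q.comap π := by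
  rw [mem_comap, mem_comap, S.proj, hQ]

variable [Fintype D]

/-- The induced character. -/
noncomputable def twin (hφ : ∀ a ∈ Q, S.act a φ = φ) (lam : Q →* ℂˣ) : D → ℂ :=
  Cfsg.indFun (Q.comap π) fun t => (S.mu hφ lam t : ℂ)

theorem conjOn_mu (hφ : ∀ a ∈ Q, S.act a φ = φ) (lam : Q →* ℂˣ) (d : D) (x : π.ker)
    (hx : (x : D) ∈ Q.comap π) :
    conjOn d (fun t : Q.comap π => (S.mu hφ lam t : ℂ)) ⟨x, hx⟩ = (S.act (π d)⁻¹ φ x : ℂ) := by
  have hπ : π (d * x * d⁻¹) = 1 := by rw [map_mul, map_mul, map_inv, MonoidHom.mem_ker.1 x.2, mul_one, mul_inv_cancel]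
  rw [conjOn_apply, S.mu_apply_ker hφ lam _ hπ, act_apply, map_inv ι, inv_inv]
  congr 1
  have e : (⟨d * x * d⁻¹, hπ⟩ : π.ker) = S.kerPart d * MulAut.conjNormal (ι (π d)) x * (S.kerPart d)⁻¹ := by
    refine Subtype.ext ?_
    simp only [kerPart, Subgroup.coe_mul, Subgroup.coe_inv, MulAut.conjNormal_apply]
    group
  refine Eq.trans (congrArg φ e) ?_
  rw [map_mul, map_mul, map_inv, mul_comm (φ (S.kerPart d)), mul_inv_cancel_right]

theorem ker_mem (x : π.ker) : (x : D) ∈ Q.comap π := by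
  rw [mem_comap, MonoidHom.mem_ker.1 x.2]
  exact Q.one_mem

theorem isIrr_mu (hφ : ∀ a ∈ Q, S.act a φ = φ) (lam : Q →* ℂˣ) :
    Cfsg.IsIrrCharacter (Q.comap π) fun t => (S.mu hφ lam t : ℂ) :=
  isIrrCharacter_ofHom _

theorem isIrr_twin (hQ : ∀ a, S.act a φ = φ ↔ a ∈ Q) (lam : Q →* ℂˣ) :
    Cfsg.IsIrrCharacter D (S.twin (fun a ha => (hQ a).2 ha) lam) := by
  refine isIrrCharacter_indFun_of_inertia_le (S.isIrr_mu _ lam) fun d hd => ?_
  rw [mem_inertia] at hd
  have h : S.act (π d)⁻¹ φ = φ := MonoidHom.ext fun x => Units.ext (by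
    rw [← S.conjOn_mu (fun a ha => (hQ a).2 ha) lam d x (S.ker_mem x), hd]
    exact congrArg Units.val (S.mu_apply_ker _ lam ⟨x, S.ker_mem x⟩ x.2))
  exact Q.inv_mem_iff.1 ((hQ _).1 h)

theorem twin_one (hφ : ∀ a ∈ Q, S.act a φ = φ) (lam : Q →* ℂˣ) :
    S.twin hφ lam 1 = ((Q.comap π).index : ℂ) := by
  rw [twin, indFun_one, map_one, Units.val_one, mul_one]

/-- Inner product with an induced character. -/
theorem classInner_restrict_ne {hφ : ∀ a ∈ Q, S.act a φ = φ} {lam : Q →* ℂˣ} [Fintype (Q.comap π)]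
    (hi : Cfsg.IsIrrCharacter D (S.twin hφ lam)) :
    Cfsg.classInner (fun t : Q.comap π => S.twin hφ lam t) (fun t => (S.mu hφ lam t : ℂ)) ≠ 0 := by
  rw [← classInner_conj, ← classInner_indFun _ (IsIrrCharacter.isClassFunction hi), ← twin,
    IsIrrCharacter.classInner_self hi, map_one]
  exact one_ne_zero

theorem twin_nontrivial (hQ : ∀ a, S.act a φ = φ ↔ a ∈ Q) (lam : Q →* ℂˣ) (hφ1 : φ ≠ 1) :
    ∃ d : D, π d = 1 ∧ S.twin (fun a ha => (hQ a).2 ha) lam d ≠ S.twin (fun a ha => (hQ a).2 ha) lam 1 := by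
  classical
  haveI := Fintype.ofFinite (Q.comap π)
  by_contra hno
  push Not at hno
  have hi := S.isIrr_twin hQ lam
  have h := (indFun_relevant_iff (K := Q.comap π) (Z := π.ker) (fun x hx => S.ker_mem ⟨x, hx⟩)
    (S.isIrr_mu _ lam) hi (S.classInner_restrict_ne hi)).1 fun z hz => hno z hz
  refine hφ1 (MonoidHom.ext fun x => Units.ext ?_)
  have := h ⟨x, S.ker_mem x⟩ x.2
  rw [S.mu_apply_ker _ lam ⟨x, S.ker_mem x⟩ (MonoidHom.mem_ker.1 x.2), map_one] at this
  exact this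

theorem twin_comp (hQs : ∀ a, σA a ∈ Q ↔ a ∈ Q) (hφ : ∀ a ∈ Q, S.act a φ = φ) (lam : Q →* ℂˣ) (d : D) :
    S.twin hφ lam (σ d) = Cfsg.indFun (Q.comap π)
      (fun t : Q.comap π => (S.mu hφ lam ⟨σ t, (S.aut_mem hQs t).2 t.2⟩ : ℂ)) d :=
  indFun_comp_aut σ (S.aut_mem hQs) _ d

/-- If the induced character is fixed, then `φ ∘ σ` is a conjugate of `φ`, and the linear character is fixed
when the conjugating element lies in `Q`. -/
theorem twin_fixed (hQs : ∀ a, σA a ∈ Q ↔ a ∈ Q) (hQ : ∀ a, S.act a φ = φ ↔ a ∈ Q) (lam : Q →* ℂˣ)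
    (h : (fun d => S.twin (fun a ha => (hQ a).2 ha) lam (σ d)) = S.twin (fun a ha => (hQ a).2 ha) lam) :
    ∃ a : A, S.tau φ = S.act a φ ∧ (a ∈ Q → ∀ t : Q.comap π,
      S.mu (fun a ha => (hQ a).2 ha) lam ⟨σ t, (S.aut_mem hQs t).2 t.2⟩ =
        S.mu (fun a ha => (hQ a).2 ha) lam t) := by
  classical
  haveI := Fintype.ofFinite (Q.comap π)
  have hφ : ∀ a ∈ Q, S.act a φ = φ := fun a ha => (hQ a).2 ha
  let e : Q.comap π →* Q.comap π :=
    { toFun := fun t => ⟨σ t, (S.aut_mem hQs t).2 t.2⟩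
      map_one' := Subtype.ext (map_one σ)
      map_mul' := fun x y => Subtype.ext (map_mul σ (x : D) y) }
  have hirr : Cfsg.IsIrrCharacter (Q.comap π) (fun t => ((S.mu hφ lam).comp e t : ℂ)) := isIrrCharacter_ofHom _
  have hi := S.isIrr_twin hQ lam
  have hind : Cfsg.indFun (Q.comap π) (fun t => ((S.mu hφ lam).comp e t : ℂ)) = S.twin hφ lam :=
    (funext fun d => (S.twin_comp hQs hφ lam d).symm).trans h
  have hin := classInner_indFun_indFun (G := D) hirr (S.isIrr_mu hφ lam)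
  rw [hind, ← twin, IsIrrCharacter.classInner_self hi] at hin
  obtain ⟨d, hd⟩ := mem_conjOrbit.1 (by
    by_contra hn
    rw [if_neg hn] at hin
    exact one_ne_zero hin :
      (fun t => ((S.mu hφ lam).comp e t : ℂ)) ∈ conjOrbit (fun t : Q.comap π => (S.mu hφ lam t : ℂ)))
  refine ⟨(π d)⁻¹, MonoidHom.ext fun x => Units.ext ?_, fun ha t => Units.ext ?_⟩
  · have hx := congrFun hd ⟨x, S.ker_mem x⟩
    rw [S.conjOn_mu hφ lam d x (S.ker_mem x)] at hx
    rw [← hx, MonoidHom.comp_apply, S.mu_apply_ker hφ lam _ (show π (σ (x : D)) = 1 from (S.kerAut x).2)]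
    rfl
  · have hdT : d ∈ Q.comap π := Q.inv_mem_iff.1 ha
    have hfix : conjOn d (fun t : Q.comap π => (S.mu hφ lam t : ℂ)) = fun t => (S.mu hφ lam t : ℂ) :=
      le_inertia (IsIrrCharacter.isClassFunction (S.isIrr_mu hφ lam)) hdT
    exact congrFun (hd.trans hfix) t

theorem fixed_stab (hφτ : S.tau φ = φ) (a : A) : S.act (σA a) φ = φ ↔ S.act a φ = φ := by
  constructor <;> intro h
  · have := congrArg S.tau h
    rwa [S.tau_act, hφτ, MulAut.inv_apply_self] at this
  · refine S.tau.injective ?_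
    rw [S.tau_act, hφτ, MulAut.inv_apply_self, h]

/-- The existence of the twins. -/
theorem exists_twins [Finite A] (hA : ¬ IsCyclic A) (hH : π.ker ≠ ⊥) {u : A}
    (hu : ∀ x ∈ π.ker, ι u * x = x * ι u → x = 1) :
    ∃ θ θ' : D → ℂ, Cfsg.IsIrrCharacter D θ ∧ Cfsg.IsIrrCharacter D θ' ∧ θ 1 = θ' 1 ∧
      (∃ d, π d = 1 ∧ θ d ≠ θ 1) ∧ (∃ d, π d = 1 ∧ θ' d ≠ θ' 1) ∧
      (fun d => θ (σ d)) = θ ∧ (fun d => θ' (σ d)) ≠ θ' := by
  classical
  obtain ⟨φ, r, hr, hrd, hφr, hφ1, hφτ, huniq⟩ := S.exists_fixed_char hH hu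
  let Q : Subgroup A :=
    { carrier := {a | S.act a φ = φ}
      one_mem' := by simp
      mul_mem' := fun {a b} ha hb => by
        change S.act (a * b) φ = φ
        rw [← S.act_act, hb, ha]
      inv_mem' := fun {a} ha => by
        change S.act a⁻¹ φ = φ
        conv_lhs => rw [← show S.act a φ = φ from ha]
        rw [S.act_act, inv_mul_cancel, map_one, MulAut.one_apply] }
  have hQ : ∀ a, S.act a φ = φ ↔ a ∈ Q := fun a => Iff.rfl
  have hQs : ∀ a, σA a ∈ Q ↔ a ∈ Q := fun a => S.fixed_stab hφτ a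
  have hQ' : ∀ a ∈ Q, S.act a φ = φ := fun a ha => (hQ a).2 ha
  have hfixed : (fun d => S.twin hQ' 1 (σ d)) = S.twin hQ' 1 := by
    funext d
    rw [S.twin_comp hQs, twin]
    congr 1
    funext t
    rw [mu_apply, mu_apply, S.kerPart_aut, ← S.tau_apply, hφτ]
    rfl
  by_cases hQb : Q = ⊥
  · have hodd : Odd (Nat.card A) := S.odd.of_dvd_nat (Subgroup.card_dvd_of_surjective π fun a => ⟨ι a, S.sec a⟩)
    have hr2 : r ≠ 2 := fun e => by
      subst e
      exact (Nat.not_even_iff_odd.2 (S.odd.of_dvd_nat (π.ker.card_subgroup_dvd_card))) (even_iff_two_dvd.2 hrd)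
    obtain ⟨x, hxr, hxreg, hxmove⟩ := exists_regular_moved (W := π.ker →* ℂˣ) S.act hA hodd hr hr2
      (S.copA.coprime_dvd_left hrd) hφr hφ1 fun a ha => by
        have : a ∈ Q := ha
        rwa [hQb, mem_bot] at this
    have hx1 : x ≠ 1 := fun e => hxmove 1 0 (by simp [e])
    have hQx : ∀ a, S.act a x = x ↔ a ∈ Q := fun a => by
      rw [hQb, mem_bot]
      exact ⟨hxreg a, fun e => by rw [e, map_one, MulAut.one_apply]⟩
    refine ⟨S.twin hQ' 1, S.twin (fun a ha => (hQx a).2 ha) 1, S.isIrr_twin hQ 1, S.isIrr_twin hQx 1,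
      by rw [twin_one, twin_one], S.twin_nontrivial hQ 1 hφ1, S.twin_nontrivial hQx 1 hx1, hfixed, fun h => ?_⟩
    obtain ⟨c, hc, -⟩ := S.twin_fixed hQs hQx 1 h
    let f : A →* A := { toFun := fun a => a * (σA⁻¹ a)⁻¹, map_one' := by simp,
                        map_mul' := fun x y => by rw [map_mul, mul_inv, mul_mul_mul_comm] }
    have hf : Function.Injective f := (injective_iff_map_eq_one f).2 fun a ha => by
      have h1 : σA⁻¹ a = a := (mul_inv_eq_one.1 ha).symm
      refine S.free a ?_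
      conv_lhs => rw [← h1]
      exact σA.apply_symm_apply a
    obtain ⟨a, ha⟩ := (Finite.injective_iff_surjective.1 hf) c
    have hfx : S.tau (S.act a x) = S.act a x := by
      rw [S.tau_act, hc, S.act_act, ← ha]
      refine congrArg (fun b => S.act b x) ?_
      change σA⁻¹ a * (a * (σA⁻¹ a)⁻¹) = a
      rw [mul_comm a, mul_inv_cancel_left]
    obtain ⟨k, hk⟩ := huniq _ hfx (by rw [← apply_pow, hxr, map_one])
    exact hxmove a k hk
  · haveI : Nontrivial Q := Q.nontrivial_iff_ne_bot.2 hQb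
    obtain ⟨s0, hs0⟩ := exists_ne (1 : Q)
    haveI : NeZero (Monoid.exponent Q : ℂ) := ⟨Nat.cast_ne_zero.2 Monoid.exponent_ne_zero_of_finite⟩
    obtain ⟨lam, hlam⟩ := CommGroup.exists_apply_ne_one_of_hasEnoughRootsOfUnity Q ℂ hs0
    refine ⟨S.twin hQ' 1, S.twin hQ' lam, S.isIrr_twin hQ 1, S.isIrr_twin hQ lam, by rw [twin_one, twin_one],
      S.twin_nontrivial hQ 1 hφ1, S.twin_nontrivial hQ lam hφ1, hfixed, fun h => ?_⟩
    obtain ⟨a, ha, hfix⟩ := S.twin_fixed hQs hQ lam h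
    have hfix := hfix (((hQ a).1 (ha.symm.trans hφτ)))
    let σQ : Q →* Q := { toFun := fun s => ⟨σA s, (hQs s).2 s.2⟩, map_one' := Subtype.ext (map_one σA),
                         map_mul' := fun x y => Subtype.ext (map_mul σA (x : A) y) }
    have hlamσ : ∀ s : Q, lam (σQ s) = lam s := fun s => by
      have hs : ι (s : A) ∈ Q.comap π := by rw [mem_comap, S.sec]; exact s.2
      have := hfix ⟨ι s, hs⟩
      rw [mu_apply, mu_apply] at this
      simp only [S.kerPart_aut, S.kerPart_lift, map_one, one_mul, S.proj, S.sec] at this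
      exact this
    let f : Q →* Q := { toFun := fun s => σQ s * s⁻¹, map_one' := by simp,
                        map_mul' := fun x y => by rw [map_mul, mul_inv, mul_mul_mul_comm] }
    have hf : Function.Injective f := (injective_iff_map_eq_one f).2 fun s hs =>
      Subtype.ext (S.free s (congrArg Subtype.val (mul_inv_eq_one.1 hs)))
    obtain ⟨t, ht⟩ := (Finite.injective_iff_surjective.1 hf) s0
    refine hlam ?_
    rw [← ht]
    change lam (σQ t * t⁻¹) = 1
    rw [map_mul, map_inv, hlamσ, mul_inv_cancel]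

end Data

end CfsgLib.OddEnd.Twins
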