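import Cfsg.Agent.Coprime.Generation
import Mathlib.RingTheory.Coprime.Lemmas
import Mathlib.Data.Nat.Prime.Int

/-!
# A regular vector outside the orbit of a fixed line (module lemma for Peterfalvi 10.7)

`A` is a non-cyclic abelian group of odd order acting on an abelian group `W`, and `φ` is a regular vector of
odd prime order `r` prime to `|A|`. Some vector of order dividing `r` is regular and lies in no orbit of a power
of `φ`.
-/

set_option autoImplicit false

namespace CfsgLib.OddEnd.Twins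

universe u v

variable {A : Type u} [CommGroup A] {W : Type v} [CommGroup W] (act : A →* MulAut W)

theorem act_act (a b : A) (w : W) : act a (act b w) = act (a * b) w := by
  rw [map_mul, MulAut.mul_apply]

theorem eq_one_of_pow_coprime {w : W} {m n : ℕ} (h : m.Coprime n) (hm : w ^ m = 1) (hn : w ^ n = 1) : w = 1 := by
  have := pow_gcd_eq_one.2 ⟨hm, hn⟩
  rwa [h.gcd_eq_one, pow_one] at this

/-- Some element of prime order has a non-trivial orbit product at `φ`. -/
theorem exists_orbit_prod_ne_one [Finite A] (hA : ¬ IsCyclic A) {φ : W} {r : ℕ} (hφr : φ ^ r = 1) (hφ1 : φ ≠ 1)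
    (hr : r.Coprime (Nat.card A)) :
    ∃ (q : ℕ) (v : A), q.Prime ∧ v ≠ 1 ∧ v ^ q = 1 ∧ q ∣ Nat.card A ∧
      (∏ j ∈ Finset.range q, act (v ^ j) φ) ≠ 1 := by
  classical
  obtain ⟨q, E, hq, hE, hEq⟩ := Coprime.exists_elementary_sq hA
  have hqA : q ∣ Nat.card A := (dvd_pow_self q two_ne_zero).trans (hE ▸ E.card_subgroup_dvd_card)
  obtain ⟨a, haE, ha1⟩ := (E.bot_or_exists_ne_one).resolve_left fun e => by
    rw [e, Subgroup.card_bot] at hE
    have := hq.one_lt
    nlinarith
  have hoa : orderOf a = q := by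
    haveI := Fact.mk hq
    exact orderOf_eq_prime (hEq a haE) ha1
  obtain ⟨b, hbE, hb⟩ : ∃ b ∈ E, b ∉ Subgroup.zpowers a := by
    by_contra h
    push Not at h
    have := Subgroup.card_dvd_of_le (show E ≤ Subgroup.zpowers a from h)
    rw [hE, Nat.card_zpowers, hoa] at this
    have := Nat.le_of_dvd hq.pos this
    have := hq.one_lt
    nlinarith
  by_contra hno
  push Not at hno
  have hb1 : b ≠ 1 := fun e => hb (e ▸ one_mem _)
  have hfb : ∏ i ∈ Finset.range q, act (b ^ i) φ = 1 := hno q b hq hb1 (hEq b hbE) hqA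
  have hfj : ∀ j, ∏ i ∈ Finset.range q, act ((a * b ^ j) ^ i) φ = 1 := fun j => by
    refine hno q _ hq (fun e => hb ?_) (hEq _ (mul_mem haE (pow_mem hbE j))) hqA
    -- `b ^ j = a⁻¹` is a generator of `⟨b⟩`
    have hbj : b ^ j = a⁻¹ := eq_inv_of_mul_eq_one_right e
    have hqj : j.Coprime q := ((hq.coprime_iff_not_dvd).2 fun hd => by
      obtain ⟨k, rfl⟩ := hd
      rw [pow_mul, hEq b hbE, one_pow] at hbj
      exact ha1 (inv_eq_one.1 hbj.symm)).symm
    obtain ⟨m, -, hm⟩ := Nat.exists_mul_mod_eq_one_of_coprime hqj hq.one_lt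
    have : b = (b ^ j) ^ m := by
      rw [← pow_mul, pow_eq_pow_mod _ (hEq b hbE), hm, pow_one]
    rw [this, hbj]
    exact pow_mem (inv_mem (Subgroup.mem_zpowers a)) m
  -- compare the two ways to add the lines
  set F : ℕ → W := fun i => ∏ j ∈ Finset.range q, act (a ^ i * b ^ (i * j)) φ with hF
  have hzero : F 0 = φ ^ q := by simp [hF]
  have hperm : ∀ i ∈ Finset.range q, i ≠ 0 → F i = act (a ^ i) (∏ j ∈ Finset.range q, act (b ^ j) φ) := by
    intro i hi h0
    have hiq : i.Coprime q := ((hq.coprime_iff_not_dvd).2 fun hd =>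
      absurd (Nat.le_of_dvd (by omega) hd) (by have := Finset.mem_range.1 hi; omega)).symm
    simp only [hF, map_prod, act_act]
    refine Finset.prod_bij (fun j _ => i * j % q) (fun j _ => Finset.mem_range.2 (Nat.mod_lt _ hq.pos))
      (fun j₁ h₁ j₂ h₂ e => ?_) (fun j hj => ?_) (fun j _ => ?_)
    · have := Nat.ModEq.cancel_left_of_coprime hiq.symm (show i * j₁ ≡ i * j₂ [MOD q] from e)
      rw [Nat.ModEq, Nat.mod_eq_of_lt (Finset.mem_range.1 h₁), Nat.mod_eq_of_lt (Finset.mem_range.1 h₂)] at this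
      exact this
    · obtain ⟨m, -, hm⟩ := Nat.exists_mul_mod_eq_one_of_coprime hiq hq.one_lt
      refine ⟨m * j % q, Finset.mem_range.2 (Nat.mod_lt _ hq.pos), ?_⟩
      rw [← Nat.mul_mod_mod, Nat.mod_mod, Nat.mul_mod_mod, ← mul_assoc, Nat.mul_mod, hm, one_mul, Nat.mod_mod,
        Nat.mod_eq_of_lt (Finset.mem_range.1 hj)]
    · rw [← pow_eq_pow_mod _ (hEq b hbE)]
  have h1 : ∏ i ∈ Finset.range q, F i = φ ^ q := by
    rw [← Finset.mul_prod_erase _ _ (Finset.mem_range.2 hq.pos), hzero,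
      Finset.prod_eq_one (fun i hi => by
        rw [hperm i (Finset.mem_of_mem_erase hi) (Finset.ne_of_mem_erase hi), hfb, map_one]), mul_one]
  have h2 : ∏ i ∈ Finset.range q, F i = 1 := by
    simp only [hF]
    rw [Finset.prod_comm]
    refine Finset.prod_eq_one fun j _ => ?_
    rw [← hfj j]
    refine Finset.prod_congr rfl fun i _ => ?_
    rw [mul_pow, ← pow_mul, mul_comm i j]
  exact hφ1 (eq_one_of_pow_coprime (hr.coprime_dvd_right hqA) hφr (h1.symm.trans h2))

/-- A regular vector outside the orbits of the powers of `φ`. -/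
theorem exists_regular_moved [Finite A] (hA : ¬ IsCyclic A) (hodd : Odd (Nat.card A)) {φ : W} {r : ℕ}
    (hr : r.Prime) (hr2 : r ≠ 2) (hrA : r.Coprime (Nat.card A)) (hφr : φ ^ r = 1) (hφ1 : φ ≠ 1)
    (hreg : ∀ a, act a φ = φ → a = 1) :
    ∃ x : W, x ^ r = 1 ∧ (∀ a, act a x = x → a = 1) ∧ ∀ (a : A) (k : ℕ), act a x ≠ φ ^ k := by
  classical
  obtain ⟨q, v, hq, hv1, hvq, hqA, hf1⟩ := exists_orbit_prod_ne_one act hA hφr hφ1 hrA
  have hqr : q.Coprime r := (hrA.coprime_dvd_right hqA).symm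
  set N : W →* W :=
    { toFun := fun y => ∏ j ∈ Finset.range q, act (v ^ j) y
      map_one' := by simp
      map_mul' := fun y z => by simp [Finset.prod_mul_distrib] } with hN
  set f := N φ with hfdef
  have hfr : f ^ r = 1 := by rw [hfdef, ← map_pow, hφr, map_one]
  have hcomm : ∀ a y, N (act a y) = act a (N y) := fun a y => by
    simp only [hN, MonoidHom.coe_mk, OneHom.coe_mk, map_prod, act_act, mul_comm a]
  have hvf : act v f = f := by
    simp only [hfdef, hN, MonoidHom.coe_mk, OneHom.coe_mk, map_prod, act_act, ← pow_succ']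
    have h := Finset.prod_range_succ (fun j => act (v ^ j) φ) q
    rw [Finset.prod_range_succ' (fun j => act (v ^ j) φ) q, hvq, pow_zero] at h
    exact mul_right_cancel h
  have hNf : N f = f ^ q := by
    have : ∀ j, act (v ^ j) f = f := fun j => by
      induction j with
      | zero => simp
      | succ j ih => rw [pow_succ, ← act_act, hvf, ih]
    change ∏ j ∈ Finset.range q, act (v ^ j) f = f ^ q
    rw [Finset.prod_congr rfl fun j _ => this j, Finset.prod_const, Finset.card_range]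
  set x := φ ^ q * ((f ^ 2)⁻¹) with hx
  have hxr : x ^ r = 1 := by
    rw [hx, mul_pow, inv_pow, ← pow_mul, ← pow_mul, mul_comm q, mul_comm 2, pow_mul, pow_mul, hφr, hfr]
    simp
  have hNx : N x = (f ^ q)⁻¹ := by
    rw [hx, map_mul, map_inv, map_pow, map_pow, hNf, ← hfdef]
    group
  have hxx : x ^ q * ((N x) ^ 2)⁻¹ = φ ^ (q * q) := by
    rw [hNx, hx, mul_pow, inv_pow, inv_pow, inv_inv, ← pow_mul, ← pow_mul, ← pow_mul, mul_comm q 2,
      inv_mul_cancel_right]
  have hreg' : ∀ a, act a (φ ^ q) = φ ^ q → a = 1 := fun a h => hreg a (by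
    have h1 : (act a φ * φ⁻¹) ^ q = 1 := by rw [mul_pow, ← map_pow, h, inv_pow, mul_inv_cancel]
    have h2 : (act a φ * φ⁻¹) ^ r = 1 := by rw [mul_pow, ← map_pow, hφr, map_one, inv_pow, hφr, inv_one, mul_one]
    exact mul_inv_eq_one.1 (eq_one_of_pow_coprime hqr h1 h2))
  refine ⟨x, hxr, fun a ha => ?_, fun a k hk => ?_⟩
  · refine hreg a ?_
    have h : act a (φ ^ (q * q)) = φ ^ (q * q) := by
      rw [← hxx, map_mul, map_inv, map_pow, map_pow, ← hcomm, ha]
    have h1 : (act a φ * φ⁻¹) ^ (q * q) = 1 := by rw [mul_pow, ← map_pow, h, inv_pow, mul_inv_cancel]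
    have h2 : (act a φ * φ⁻¹) ^ r = 1 := by rw [mul_pow, ← map_pow, hφr, map_one, inv_pow, hφr, inv_one, mul_one]
    exact mul_inv_eq_one.1 (eq_one_of_pow_coprime (hqr.mul_left hqr) h1 h2)
  · -- `x = b • φ ^ k` with `b = a⁻¹`
    obtain ⟨b, hb⟩ : ∃ b, act b (φ ^ k) = x :=
      ⟨a⁻¹, by rw [← hk, act_act, inv_mul_cancel, map_one, MulAut.one_apply]⟩
    have hbf : act b (f ^ k) = (f⁻¹) ^ q := by rw [hfdef, ← map_pow, ← hcomm, hb, hNx, inv_pow]
    set g := φ ^ q * f⁻¹ with hg
    have hgr : g ^ r = 1 := by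
      rw [hg, mul_pow, inv_pow, ← pow_mul, mul_comm q, pow_mul, hφr, hfr]
      simp
    have hbg : act b (g ^ k) = g ^ q := by
      rw [hg, mul_pow, mul_pow, map_mul, inv_pow, map_inv, hbf, ← pow_mul φ q k, mul_comm q k, pow_mul φ k q,
        map_pow, hb, hx]
      simp only [mul_pow, inv_pow, inv_inv, ← pow_mul, mul_comm q 2, two_mul, pow_add]
      group
    have hgne : g ≠ 1 := fun e => hv1 (hreg' v (by rw [mul_inv_eq_one.1 e, hvf]))
    -- iterate
    have key : ∀ (y : W) (c : ℤ), act b (y ^ k) = y ^ c → ∀ n : ℕ, act (b ^ n) (y ^ (k ^ n)) = y ^ (c ^ n) := by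
      intro y c hy n
      induction n with
      | zero => simp
      | succ n ih =>
        rw [pow_succ' b, pow_succ k, pow_mul, ← act_act, map_pow (act (b ^ n)), ih, ← zpow_natCast,
          zpow_comm, zpow_natCast, map_zpow, hy, ← zpow_mul, ← pow_succ']
    set n := Nat.card A
    have hbn : b ^ n = 1 := pow_card_eq_one'
    have e1 := key f (-(q : ℤ)) (by rw [hbf, zpow_neg, zpow_natCast, inv_pow]) n
    have e2 := key g q (by rw [hbg, zpow_natCast]) n
    rw [hbn, map_one, MulAut.one_apply, ← zpow_natCast] at e1 e2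
    have ord : ∀ y : W, y ^ r = 1 → y ≠ 1 → orderOf y = r := fun y h1 h2 =>
      haveI := Fact.mk hr; orderOf_eq_prime h1 h2
    have d1 := orderOf_dvd_sub_iff_zpow_eq_zpow.2 e1
    have d2 := orderOf_dvd_sub_iff_zpow_eq_zpow.2 e2
    rw [ord f hfr hf1] at d1
    rw [ord g hgr hgne] at d2
    rw [hodd.neg_pow] at d1
    have d3 : (r : ℤ) ∣ 2 * (q : ℤ) ^ n := by
      have := dvd_sub d1 d2
      rwa [sub_neg_eq_add, add_sub_sub_cancel, ← two_mul] at this
    rcases (Nat.prime_iff_prime_int.1 hr).dvd_or_dvd d3 with h | h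
    · exact hr2 ((Nat.prime_dvd_prime_iff_eq hr Nat.prime_two).1 (Int.natCast_dvd_natCast.1 h))
    · have := Int.natCast_dvd_natCast.1 ((Nat.prime_iff_prime_int.1 hr).dvd_of_dvd_pow h)
      exact hr.ne_one (Nat.eq_one_of_dvd_coprimes hqr this dvd_rfl)

end CfsgLib.OddEnd.Twins
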