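import Cfsg.Agent.OddEnd.ThirteenEnergy
import Cfsg.Agent.Char.CosetSquare
import Cfsg.Agent.Char.Signed
import Cfsg.Prelude.Def_OddOrderLocal

/-!
Peterfalvi 13, counting lemmas: the energy of a signed irreducible inside a stable set, stability of Dade
supports under powers, and the spread of disjoint pairs.
-/

set_option autoImplicit false
set_option linter.unusedSectionVars false

namespace CfsgLib.OddEnd

open CfsgLib.Char

universe u

section Inside

variable {G : Type u} [Group G]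

/-- A signed irreducible character that is `1` modulo an even number off a stable set has at most average
energy one on that set. -/
theorem sum_inside_le [Fintype G] {η f : G → ℂ} (hη : IsSignedIrr η) (hf : Cfsg.IsGeneralizedCharacter G f)
    {n : ℤ} (hn : Even n) (Z : Finset G) (hZ : ∀ t : ℕ, t.Coprime (Nat.card G) → ∀ g ∈ Z, g ^ t ∈ Z)
    (h : ∀ g ∉ Z, η g = 1 + (n : ℂ) * f g) : ∑ g ∈ Z, ‖η g‖ ^ 2 ≤ (Z.card : ℝ) := by
  classical
  obtain ⟨e, χ, he, hχ, rfl⟩ := IsSignedIrr.exists_smul hη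
  have hnorm : ∀ g, ‖(e • χ) g‖ = ‖χ g‖ := fun g => by
    rcases he with rfl | rfl <;> simp
  simp only [hnorm]
  have hc := IsIrrCharacter.isCharacter hχ
  have hne : ∀ g ∈ Zᶜ, χ g ≠ 0 := by
    intro g hg h0
    have h1 := h g (Finset.mem_compl.1 hg)
    rw [Pi.smul_apply, h0, smul_zero] at h1
    obtain ⟨k, rfl⟩ := hn
    have hk : ((k + k : ℤ) : ℂ) ≠ 0 := by
      intro hk; rw [hk, zero_mul, add_zero] at h1; exact zero_ne_one h1
    have hq : f g = algebraMap ℚ ℂ (-((k + k : ℤ) : ℚ)⁻¹) := by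
      rw [map_neg, map_inv₀, map_intCast]
      apply mul_left_cancel₀ hk
      rw [mul_neg, mul_inv_cancel₀ hk]
      linear_combination -h1
    have hi : IsIntegral ℤ (-((k + k : ℤ) : ℚ)⁻¹) := by
      rw [← isIntegral_algebraMap_iff (algebraMap ℚ ℂ).injective (A := ℚ) (B := ℂ) (R := ℤ), ← hq]
      exact IsGeneralized.isIntegral hf g
    obtain ⟨m, hm⟩ := IsIntegrallyClosed.isIntegral_iff.1 hi
    rw [eq_intCast] at hm
    have hk' : ((k + k : ℤ) : ℚ) ≠ 0 := by exact_mod_cast hk
    have : ((m * (k + k) : ℤ) : ℚ) = ((-1 : ℤ) : ℚ) := by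
      rw [Int.cast_mul, hm, neg_mul, inv_mul_cancel₀ hk']
      norm_num
    have h2 : m * (k + k) = -1 := by exact_mod_cast this
    have : (2 : ℤ) ∣ -1 := ⟨m * k, by rw [← h2]; ring⟩
    omega
  have hstable : ∀ t : ℕ, t.Coprime (Nat.card G) → ∀ g ∈ Zᶜ, g ^ t ∈ Zᶜ := by
    intro t ht g hg
    rw [Finset.mem_compl] at hg ⊢
    intro hgt
    have himg : Z.image (fun g => g ^ t) = Z :=
      Finset.eq_of_subset_of_card_le (Finset.image_subset_iff.2 (hZ t ht))
        (Finset.card_image_of_injective Z (powCoprime (Nat.coprime_comm.1 ht)).injective).ge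
    rw [← himg, Finset.mem_image] at hgt
    obtain ⟨a, ha, hag⟩ := hgt
    exact hg ((powCoprime (Nat.coprime_comm.1 ht)).injective hag ▸ ha)
  have h1 := card_le_sum_norm_pow Zᶜ χ 2 (fun g _ => IsCharacter.isIntegral hc g) hne
    (prod_fixed_of_stable hc Zᶜ hstable)
  have h2 := sum_norm_sq_eq hχ
  rw [← Finset.sum_add_sum_compl Z] at h2
  rw [Finset.card_compl, Nat.cast_sub (Finset.card_le_univ Z), ← Nat.card_eq_fintype_card] at h1
  linarith

theorem dadeSupp_pow [Finite G] {A : Set G} {R : G → Subgroup G} {t : ℕ} (hA : ∀ a ∈ A, a ^ t ∈ A)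
    (hR : ∀ a ∈ A, R (a ^ t) = R a) (hc : ∀ a ∈ A, ∀ u ∈ R a, a * u = u * a) {g : G}
    (hg : g ∈ dadeSupp A R) : g ^ t ∈ dadeSupp A R := by
  obtain ⟨a, ha, u, hu, x, hx⟩ := hg
  refine ⟨a ^ t, hA a ha, u ^ t, by rw [hR a ha]; exact pow_mem hu t, x, ?_⟩
  rw [← conj_pow, hx]
  exact Commute.mul_pow (hc a ha u hu) t

theorem supportR_pow [Finite G] (L : Subgroup G) {x : G} {t : ℕ} (ht : t.Coprime (orderOf x)) :
    Cfsg.supportR L (x ^ t) = Cfsg.supportR L x := by
  classical
  have hC : Subgroup.centralizer ({x ^ t} : Set G) = Subgroup.centralizer ({x} : Set G) := by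
    ext y
    simp only [Subgroup.mem_centralizer_singleton_iff]
    constructor
    · intro hy
      obtain ⟨i, hi⟩ := exists_pow_eq_self_of_coprime ht
      have := Commute.pow_right (show Commute y (x ^ t) from hy) i
      rw [hi] at this
      exact this
    · exact fun hy => Commute.pow_right (show Commute y x from hy) t
  unfold Cfsg.supportR
  simp only [hC]

end Inside

/-- Disjoint pairs at distance one force a spread. -/
theorem pairs_spread {ι κ : Type*} [Fintype ι] [Fintype κ] (A : ι → ℝ) (f g : κ → ι)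
    (hinj : Function.Injective (Sum.elim f g)) (hd : ∀ k, 1 ≤ (A (f k) - A (g k)) ^ 2) :
    (Fintype.card ι : ℝ) * Fintype.card κ / 2 ≤
      (Fintype.card ι : ℝ) * ∑ l, A l ^ 2 - (∑ l, A l) ^ 2 := by
  classical
  rcases isEmpty_or_nonempty ι with hι | hι
  · simp
  set h : ℝ := (Fintype.card ι : ℝ)
  have hh : 0 < h := Nat.cast_pos.2 Fintype.card_pos
  set m := (∑ l, A l) / h with hm
  have e : h * ∑ l, (A l - m) ^ 2 = h * ∑ l, A l ^ 2 - (∑ l, A l) ^ 2 := by
    have hs : ∑ l, A l = h * m := by rw [hm, mul_div_cancel₀ _ hh.ne']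
    simp only [sub_sq, Finset.sum_add_distrib, Finset.sum_sub_distrib, Finset.sum_const, Finset.card_univ,
      nsmul_eq_mul, ← Finset.sum_mul, ← Finset.mul_sum]
    rw [hs]; ring
  have hle := Finset.sum_le_sum_of_subset_of_nonneg
    (Finset.subset_univ ((Finset.univ : Finset (κ ⊕ κ)).image (Sum.elim f g)))
    (fun l _ _ => sq_nonneg (A l - m))
  rw [Finset.sum_image fun a _ b _ hab => hinj hab, Fintype.sum_sum_type] at hle
  simp only [Sum.elim_inl, Sum.elim_inr, ← Finset.sum_add_distrib] at hle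
  have hk : (Fintype.card κ : ℝ) / 2 ≤ ∑ k, ((A (f k) - m) ^ 2 + (A (g k) - m) ^ 2) := by
    calc (Fintype.card κ : ℝ) / 2 = ∑ _k : κ, (1 / 2 : ℝ) := by
          rw [Finset.sum_const, Finset.card_univ, nsmul_eq_mul]; ring
      _ ≤ _ := Finset.sum_le_sum fun k _ => by
          nlinarith [hd k, sq_nonneg (A (f k) + A (g k) - 2 * m)]
  rw [← e, mul_div_assoc]
  exact mul_le_mul_of_nonneg_left (hk.trans hle) hh.le

end CfsgLib.OddEnd
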