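import Cfsg.Agent.OddEnd.ThirteenPart
import Cfsg.Agent.OddEnd.ThirteenEnergy
import Cfsg.Agent.OddEnd.FrobeniusSide
import Cfsg.Agent.Char.CosetSquare
import Mathlib.GroupTheory.NoncommCoprod

/-!
Peterfalvi 13: if `U` is not faithful on `M_F`, the kernel of `L` is abelian.
-/

set_option autoImplicit false
set_option linter.unusedSectionVars false
set_option linter.style.haveILetI false

namespace CfsgLib.OddEnd

open Subgroup CfsgLib.OddLocal CfsgLib.Char
open scoped ComplexConjugate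

universe u

variable {G : Type u} [Group G]

/-- The average of the squares dominates the square of the average. -/
theorem norm_rho_sq_le [Finite G] {L : Subgroup G} (R : G → Subgroup G) (χ : G → ℂ) (a : L) :
    ‖rho L R χ a‖ ^ 2 ≤ (Nat.card (R (a : G)) : ℝ)⁻¹ * ∑ᶠ u ∈ (R (a : G) : Set G), ‖χ ((a : G) * u)‖ ^ 2 := by
  classical
  simp only [rho]
  rw [finsum_mem_eq_finite_toFinset_sum _ (Set.toFinite _),
    finsum_mem_eq_finite_toFinset_sum _ (Set.toFinite _)]
  set K := (Set.toFinite (R (a : G) : Set G)).toFinset with hK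
  have hcard : (Nat.card (R (a : G)) : ℝ) = K.card := by
    rw [hK, ← Set.ncard_eq_toFinset_card, ← Nat.card_coe_set_eq]; rfl
  rw [norm_mul, norm_inv, Complex.norm_natCast, mul_pow, hcard]
  have hn : 0 < (K.card : ℝ) := by rw [← hcard]; exact_mod_cast Nat.card_pos
  calc (K.card : ℝ)⁻¹ ^ 2 * ‖∑ u ∈ K, χ ((a : G) * u)‖ ^ 2
      ≤ (K.card : ℝ)⁻¹ ^ 2 * ((K.card : ℝ) * ∑ u ∈ K, ‖χ ((a : G) * u)‖ ^ 2) := by
        refine mul_le_mul_of_nonneg_left ?_ (by positivity)
        exact (pow_le_pow_left₀ (norm_nonneg _) (norm_sum_le _ _) 2).trans sq_sum_le_card_mul_sum_sq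
    _ = (K.card : ℝ)⁻¹ * ∑ u ∈ K, ‖χ ((a : G) * u)‖ ^ 2 := by field_simp

variable [Fintype G]

theorem finsum_subgroup {M : Type*} [AddCommMonoid M] (H : Subgroup G) [Fintype H] (F : G → M) :
    ∑ᶠ u ∈ (H : Set G), F u = ∑ x : H, F x := by
  rw [← finsum_set_coe_eq_finsum_mem, finsum_eq_sum_of_fintype]
  exact Finset.sum_congr (by ext; simp) fun _ _ => rfl

namespace Unfaithful

variable {S T W₁ W₂ U V L : Subgroup G} {r : ℕ} {c : G} (D : Unfaithful S T W₁ W₂ U V L r c)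
variable (hG : Cfsg.IsMinSimpleOddOrder G) (hU : Upto12 G)
include D hG hU

theorem supportR_of_mem {z : G} (hz : z ∈ zpowers c) (hz1 : z ≠ 1) :
    Cfsg.supportR L z = Cfsg.fittingHallOf S := by
  haveI := Fact.mk D.prime
  have hord : orderOf z = r := by
    refine orderOf_eq_prime (orderOf_dvd_iff_pow_eq_one.1 ?_) hz1
    have h := Kap.dvd_of_mem hz rfl
    rwa [Nat.card_zpowers, D.order] at h
  have e : zpowers z = zpowers c := eq_of_le_of_card_ge (zpowers_le.2 hz)
    (by rw [Nat.card_zpowers, Nat.card_zpowers, hord, D.order])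
  have key : centralizer ({z} : Set G) = centralizer ({c} : Set G) := by
    rw [← centralizer_closure {z}, ← zpowers_eq_closure, e, zpowers_eq_closure, centralizer_closure]
  obtain ⟨hle, huniq⟩ := D.centralizer_eq hG hU
  rw [← key] at hle huniq
  have hex : ∃! N : Subgroup G, IsCoatom N ∧ centralizer ({z} : Set G) ≤ N :=
    ⟨S, ⟨D.pair.coatom_S, hle⟩, fun N hN => huniq N hN.1 hN.2⟩
  have hnot : ¬ centralizer ({z} : Set G) ≤ L := key.symm ▸ D.not_centralizer_le hG hU
  rw [Cfsg.supportR, dif_pos ⟨hnot, hex⟩]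
  have e' : Classical.choose (⟨hnot, hex⟩ : ¬ centralizer ({z} : Set G) ≤ L ∧ _).2.exists = S :=
    hex.unique (Classical.choose_spec hex.exists) ⟨D.pair.coatom_S, hle⟩
  rw [e', inf_eq_left, key]
  exact D.H_le_centralizer

set_option maxHeartbeats 1000000 in
/-- Peterfalvi 13: the kernel of `L` is abelian. -/
theorem core_comm : IsMulCommutative ↥(Cfsg.sigmaCore L) := by
  classical
  by_contra hnab
  obtain ⟨hdvd, hsq, h3⟩ := D.nonabelian_arith hG hU hnab
  set H := Cfsg.fittingHallOf S with hHdef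
  set K := Cfsg.sigmaCore L
  set e := K.relIndex L
  set q := Nat.card W₁
  set h := Nat.card H with hhdef
  have hr := D.prime
  haveI := Fact.mk hr
  have hqe : q ≤ e := D.left_le_index hG hU
  have hq3 : 3 ≤ q := D.pair.left_odd hG hU
  obtain ⟨ie, hie⟩ : Odd e :=
    hG.1.of_dvd_nat ((K.relIndex_dvd_card L).trans L.card_subgroup_dvd_card)
  obtain ⟨ir, hir⟩ : Odd r := hG.1.of_dvd_nat (D.order ▸ orderOf_dvd_natCard c)
  have hr2e : 2 * e + 1 ≤ r := by
    obtain ⟨j, hj⟩ := hdvd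
    have := hr.two_le
    rcases j with _ | _ | j
    · omega
    · omega
    · nlinarith [Nat.sub_add_cancel hr.one_le]
  -- the character of the Frobenius side
  obtain ⟨ψ, ν, hν, hψν, -, hcong, hnorm⟩ := frobenius_side_of hG (p := r) hr D.overData.coatom
    D.overData.kappa_empty D.overData.frob D.mem_core D.order (D.not_centralizer_le hG hU)
    (by show 2 * e ≤ r + 1; omega) hsq
  have hψn : ∀ g, ‖ψ g‖ = ‖ν g‖ := fun g => by rcases hψν with rfl | rfl <;> simp
  have hψgen : Cfsg.IsGeneralizedCharacter G ψ := by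
    rcases hψν with rfl | rfl
    · exact IsIrrCharacter.isGeneralized hν
    · exact IsGeneralized.neg (IsIrrCharacter.isGeneralized hν)
  have hψcl := IsGeneralized.isClassFunction hψgen
  -- the restriction to `H × ⟨c⟩`
  set Z := zpowers c with hZdef
  have hcomm : ∀ (x : H) (z : Z), Commute (H.subtype x) (Z.subtype z) := fun x z => by
    obtain ⟨i, hi⟩ := mem_zpowers_iff.1 z.2
    show Commute (x : G) (z : G)
    rw [← hi]
    exact (show Commute (x : G) c from mem_centralizer_singleton_iff.1 (D.H_le_centralizer x.2)).zpow_right i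
  set φ := MonoidHom.noncommCoprod H.subtype Z.subtype hcomm
  set f : H × Z → ℂ := fun P => ψ (φ P) with hf
  have hfgen : Cfsg.IsGeneralizedCharacter (H × Z) f := IsGeneralized.comp hψgen φ
  have hfval : ∀ x z, f (x, z) = ψ ((z : G) * x) := fun x z => by
    simp only [hf, φ, MonoidHom.noncommCoprod_apply, Subgroup.coe_subtype]
    exact congrArg ψ (hcomm x z).eq
  have hcardZ : Nat.card Z = r := by rw [hZdef, Nat.card_zpowers, D.order]
  have hHc : ∀ a b : H, a * b = b * a := fun a b => (D.pair.elem hG hU).1.is_comm.comm a b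
  have hZc : ∀ a b : Z, a * b = b * a := fun a b => IsMulCommutative.is_comm.comm a b
  haveI := finite_linear (K := H)
  haveI := finite_linear (K := Z)
  letI := Fintype.ofFinite (H →* ℂˣ)
  letI := Fintype.ofFinite (Z →* ℂˣ)
  choose A hA hAex using fun l => slice_int (H := H) hZc hfgen l
  rw [hcardZ] at hAex
  have hcardI : (Fintype.card (H →* ℂˣ) : ℝ) = (h : ℝ) := by
    rw [← Nat.card_eq_fintype_card, card_hom_eq_index_commutator, show commutator H = ⊥ from
      le_bot_iff.1 (Subgroup.commutator_le.2 fun a _ b _ => by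
        rw [commutatorElement_def, Subgroup.mem_bot, hHc a b]; group), Subgroup.index_bot]
  -- squares on `L`
  have hDL := dade_core hG D.overData.coatom D.overData.kappa_empty
  set R := Cfsg.supportR L
  set w : L → ℝ := fun a => (Nat.card (R (a : G)) : ℝ)⁻¹ * ∑ᶠ u ∈ (R (a : G) : Set G), ‖ψ ((a : G) * u)‖ ^ 2
    with hw
  set v : L → ℝ := fun a => w a - ‖rho L R ψ a‖ ^ 2 with hv
  have hv0 : ∀ a, 0 ≤ v a := fun a => sub_nonneg.2 (norm_rho_sq_le R ψ a)
  have hvconj : ∀ (a m : L), (a : G) ∈ core1 L → v (m * a * m⁻¹) = v a := fun a m ha => by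
    have hc : ∀ b : L, ((w b : ℝ) : ℂ) = rho L R (fun g => ((‖ψ g‖ ^ 2 : ℝ) : ℂ)) b := fun b => by
      simp only [hw, rho]
      rw [finsum_mem_eq_finite_toFinset_sum _ (Set.toFinite _),
        finsum_mem_eq_finite_toFinset_sum _ (Set.toFinite _)]
      push_cast
      rfl
    have e1 : w (m * a * m⁻¹) = w a := Complex.ofReal_injective (by
      rw [hc, hc]
      exact rho_conj hDL (fun x y => by rw [hψcl x y]) ha m)
    simp only [hv]
    rw [e1, rho_conj hDL hψcl ha m]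
  have hcL : ∀ z : Z, (z : G) ∈ L := fun z => zpowers_le.2 (map_subtype_le _ D.mem_core) z.2
  set Zs := (Finset.univ : Finset Z).erase 1
  have hZcore : ∀ z ∈ Zs, ((⟨z, hcL z⟩ : L) : G) ∈ core1 L := fun z hz =>
    ⟨zpowers_le.2 D.mem_core z.2, fun e => (Finset.mem_erase.1 hz).1 (Subtype.ext e)⟩
  have hvz : ∀ z ∈ Zs, v ⟨z, hcL z⟩ = ∑ l ∈ Finset.univ.erase (1 : H →* ℂˣ), ‖coef (fun x => f (x, z)) l‖ ^ 2 := by
    intro z hz
    have hR : R ((⟨z, hcL z⟩ : L) : G) = H :=
      D.supportR_of_mem hG hU z.2 fun e => (Finset.mem_erase.1 hz).1 (Subtype.ext e)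
    simp only [hv, hw, rho]
    rw [hR, finsum_subgroup, finsum_subgroup, Finset.sum_erase_eq_sub (Finset.mem_univ _), sum_coef_sq hHc]
    simp [hfval, coef, classInner_def]
  set UW := (U ⊔ W₁).subgroupOf L
  have hUWL : U ⊔ W₁ ≤ L := sup_le D.U_le_L D.W₁_le_L
  set Φ : (L ⧸ UW) × Z → L := fun P => P.1.out * ⟨P.2, hcL P.2⟩ * P.1.out⁻¹
  have hinj : Set.InjOn Φ ↑((Finset.univ : Finset (L ⧸ UW)) ×ˢ Zs) := by
    rintro ⟨k, z⟩ hP ⟨k', z'⟩ hP' e
    rw [Finset.coe_product, Set.mem_prod] at hP hP'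
    have hz1 : (z : G) ≠ 1 := fun h' => (Finset.mem_erase.1 hP.2).1 (Subtype.ext h')
    have hz1' : (z' : G) ≠ 1 := fun h' => (Finset.mem_erase.1 hP'.2).1 (Subtype.ext h')
    have e' := congrArg Subtype.val e
    simp only [Φ, Subgroup.coe_mul, InvMemClass.coe_inv] at e'
    have hmem := D.line_fusion hG hU (x := ((k'.out⁻¹ * k.out : L) : G)) (k'.out⁻¹ * k.out : L).2 z.2 hz1 z'.2
      hz1' (by
        simp only [Subgroup.coe_mul, InvMemClass.coe_inv]
        calc _ = ((k'.out : L) : G)⁻¹ * ((k.out : L) * z * ((k.out : L) : G)⁻¹) * (k'.out : L) := by group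
          _ = (z' : G) := by rw [e']; group)
    have hk : k' = k := by
      rw [← QuotientGroup.out_eq' k', ← QuotientGroup.out_eq' k, QuotientGroup.eq]
      exact mem_subgroupOf.2 hmem
    subst hk
    exact Prod.ext rfl (Subtype.ext (mul_left_cancel (mul_right_cancel e')))
  set V0 := ∑ z ∈ Zs, v ⟨z, hcL z⟩ with hV0
  have hVL : (UW.index : ℝ) * V0 ≤ ∑ a ∈ Finset.univ.filter (fun a : L => (a : G) ∈ core1 L), v a := by
    calc (UW.index : ℝ) * V0 = ∑ P ∈ (Finset.univ : Finset (L ⧸ UW)) ×ˢ Zs, v (Φ P) := by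
          rw [Finset.sum_product, index_eq_card, Nat.card_eq_fintype_card, ← Finset.card_univ, ← nsmul_eq_mul,
            ← Finset.sum_const]
          exact Finset.sum_congr rfl fun k _ => Finset.sum_congr rfl fun z hz =>
            (hvconj _ k.out (hZcore z hz)).symm
      _ = ∑ a ∈ ((Finset.univ : Finset (L ⧸ UW)) ×ˢ Zs).image Φ, v a := (Finset.sum_image hinj).symm
      _ ≤ _ := by
        refine Finset.sum_le_sum_of_subset_of_nonneg (fun a ha => ?_) fun a _ _ => hv0 a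
        obtain ⟨⟨k, z⟩, hP, rfl⟩ := Finset.mem_image.1 ha
        exact Finset.mem_filter.2 ⟨Finset.mem_univ _,
          hDL.conj_mem _ k.out.2 _ (hZcore z (Finset.mem_product.1 hP).2)⟩
  -- squares on the two disjoint supports
  have hDH := D.dade_H hG hU
  set TL := dadeSupp (core1 L) R
  set TH := dadeSupp ((H : Set G) \ {1}) (fun _ => (⊥ : Subgroup G))
  have hbudget : (Nat.card G : ℝ)⁻¹ * ∑ g ∈ Finset.univ.filter (· ∈ TL), ‖ψ g‖ ^ 2 +
      (Nat.card G : ℝ)⁻¹ * ∑ g ∈ Finset.univ.filter (· ∈ TH), ‖ψ g‖ ^ 2 ≤ 1 := by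
    have hdisj : Disjoint (Finset.univ.filter (· ∈ TL)) (Finset.univ.filter (· ∈ TH)) :=
      Finset.disjoint_left.2 fun g h1 h2 =>
        D.supports_disjoint hG hU hDL (Finset.mem_filter.1 h2).2 (Finset.mem_filter.1 h1).2
    rw [← mul_add, ← Finset.sum_union hdisj,
      inv_mul_le_one₀ (Nat.cast_pos.2 Nat.card_pos), ← sum_norm_sq_eq hν]
    simp_rw [hψn]
    exact Finset.sum_le_sum_of_subset_of_nonneg (Finset.subset_univ _) fun _ _ _ => sq_nonneg _
  set HS := ∑ x ∈ (Finset.univ : Finset H).erase 1, ‖f (x, 1)‖ ^ 2 with hHSdef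
  have hHS : ∑ a ∈ Finset.univ.filter (fun a : S => (a : G) ∈ (H : Set G) \ {1}), ‖ψ a‖ ^ 2 = HS := by
    refine (Finset.sum_bij (fun (x : H) _ => (⟨x, FittingHall.of_le S x.2⟩ : S)) (fun x hx => ?_)
      (fun x _ y _ e => Subtype.ext (congrArg Subtype.val e :)) (fun a ha => ?_) fun x _ => ?_).symm
    · exact Finset.mem_filter.2 ⟨Finset.mem_univ _, x.2, fun e => (Finset.mem_erase.1 hx).1 (Subtype.ext e)⟩
    · obtain ⟨-, ha1, ha2⟩ := Finset.mem_filter.1 ha
      exact ⟨⟨a, ha1⟩, Finset.mem_erase.2 ⟨fun e => ha2 (congrArg Subtype.val e), Finset.mem_univ _⟩, rfl⟩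
    · simp [hfval]
  rw [sum_dadeSupp hDL (fun g x => by rw [hψcl g x]), sum_dadeSupp hDH (fun g x => by rw [hψcl g x])]
    at hbudget
  have hSsum : ∑ a ∈ Finset.univ.filter (fun a : S => (a : G) ∈ (H : Set G) \ {1}),
      (Nat.card ↥(⊥ : Subgroup G) : ℝ)⁻¹ * ∑ᶠ u ∈ ((⊥ : Subgroup G) : Set G), ‖ψ ((a : G) * u)‖ ^ 2 = HS := by
    rw [← hHS]
    exact Finset.sum_congr rfl fun a _ => by simp
  rw [hSsum, show ∑ a ∈ Finset.univ.filter (fun a : L => (a : G) ∈ core1 L),
      (Nat.card (R (a : G)) : ℝ)⁻¹ * ∑ᶠ u ∈ (R (a : G) : Set G), ‖ψ ((a : G) * u)‖ ^ 2 =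
      ∑ a ∈ Finset.univ.filter (fun a : L => (a : G) ∈ core1 L), ‖rho L R ψ a‖ ^ 2 +
      ∑ a ∈ Finset.univ.filter (fun a : L => (a : G) ∈ core1 L), v a by
    rw [← Finset.sum_add_distrib]
    exact Finset.sum_congr rfl fun a _ => by simp only [hv, hw]; ring] at hbudget
  rw [finsum_mem_eq_finite_toFinset_sum _ (Set.toFinite _),
    show (Set.toFinite {a : L | (a : G) ∈ core1 L}).toFinset =
      Finset.univ.filter (fun a : L => (a : G) ∈ core1 L) by ext; simp] at hnorm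
  -- the resulting inequality
  have hmain : 3 * (V0 + HS / h) ≤ (e : ℝ) * q := by
    have hUW : (UW.index : ℝ) * ((Nat.card U : ℝ) * q) = (Nat.card L : ℝ) := by
      have h1 := UW.card_mul_index
      rw [show Nat.card UW = Nat.card ↥(U ⊔ W₁) from Nat.card_congr (subgroupOfEquivOfLe hUWL).toEquiv,
        D.card_UW hG hU] at h1
      rw [← h1]; push_cast; ring
    have hS : (Nat.card S : ℝ) = (h : ℝ) * Nat.card U * q := by
      rw [D.pair.card_S, D.pair.card_derived]; push_cast; ring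
    have hUq : (0 : ℝ) < (Nat.card U : ℝ) * q := by
      have : 0 < Nat.card U * q := Nat.mul_pos Nat.card_pos Nat.card_pos
      exact_mod_cast this
    have hL0 : (0 : ℝ) < Nat.card L := Nat.cast_pos.2 Nat.card_pos
    have hK0 : (0 : ℝ) < Nat.card ↥K := Nat.cast_pos.2 Nat.card_pos
    have h0 : (0 : ℝ) < h := Nat.cast_pos.2 Nat.card_pos
    have h1 : (Nat.card L : ℝ)⁻¹ * ((UW.index : ℝ) * V0) = V0 / ((Nat.card U : ℝ) * q) := by
      have : (UW.index : ℝ) ≠ 0 := Nat.cast_ne_zero.2 index_ne_zero_of_finite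
      rw [← hUW]; field_simp
    have h2 : (Nat.card S : ℝ)⁻¹ * HS = HS / h / ((Nat.card U : ℝ) * q) := by rw [hS]; field_simp
    have h3' := mul_le_mul_of_nonneg_left hVL (inv_nonneg.2 hL0.le)
    rw [h1] at h3'
    rw [mul_add, h2] at hbudget
    have h4 : (V0 + HS / h) / ((Nat.card U : ℝ) * q) ≤ (e : ℝ) / Nat.card ↥K := by
      rw [add_div]; linarith [hnorm]
    rw [div_le_div_iff₀ hUq hK0] at h4
    have h5 : (3 : ℝ) * Nat.card U ≤ Nat.card ↥K := by exact_mod_cast h3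
    have h6 : 0 ≤ V0 + HS / h := add_nonneg (Finset.sum_nonneg fun _ _ => hv0 _)
      (div_nonneg (Finset.sum_nonneg fun _ _ => sq_nonneg _) h0.le)
    have hU0 : (0 : ℝ) < Nat.card U := Nat.cast_pos.2 Nat.card_pos
    nlinarith [mul_le_mul_of_nonneg_left h5 h6]
  -- the two cases
  have hVsum : V0 = ∑ l ∈ Finset.univ.erase (1 : H →* ℂˣ), ∑ z ∈ Zs, ‖coef (fun x => f (x, z)) l‖ ^ 2 := by
    rw [Finset.sum_comm]
    exact Finset.sum_congr rfl hvz
  by_cases hall : ∀ l : H →* ℂˣ, l ≠ 1 → ¬ (r : ℤ) ∣ A l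
  · have h1 : ((q : ℝ)) * ((r : ℝ) - 1) ≤ V0 := by
      rw [hVsum]
      refine le_trans ?_ (Finset.sum_le_sum fun l hl => hAex l (hall l (Finset.mem_erase.1 hl).1))
      rw [Finset.sum_const, nsmul_eq_mul]
      refine mul_le_mul_of_nonneg_right ?_ (by
        have : (1 : ℝ) ≤ r := by exact_mod_cast hr.one_le
        linarith)
      rw [Finset.card_erase_of_mem (Finset.mem_univ _), Finset.card_univ]
      have hI : Fintype.card (H →* ℂˣ) = h := by exact_mod_cast hcardI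
      rw [hI]
      have hpq : h = Nat.card W₂ ^ q := D.pair.card_H hG hU
      have h2q : q < Nat.card W₂ ^ q := Nat.lt_pow_self (D.pair.prime_right hG hU).one_lt
      exact_mod_cast (show q ≤ h - 1 by omega)
    have h2 : 0 ≤ HS / h := div_nonneg (Finset.sum_nonneg fun _ _ => sq_nonneg _) (Nat.cast_nonneg _)
    have hre : (2 * (e : ℝ) + 1) ≤ r := by exact_mod_cast hr2e
    have hq0 : (0 : ℝ) < q := Nat.cast_pos.2 Nat.card_pos
    have he0 : (0 : ℝ) < e := by
      have : 0 < e := by omega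
      exact_mod_cast this
    nlinarith
  push Not at hall
  obtain ⟨l, hl, hlA⟩ := hall
  have hA0 : Cong r (A 1 : ℂ) (e : ℂ) := by
    refine Cong.trans hr ?_ (hcong ⟨c, map_subtype_le _ D.mem_core⟩ D.mem_core D.order)
    rw [← hA 1]
    simp only [rho, coef, classInner_def, hfval]
    rw [show R c = H from D.supportR_eq hG hU, finsum_subgroup]
    refine (Cong.div hr (D.r_ne hG hU) (Cong.sum hr _ fun x _ => ?_)).symm
    simp only [OneMemClass.coe_one, one_mul, MonoidHom.one_apply, Units.val_one, map_one, mul_one]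
    exact cong_apply_mul hψgen hr D.order (mem_centralizer_singleton_iff.1 (D.H_le_centralizer x.2)).symm
  obtain ⟨a, ha⟩ := int_cong_iff hr (a := A 1) (b := (e : ℤ)) (by rwa [Int.cast_natCast])
  obtain ⟨b, hb⟩ := hlA
  have hD2 : (e : ℤ) ^ 2 ≤ (A 1 - A l) ^ 2 := by
    have hd : A 1 - A l = (e : ℤ) + (r : ℤ) * (a - b) := by rw [hb]; linear_combination ha
    rw [hd]
    have hre : 2 * (e : ℤ) + 1 ≤ r := by exact_mod_cast hr2e
    have he0 : (0 : ℤ) ≤ e := Int.natCast_nonneg e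
    rcases le_or_gt 0 (a - b) with hk | hk
    · nlinarith [mul_nonneg (Int.natCast_nonneg r) hk]
    · have : (r : ℤ) * (a - b) ≤ -(r : ℤ) := by nlinarith
      nlinarith
  have hspread := spread_le (fun l => (A l : ℝ)) (Ne.symm hl)
  rw [hcardI] at hspread
  have hHSA : HS = (h : ℝ) * ∑ l, (A l : ℝ) ^ 2 - (∑ l, (A l : ℝ)) ^ 2 := by
    have h1 : ∑ l, (A l : ℝ) ^ 2 = (h : ℝ)⁻¹ * ∑ x : H, ‖f (x, 1)‖ ^ 2 := by
      rw [← sum_coef_sq hHc (fun x => f (x, 1))]
      exact Finset.sum_congr rfl fun l _ => by rw [hA, Complex.norm_intCast, sq_abs]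
    have h2 : ‖f (1, 1)‖ ^ 2 = (∑ l, (A l : ℝ)) ^ 2 := by
      rw [← sum_coef hHc (fun x => f (x, 1)), Finset.sum_congr rfl fun l _ => hA l, ← Int.cast_sum,
        Complex.norm_intCast, sq_abs, Int.cast_sum]
    rw [h1, mul_inv_cancel_left₀ (Nat.cast_ne_zero.2 Nat.card_pos.ne'), ← h2, hHSdef,
      Finset.sum_erase_eq_sub (Finset.mem_univ _)]
  have hV0nn : 0 ≤ V0 := Finset.sum_nonneg fun _ _ => hv0 _
  have h0 : (0 : ℝ) < h := Nat.cast_pos.2 Nat.card_pos
  have hD2' : (e : ℝ) ^ 2 ≤ ((A 1 : ℝ) - A l) ^ 2 := by exact_mod_cast hD2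
  have hHS' : (e : ℝ) ^ 2 / 2 ≤ HS / h := by
    rw [le_div_iff₀ h0, hHSA]
    nlinarith
  have hqe' : (q : ℝ) ≤ e := by exact_mod_cast hqe
  have hq0 : (0 : ℝ) < q := Nat.cast_pos.2 Nat.card_pos
  nlinarith

end Unfaithful

end CfsgLib.OddEnd
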