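import Cfsg.Agent.OddEnd.ThirteenOver

/-!
Peterfalvi 13: the normalizer of `W₁` and the structure of a maximal subgroup over `N(U)`, given that `U` acts
faithfully on `S_F` for every pair.
-/

set_option autoImplicit false
set_option linter.unusedSectionVars false
set_option linter.style.haveILetI false

namespace CfsgLib.OddEnd

open Subgroup CfsgLib.OddLocal
open scoped commutatorElement

universe u

variable {G : Type u} [Group G] [Finite G]

namespace PairData

variable {S T W₁ W₂ U V : Subgroup G}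

theorem right_normalizes_core (h : PairData S T W₁ W₂ U V) : W₂ ≤ normalizer (Cfsg.fittingHallOf T : Set G) :=
  h.symm.left_le_normalizer_H

/-- The normalizer of `W₁` is its centralizer `T_F W₂`. -/
theorem normalizer_left (hG : Cfsg.IsMinSimpleOddOrder G) (hU : Upto12 G) (h : PairData S T W₁ W₂ U V)
    (hfaith : ∀ {S T W₁ W₂ U V : Subgroup G}, PairData S T W₁ W₂ U V →
      U ⊓ centralizer (Cfsg.fittingHallOf S : Set G) = ⊥) :
    normalizer (W₁ : Set G) = centralizer (W₁ : Set G) ∧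
      centralizer (W₁ : Set G) = Cfsg.fittingHallOf T ⊔ W₂ := by
  set F := Cfsg.fittingHallOf T
  obtain ⟨k, hk, hko, hkW⟩ := h.left_generator hG hU
  have hq := h.prime_left hG hU
  haveI := Fact.mk hq
  have hk1 : k ≠ 1 := fun e => hq.ne_one (by rw [← hko, e, orderOf_one])
  obtain ⟨V₀, hdT, hW₁, -⟩ := h.symm.decomp hG hU
  obtain ⟨⟨hCT, huniq⟩, -⟩ := Kap.fixed_centralizer hG h.coatom_T hdT.hall h.symm.typeP_S.W₁_ne
    (y := k) (s := Nat.card W₁) (hW₁.le hk) hko
  have hge : F ⊔ W₂ ≤ centralizer (W₁ : Set G) := sup_le (fun x hx => mem_centralizer_iff.2 fun a ha =>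
      congrArg Subtype.val ((h.symm.elem hG hU).1.is_comm.comm (⟨a, h.symm.right_le_H ha⟩ : F) ⟨x, hx⟩))
    fun b hb => mem_centralizer_iff.2 fun a ha => h.left_centralizes ha hb
  have hcW : centralizer ({k} : Set G) = centralizer (W₁ : Set G) := by
    rw [hkW, zpowers_eq_closure, centralizer_closure]
  rw [hcW] at hCT huniq
  have hNT : normalizer (W₁ : Set G) ≤ T := by
    intro n hn
    have hC : centralizer (W₁ : Set G) ≤ T.map (MulAut.conj n).toMonoidHom := fun x hx => by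
      refine ⟨n⁻¹ * x * n, hCT (mem_centralizer_iff.2 fun a ha => ?_), ?_⟩
      · have e := mem_centralizer_iff.1 hx _ ((mem_normalizer_iff.1 hn a).1 ha)
        calc a * (n⁻¹ * x * n) = n⁻¹ * (n * a * n⁻¹ * x) * n := by group
          _ = n⁻¹ * (x * (n * a * n⁻¹)) * n := by rw [e]
          _ = n⁻¹ * x * n * a := by group
      · show n * (n⁻¹ * x * n) * n⁻¹ = x
        group
    have e := huniq _ (Uniq.coatom_conj h.coatom_T n) hC
    have hne : T ≠ ⊥ := fun e => h.typeP_T.W₁_ne (le_bot_iff.1 (h.symm.left_le.trans e.le))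
    exact (Uniq.coatom_normalizer_eq hG h.coatom_T le_rfl le_normalizer hne).le
      (mem_normalizer_iff_map_conj_eq.2 e)
  have hle : normalizer (W₁ : Set G) ≤ F ⊔ W₂ := by
    intro n hn
    obtain ⟨d, hd, w, hw, rfl⟩ := h.typeP_T.W₁_compl.2.2.2 n (hNT hn)
    obtain ⟨x, hx, v, hv, rfl⟩ := h.typeP_T.U_compl.2.2.2 d hd
    have hwn : w ∈ normalizer (W₁ : Set G) := centralizer_le_normalizer _ (hge (mem_sup_right hw))
    have hxn : x ∈ normalizer (W₁ : Set G) := centralizer_le_normalizer _ (hge (mem_sup_left hx))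
    have hvn : v ∈ normalizer (W₁ : Set G) := by
      have := mul_mem (mul_mem (inv_mem hxn) hn) (inv_mem hwn)
      rwa [show x⁻¹ * (x * v * w) * w⁻¹ = v by group] at this
    suffices hv1 : v = 1 by
      rw [hv1, mul_one]
      exact mul_mem (mem_sup_left hx) (mem_sup_right hw)
    -- `V ∩ C(W₁)` is trivial
    have hV0 : ∀ c ∈ V, c * k = k * c → c = 1 := fun c hc hck => by
      have hinv := h.symm.invariant_fixed_centralizes hG hU (V₀ := V ⊓ centralizer (W₁ : Set G)) inf_le_left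
        (le_normalizer_inf_centralizer_of' h) (h.symm.right_le_H hk) hk1
        fun y hy => (mem_centralizer_iff.1 hy.2 k hk).symm
      have hcC : c ∈ centralizer (W₁ : Set G) := hcW ▸ mem_centralizer_singleton_iff.2 hck
      exact mem_bot.1 ((hfaith h.symm).le ⟨hc, hinv ⟨hc, hcC⟩⟩)
    obtain ⟨b, hb, hb1⟩ := h.symm.exists_left
    obtain ⟨i, hi⟩ := mem_zpowers_iff.1 (hkW.le ((mem_normalizer_iff.1 hvn k).1 hk))
    have hki : k ^ i ≠ 1 := fun e => hk1 (by rw [hi, conj_eq_one_iff] at e; exact e)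
    have hbk : b * k ^ i = k ^ i * b := (h.left_centralizes (W₁.zpow_mem hk i) hb).symm
    set c := b * v * b⁻¹ * v⁻¹
    have hcV : c ∈ V := mul_mem ((mem_normalizer_iff.1 (h.typeP_T.U_normal hb) v).1 hv) (inv_mem hv)
    have hcki : c * k ^ i = k ^ i * c := by
      have e1 : v⁻¹ * k ^ i * v = k := by rw [hi]; group
      calc c * k ^ i = b * v * b⁻¹ * (v⁻¹ * k ^ i * v) * v⁻¹ := by simp only [c]; group
        _ = b * v * (b⁻¹ * k) * v⁻¹ := by rw [e1]; group
        _ = b * v * (k * b⁻¹) * v⁻¹ := by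
          rw [(show Commute b k from (h.left_centralizes hk hb).symm).inv_left.eq]
        _ = b * (v * k * v⁻¹) * (v * b⁻¹ * v⁻¹) := by group
        _ = k ^ i * (b * (v * b⁻¹ * v⁻¹)) := by rw [← hi, hbk]; group
        _ = k ^ i * c := by simp only [c]; group
    have hcgen : zpowers (k ^ i) = W₁ := eq_of_le_of_card_ge (zpowers_le.2 (W₁.zpow_mem hk i)) (by
      rw [Nat.card_zpowers, ((Nat.dvd_prime hq).1 (W₁.orderOf_dvd_natCard (W₁.zpow_mem hk i))).resolve_left
        fun e => hki (orderOf_eq_one_iff.1 e)])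
    have hc1 : c = 1 := hV0 c hcV (by
      obtain ⟨j, hj⟩ := mem_zpowers_iff.1 (hcgen.ge hk)
      rw [← hj]
      exact ((show Commute c (k ^ i) from hcki).zpow_right j).eq)
    exact h.symm.U_fixed hv hb hb1 (by
      have := mul_inv_eq_one.1 hc1
      exact mul_inv_eq_iff_eq_mul.1 this)
  exact ⟨le_antisymm (hle.trans hge) (centralizer_le_normalizer _),
    le_antisymm ((centralizer_le_normalizer _).trans hle) hge⟩
where
  le_normalizer_inf_centralizer_of' {S T W₁ W₂ U V : Subgroup G} (h : PairData S T W₁ W₂ U V) :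
      W₂ ≤ normalizer ((V ⊓ centralizer (W₁ : Set G) : Subgroup G) : Set G) :=
    le_normalizer_inf_centralizer_of h.typeP_T.U_normal (fun b hb => centralizer_le_normalizer _
      (mem_centralizer_iff.2 fun a ha => h.left_centralizes ha hb))

/-- The structure of a maximal subgroup over `N(U)`, `S` of type II. -/
theorem over_structure (hG : Cfsg.IsMinSimpleOddOrder G) (hU : Upto12 G) (h : PairData S T W₁ W₂ U V)
    (hfaith : ∀ {S T W₁ W₂ U V : Subgroup G}, PairData S T W₁ W₂ U V →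
      U ⊓ centralizer (Cfsg.fittingHallOf S : Set G) = ⊥)
    (h2 : Cfsg.IsOfTypeII S) {L : Subgroup G} (hL : IsCoatom L) (hNU : normalizer (U : Set G) ≤ L) :
    (∀ x ∈ Cfsg.fittingHallOf L, x ≠ 1 → L ⊓ centralizer ({x} : Set G) ≤ Cfsg.fittingHallOf L) ∧
      U ≤ Cfsg.fittingHallOf L ∧
      ((Cfsg.fittingHallOf L ⊓ W₁ = ⊥ ∧ Cfsg.fittingHallOf L ⊔ W₁ = L) ∨
        ∃ y ∈ Cfsg.fittingHallOf T,
          Cfsg.fittingHallOf L ⊓ (W₁ ⊔ W₂.map (MulAut.conj y).toMonoidHom) = ⊥ ∧
          Cfsg.fittingHallOf L ⊔ (W₁ ⊔ W₂.map (MulAut.conj y).toMonoidHom) = L) := by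
  classical
  have hO := h.over_data hG hU h2 hL hNU
  rw [hO.fitting]
  refine ⟨hO.frob, hO.le_core, ?_⟩
  set K := Cfsg.sigmaCore L
  set E := L ⊓ T
  set F := Cfsg.fittingHallOf T
  have hq := h.prime_left hG hU
  have hp := h.prime_right hG hU
  haveI := Fact.mk hq
  haveI := Fact.mk hp
  have hne := h.U_ne hG hU
  have hW1E : W₁ ≤ E := hO.left_le_compl
  have hKE : K ⊓ E = ⊥ := by rw [inf_comm]; exact hO.compl.2.2.1
  have hKEL : K ⊔ E = L := by
    refine le_antisymm (sup_le (map_subtype_le _) inf_le_left) fun m hm => ?_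
    obtain ⟨a, ha, b, hb, rfl⟩ := hO.compl.2.2.2 m hm
    exact mul_mem (mem_sup_right ha) (mem_sup_left hb)
  have hEN : E ≤ F ⊔ W₂ := by
    obtain ⟨e1, e2⟩ := h.normalizer_left hG hU hfaith
    exact (hO.compl_normalizes hne hq).trans (e1.trans e2).le
  -- the part of `E` in `T_F` is `W₁`
  have hEF : E ⊓ F = W₁ := by
    refine (eq_of_le_of_card_ge (le_inf hW1E h.symm.right_le_H) (Nat.le_of_dvd hq.pos ?_)).symm
    haveI : Nontrivial ↥K := (Subgroup.nontrivial_iff_ne_bot K).2 fun e => hne (le_bot_iff.1 (hO.le_core.trans e.le))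
    let φ : ↥(E ⊓ F) →* MulAut ↥K := (normalizerMonoidHom K).comp
      (inclusion (inf_le_left.trans (inf_le_left.trans (TH.le_normalizer_core L))))
    have hfpf : CfsgLib.Frobenius.IsFpf φ := fun a ha x hx => by
      refine by_contra fun hx1 => ha ?_
      refine Subtype.ext (hO.compl_fpf a.2.1 x.2 (fun e => hx1 (Subtype.ext e)) ?_)
      exact mul_inv_eq_iff_eq_mul.1 (congrArg Subtype.val hx)
    have hel := h.symm.elem hG hU
    have hcyc := CfsgLib.Frobenius.IsFpf.isCyclic_of_comm hfpf fun a b => Subtype.ext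
      (show (a : G) * b = b * a from
        congrArg Subtype.val (hel.1.is_comm.comm (⟨a, a.2.2⟩ : ↥F) ⟨b, b.2.2⟩))
    rw [← IsCyclic.exponent_eq_card (α := ↥(E ⊓ F))]
    exact Monoid.exponent_dvd_of_forall_pow_eq_one fun a => Subtype.ext (by
      rw [SubmonoidClass.coe_pow]; exact hel.2 a a.2.2)
  -- the index of `W₁` divides `|W₂|`
  have hW2n : W₂ ≤ normalizer (F : Set G) := h.right_normalizes_core
  have hidx : W₁.relIndex E ∣ Nat.card W₂ := by
    haveI : (F.subgroupOf (F ⊔ W₂)).Normal :=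
      normal_subgroupOf_of_le_normalizer (sup_le le_normalizer hW2n)
    have h1 : F.relIndex E ∣ F.relIndex (F ⊔ W₂) := by
      rw [← relIndex_subgroupOf hEN]
      exact relIndex_dvd_index_of_normal _ _
    rw [← hEF, inf_comm, inf_relIndex_right]
    refine h1.trans ?_
    have h3 : F.relIndex (F ⊔ W₂) * Nat.card F = Nat.card ↥(F ⊔ W₂) := by
      rw [mul_comm]; exact CfsgLib.InvariantHall.relIndex_mul_card le_sup_left
    have h4 := CfsgLib.Solvable.card_sup_dvd (A := W₂) (K := F) hW2n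
    rw [sup_comm, ← h3] at h4
    exact Nat.dvd_of_mul_dvd_mul_right Nat.card_pos h4
  rcases (Nat.dvd_prime hp).1 hidx with h1 | h1
  · left
    have e : W₁ = E := le_antisymm hW1E (relIndex_eq_one.1 h1)
    rw [e]
    exact ⟨hKE, hKEL⟩
  right
  have hcardE : Nat.card W₁ * Nat.card W₂ = Nat.card E :=
    h1 ▸ CfsgLib.InvariantHall.relIndex_mul_card hW1E
  obtain ⟨e, he⟩ := exists_prime_orderOf_dvd_card' (G := ↥E) (Nat.card W₂) (Dvd.intro_left _ hcardE)
  obtain ⟨g, hg, hgY⟩ := Tau.conj_into_of_product (L := F ⊔ W₂) (H := W₂) (K := F) (Y := zpowers (e : G))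
    (π := {Nat.card W₂}) (Kap.solvable_le hG h.coatom_T (sup_le (FittingHall.of_le T) h.symm.left_le))
    le_sup_right le_sup_left (sup_le le_normalizer hW2n) le_rfl
    (fun r hr hrπ hrF => by
      have hrW : r = Nat.card W₂ := hrπ
      subst hrW
      exact hp.not_dvd_one (h.symm.coprime_left ▸ Nat.dvd_gcd dvd_rfl (hrF.trans (card_dvd_of_le h.symm.H_le))))
    (zpowers_le.2 (hEN e.2))
    (fun r hr hd => by
      rw [Nat.card_zpowers, orderOf_coe, he] at hd
      exact (Nat.prime_dvd_prime_iff_eq hr hp).1 hd)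
  have hgW : (zpowers (e : G)).map (MulAut.conj g).toMonoidHom = W₂ := eq_of_le_of_card_ge hgY (by
    rw [card_map_of_injective (MulAut.conj g).injective, Nat.card_zpowers, orderOf_coe, he])
  obtain ⟨w, hw, y, hy, hwy⟩ := (CfsgLib.Solvable.mem_sup_of_le_normalizer hW2n).1 (sup_comm F W₂ ▸ hg)
  have hy' : zpowers (e : G) = W₂.map (MulAut.conj y⁻¹).toMonoidHom := by
    have h2 : W₂.map (MulAut.conj w⁻¹).toMonoidHom = W₂ :=
      mem_normalizer_iff_map_conj_eq.1 (le_normalizer (W₂.inv_mem hw))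
    conv_rhs => rw [← h2, TH.map_conj_map_conj, ← hgW, TH.map_conj_map_conj, show y⁻¹ * w⁻¹ * g = 1 by
      rw [← hwy]; group, TH.map_conj_one]
  refine ⟨y⁻¹, F.inv_mem hy, ?_⟩
  have hsup : W₁ ⊔ W₂.map (MulAut.conj y⁻¹).toMonoidHom = E := by
    rw [← hy']
    refine eq_of_le_of_card_ge (sup_le hW1E (zpowers_le.2 e.2)) (Nat.le_of_dvd Nat.card_pos ?_)
    rw [← hcardE]
    refine Nat.Coprime.mul_dvd_of_dvd_of_dvd ((Nat.coprime_primes hq hp).2 fun e => h.card_ne hG hU e.symm)
      (card_dvd_of_le le_sup_left) ?_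
    have h5 := card_dvd_of_le (le_sup_right : zpowers (e : G) ≤ W₁ ⊔ zpowers (e : G))
    rwa [Nat.card_zpowers, orderOf_coe, he] at h5
  rw [hsup]
  exact ⟨hKE, hKEL⟩

end PairData

end CfsgLib.OddEnd
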