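import Cfsg.Agent.OddEnd.ThirteenRel
import Cfsg.Agent.OddEnd.ThirteenCount
import Cfsg.Agent.OddEnd.ThirteenNonabelian
import Cfsg.Agent.OddEnd.ThirteenRows

/-!
Peterfalvi 13: `U` acts faithfully on `M_F`.
-/

set_option autoImplicit false
set_option linter.unusedSectionVars false
set_option linter.style.haveILetI false

namespace CfsgLib.OddEnd

open Subgroup CfsgLib.OddLocal CfsgLib.Char
open scoped ComplexConjugate

universe u

variable {G : Type u} [Group G]

namespace MuChar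

variable [Fintype G] {S T W₁ W₂ U V : Subgroup G} {lam : G → ℂ} (M : MuChar S W₁ W₂ U lam)
variable (h : PairData S T W₁ W₂ U V) (hG : Cfsg.IsMinSimpleOddOrder G) (hU : Upto12 G)
include M h hG hU

theorem ker_normalized : S ≤ normalizer (muKer S U : Set G) := by
  intro g hg
  obtain ⟨x, hx, v, hv, rfl⟩ := h.exists_dom_U hG hU hg
  obtain ⟨n, hn, w, hw, rfl⟩ := h.dom_decomp hG hU hx
  exact Subgroup.mul_mem _ (Subgroup.mul_mem _ (le_normalizer hn) (h.left_normalizes_ker hG hU hw))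
    (h.U_normalizes_ker hG hU hv)

theorem dade_ker_ti : Cfsg.DadeHypothesis ((muKer S U : Set G) \ {1}) S (fun _ => ⊥) := by
  obtain ⟨hTI, hN⟩ := h.typeA0_ti hG hU
  have hA : ∀ a ∈ (muKer S U : Set G) \ {1}, a ∈ Cfsg.typeA0 S := fun a ha =>
    M.ker_mem_A0 h hG hU ha.1 ha.2
  have hmove : ∀ a ∈ (muKer S U : Set G) \ {1}, ∀ g : G, g * a * g⁻¹ ∈ Cfsg.typeA0 S → g ∈ S :=
    fun a ha g hg => by
      by_contra hgS
      exact ha.2 (hTI g (by rwa [hN]) a (hA a ha) hg)
  exact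
    { one_not_mem := fun h' => h'.2 rfl
      subset := fun a ha => h.muDom_le (h.muKer_le_dom ha.1)
      conj_mem := fun x hx a ha => ⟨(mem_normalizer_iff.1 (M.ker_normalized h hG hU hx) a).1 ha.1,
        fun h' => ha.2 (conj_eq_one_iff.1 h')⟩
      fusion := fun a ha g hg => ⟨g, hmove a ha g (hA _ hg), rfl⟩
      le_centralizer := fun _ _ => bot_le
      conj_mem_H := fun _ _ _ _ u hu => by
        rw [mem_bot.1 hu, mul_one, mul_inv_cancel]
        exact Subgroup.one_mem _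
      inf_eq_bot := fun _ _ => bot_inf_eq _
      sup_eq := fun a ha => by
        rw [bot_sup_eq]
        refine inf_eq_right.2 fun g hg => hmove a ha g ?_
        rw [mem_centralizer_singleton_iff.1 hg, mul_inv_cancel_right]
        exact hA a ha
      coprime := fun _ _ _ _ => by rw [Subgroup.card_bot]; exact Nat.coprime_one_left _ }

end MuChar

namespace Unfaithful

variable [Fintype G] {S T W₁ W₂ U V L : Subgroup G} {r : ℕ} {c : G} (D : Unfaithful S T W₁ W₂ U V L r c)
variable (hG : Cfsg.IsMinSimpleOddOrder G) (hU : Upto12 G) (hab : IsMulCommutative ↥(Cfsg.sigmaCore L))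
include D hG hU hab

set_option maxHeartbeats 1000000 in
/-- Peterfalvi 13: the kernel of `L` cannot be abelian. -/
theorem abelian_absurd : False := by
  classical
  have h := D.pair
  obtain ⟨lam, M⟩ := h.exists_muChar hG hU
  obtain ⟨hu, η, f, R, n, hη, hf, hn, hrel, hR0, hRker, hηmix⟩ := D.relation hG hU hab M
  obtain ⟨hm3, -, h2q, -⟩ := D.abelian_arith hG hU hab
  haveI : Fintype ↥(muKer S U) := Fintype.ofFinite _
  haveI : Fintype ↥U := Fintype.ofFinite _
  set H := Cfsg.fittingHallOf S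
  set C := centPart S U with hCdef
  set N := muKer S U with hNdef
  set q := Nat.card W₁
  have hc7 : 7 ≤ Nat.card C := by
    have := h.left_odd hG hU
    have h2q' : 2 * Nat.card W₁ + 1 ≤ Nat.card C := h2q
    omega
  have hDL := dade_core hG D.overData.coatom D.overData.kappa_empty
  have hDN := M.dade_ker_ti h hG hU
  set TL := dadeSupp (core1 L) (Cfsg.supportR L)
  set TS := dadeSupp ((N : Set G) \ {1}) (fun _ => (⊥ : Subgroup G))
  set TM := {g : G | ∃ x : G, x * g * x⁻¹ ∈ W₁ ⊔ W₂ ∧ x * g * x⁻¹ ∉ W₁ ∧ x * g * x⁻¹ ∉ W₂}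
  -- stability under powers
  have hpowmem : ∀ (X : Subgroup G) (w : G) (t : ℕ), t.Coprime (orderOf w) → w ^ t ∈ X → w ∈ X :=
    fun X w t ht hw => by
      obtain ⟨i, hi⟩ := exists_pow_eq_self_of_coprime ht
      rw [← hi]; exact X.pow_mem hw i
  have hcopo : ∀ t : ℕ, t.Coprime (Nat.card G) → ∀ g : G, t.Coprime (orderOf g) := fun t ht g =>
    ht.coprime_dvd_right (orderOf_dvd_natCard g)
  have hTL : ∀ t : ℕ, t.Coprime (Nat.card G) → ∀ g ∈ TL, g ^ t ∈ TL := fun t ht g hg =>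
    dadeSupp_pow (A := core1 L) (fun a ha => ⟨(Cfsg.sigmaCore L).pow_mem ha.1 t, fun e => ha.2
      (mem_bot.1 (hpowmem ⊥ a t (hcopo t ht a) (mem_bot.2 e)))⟩)
      (fun a _ => supportR_pow L (hcopo t ht a))
      (fun a ha u hu => (mem_centralizer_singleton_iff.1 (hDL.le_centralizer a ha hu)).symm) hg
  have hTS : ∀ t : ℕ, t.Coprime (Nat.card G) → ∀ g ∈ TS, g ^ t ∈ TS := fun t ht g hg =>
    dadeSupp_pow (A := (N : Set G) \ {1}) (fun a ha => ⟨N.pow_mem ha.1 t, fun e => ha.2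
      (mem_bot.1 (hpowmem ⊥ a t (hcopo t ht a) (mem_bot.2 e)))⟩)
      (fun _ _ => rfl) (fun a _ u hu => by rw [mem_bot.1 hu, mul_one, one_mul]) hg
  have hTM : ∀ t : ℕ, t.Coprime (Nat.card G) → ∀ g ∈ TM, g ^ t ∈ TM := by
    rintro t ht g ⟨x, hx, h1, h2⟩
    refine ⟨x, ?_, fun e => h1 (hpowmem W₁ _ t (hcopo t ht _) ?_), fun e => h2 (hpowmem W₂ _ t (hcopo t ht _) ?_)⟩
    · rw [← conj_pow]; exact pow_mem hx t
    · rwa [conj_pow]
    · rwa [conj_pow]
  set Z₀ := Finset.univ.filter fun g : G => g = 1 ∨ g ∈ TL ∨ g ∈ TS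
  set Z₁ := Finset.univ.filter fun g : G => g ∈ TM ∧ g ∉ Z₀
  have hdZ : Disjoint Z₀ Z₁ := Finset.disjoint_left.2 fun g h0 h1 => (Finset.mem_filter.1 h1).2.2 h0
  have hZ : ∀ g : G, g ∈ Z₀ ∪ Z₁ ↔ g = 1 ∨ g ∈ TL ∨ g ∈ TS ∨ g ∈ TM := fun g => by
    simp only [Z₀, Z₁, Finset.mem_union, Finset.mem_filter, Finset.mem_univ, true_and]
    tauto
  -- off these sets
  have hoff : ∀ g ∉ Z₀ ∪ Z₁, η g = 1 + (n : ℂ) * f g := by
    intro g hg
    rw [hZ, not_or, not_or, not_or] at hg
    obtain ⟨-, hgL, hgS, hgM⟩ := hg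
    have hB : betaG S W₁ U lam g = 0 := by
      by_contra hne
      obtain ⟨x, hxm, hxl⟩ := M.beta_supp hne
      by_cases hk : x⁻¹ * g * x ∈ N
      · exact hgS ⟨_, ⟨hk, fun e => hxl (by rw [show x⁻¹ * g * x = 1 from e, M.one])⟩, 1,
          Subgroup.one_mem _, x⁻¹, by group⟩
      · obtain ⟨y, hy, a, ha, ha1, b, hb, e⟩ := h.dom_outside_conj hG hU hxm hk
        have hbX := h.muKer_le_dom (h.right_le_ker hb)
        rw [e, M.conj_mem hy ((muDom S W₁ U).mul_mem hbX (h.left_le_dom ha)), M.mul hbX (h.left_le_dom ha),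
          M.triv a (mem_sup_right ha), mul_one] at hxl
        have hb1 : b ≠ 1 := fun e => hxl (by rw [e, M.one])
        have hdisj : W₁ ⊓ W₂ = ⊥ := h.typeP_S.selfNormalizing.2.2.1
        refine hgM ⟨y⁻¹ * x⁻¹, ?_⟩
        rw [show y⁻¹ * x⁻¹ * g * (y⁻¹ * x⁻¹)⁻¹ = y⁻¹ * (x⁻¹ * g * x) * y by group, e,
          show y⁻¹ * (y * (b * a) * y⁻¹) * y = b * a by group]
        refine ⟨mul_mem (mem_sup_right hb) (mem_sup_left ha), fun e => hb1 ?_, fun e => ha1 ?_⟩
        · exact mem_bot.1 (hdisj ▸ ⟨by simpa using W₁.mul_mem e (W₁.inv_mem ha), hb⟩)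
        · exact mem_bot.1 (hdisj ▸ ⟨ha, by simpa using W₂.mul_mem (W₂.inv_mem hb) e⟩)
    have := hrel g
    rw [hB, hR0 g hgL, add_zero] at this
    linear_combination this
  have hinside := sum_inside_le hη hf hn (Z₀ ∪ Z₁) (fun t ht g hg => by
    rw [hZ] at hg ⊢
    rcases hg with rfl | hg | hg | hg
    · exact Or.inl (one_pow t)
    · exact Or.inr (Or.inl (hTL t ht g hg))
    · exact Or.inr (Or.inr (Or.inl (hTS t ht g hg)))
    · exact Or.inr (Or.inr (Or.inr (hTM t ht g hg)))) hoff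
  have hηcl : Cfsg.IsClassFunction G η := IsGeneralized.isClassFunction (IsSignedIrr.isGeneralized hη)
  have hconjη : ∀ g x : G, η (x * g * x⁻¹) = η g := fun g x => hηcl g x
  rw [Finset.sum_union hdZ, Finset.card_union_of_disjoint hdZ,
    Finset.sum_congr rfl (s₁ := Z₁) (g := fun _ => (1 : ℝ)) fun g hg => by
      obtain ⟨x, hx, h1, h2⟩ := (Finset.mem_filter.1 hg).2.1
      rw [← hconjη g x, hηmix _ hx h1 h2, one_pow],
    Finset.sum_const, nsmul_one, Nat.cast_add] at hinside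
  set P := ∑ a ∈ Finset.univ.filter (fun a : S => (a : G) ∈ (N : Set G) \ {1}), ‖η a‖ ^ 2 with hP
  have hS_TS : ∑ g ∈ Finset.univ.filter (· ∈ TS), ‖η g‖ ^ 2 ≤ (Z₀.card : ℝ) :=
    le_trans (Finset.sum_le_sum_of_subset_of_nonneg (fun g hg => Finset.mem_filter.2 ⟨Finset.mem_univ _,
      Or.inr (Or.inr (Finset.mem_filter.1 hg).2)⟩) fun _ _ _ => sq_nonneg _) (by linarith)
  have hZ0card : (Z₀.card : ℝ) ≤ 1 + (Finset.univ.filter (· ∈ TL)).card + (Finset.univ.filter (· ∈ TS)).card := by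
    have hsub : Z₀ ⊆ ({1} : Finset G) ∪ Finset.univ.filter (· ∈ TL) ∪ Finset.univ.filter (· ∈ TS) :=
      fun g hg => by
        have := (Finset.mem_filter.1 hg).2
        simp only [Finset.mem_union, Finset.mem_filter, Finset.mem_univ, true_and, Finset.mem_singleton]
        tauto
    have := (Finset.card_le_card hsub).trans ((Finset.card_union_le _ _).trans
      (Nat.add_le_add_right (Finset.card_union_le _ _) _))
    rw [Finset.card_singleton] at this
    exact_mod_cast this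
  have hmain := mul_le_mul_of_nonneg_left (hS_TS.trans hZ0card) (inv_nonneg.2 (Nat.cast_nonneg (Nat.card G) : (0 : ℝ) ≤ Nat.card G))
  rw [sum_dadeSupp hDN (F := fun g => ‖η g‖ ^ 2) fun g x => by rw [hconjη g x]] at hmain
  rw [show ∑ a ∈ Finset.univ.filter (fun a : S => (a : G) ∈ (N : Set G) \ {1}),
      (Nat.card ↥(⊥ : Subgroup G) : ℝ)⁻¹ * ∑ᶠ u ∈ ((⊥ : Subgroup G) : Set G), ‖η ((a : G) * u)‖ ^ 2 = P from
    Finset.sum_congr rfl fun a _ => by simp] at hmain
  rw [mul_add, mul_add, card_dadeSupp hDL, card_dadeSupp hDN, mul_one] at hmain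
  -- the sum over `N`
  have hNS : N ≤ S := h.muKer_le_dom.trans h.muDom_le
  have hPN : P = ∑ y : N, ‖η y‖ ^ 2 - ‖η 1‖ ^ 2 := by
    rw [eq_sub_iff_add_eq, ← Finset.sum_erase_add _ _ (Finset.mem_univ (1 : N)), OneMemClass.coe_one]
    congr 1
    exact Finset.sum_bij' (fun a ha => (⟨a, (Finset.mem_filter.1 ha).2.1⟩ : N)) (fun y _ => (⟨y, hNS y.2⟩ : S))
      (fun a ha => Finset.mem_erase.2 ⟨fun e => (Finset.mem_filter.1 ha).2.2 (congrArg Subtype.val e),
        Finset.mem_univ _⟩)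
      (fun y hy => Finset.mem_filter.2 ⟨Finset.mem_univ _, y.2,
        fun e => (Finset.mem_erase.1 hy).1 (Subtype.ext e)⟩) (fun _ _ => rfl) (fun _ _ => rfl) fun _ _ => rfl
  haveI := finite_linear (K := N)
  letI := Fintype.ofFinite (N →* ℂˣ)
  have hNc : ∀ a b : N, a * b = b * a := fun a b => Subtype.ext (M.ker_commute h hG hU a.2 b.2)
  set ηN : N → ℂ := fun y => η y
  set fN : N → ℂ := fun y => f y
  have hgη : Cfsg.IsGeneralizedCharacter N ηN := IsGeneralized.comp (IsSignedIrr.isGeneralized hη) N.subtype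
  have hgf : Cfsg.IsGeneralizedCharacter N fN := IsGeneralized.comp hf N.subtype
  choose A hA using fun l : N →* ℂˣ =>
    IsGeneralized.exists_classInner_eq_int hgη (IsIrrCharacter.isGeneralized (isIrrCharacter_ofHom l))
  choose Af hAf using fun l : N →* ℂˣ =>
    IsGeneralized.exists_classInner_eq_int hgf (IsIrrCharacter.isGeneralized (isIrrCharacter_ofHom l))
  have hcardI : (Fintype.card (N →* ℂˣ) : ℝ) = (Nat.card N : ℝ) := by
    rw [← Nat.card_eq_fintype_card, card_hom_eq_index_commutator, show commutator N = ⊥ from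
      le_bot_iff.1 (Subgroup.commutator_le.2 fun a _ b _ => by
        rw [commutatorElement_def, Subgroup.mem_bot, hNc a b]; group), Subgroup.index_bot]
  have hPA : P = (Nat.card N : ℝ) * ∑ l, (A l : ℝ) ^ 2 - (∑ l, (A l : ℝ)) ^ 2 := by
    have h1 : ∑ l, (A l : ℝ) ^ 2 = (Nat.card N : ℝ)⁻¹ * ∑ y : N, ‖ηN y‖ ^ 2 := by
      rw [← sum_coef_sq hNc ηN]
      exact Finset.sum_congr rfl fun l _ => by rw [coef, hA, Complex.norm_intCast, sq_abs]
    have h2 : ‖ηN 1‖ ^ 2 = (∑ l, (A l : ℝ)) ^ 2 := by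
      rw [← sum_coef hNc ηN, Finset.sum_congr rfl fun l _ => (show coef ηN l = _ from hA l), ← Int.cast_sum,
        Complex.norm_intCast, sq_abs, Int.cast_sum]
    rw [h1, mul_inv_cancel_left₀ (Nat.cast_ne_zero.2 Nat.card_pos.ne'), ← h2, hPN]
    rfl
  -- homomorphisms nontrivial on `H`
  have hH0 : ∀ l : N →* ℂˣ, (∃ x : N, (x : G) ∈ H ∧ l x ≠ 1) →
      Cfsg.classInner (fun y : N => R y) (homFun l) = 0 ∧
      Cfsg.classInner (homFun (1 : N →* ℂˣ)) (homFun l) = 0 := by
    rintro l ⟨x₁, hx₁, hl⟩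
    refine ⟨?_, by rw [classInner_homFun, if_neg fun e => hl (by rw [← e]; rfl)]⟩
    rw [classInner_def, mul_eq_zero]
    refine Or.inr ?_
    -- translation by `x₁` leaves `R` fixed
    have key : ∑ y : N, R y * conj (homFun l y) = conj (l x₁ : ℂ) * ∑ y : N, R y * conj (homFun l y) := by
      rw [Finset.mul_sum]
      refine (Fintype.sum_equiv (Equiv.mulRight x₁) _ _ fun y => ?_).symm
      obtain ⟨z, hz, x, hx, e⟩ := (CfsgLib.Solvable.mem_sup_of_le_normalizer
        (inf_le_left.trans h.U_le_normalizer_H : C ≤ normalizer (H : Set G))).1 y.2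
      have hR1 : R ((y : G) * x₁) = R y := by
        rw [← e, mul_assoc, hRker z hz _ (H.mul_mem hx hx₁), hRker z hz x hx]
      simp only [homFun, Equiv.coe_mulRight, map_mul, Units.val_mul, Subgroup.coe_mul, hR1]
      ring
    by_contra hne
    exact hl (Units.ext (by
      have h1 : conj (l x₁ : ℂ) = 1 := mul_right_cancel₀ hne (by rw [one_mul]; exact key.symm)
      simpa using congrArg conj h1))
  choose Lam hLam using fun v : U => M.exists_kerHom h hG hU v.2
  have hLH : ∀ v : U, ∃ x : N, (x : G) ∈ H ∧ Lam v x ≠ 1 := fun v => by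
    obtain ⟨b, hb, hb1⟩ := (Subgroup.bot_or_exists_ne_one W₂).resolve_left h.typeP_S.selfNormalizing.2.1
    have hbH := (mem_normalizer_iff.1 (h.U_le_normalizer_H v.2) b).1 (h.right_le_H hb)
    refine ⟨⟨_, mem_sup_right hbH⟩, hbH, fun e => M.right_ne b hb hb1 ?_⟩
    have := hLam v ⟨_, mem_sup_right hbH⟩
    rw [e, Units.val_one, show (v : G)⁻¹ * ((v : G) * b * (v : G)⁻¹) * v = b by group] at this
    exact this.symm
  have hLH' : ∀ v : U, ∃ x : N, (x : G) ∈ H ∧ (Lam v)⁻¹ x ≠ 1 := fun v => by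
    obtain ⟨x, hx, hne⟩ := hLH v
    exact ⟨x, hx, fun e => hne (inv_eq_one.1 e)⟩
  have hsame : ∀ v w : U, Lam v = Lam w ↔ (w : G)⁻¹ * v ∈ C := fun v w => by
    constructor
    · intro e
      refine M.stab _ (U.mul_mem (U.inv_mem w.2) v.2) fun x hx => ?_
      have hvx := (mem_normalizer_iff.1 (h.U_le_normalizer_H v.2) x).1 hx
      have := hLam v ⟨_, mem_sup_right hvx⟩
      rw [e, hLam w, show (v : G)⁻¹ * ((v : G) * x * (v : G)⁻¹) * v = x by group] at this
      rwa [show (w : G)⁻¹ * v * x * ((w : G)⁻¹ * v)⁻¹ = (w : G)⁻¹ * ((v : G) * x * (v : G)⁻¹) * w by group]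
    · intro hwv
      refine MonoidHom.ext fun y => Units.ext ?_
      rw [hLam v, hLam w]
      have hy := (mem_normalizer_iff''.1 (h.U_normalizes_ker hG hU w.2) (y : G)).1 y.2
      rw [show (v : G)⁻¹ * (y : G) * v = ((w : G)⁻¹ * v)⁻¹ * ((w : G)⁻¹ * y * w) * ((w : G)⁻¹ * v) by group,
        mul_assoc _ ((w : G)⁻¹ * y * w) ((w : G)⁻¹ * v),
        M.ker_commute h hG hU hy (mem_sup_left hwv), inv_mul_cancel_left]
  have hnoinv : ∀ v w : U, Lam v ≠ (Lam w)⁻¹ := fun v w e => by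
    set z := (w : G)⁻¹ * v
    have hzU : z ∈ U := U.mul_mem (U.inv_mem w.2) v.2
    have hz : ∀ x ∈ H, lam (z * x * z⁻¹) = (lam x)⁻¹ := fun x hx => by
      have hvx := (mem_normalizer_iff.1 (h.U_le_normalizer_H v.2) x).1 hx
      have := hLam v ⟨_, mem_sup_right hvx⟩
      rw [e, MonoidHom.inv_apply, Units.val_inv_eq_inv_val, hLam w,
        show (v : G)⁻¹ * ((v : G) * x * (v : G)⁻¹) * v = x by group] at this
      rw [show z * x * z⁻¹ = (w : G)⁻¹ * ((v : G) * x * (v : G)⁻¹) * w by simp only [z]; group, ← this, inv_inv]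
    have hz2 : z * z ∈ C := M.stab _ (U.mul_mem hzU hzU) fun x hx => by
      have hzx := (mem_normalizer_iff.1 (h.U_le_normalizer_H hzU) x).1 hx
      rw [show z * z * x * (z * z)⁻¹ = z * (z * x * z⁻¹) * z⁻¹ by group, hz _ hzx, hz x hx, inv_inv]
    have hzC : z ∈ C := hpowmem C z 2
      (Nat.prime_two.coprime_iff_not_dvd.2 fun h2 => by
        have := hG.1.of_dvd_nat (h2.trans (orderOf_dvd_natCard z))
        exact Nat.not_even_iff_odd.2 this even_two) (by rwa [pow_two])
    obtain ⟨b, hb, hb1⟩ := (Subgroup.bot_or_exists_ne_one W₂).resolve_left h.typeP_S.selfNormalizing.2.1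
    have hb' := hz b (h.right_le_H hb)
    rw [M.conj_mem (mem_sup_left (mem_sup_left hzC)) (h.muKer_le_dom (h.right_le_ker hb))] at hb'
    have hb2 : lam b ^ 2 = 1 := by
      have hne0 : lam b ≠ 0 := fun e0 => by
        have := M.pow_right h hG hU (h.muKer_le_dom (h.right_le_ker hb))
        rw [e0, zero_pow Nat.card_pos.ne'] at this
        exact zero_ne_one this
      calc lam b ^ 2 = lam b * (lam b)⁻¹ := by rw [pow_two, ← hb']
        _ = 1 := mul_inv_cancel₀ hne0
    refine M.right_ne b hb hb1 (orderOf_eq_one_iff.1 (Nat.eq_one_of_dvd_coprimes ?_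
      (orderOf_dvd_iff_pow_eq_one.2 hb2)
      (orderOf_dvd_iff_pow_eq_one.2 (M.pow_right h hG hU (h.muKer_le_dom (h.right_le_ker hb))))))
    refine Nat.prime_two.coprime_iff_not_dvd.2 fun h2 => ?_
    have := hG.1.of_dvd_nat (h2.trans W₂.card_subgroup_dvd_card)
    exact Nat.not_even_iff_odd.2 this even_two
  set BN : N → ℂ := fun y => betaG S W₁ U lam y
  have hC0 : (Nat.card C : ℂ) ≠ 0 := Nat.cast_ne_zero.2 Nat.card_pos.ne'
  have hBco : ∀ l : N →* ℂˣ, (∃ x : N, (x : G) ∈ H ∧ l x ≠ 1) →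
      Cfsg.classInner BN (homFun l) =
        -((Nat.card C : ℂ)⁻¹ * ((Finset.univ.filter fun w : U => Lam w = l).card : ℂ)) := fun l hl => by
    have hval : BN = (Nat.card C : ℂ)⁻¹ • ∑ w : U, (homFun (1 : N →* ℂˣ) - homFun (Lam w)) := by
      funext y
      simp only [BN, M.beta_ker h hG hU y.2, Pi.smul_apply, Finset.sum_apply, Pi.sub_apply, smul_eq_mul,
        homFun, hLam, MonoidHom.one_apply, Units.val_one]
      rfl
    rw [hval, classInner_smul_left, classInner_sum_left]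
    simp only [classInner_sub_left, (hH0 l hl).2, classInner_homFun, zero_sub, Finset.sum_neg_distrib,
      mul_neg]
    congr 2
    convert Finset.sum_boole (R := ℂ) _ _ using 2
  have hlin : ∀ l : N →* ℂˣ, (∃ x : N, (x : G) ∈ H ∧ l x ≠ 1) →
      Cfsg.classInner BN (homFun l) = -(A l : ℂ) + (n : ℂ) * (Af l : ℂ) := fun l hl => by
    have e : BN = homFun (1 : N →* ℂˣ) - ηN + (n : ℂ) • fN + fun y : N => R y := by
      funext y
      simp only [BN, ηN, fN, Pi.add_apply, Pi.sub_apply, Pi.smul_apply, smul_eq_mul, homFun,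
        MonoidHom.one_apply, Units.val_one]
      exact hrel y
    rw [e, classInner_add_left, classInner_add_left, classInner_sub_left, classInner_smul_left,
      (hH0 l hl).1, (hH0 l hl).2, show Cfsg.classInner ηN (homFun l) = _ from hA l,
      show Cfsg.classInner fN (homFun l) = _ from hAf l]
    ring
  have hplus : ∀ v : U, A (Lam v) = 1 + n * Af (Lam v) := fun v => by
    have h1 := hlin _ (hLH v)
    rw [hBco _ (hLH v)] at h1
    have hcnt : ((Finset.univ.filter fun w : U => Lam w = Lam v).card) = Nat.card C := by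
      rw [← Fintype.card_subtype, ← Nat.card_eq_fintype_card]
      refine Nat.card_congr
        { toFun := fun w => ⟨(v : G)⁻¹ * w.1, (hsame w.1 v).1 w.2⟩
          invFun := fun d => ⟨⟨(v : G) * d, U.mul_mem v.2 d.2.1⟩, (hsame _ v).2 (by
            rw [← mul_assoc, inv_mul_cancel, one_mul]; exact d.2)⟩
          left_inv := fun w => Subtype.ext (Subtype.ext (by simp))
          right_inv := fun d => Subtype.ext (by simp) }
    rw [hcnt, inv_mul_cancel₀ hC0] at h1
    have : (A (Lam v) : ℂ) = ((1 + n * Af (Lam v) : ℤ) : ℂ) := by push_cast; linear_combination h1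
    exact_mod_cast this
  have hminus : ∀ v : U, A (Lam v)⁻¹ = n * Af (Lam v)⁻¹ := fun v => by
    have h1 := hlin _ (hLH' v)
    rw [hBco _ (hLH' v), Finset.filter_false_of_mem fun w _ => hnoinv w v, Finset.card_empty] at h1
    have : (A (Lam v)⁻¹ : ℂ) = ((n * Af (Lam v)⁻¹ : ℤ) : ℂ) := by push_cast; linear_combination h1
    exact_mod_cast this
  -- the pairs
  set CU := C.subgroupOf U
  haveI : Fintype (U ⧸ CU) := Fintype.ofFinite _
  have hkap : (Fintype.card (U ⧸ CU) : ℝ) = (Nat.card C : ℝ) := by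
    have h1 := CU.card_eq_card_quotient_mul_card_subgroup
    rw [Nat.card_congr (subgroupOfEquivOfLe (inf_le_left : C ≤ U)).toEquiv, hu] at h1
    rw [← Nat.card_eq_fintype_card, Nat.eq_of_mul_eq_mul_right Nat.card_pos h1.symm]
  have hout : ∀ k k' : U ⧸ CU, ((k'.out : U) : G)⁻¹ * (k.out : U) ∈ C → k = k' := fun k k' hk => by
    refine Eq.symm ?_
    rw [← QuotientGroup.out_eq' k', ← QuotientGroup.out_eq' k, QuotientGroup.eq]
    exact hk
  have hinj : Function.Injective (Sum.elim (fun k : U ⧸ CU => Lam k.out) fun k : U ⧸ CU => (Lam k.out)⁻¹) := by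
    rintro (k | k) (k' | k') e <;> simp only [Sum.elim_inl, Sum.elim_inr] at e
    · exact congrArg Sum.inl (hout k k' ((hsame _ _).1 e))
    · exact absurd e (hnoinv _ _)
    · exact absurd e.symm (hnoinv _ _)
    · exact congrArg Sum.inr (hout k k' ((hsame _ _).1 (inv_injective e)))
  have hspread := pairs_spread (fun l => (A l : ℝ)) _ _ hinj fun k => by
    obtain ⟨n', hn'⟩ := hn
    have hd : (1 : ℤ) ≤ (A (Lam k.out) - A (Lam k.out)⁻¹) ^ 2 := by
      rw [hplus, hminus, hn', sq]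
      exact one_le_mul_self fun e => by
        have : (2 : ℤ) ∣ 1 := ⟨-(n' * Af (Lam k.out)) + n' * Af (Lam k.out)⁻¹, by linear_combination e⟩
        omega
    exact_mod_cast hd
  rw [hcardI, hkap, ← hPA] at hspread
  -- the numbers
  set cC := Nat.card C with hcC
  set hh := Nat.card H
  have hNcard : Nat.card N = cC * hh := M.card_ker h hG hU
  have hScard : Nat.card S = hh * (cC * cC) * q := by
    rw [h.card_S, h.card_derived, hu]
  have hcore : Cfsg.sigmaCore L = U := D.core_eq hG hU hab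
  have hLcard : Nat.card L = q * W₁.relIndex (L ⊓ T) * (cC * cC) := by
    rw [D.card_L hG hU, hcore, hu, CfsgLib.InvariantHall.relIndex_mul_card D.overData.left_le_compl]
  have hTScard : ((Finset.univ.filter fun a : S => (a : G) ∈ (N : Set G) \ {1}).card : ℝ) ≤ Nat.card N := by
    refine Nat.cast_le.2 ((Finset.card_le_card_of_injOn (fun a : S => (a : G))
      (t := Finset.univ.filter (· ∈ N)) (fun a ha => ?_) fun a _ b _ e => Subtype.ext e).trans_eq ?_)
    · exact Finset.mem_coe.2 (Finset.mem_filter.2 ⟨Finset.mem_univ _, (Finset.mem_filter.1 (Finset.mem_coe.1 ha)).2.1⟩)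
    · rw [Nat.card_eq_fintype_card, ← Fintype.card_subtype]
  have hTLcard : ((Finset.univ.filter fun a : L => (a : G) ∈ core1 L).card : ℝ) ≤ (cC * cC : ℕ) := by
    refine Nat.cast_le.2 ((Finset.card_le_card_of_injOn (fun a : L => (a : G))
      (t := Finset.univ.filter (· ∈ U)) (fun a ha => ?_) fun a _ b _ e => Subtype.ext e).trans_eq ?_)
    · exact Finset.mem_coe.2 (Finset.mem_filter.2 ⟨Finset.mem_univ _, hcore.le (Finset.mem_filter.1 (Finset.mem_coe.1 ha)).2.1⟩)
    · rw [← hu, Nat.card_eq_fintype_card, ← Fintype.card_subtype]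
  have hGS : (Nat.card S : ℝ) ≤ Nat.card G := Nat.cast_le.2 (Subgroup.card_le_card_group S)
  have hh1 : (1 : ℝ) ≤ hh := by exact_mod_cast Nat.card_pos
  have hq3 : (3 : ℝ) ≤ q := by exact_mod_cast h.left_odd hG hU
  have hc7' : (7 : ℝ) ≤ cC := by exact_mod_cast hc7
  have hm3' : (3 : ℝ) ≤ W₁.relIndex (L ⊓ T) := by exact_mod_cast hm3
  rw [hNcard] at hspread hTScard
  rw [hScard] at hmain hGS
  rw [hLcard] at hmain
  push_cast at hspread hTScard hTLcard hmain hGS
  set m : ℝ := (W₁.relIndex (L ⊓ T) : ℝ)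
  have hS0 : (0 : ℝ) < hh * (cC * cC) * q := by positivity
  have e1 : (1 : ℝ) / (2 * q) ≤ ((hh : ℝ) * (cC * cC) * q)⁻¹ * P := by
    calc (1 : ℝ) / (2 * q) = ((hh : ℝ) * (cC * cC) * q)⁻¹ * (cC * hh * cC / 2) := by field_simp
      _ ≤ _ := mul_le_mul_of_nonneg_left hspread (inv_nonneg.2 hS0.le)
  have e2 := mul_le_mul_of_nonneg_left hTScard (inv_nonneg.2 hS0.le)
  have hL0 : (0 : ℝ) < q * m * (cC * cC) := by positivity
  have e3 := mul_le_mul_of_nonneg_left hTLcard (inv_nonneg.2 hL0.le)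
  have e2' : ((hh : ℝ) * (cC * cC) * q)⁻¹ * (cC * hh) = 1 / (cC * q) := by field_simp
  have e3' : ((q : ℝ) * m * (cC * cC))⁻¹ * (cC * cC) = 1 / (q * m) := by field_simp
  rw [e2'] at e2
  rw [e3'] at e3
  have e4 : (1 : ℝ) / (cC * q) ≤ 1 / (7 * q) :=
    one_div_le_one_div_of_le (by positivity) (by nlinarith)
  have e5 : (1 : ℝ) / (q * m) ≤ 1 / (3 * q) :=
    one_div_le_one_div_of_le (by positivity) (by nlinarith)
  have e6 : ((Nat.card G : ℝ))⁻¹ ≤ 1 / (49 * q) := by
    rw [← one_div]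
    refine one_div_le_one_div_of_le (by positivity) (le_trans ?_ hGS)
    nlinarith [mul_le_mul hh1 (mul_le_mul hc7' hc7' (by norm_num) (by linarith)) (by norm_num) (by linarith)]
  have e7 : (1 : ℝ) / (7 * q) + 1 / (3 * q) + 1 / (49 * q) < 1 / (2 * q) := by
    have hq0 : (0 : ℝ) < q := by linarith
    rw [one_div, one_div, one_div, one_div, mul_inv, mul_inv, mul_inv, mul_inv]
    have : (0 : ℝ) < (q : ℝ)⁻¹ := inv_pos.2 hq0
    nlinarith
  linarith

end Unfaithful

namespace PairData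

variable [Finite G] {S T W₁ W₂ U V : Subgroup G}

/-- `U` acts faithfully on `M_F` (S1547). -/
theorem faithful (hG : Cfsg.IsMinSimpleOddOrder G) (hU : Upto12 G) (h : PairData S T W₁ W₂ U V) :
    U ⊓ centralizer (Cfsg.fittingHallOf S : Set G) = ⊥ := by
  letI := Fintype.ofFinite G
  rcases h.types hG hU with h2 | h3
  · by_contra hne
    obtain ⟨L, r, c, D⟩ := Unfaithful.exists_of hG hU h h2 hne
    exact D.abelian_absurd hG hU (D.core_comm hG hU)
  · exact (h.threeData hG hU h3).faithful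

/-- S1548. -/
theorem normalizer_left' (hG : Cfsg.IsMinSimpleOddOrder G) (hU : Upto12 G) (h : PairData S T W₁ W₂ U V) :
    normalizer (W₁ : Set G) = centralizer (W₁ : Set G) ∧
      centralizer (W₁ : Set G) = Cfsg.fittingHallOf T ⊔ W₂ :=
  h.normalizer_left hG hU fun h' => h'.faithful hG hU

end PairData

end CfsgLib.OddEnd
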