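import Cfsg.Agent.OddEnd.ThirteenMu
import Cfsg.Agent.Char.Inner
import Cfsg.Agent.Char.Generalized
import Cfsg.Agent.Char.CyclicFamily

/-!
Peterfalvi 13: the virtual character induced from `1 - λ`, its values on the domain of `λ`, and its norm.
-/

set_option autoImplicit false
set_option linter.unusedSectionVars false
set_option linter.style.haveILetI false

namespace CfsgLib.OddEnd

open Subgroup CfsgLib.OddLocal CfsgLib.Char
open scoped ComplexConjugate

universe u

variable {G : Type u} [Group G]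

/-- The virtual character of `G` induced from `1 - λ`. -/
noncomputable def betaG [Fintype G] (S W₁ U : Subgroup G) (lam : G → ℂ) : G → ℂ :=
  Cfsg.indFun (muDom S W₁ U) fun x => 1 - lam x

namespace MuChar

variable [Fintype G] {S T W₁ W₂ U V : Subgroup G} {lam : G → ℂ} (M : MuChar S W₁ W₂ U lam)
variable (h : PairData S T W₁ W₂ U V) (hG : Cfsg.IsMinSimpleOddOrder G) (hU : Upto12 G)
include M

theorem beta_gen : Cfsg.IsGeneralizedCharacter G (betaG S W₁ U lam) := by
  obtain ⟨μ, hμ⟩ := M.isHom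
  refine IsGeneralized.indFun ?_
  rw [show (fun x : ↥(muDom S W₁ U) => 1 - lam x) = homFun 1 - homFun μ from funext fun x => by
    simp [homFun, hμ]]
  exact IsGeneralized.sub (IsCharacter.isGeneralized (isCharacter_ofHom 1))
    (IsCharacter.isGeneralized (isCharacter_ofHom μ))

theorem beta_class : Cfsg.IsClassFunction G (betaG S W₁ U lam) := isClassFunction_indFun _ _

theorem beta_inner [Fintype ↥(muDom S W₁ U)] {χ : G → ℂ} (hχ : Cfsg.IsClassFunction G χ) :
    Cfsg.classInner (betaG S W₁ U lam) χ = (Nat.card ↥(muDom S W₁ U) : ℂ)⁻¹ *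
      ∑ y : ↥(muDom S W₁ U), (1 - lam y) * conj (χ y) := by
  rw [betaG, classInner_indFun _ hχ, classInner_def]

theorem beta_supp {g : G} (hg : betaG S W₁ U lam g ≠ 0) :
    ∃ x : G, x⁻¹ * g * x ∈ muDom S W₁ U ∧ lam (x⁻¹ * g * x) ≠ 1 := by
  by_contra hne
  push Not at hne
  refine hg ?_
  rw [betaG, indFun_def, Finset.sum_eq_zero, mul_zero]
  intro x _
  by_cases hm : x⁻¹ * g * x ∈ muDom S W₁ U
  · rw [extendByZero_of_mem _ hm]
    exact sub_eq_zero.2 (hne x hm).symm
  · exact extendByZero_of_not_mem _ hm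

include h hG hU

theorem ker_commute {a b : G} (ha : a ∈ muKer S U) (hb : b ∈ muKer S U) : a * b = b * a := by
  have key : ∀ x ∈ (centPart S U : Set G) ∪ Cfsg.fittingHallOf S, ∀ y ∈ (centPart S U : Set G) ∪
      Cfsg.fittingHallOf S, x * y = y * x := by
    rintro x (hx | hx) y (hy | hy)
    · exact h.U_commute hG hU hx.1 hy.1
    · exact (mem_centralizer_iff.1 hx.2 y hy).symm
    · exact mem_centralizer_iff.1 hy.2 x hx
    · exact congrArg Subtype.val ((h.elem hG hU).1.is_comm.comm (⟨x, hx⟩ : Cfsg.fittingHallOf S) ⟨y, hy⟩)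
  rw [muKer, sup_eq_closure] at ha hb
  haveI := isMulCommutative_closure key
  exact congrArg Subtype.val (IsMulCommutative.is_comm.comm
    (⟨a, ha⟩ : closure ((centPart S U : Set G) ∪ Cfsg.fittingHallOf S)) ⟨b, hb⟩)

theorem card_ker : Nat.card ↥(muKer S U) =
    Nat.card ↥(centPart S U) * Nat.card ↥(Cfsg.fittingHallOf S) :=
  CfsgLib.Solvable.card_sup_of_disjoint (inf_le_left.trans h.U_le_normalizer_H) (le_bot_iff.1 (by
    rw [inf_comm]; exact (inf_le_inf_left _ inf_le_left).trans h.H_inf_U.le))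

theorem card_dom : Nat.card ↥(muDom S W₁ U) = Nat.card ↥(muKer S U) * Nat.card W₁ := by
  have e : muDom S W₁ U = W₁ ⊔ muKer S U := by simp only [muKer]; rw [← sup_assoc, sup_comm W₁]
  rw [e, CfsgLib.Solvable.card_sup_of_disjoint (h.left_normalizes_ker hG hU) (disjoint_iff.1
    (disjoint_of_coprime_natCard (h.coprime_left.coprime_dvd_right (card_dvd_of_le h.muKer_le)))),
    mul_comm]

/-- The values are `p`-th roots of unity. -/
theorem pow_right {y : G} (hy : y ∈ muDom S W₁ U) : lam y ^ Nat.card W₂ = 1 := by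
  have hpow : ∀ x ∈ muDom S W₁ U, ∀ i : ℕ, lam (x ^ i) = lam x ^ i := fun x hx i => by
    induction i with
    | zero => rw [pow_zero, pow_zero, M.one]
    | succ i ih => rw [pow_succ, pow_succ, M.mul ((muDom S W₁ U).pow_mem hx i) hx, ih]
  obtain ⟨n, hn, w, hw, rfl⟩ := h.dom_decomp hG hU hy
  obtain ⟨z, hz, x, hx, rfl⟩ := (CfsgLib.Solvable.mem_sup_of_le_normalizer
    (inf_le_left.trans h.U_le_normalizer_H : centPart S U ≤ normalizer (Cfsg.fittingHallOf S : Set G))).1 hn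
  have hxX : x ∈ muDom S W₁ U := mem_sup_right hx
  have hzX : z ∈ muDom S W₁ U := mem_sup_left (mem_sup_left hz)
  rw [M.mul ((muDom S W₁ U).mul_mem hzX hxX) (h.left_le_dom hw), M.mul hzX hxX,
    M.triv z (mem_sup_left hz), M.triv w (mem_sup_right hw), one_mul, mul_one, ← hpow x hxX,
    (h.elem hG hU).2 x hx, M.one]

theorem ker_mem_A0 {y : G} (hy : y ∈ muKer S U) (hy1 : y ≠ 1) : y ∈ Cfsg.typeA0 S := by
  refine Or.inl ?_
  rw [Cfsg.typeA, if_neg (h.not_typeI hG hU)]
  obtain ⟨b, hb, hb1⟩ := (Subgroup.bot_or_exists_ne_one W₂).resolve_left h.typeP_S.selfNormalizing.2.1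
  refine ⟨h.muKer_le hy, hy1, b, ?_, hb1, M.ker_commute h hG hU hy (h.right_le_ker hb)⟩
  rw [Cfsg.typeCore]
  split_ifs
  · exact h.H_le (h.right_le_H hb)
  · exact h.right_le_H hb

theorem supp_mem {y : G} (hy : y ∈ muDom S W₁ U) (hne : lam y ≠ 1) : y ∈ Cfsg.typeA0 S := by
  by_cases hk : y ∈ muKer S U
  · exact M.ker_mem_A0 h hG hU hk fun e => hne (by rw [e, M.one])
  obtain ⟨x, hx, a, ha, ha1, b, hb, rfl⟩ := h.dom_outside_conj hG hU hy hk
  have hab : b * a ∈ muDom S W₁ U :=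
    (muDom S W₁ U).mul_mem (h.muKer_le_dom (h.right_le_ker hb)) (h.left_le_dom ha)
  rw [M.conj_mem hx hab, M.mul (h.muKer_le_dom (h.right_le_ker hb)) (h.left_le_dom ha),
    M.triv a (mem_sup_right ha), mul_one] at hne
  have hb1 : b ≠ 1 := fun e => hne (by rw [e, M.one])
  have hdisj : W₁ ⊓ W₂ = ⊥ := h.typeP_S.selfNormalizing.2.2.1
  refine Or.inr ⟨h.not_typeI hG hU, W₁, U, W₂, h.typeP_S, x, h.muDom_le hx, b * a,
    mul_mem (mem_sup_right hb) (mem_sup_left ha), fun e => hb1 ?_, fun e => ha1 ?_, rfl⟩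
  · exact mem_bot.1 (hdisj ▸ ⟨by simpa using W₁.mul_mem e (W₁.inv_mem ha), hb⟩)
  · exact mem_bot.1 (hdisj ▸ ⟨ha, by simpa using W₂.mul_mem (W₂.inv_mem hb) e⟩)

/-- The support is fused only inside `S`. -/
theorem fusion {y g : G} (hy : y ∈ muDom S W₁ U) (hy1 : y ≠ 1) (he : g⁻¹ * y * g ∈ muDom S W₁ U)
    (hne : lam (g⁻¹ * y * g) ≠ 1) : g ∈ S := by
  obtain ⟨hTI, hN⟩ := h.typeA0_ti hG hU
  have hy' := M.supp_mem h hG hU he hne
  have hA : y ∈ Cfsg.typeA0 S := by
    by_cases hk : y ∈ muKer S U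
    · exact M.ker_mem_A0 h hG hU hk hy1
    refine M.supp_mem h hG hU hy fun e => hne ?_
    obtain ⟨x, hx, a, ha, -, b, hb, rfl⟩ := h.dom_outside_conj hG hU hy hk
    have hbX := h.muKer_le_dom (h.right_le_ker hb)
    rw [M.conj_mem hx ((muDom S W₁ U).mul_mem hbX (h.left_le_dom ha)), M.mul hbX (h.left_le_dom ha),
      M.triv a (mem_sup_right ha), mul_one] at e
    have hb1 : b = 1 := by_contra fun hb1 => M.right_ne b hb hb1 e
    subst hb1
    rw [one_mul] at he hy ⊢
    -- then `y` has order dividing `q`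
    have hq : (g⁻¹ * (x * a * x⁻¹) * g) ^ Nat.card W₁ = 1 := by
      rw [show g⁻¹ * (x * a * x⁻¹) * g = g⁻¹ * x * a * (g⁻¹ * x)⁻¹ by group, conj_pow, conj_eq_one_iff]
      exact orderOf_dvd_iff_pow_eq_one.1 (Kap.dvd_of_mem ha rfl)
    have hpow : ∀ i : ℕ, lam ((g⁻¹ * (x * a * x⁻¹) * g) ^ i) = lam (g⁻¹ * (x * a * x⁻¹) * g) ^ i := fun i => by
      induction i with
      | zero => rw [pow_zero, pow_zero, M.one]
      | succ i ih => rw [pow_succ, pow_succ, M.mul ((muDom S W₁ U).pow_mem he i) he, ih]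
    have h1 := hpow (Nat.card W₁)
    rw [hq, M.one] at h1
    exact orderOf_eq_one_iff.1 (Nat.eq_one_of_dvd_coprimes
      ((Nat.coprime_primes (h.prime_left hG hU) (h.prime_right hG hU)).2 (Ne.symm (h.card_ne hG hU)))
      (orderOf_dvd_iff_pow_eq_one.2 h1.symm) (orderOf_dvd_iff_pow_eq_one.2 (M.pow_right h hG hU he)))
  by_contra hg
  have h1 := hTI g (by rwa [hN]) _ hy' (by rwa [show g * (g⁻¹ * y * g) * g⁻¹ = y by group])
  exact hne (by rw [h1, M.one])

theorem beta_eq [DecidablePred (· ∈ S)] {y : G} (hy : y ∈ muDom S W₁ U) :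
    betaG S W₁ U lam y = (Nat.card ↥(muDom S W₁ U) : ℂ)⁻¹ *
      ∑ g ∈ Finset.univ.filter (· ∈ S),
        Cfsg.extendByZero (muDom S W₁ U) (fun x => 1 - lam x) (g⁻¹ * y * g) := by
  rw [betaG, indFun_def]
  refine congrArg _ (Finset.sum_filter_of_ne fun g _ hne => ?_).symm
  by_cases hm : g⁻¹ * y * g ∈ muDom S W₁ U
  · rw [extendByZero_of_mem _ hm, sub_ne_zero] at hne
    refine M.fusion h hG hU hy ?_ hm (Ne.symm hne)
    rintro rfl
    exact hne (by simp [M.one])
  · exact absurd (extendByZero_of_not_mem _ hm) hne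

theorem beta_outside {y : G} (hy : y ∈ muDom S W₁ U) (hk : y ∉ muKer S U) :
    betaG S W₁ U lam y = 1 - lam y := by
  classical
  rw [M.beta_eq h hG hU hy, Finset.sum_congr rfl (g := fun g => if g ∈ muDom S W₁ U then 1 - lam y else 0)
    fun g hg => ?_, ← Finset.sum_filter, Finset.filter_filter,
    Finset.filter_congr (q := (· ∈ muDom S W₁ U)) fun g _ => ⟨And.right, fun hg => ⟨h.muDom_le hg, hg⟩⟩,
    Finset.sum_const, nsmul_eq_mul, ← Fintype.card_subtype, ← Nat.card_eq_fintype_card,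
    inv_mul_cancel_left₀ (Nat.cast_ne_zero.2 Nat.card_pos.ne')]
  have hgS := (Finset.mem_filter.1 hg).2
  split_ifs with hX
  · have hm := (muDom S W₁ U).mul_mem ((muDom S W₁ U).mul_mem ((muDom S W₁ U).inv_mem hX) hy) hX
    rw [extendByZero_of_mem _ hm]
    have := M.conj_mem ((muDom S W₁ U).inv_mem hX) hy
    rw [inv_inv] at this
    simp only [this]
  · refine extendByZero_of_not_mem _ fun hm => hX ?_
    simpa using (muDom S W₁ U).inv_mem
      (h.dom_outside_fusion hG hU hy hk (S.inv_mem hgS) (by rwa [inv_inv]))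

theorem beta_ker [Fintype U] {y : G} (hy : y ∈ muKer S U) :
    betaG S W₁ U lam y =
      (Nat.card ↥(centPart S U) : ℂ)⁻¹ * ∑ v : U, (1 - lam ((v : G)⁻¹ * y * v)) := by
  classical
  set X := muDom S W₁ U
  set C := centPart S U
  set F := Cfsg.extendByZero X (fun x => 1 - lam x)
  have hterm : ∀ (v : U) (x : X), F (((v : G) * x)⁻¹ * y * ((v : G) * x)) = 1 - lam ((v : G)⁻¹ * y * v) :=
    fun v x => by
      have hm : (v : G)⁻¹ * y * v ∈ X :=
        h.muKer_le_dom ((mem_normalizer_iff''.1 (h.U_normalizes_ker hG hU v.2) y).1 hy)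
      rw [show ((v : G) * x)⁻¹ * y * ((v : G) * x) = (x : G)⁻¹ * ((v : G)⁻¹ * y * v) * x by group]
      simp only [F]
      rw [extendByZero_of_mem _ (X.mul_mem (X.mul_mem (X.inv_mem x.2) hm) x.2)]
      have := M.conj_mem (X.inv_mem x.2) hm
      rw [inv_inv] at this
      simp only [this]
  have key : ∑ v : U, ∑ x : X, F (((v : G) * x)⁻¹ * y * ((v : G) * x)) =
      (Nat.card C : ℂ) * ∑ g ∈ Finset.univ.filter (· ∈ S), F (g⁻¹ * y * g) := by
    rw [← Fintype.sum_prod_type' (f := fun (v : U) (x : X) => F (((v : G) * x)⁻¹ * y * ((v : G) * x))),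
      ← Finset.sum_fiberwise_of_maps_to (g := fun P : U × X => (P.1 : G) * P.2)
        (t := Finset.univ.filter (· ∈ S)) (fun P _ => Finset.mem_filter.2
          ⟨Finset.mem_univ _, S.mul_mem (h.U_le_S P.1.2) (h.muDom_le P.2.2)⟩),
      Finset.mul_sum]
    refine Finset.sum_congr rfl fun g hg => ?_
    rw [Finset.sum_congr rfl (g := fun _ => F (g⁻¹ * y * g)) fun P hP => by
      rw [← (Finset.mem_filter.1 hP).2], Finset.sum_const, nsmul_eq_mul]
    congr 2
    obtain ⟨x₀, hx₀, v₀, hv₀, e₀⟩ := h.exists_dom_U hG hU (S.inv_mem (Finset.mem_filter.1 hg).2)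
    have hg' : g = v₀⁻¹ * x₀⁻¹ := by rw [← inv_inv g, e₀, mul_inv_rev]
    let e : C ≃ {P : U × X // (P.1 : G) * P.2 = g} :=
      { toFun := fun d => ⟨(⟨v₀⁻¹ * d, U.mul_mem (U.inv_mem hv₀) d.2.1⟩,
          ⟨(d : G)⁻¹ * x₀⁻¹, X.mul_mem (X.inv_mem (mem_sup_left (mem_sup_left d.2))) (X.inv_mem hx₀)⟩),
          by rw [hg']; group⟩
        invFun := fun P => ⟨v₀ * P.1.1, (h.dom_inter_U hG hU).le ⟨by
          rw [show v₀ * (P.1.1 : G) = x₀⁻¹ * (P.1.2 : G)⁻¹ by
            rw [eq_mul_inv_of_mul_eq (P.2.trans hg' : (P.1.1 : G) * P.1.2 = v₀⁻¹ * x₀⁻¹)]; group]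
          exact X.mul_mem (X.inv_mem hx₀) (X.inv_mem P.1.2.2), U.mul_mem hv₀ P.1.1.2⟩⟩
        left_inv := fun d => Subtype.ext (by simp)
        right_inv := fun P => by
          refine Subtype.ext (Prod.ext (Subtype.ext (by simp)) (Subtype.ext ?_))
          show (v₀ * (P.1.1 : G))⁻¹ * x₀⁻¹ = P.1.2
          rw [eq_inv_mul_of_mul_eq (P.2.trans hg' : (P.1.1 : G) * P.1.2 = v₀⁻¹ * x₀⁻¹)]
          group }
    rw [← Fintype.card_subtype, ← Nat.card_eq_fintype_card, ← Nat.card_congr e]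
  rw [Finset.sum_congr rfl fun v _ => by rw [Finset.sum_congr rfl fun x _ => hterm v x,
    Finset.sum_const, Finset.card_univ, nsmul_eq_mul, ← Nat.card_eq_fintype_card],
    ← Finset.mul_sum] at key
  rw [M.beta_eq h hG hU (h.muKer_le_dom hy)]
  have hX0 : (Nat.card X : ℂ) ≠ 0 := Nat.cast_ne_zero.2 Nat.card_pos.ne'
  have hC0 : (Nat.card C : ℂ) ≠ 0 := Nat.cast_ne_zero.2 Nat.card_pos.ne'
  field_simp
  linear_combination -key

/-- The conjugates of `λ` are homomorphisms on `C H`. -/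
theorem exists_kerHom {v : G} (hv : v ∈ U) :
    ∃ l : ↥(muKer S U) →* ℂˣ, ∀ y : ↥(muKer S U), (l y : ℂ) = lam (v⁻¹ * y * v) := by
  obtain ⟨μ, hμ⟩ := M.isHom
  refine ⟨μ.comp (MonoidHom.mk' (fun y : ↥(muKer S U) => (⟨v⁻¹ * y * v, h.muKer_le_dom
    ((mem_normalizer_iff''.1 (h.U_normalizes_ker hG hU hv) _).1 y.2)⟩ : ↥(muDom S W₁ U)))
    fun a b => Subtype.ext (by show v⁻¹ * (a * b) * v = v⁻¹ * a * v * (v⁻¹ * b * v); group)), fun y => ?_⟩
  exact (hμ _).symm

/-- Conjugates of `λ` by elements of `U` in different cosets of `C` are orthogonal on `C H`. -/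
theorem ker_orth [Fintype ↥(muKer S U)] {v : G} (hv : v ∈ U) (hvC : v ∉ centPart S U) :
    ∑ y : ↥(muKer S U), lam y * conj (lam (v⁻¹ * y * v)) = 0 := by
  obtain ⟨l₁, hl₁⟩ := M.exists_kerHom h hG hU U.one_mem
  obtain ⟨l₂, hl₂⟩ := M.exists_kerHom h hG hU hv
  simp only [inv_one, one_mul, mul_one] at hl₁
  have hne : l₁ ≠ l₂ := fun e => hvC (by
    refine inv_mem_iff.1 (M.stab v⁻¹ (U.inv_mem hv) fun x hx => ?_)
    have := hl₂ ⟨x, mem_sup_right hx⟩
    rw [← e, hl₁] at this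
    rw [inv_inv]
    exact this.symm)
  have h1 := IsIrrCharacter.classInner_of_ne (isIrrCharacter_ofHom l₁) (isIrrCharacter_ofHom l₂)
    fun e => hne (MonoidHom.ext fun w => Units.ext (congrFun e w))
  rw [classInner_def, mul_eq_zero, or_iff_right (inv_ne_zero (Nat.cast_ne_zero.2 Nat.card_pos.ne'))] at h1
  simpa only [hl₁, hl₂] using h1

theorem ker_sum [Fintype ↥(muKer S U)] {v : G} (hv : v ∈ U) :
    ∑ y : ↥(muKer S U), lam (v⁻¹ * y * v) = 0 := by
  obtain ⟨l, hl⟩ := M.exists_kerHom h hG hU hv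
  obtain ⟨b, hb, hb1⟩ := (Subgroup.bot_or_exists_ne_one W₂).resolve_left h.typeP_S.selfNormalizing.2.1
  have hne : l ≠ 1 := fun e => by
    have hbH := (mem_normalizer_iff.1 (h.U_le_normalizer_H hv) b).1 (h.right_le_H hb)
    have := hl ⟨v * b * v⁻¹, mem_sup_right hbH⟩
    rw [e, MonoidHom.one_apply, Units.val_one, show v⁻¹ * (v * b * v⁻¹) * v = b by group] at this
    exact M.right_ne b hb hb1 this.symm
  rw [← sum_hom_units_eq_zero ((Units.coeHom ℂ).comp l)
    fun e => hne (MonoidHom.ext fun c => Units.ext (DFunLike.congr_fun e c))]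
  exact Finset.sum_congr rfl fun y _ => (hl y).symm

/-- `|C| q ‖β‖² = |U| + 2|C|q - |C|`. -/
theorem beta_norm : (Nat.card ↥(centPart S U) * Nat.card W₁ : ℂ) *
    Cfsg.classInner (betaG S W₁ U lam) (betaG S W₁ U lam) =
      (Nat.card U : ℂ) + 2 * (Nat.card ↥(centPart S U) * Nat.card W₁ : ℂ) - Nat.card ↥(centPart S U) := by
  classical
  haveI := Fintype.ofFinite U
  set X := muDom S W₁ U
  set N := muKer S U
  set C := centPart S U
  set B := betaG S W₁ U lam
  set f : G → ℂ := fun y => (1 - lam y) * conj (B y)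
  have hout : ∀ y : X, (y : G) ∉ N → f y = 2 - lam y - conj (lam y) := fun y hy => by
    have h1 : lam y * conj (lam y) = 1 := by
      rw [M.conj_eq y.2, ← M.mul y.2 (X.inv_mem y.2), mul_inv_cancel, M.one]
    simp only [f, B, M.beta_outside h hG hU y.2 hy, map_sub, map_one]
    linear_combination h1
  have hsum1 : ∀ y : N, f y = (Nat.card C : ℂ)⁻¹ * ∑ v : U,
      (1 - lam y - conj (lam ((v : G)⁻¹ * y * v)) + lam y * conj (lam ((v : G)⁻¹ * y * v))) := fun y => by
    simp only [f, B, M.beta_ker h hG hU y.2, map_mul, map_inv₀, map_natCast, map_sum, map_sub, map_one]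
    rw [mul_left_comm, Finset.mul_sum]
    exact congrArg _ (Finset.sum_congr rfl fun v _ => by ring)
  have s2 : ∀ v : U, ∑ y : N, lam ((v : G)⁻¹ * y * v) = 0 := fun v => M.ker_sum h hG hU v.2
  have hN : ∑ y : N, f y = (Nat.card N : ℂ) * ((Nat.card U : ℂ) / Nat.card C + 1) := by
    rw [Finset.sum_congr rfl fun y _ => hsum1 y, ← Finset.mul_sum, Finset.sum_comm,
      Finset.sum_congr rfl (g := fun v : U => (Nat.card N : ℂ) + if (v : G) ∈ C then (Nat.card N : ℂ) else 0)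
      fun v _ => ?_]
    · rw [Finset.sum_add_distrib, Finset.sum_const, ← Finset.sum_filter, Finset.sum_const, Finset.card_univ,
        nsmul_eq_mul, nsmul_eq_mul, ← Nat.card_eq_fintype_card, ← Fintype.card_subtype,
        ← Nat.card_eq_fintype_card, Nat.card_congr (Equiv.subtypeSubtypeEquivSubtype
          (p := (· ∈ U)) (q := (· ∈ C)) fun hx => hx.1)]
      have hC0 : (Nat.card C : ℂ) ≠ 0 := Nat.cast_ne_zero.2 Nat.card_pos.ne'
      change _ = _
      field_simp
    have s1 : ∑ y : N, lam (y : G) = 0 := by simpa using M.ker_sum h hG hU U.one_mem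
    simp only [Finset.sum_add_distrib, Finset.sum_sub_distrib, s1, ← map_sum,
      s2 v, map_zero, sub_zero, Finset.sum_const, Finset.card_univ, nsmul_one,
      ← Nat.card_eq_fintype_card]
    split_ifs with hv
    · refine congrArg _ (Eq.trans (Finset.sum_congr rfl (g := fun _ => (1 : ℂ)) fun y _ => ?_)
        (by rw [Finset.sum_const, Finset.card_univ, nsmul_one, ← Nat.card_eq_fintype_card]))
      have hvy : (v : G)⁻¹ * y * v = y := by
        rw [mul_assoc, M.ker_commute h hG hU y.2 (mem_sup_left hv), inv_mul_cancel_left]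
      rw [hvy, M.conj_eq (h.muKer_le_dom y.2), ← M.mul (h.muKer_le_dom y.2) (X.inv_mem (h.muKer_le_dom y.2)),
        mul_inv_cancel, M.one]
    · rw [M.ker_orth h hG hU v.2 hv]
  set F2 : G → ℂ := fun y => 2 - lam y - conj (lam y)
  have hXlam : ∑ y : X, lam (y : G) = 0 := by
    obtain ⟨μ, hμ⟩ := M.isHom
    obtain ⟨b, hb, hb1⟩ := (Subgroup.bot_or_exists_ne_one W₂).resolve_left h.typeP_S.selfNormalizing.2.1
    have hne : μ ≠ 1 := fun e => M.right_ne b hb hb1 (by
      rw [show lam b = _ from hμ ⟨b, h.muKer_le_dom (h.right_le_ker hb)⟩, e]; rfl)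
    rw [← sum_hom_units_eq_zero ((Units.coeHom ℂ).comp μ)
      fun e => hne (MonoidHom.ext fun c => Units.ext (DFunLike.congr_fun e c))]
    exact Finset.sum_congr rfl fun y _ => hμ y
  have hsplit : ∀ φ : G → ℂ, ∑ y : X, φ y =
      ∑ y : N, φ y + ∑ y ∈ Finset.univ.filter (fun y : X => (y : G) ∉ N), φ y := fun φ => by
    rw [← Finset.sum_filter_add_sum_filter_not (Finset.univ : Finset X) (fun y => (y : G) ∈ N)]
    congr 1
    exact Finset.sum_bij' (fun y hy => (⟨y, (Finset.mem_filter.1 hy).2⟩ : N))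
      (fun y _ => (⟨y, h.muKer_le_dom y.2⟩ : X)) (fun _ _ => Finset.mem_univ _)
      (fun y _ => Finset.mem_filter.2 ⟨Finset.mem_univ _, y.2⟩) (fun _ _ => rfl) (fun _ _ => rfl) fun _ _ => rfl
  have hN2 : ∑ y : N, F2 y = 2 * (Nat.card N : ℂ) := by
    have s1 : ∑ y : N, lam (y : G) = 0 := by simpa using M.ker_sum h hG hU U.one_mem
    simp only [F2, Finset.sum_sub_distrib, ← map_sum, s1, map_zero, sub_zero, Finset.sum_const,
      Finset.card_univ, nsmul_eq_mul, ← Nat.card_eq_fintype_card, mul_comm]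
  have hX2 : ∑ y : X, F2 y = 2 * (Nat.card X : ℂ) := by
    simp only [F2, Finset.sum_sub_distrib, ← map_sum, hXlam, map_zero, sub_zero, Finset.sum_const,
      Finset.card_univ, nsmul_eq_mul, ← Nat.card_eq_fintype_card, mul_comm]
  have hX : ∑ y : X, f y =
      (Nat.card N : ℂ) * ((Nat.card U : ℂ) / Nat.card C + 1) + (2 * Nat.card X - 2 * Nat.card N) := by
    rw [hsplit f, hN, Finset.sum_congr rfl fun y hy => hout y (Finset.mem_filter.1 hy).2]
    congr 1
    rw [← hX2, ← hN2, hsplit F2, add_sub_cancel_left]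
  rw [M.beta_inner M.beta_class, hX, show Nat.card X = Nat.card N * Nat.card W₁ from M.card_dom h hG hU]
  push_cast
  have hC0 : (Nat.card C : ℂ) ≠ 0 := Nat.cast_ne_zero.2 Nat.card_pos.ne'
  have hN0 : (Nat.card N : ℂ) ≠ 0 := Nat.cast_ne_zero.2 Nat.card_pos.ne'
  have hq0 : (Nat.card W₁ : ℂ) ≠ 0 := Nat.cast_ne_zero.2 Nat.card_pos.ne'
  field_simp
  ring

end MuChar

end CfsgLib.OddEnd
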