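import Cfsg.Agent.OddEnd.ThirteenOver
import Cfsg.Agent.S1361

/-!
Peterfalvi 13: consequences of a nontrivial element `c` of `U` centralizing `M_F`, for `S` of type II.
-/

set_option autoImplicit false
set_option linter.unusedSectionVars false
set_option linter.style.haveILetI false

namespace CfsgLib.OddEnd

open Subgroup CfsgLib.OddLocal
open scoped commutatorElement

universe u

variable {G : Type u} [Group G] [Finite G]

theorem mem_map_conj_of {L : Subgroup G} {w x : G} (hx : w⁻¹ * x * w ∈ L) :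
    x ∈ L.map (MulAut.conj w).toMonoidHom :=
  ⟨w⁻¹ * x * w, hx, by show w * (w⁻¹ * x * w) * w⁻¹ = x; group⟩

/-- The configuration to be refuted: `c ∈ U` of prime order `r` centralizes `M_F`. -/
structure Unfaithful (S T W₁ W₂ U V L : Subgroup G) (r : ℕ) (c : G) : Prop where
  pair : PairData S T W₁ W₂ U V
  typeII : Cfsg.IsOfTypeII S
  overData : OverData S T W₁ U L
  prime : r.Prime
  mem : c ∈ U
  cent : c ∈ centralizer (Cfsg.fittingHallOf S : Set G)
  order : orderOf c = r

namespace Unfaithful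

variable {S T W₁ W₂ U V L : Subgroup G} {r : ℕ} {c : G}

theorem exists_of (hG : Cfsg.IsMinSimpleOddOrder G) (hU : Upto12 G) (h : PairData S T W₁ W₂ U V)
    (h2 : Cfsg.IsOfTypeII S) (hne : U ⊓ centralizer (Cfsg.fittingHallOf S : Set G) ≠ ⊥) :
    ∃ (L : Subgroup G) (r : ℕ) (c : G), Unfaithful S T W₁ W₂ U V L r c := by
  obtain ⟨L, hO⟩ := h.exists_over hG hU h2
  obtain ⟨r, hr, c, hc, hco⟩ := Kap.exists_order_prime hne
  exact ⟨L, r, c, h, h2, hO, hr, hc.1, hc.2, hco⟩

variable (D : Unfaithful S T W₁ W₂ U V L r c)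
include D

theorem ne_one : c ≠ 1 := fun e => D.prime.ne_one (by rw [← D.order, e, orderOf_one])

theorem mem_core : c ∈ Cfsg.sigmaCore L := D.overData.le_core D.mem

theorem mem_S : c ∈ S := D.pair.U_le_S D.mem

theorem H_le_centralizer : Cfsg.fittingHallOf S ≤ centralizer ({c} : Set G) := fun x hx =>
  mem_centralizer_singleton_iff.2 (mem_centralizer_iff.1 D.cent x hx)

theorem dvd_U : r ∣ Nat.card U := Kap.dvd_of_mem D.mem D.order

theorem W₁_le_L : W₁ ≤ L := D.pair.typeP_S.U_normal.trans D.overData.normalizer_le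

theorem U_le_L : U ≤ L := le_normalizer.trans D.overData.normalizer_le

variable (hG : Cfsg.IsMinSimpleOddOrder G) (hU : Upto12 G)
include hG hU

/-- `S` is the only maximal subgroup over the centralizer of a nontrivial subgroup of `U` centralizing `M_F`. -/
theorem unique {X : Subgroup G} (hXU : X ≤ U) (hX : X ≤ centralizer (Cfsg.fittingHallOf S : Set G)) (hX1 : X ≠ ⊥) :
    centralizer (X : Set G) ≤ S ∧
      ∀ N : Subgroup G, IsCoatom N → centralizer (X : Set G) ≤ N → N = S := by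
  obtain ⟨hd, hF, -⟩ := D.pair.decomp_II hG hU D.typeII
  refine Cfsg.Agent.S1361.result hG S D.pair.coatom_S W₁ U hd X hXU hX1 fun e => ?_
  refine D.pair.typeP_S.selfNormalizing.2.1 (le_bot_iff.1 (e ▸ ?_))
  exact D.pair.right_le_H.trans (le_inf hF.le (le_centralizer_iff.1 hX))

theorem centralizer_eq : centralizer ({c} : Set G) ≤ S ∧
    ∀ N : Subgroup G, IsCoatom N → centralizer ({c} : Set G) ≤ N → N = S := by
  have h := D.unique hG hU (X := zpowers c) (zpowers_le.2 D.mem) (zpowers_le.2 D.cent)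
    (fun e => D.ne_one (mem_bot.1 (e ▸ mem_zpowers c)))
  rwa [show centralizer (zpowers c : Set G) = centralizer ({c} : Set G) by
    rw [zpowers_eq_closure, centralizer_closure]] at h

theorem not_centralizer_le : ¬ centralizer ({c} : Set G) ≤ L := fun hle =>
  D.overData.ne_conj 1 (by rw [TH.map_conj_one]; exact (D.centralizer_eq hG hU).2 L D.overData.coatom hle)

/-- `R_L(c) = M_F`. -/
theorem supportR_eq : Cfsg.supportR L c = Cfsg.fittingHallOf S := by
  have hex : ∃! N : Subgroup G, IsCoatom N ∧ centralizer ({c} : Set G) ≤ N :=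
    ⟨S, ⟨D.pair.coatom_S, (D.centralizer_eq hG hU).1⟩, fun N hN => (D.centralizer_eq hG hU).2 N hN.1 hN.2⟩
  rw [Cfsg.supportR, dif_pos ⟨D.not_centralizer_le hG hU, hex⟩]
  have e : Classical.choose (⟨D.not_centralizer_le hG hU, hex⟩ :
      ¬ centralizer ({c} : Set G) ≤ L ∧ _).2.exists = S :=
    hex.unique (Classical.choose_spec hex.exists) ⟨D.pair.coatom_S, (D.centralizer_eq hG hU).1⟩
  rw [e, inf_eq_left]
  exact D.H_le_centralizer

theorem H_inf_L : Cfsg.fittingHallOf S ⊓ L = ⊥ := by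
  refine le_bot_iff.1 fun x hx => ?_
  have hx' : x ∈ U ⊔ W₁ := D.overData.meet ▸ ⟨FittingHall.of_le S hx.1, hx.2⟩
  exact (disjoint_iff.1 (disjoint_of_coprime_natCard D.pair.coprime_H_UW)).le ⟨hx.1, hx'⟩

/-- `S` meets the kernel of `L` in `U`. -/
theorem meet_core : S ⊓ Cfsg.sigmaCore L = U := by
  refine le_antisymm (fun x hx => ?_) (le_inf D.pair.U_le_S D.overData.le_core)
  have hx' : x ∈ U ⊔ W₁ := D.overData.meet ▸ ⟨hx.1, map_subtype_le _ hx.2⟩
  rw [sup_comm] at hx'
  obtain ⟨w, hw, u, hu, rfl⟩ :=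
    (CfsgLib.Solvable.mem_sup_of_le_normalizer D.pair.typeP_S.U_normal).1 hx'
  have hwσ : w ∈ Cfsg.sigmaCore L := by
    simpa using (Cfsg.sigmaCore L).mul_mem hx.2 (Subgroup.inv_mem _ (D.overData.le_core hu))
  have hw1 : w = 1 := mem_bot.1 (D.overData.compl.2.2.1 ▸ ⟨D.overData.left_le_compl hw, hwσ⟩)
  rwa [hw1, one_mul]

theorem core_centralizer : Cfsg.sigmaCore L ⊓ centralizer ({c} : Set G) = U := by
  refine le_antisymm (fun x hx => (D.meet_core hG hU).le ⟨(D.centralizer_eq hG hU).1 hx.2, hx.1⟩)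
    (le_inf D.overData.le_core fun u hu => mem_centralizer_singleton_iff.2 ?_)
  haveI := D.pair.U_comm hG hU
  exact congrArg Subtype.val (IsMulCommutative.is_comm.comm (⟨u, hu⟩ : U) ⟨c, D.mem⟩)

theorem compl_inf_S : (L ⊓ T) ⊓ S = W₁ := by
  refine le_antisymm (fun x hx => ?_) (le_inf D.overData.left_le_compl D.pair.left_le)
  have hx' : x ∈ U ⊔ W₁ := D.overData.meet ▸ ⟨hx.2, hx.1.1⟩
  rw [sup_comm] at hx'
  obtain ⟨w, hw, u, hu, rfl⟩ :=
    (CfsgLib.Solvable.mem_sup_of_le_normalizer D.pair.typeP_S.U_normal).1 hx'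
  have huE : u ∈ L ⊓ T := by
    simpa using (L ⊓ T).mul_mem ((L ⊓ T).inv_mem (D.overData.left_le_compl hw)) hx.1
  have hu1 : u = 1 := mem_bot.1 (D.overData.compl.2.2.1 ▸ ⟨huE, D.overData.le_core hu⟩)
  rwa [hu1, mul_one]

/-- Distinct conjugates of `C_U(M_F)` under the complement meet trivially. -/
theorem conj_disjoint {w : G} (hw : w ∈ L ⊓ T) (hw1 : w ∉ W₁) {z : G}
    (hz : z ∈ U ⊓ centralizer (Cfsg.fittingHallOf S : Set G))
    (hz' : w⁻¹ * z * w ∈ U ⊓ centralizer (Cfsg.fittingHallOf S : Set G)) : z = 1 := by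
  by_contra hz1
  have hz1' : w⁻¹ * z * w ≠ 1 := fun e => hz1 (by
    rw [show z = w * (w⁻¹ * z * w) * w⁻¹ by group, e, mul_one, mul_inv_cancel])
  have key : ∀ y ∈ U ⊓ centralizer (Cfsg.fittingHallOf S : Set G), y ≠ 1 →
      centralizer ({y} : Set G) ≤ S ∧ ∀ N : Subgroup G, IsCoatom N → centralizer ({y} : Set G) ≤ N → N = S := by
    intro y hy hy1
    have h := D.unique hG hU (X := zpowers y) (zpowers_le.2 hy.1) (zpowers_le.2 hy.2)
      (fun e => hy1 (mem_bot.1 (e ▸ mem_zpowers y)))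
    rwa [show centralizer (zpowers y : Set G) = centralizer ({y} : Set G) by
      rw [zpowers_eq_closure, centralizer_closure]] at h
  have hle : centralizer ({z} : Set G) ≤ S.map (MulAut.conj w).toMonoidHom := fun x hx => by
    refine mem_map_conj_of ((key _ hz' hz1').1 (mem_centralizer_singleton_iff.2 ?_))
    have e : x * z = z * x := mem_centralizer_singleton_iff.1 hx
    calc w⁻¹ * x * w * (w⁻¹ * z * w) = w⁻¹ * (x * z) * w := by group
      _ = w⁻¹ * (z * x) * w := by rw [e]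
      _ = w⁻¹ * z * w * (w⁻¹ * x * w) := by group
  have e := (key z hz hz1).2 _ (Uniq.coatom_conj D.pair.coatom_S w) hle
  have hwS : w ∈ S := Kap.eq_of_conj_eq hG D.pair.coatom_S e
  exact hw1 ((D.compl_inf_S hG hU).le ⟨hw, hwS⟩)

theorem card_L : Nat.card L = Nat.card ↥(L ⊓ T) * Nat.card ↥(Cfsg.sigmaCore L) :=
  FittingHall.card_complIn D.overData.compl

/-- If the complement is `W₁`, then `L_σ` is bigger than `U`. -/
theorem core_ne (hE : L ⊓ T = W₁) : Cfsg.sigmaCore L ≠ U := fun e => by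
  have hle : L ≤ S := fun x hx => by
    obtain ⟨a, ha, b, hb, rfl⟩ := D.overData.compl.2.2.2 x hx
    exact S.mul_mem (D.pair.left_le (hE ▸ ha)) (D.pair.U_le_S (e ▸ hb))
  refine D.overData.ne_conj 1 ?_
  rw [TH.map_conj_one]
  exact ((D.overData.coatom.le_iff.1 hle).resolve_left D.pair.coatom_S.1).symm

end Unfaithful

end CfsgLib.OddEnd
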