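import Cfsg.Agent.OddEnd.ThirteenAbelian

/-!
Peterfalvi 13 in the form of S1543, S1547, S1548, S1549, given the facts of sections 10-12.
-/

set_option autoImplicit false

namespace CfsgLib.OddEnd.PairData

open Subgroup

universe u

variable {G : Type u} [Group G] [Finite G] {S T W₁ W₂ U V : Subgroup G}

/-- S1549. -/
theorem over_structure' (hG : Cfsg.IsMinSimpleOddOrder G) (hU : Upto12 G) (h : PairData S T W₁ W₂ U V)
    (h2 : Cfsg.IsOfTypeII S) {L : Subgroup G} (hL : IsCoatom L) (hNU : normalizer (U : Set G) ≤ L) :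
    (∀ x ∈ Cfsg.fittingHallOf L, x ≠ 1 → L ⊓ centralizer ({x} : Set G) ≤ Cfsg.fittingHallOf L) ∧
      U ≤ Cfsg.fittingHallOf L ∧
      ((Cfsg.fittingHallOf L ⊓ W₁ = ⊥ ∧ Cfsg.fittingHallOf L ⊔ W₁ = L) ∨
        ∃ y ∈ Cfsg.fittingHallOf T,
          Cfsg.fittingHallOf L ⊓ (W₁ ⊔ W₂.map (MulAut.conj y).toMonoidHom) = ⊥ ∧
          Cfsg.fittingHallOf L ⊔ (W₁ ⊔ W₂.map (MulAut.conj y).toMonoidHom) = L) :=
  h.over_structure hG hU (fun h' => h'.faithful hG hU) h2 hL hNU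

end CfsgLib.OddEnd.PairData
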