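import Cfsg.Agent.OddEnd.ThirteenEnergy
import Cfsg.Agent.Char.InducedAbove
import Cfsg.Agent.Solvable.Basics
import Cfsg.Agent.FGSA.InvariantHall
import Mathlib

/-!
Peterfalvi 13, abelian kernel: the mass of the members of `S` on a subgroup of the kernel.
-/

set_option autoImplicit false
set_option linter.unusedSectionVars false
set_option linter.style.haveILetI false

namespace CfsgLib.OddEnd

open Subgroup CfsgLib.Char

universe u

/-- A subset closed under right multiplication by `J` has cardinality a multiple of `|J|`. -/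
theorem exists_card_mul {L : Type u} [Group L] [Finite L] (J : Subgroup L) (A : Set L)
    (hA : ∀ g ∈ A, ∀ j ∈ J, g * j ∈ A) : ∃ n : ℕ, Nat.card A = Nat.card J * n := by
  refine ⟨Nat.card ↥(QuotientGroup.mk '' A : Set (L ⧸ J)), ?_⟩
  have hpre : (QuotientGroup.mk ⁻¹' (QuotientGroup.mk '' A : Set (L ⧸ J))) = A := by
    refine Set.Subset.antisymm ?_ (Set.subset_preimage_image _ _)
    rintro g ⟨a, ha, e⟩
    have := hA a ha _ (QuotientGroup.eq.1 e)
    rwa [mul_inv_cancel_left] at this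
  conv_lhs => rw [← hpre]
  rw [Nat.card_congr (QuotientGroup.preimageMkEquivSubgroupProdSet J _), Nat.card_prod]

section

variable {L : Type u} [Group L] [Fintype L] {K : Subgroup L}

/-- The character of `L` induced from a linear character of `K`. -/
noncomputable def linInd (l : K →* ℂˣ) : L → ℂ := Cfsg.indFun K fun x => (l x : ℂ)

theorem inertia_linear_eq [K.Normal] (hC : ∀ a ∈ K, a ≠ 1 → centralizer ({a} : Set L) ≤ K)
    (hab : ∀ a ∈ K, ∀ b ∈ K, a * b = b * a) {l : K →* ℂˣ} (hl : l ≠ 1) :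
    inertia (fun x : K => (l x : ℂ)) = K := by
  refine le_antisymm (fun g hg => ?_)
    (le_inertia (IsIrrCharacter.isClassFunction (isIrrCharacter_ofHom l)))
  by_contra hgK
  let f : K → K := fun n => MulAut.conjNormal g n * n⁻¹
  have hf : Function.Injective f := by
    intro a b h
    have h1 : g * (a : L) * g⁻¹ * (a : L)⁻¹ = g * (b : L) * g⁻¹ * (b : L)⁻¹ := congrArg Subtype.val h
    by_contra hne
    have hne' : (a : L)⁻¹ * b ≠ 1 := fun e => hne (Subtype.ext (inv_mul_eq_one.1 e))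
    refine hgK (hC _ (K.mul_mem (K.inv_mem a.2) b.2) hne' (mem_centralizer_singleton_iff.2 ?_))
    have hcm : (a : L)⁻¹ * b = b * (a : L)⁻¹ := hab _ (K.inv_mem a.2) _ b.2
    have h2 : g * b = g * a * g⁻¹ * (a : L)⁻¹ * b * g := by rw [h1]; group
    calc g * ((a : L)⁻¹ * b) = g * (a : L)⁻¹ * g⁻¹ * (g * b) := by group
      _ = g * (a : L)⁻¹ * g⁻¹ * (g * a * g⁻¹ * (a : L)⁻¹ * b * g) := by rw [h2]
      _ = (a : L)⁻¹ * b * g := by group
  refine hl (MonoidHom.ext fun y => ?_)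
  obtain ⟨n, rfl⟩ := Finite.surjective_of_injective hf y
  have h3 : l (MulAut.conjNormal g n) = l n := by
    refine Units.ext ?_
    have := congrFun ((mem_inertia _ g).1 hg) n
    rwa [conjOn_eq_comp] at this
  rw [map_mul, h3, map_inv, mul_inv_cancel]
  rfl

variable [Fintype K] [Fintype (K →* ℂˣ)]

theorem card_fiber_linInd [K.Normal] (hC : ∀ a ∈ K, a ≠ 1 → centralizer ({a} : Set L) ≤ K)
    (hab : ∀ a ∈ K, ∀ b ∈ K, a * b = b * a) {l : K →* ℂˣ} (hl : l ≠ 1)
    [DecidableEq (L → ℂ)] [DecidableEq (K →* ℂˣ)] :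
    ((Finset.univ.erase 1).filter fun m : K →* ℂˣ => linInd m = linInd l).card = K.index := by
  classical
  rw [← congrArg Subgroup.index (inertia_linear_eq hC hab hl), ← card_conjOrbit]
  have hinj : Function.Injective fun m : K →* ℂˣ => fun x : K => (m x : ℂ) := fun a b h =>
    MonoidHom.ext fun x => Units.ext (congrFun h x)
  rw [← Finset.card_image_of_injective _ hinj]
  congr 1
  ext ψ
  simp only [Finset.mem_image, Finset.mem_filter, Finset.mem_erase, Finset.mem_univ, and_true,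
    mem_conjOrbit]
  constructor
  · rintro ⟨m, ⟨-, hm⟩, rfl⟩
    refine mem_conjOrbit.1 ?_
    by_contra hne
    have h := classInner_indFun_indFun (G := L) (isIrrCharacter_ofHom m) (isIrrCharacter_ofHom l)
    rw [if_neg hne, show Cfsg.indFun K (fun x => (m x : ℂ)) = Cfsg.indFun K fun x => (l x : ℂ) from hm,
      classInner_indFun_self (isIrrCharacter_ofHom l), div_eq_zero_iff] at h
    rcases h with h | h <;> exact Nat.card_pos.ne' (Nat.cast_eq_zero.1 h)
  · rintro ⟨g, rfl⟩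
    refine ⟨l.comp (MulAut.conjNormal g).toMonoidHom, ⟨fun h => hl ?_, ?_⟩, (conjOn_eq_comp g (fun x : K => (l x : ℂ))).symm⟩
    · refine MonoidHom.ext fun x => ?_
      simpa using DFunLike.congr_fun h ((MulAut.conjNormal g).symm x)
    · show Cfsg.indFun K _ = Cfsg.indFun K _
      rw [← indFun_conjOn g (fun x : K => (l x : ℂ)), conjOn_eq_comp]
      rfl

theorem sum_linInd [K.Normal] (hC : ∀ a ∈ K, a ≠ 1 → centralizer ({a} : Set L) ≤ K)
    (hab : ∀ a ∈ K, ∀ b ∈ K, a * b = b * a) (s : Finset (L → ℂ))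
    (hs : ∀ χ, χ ∈ s ↔ χ ∈ Cfsg.inducedIrrAbove K ⊥) [DecidableEq (K →* ℂˣ)] (F : (L → ℂ) → ℂ) :
    ∑ m ∈ (Finset.univ.erase 1 : Finset (K →* ℂˣ)), F (linInd m) = (K.index : ℂ) * ∑ ζ ∈ s, F ζ := by
  classical
  have hmaps : ∀ m ∈ (Finset.univ.erase 1 : Finset (K →* ℂˣ)), linInd m ∈ s := fun m hm =>
    (hs _).2 ⟨_, isIrrCharacter_ofHom m, fun h => (Finset.mem_erase.1 hm).1
      (MonoidHom.ext fun x => Units.ext (congrFun h x)), fun a ha => by
        rw [show a = 1 from Subtype.ext (mem_bot.1 ha)], rfl⟩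
  rw [← Finset.sum_fiberwise_of_maps_to hmaps, Finset.mul_sum]
  refine Finset.sum_congr rfl fun ζ hζ => ?_
  obtain ⟨θ, hθ, hθ1, -, rfl⟩ := (hs ζ).1 hζ
  obtain ⟨l, rfl⟩ := IsCharacter.exists_hom (IsIrrCharacter.isCharacter hθ)
    (IsIrrCharacter.apply_one_eq_one hθ fun a b => Subtype.ext (hab a a.2 b b.2))
  have hl : l ≠ 1 := fun e => hθ1 (funext fun x => by rw [e]; rfl)
  rw [Finset.sum_congr rfl fun m hm => by rw [(Finset.mem_filter.1 hm).2], Finset.sum_const, nsmul_eq_mul]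
  congr 2
  exact card_fiber_linInd hC hab hl

theorem sum_erase_hom (hab : ∀ a ∈ K, ∀ b ∈ K, a * b = b * a) [DecidableEq (K →* ℂˣ)] [DecidableEq L]
    (y : K) :
    ∑ m ∈ (Finset.univ.erase 1 : Finset (K →* ℂˣ)), (m y : ℂ) =
      (if (y : L) = 1 then (Nat.card K : ℂ) else 0) - 1 := by
  classical
  rw [Finset.sum_erase_eq_sub (Finset.mem_univ _), sum_hom (fun a b => Subtype.ext (hab a a.2 b b.2))]
  simp

theorem linInd_apply [K.Normal] (l : K →* ℂˣ) {z : L} (hz : z ∈ K) :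
    linInd l z = (Nat.card K : ℂ)⁻¹ * ∑ g : L, (l (MulAut.conjNormal g ⟨z, hz⟩) : ℂ) := by
  show Cfsg.indFun K _ ((⟨z, hz⟩ : K) : L) = _
  rw [indFun_apply_normal]
  congr 1

/-- `Σ ζ(z)` over the members. -/
theorem sum_apply_members [K.Normal] (hC : ∀ a ∈ K, a ≠ 1 → centralizer ({a} : Set L) ≤ K)
    (hab : ∀ a ∈ K, ∀ b ∈ K, a * b = b * a) (s : Finset (L → ℂ))
    (hs : ∀ χ, χ ∈ s ↔ χ ∈ Cfsg.inducedIrrAbove K ⊥) [DecidableEq L] {z : L} (hz : z ∈ K) :
    ∑ ζ ∈ s, ζ z = (if z = 1 then (Nat.card K : ℂ) else 0) - 1 := by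
  classical
  have he : (K.index : ℂ) ≠ 0 := Nat.cast_ne_zero.2 K.index_ne_zero_of_finite
  have hK : (Nat.card K : ℂ) ≠ 0 := Nat.cast_ne_zero.2 Nat.card_pos.ne'
  refine mul_left_cancel₀ he ?_
  rw [← sum_linInd hC hab s hs (fun φ => φ z)]
  simp_rw [linInd_apply _ hz]
  rw [← Finset.mul_sum, Finset.sum_comm]
  simp_rw [sum_erase_hom hab, MulAut.conjNormal_apply, conj_eq_one_iff]
  rw [Finset.sum_const, Finset.card_univ, nsmul_eq_mul, ← Nat.card_eq_fintype_card,
    ← K.card_mul_index, Nat.cast_mul, ← mul_assoc, ← mul_assoc, inv_mul_cancel₀ hK, one_mul]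

/-- `Σ ζ(a) ζ(b)` over the members. -/
theorem sum_apply_members_mul [K.Normal] (hC : ∀ a ∈ K, a ≠ 1 → centralizer ({a} : Set L) ≤ K)
    (hab : ∀ a ∈ K, ∀ b ∈ K, a * b = b * a) (s : Finset (L → ℂ))
    (hs : ∀ χ, χ ∈ s ↔ χ ∈ Cfsg.inducedIrrAbove K ⊥) [DecidableEq L] {a b : L} (ha : a ∈ K) (hb : b ∈ K) :
    ∑ ζ ∈ s, ζ a * ζ b = (∑ k : L, if a * (k * b * k⁻¹) = 1 then (1 : ℂ) else 0) - (K.index : ℂ) := by
  classical
  have he : (K.index : ℂ) ≠ 0 := Nat.cast_ne_zero.2 K.index_ne_zero_of_finite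
  have hK : (Nat.card K : ℂ) ≠ 0 := Nat.cast_ne_zero.2 Nat.card_pos.ne'
  refine mul_left_cancel₀ he ?_
  rw [← sum_linInd hC hab s hs (fun φ => φ a * φ b)]
  simp_rw [linInd_apply _ ha, linInd_apply _ hb]
  set N : ℂ := ∑ k : L, if a * (k * b * k⁻¹) = 1 then (1 : ℂ) else 0 with hN
  have h1 : ∀ g : L, ∑ h : L, ∑ m ∈ (Finset.univ.erase 1 : Finset (K →* ℂˣ)),
      (m (MulAut.conjNormal g ⟨a, ha⟩) : ℂ) * (m (MulAut.conjNormal h ⟨b, hb⟩) : ℂ) =
      (Nat.card K : ℂ) * N - Nat.card L := by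
    intro g
    simp_rw [← Units.val_mul, ← map_mul, sum_erase_hom hab]
    rw [Finset.sum_sub_distrib, Finset.sum_const, Finset.card_univ, nsmul_eq_mul, mul_one,
      ← Nat.card_eq_fintype_card, hN, Finset.mul_sum]
    congr 1
    rw [← Fintype.sum_equiv (Equiv.mulLeft g) _ _ (fun _ => rfl)]
    refine Finset.sum_congr rfl fun k _ => ?_
    rw [mul_ite, mul_one, mul_zero]
    refine if_congr ?_ rfl rfl
    simp only [Equiv.coe_mulLeft, Subgroup.coe_mul, MulAut.conjNormal_apply]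
    rw [show g * a * g⁻¹ * (g * k * b * (g * k)⁻¹) = g * (a * (k * b * k⁻¹)) * g⁻¹ by group,
      conj_eq_one_iff]
  calc ∑ m ∈ (Finset.univ.erase 1 : Finset (K →* ℂˣ)),
        ((Nat.card K : ℂ)⁻¹ * ∑ g : L, (m (MulAut.conjNormal g ⟨a, ha⟩) : ℂ)) *
          ((Nat.card K : ℂ)⁻¹ * ∑ h : L, (m (MulAut.conjNormal h ⟨b, hb⟩) : ℂ))
      = (Nat.card K : ℂ)⁻¹ * (Nat.card K : ℂ)⁻¹ * ∑ g : L, ∑ h : L,
          ∑ m ∈ (Finset.univ.erase 1 : Finset (K →* ℂˣ)),
            (m (MulAut.conjNormal g ⟨a, ha⟩) : ℂ) * (m (MulAut.conjNormal h ⟨b, hb⟩) : ℂ) := by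
        rw [Finset.sum_congr rfl fun m _ => mul_mul_mul_comm _ _ _ _, ← Finset.mul_sum]
        simp_rw [Finset.sum_mul, Finset.mul_sum]
        rw [Finset.sum_comm]
        exact Finset.sum_congr rfl fun g _ => Finset.sum_comm
    _ = (K.index : ℂ) * (N - K.index) := by
        rw [Finset.sum_congr rfl fun g _ => h1 g, Finset.sum_const, Finset.card_univ, nsmul_eq_mul,
          ← Nat.card_eq_fintype_card, ← K.card_mul_index, Nat.cast_mul]
        field_simp

end

/-- Peterfalvi 13: the sums of the members of `S` over `C`, their count, mass and energy. -/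
theorem member_mass {L : Type u} [Group L] [Fintype L] {K C W : Subgroup L} [K.Normal]
    (hC : ∀ a ∈ K, a ≠ 1 → Subgroup.centralizer ({a} : Set L) ≤ K)
    (hab : ∀ a ∈ K, ∀ b ∈ K, a * b = b * a) (hCK : C ≤ K)
    (hWC : ∀ w ∈ W, ∀ z ∈ C, w * z * w⁻¹ ∈ C) (hWK : K ⊓ W = ⊥)
    (hsep : ∀ l : L, l ∉ K ⊔ W → ∀ z ∈ C, l * z * l⁻¹ ∈ C → z = 1)
    (s : Finset (L → ℂ)) (hs : ∀ χ, χ ∈ s ↔ χ ∈ Cfsg.inducedIrrAbove K ⊥)
    [DecidablePred (fun z : L => z ∈ C)] :
    ∃ x : (L → ℂ) → ℕ,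
      (∀ ζ ∈ s, ∑ z ∈ Finset.univ.filter (fun z : L => z ∈ C), ζ z =
        ((Nat.card C * Nat.card W * x ζ : ℕ) : ℂ)) ∧
      s.card * K.index + 1 = Nat.card K ∧
      Nat.card W * ∑ ζ ∈ s, x ζ + 1 = C.relIndex K ∧
      Nat.card C * (Nat.card W ^ 2 * ∑ ζ ∈ s, x ζ ^ 2 + K.index) =
        Nat.card C * C.relIndex K * Nat.card W + (K.index - Nat.card W) * C.relIndex K := by
  classical
  haveI := Fintype.ofFinite K
  haveI := Fintype.ofFinite C
  haveI : Finite (K →* ℂˣ) := Nat.finite_of_card_ne_zero (by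
    rw [card_hom_eq_index_commutator]; exact Subgroup.index_ne_zero_of_finite)
  haveI := Fintype.ofFinite (K →* ℂˣ)
  have hK0 : (Nat.card K : ℂ) ≠ 0 := Nat.cast_ne_zero.2 Nat.card_pos.ne'
  set F := Finset.univ.filter (fun z : L => z ∈ C) with hF
  have hFm : ∀ z, z ∈ F ↔ z ∈ C := fun z => by simp [hF]
  have hFc : F.card = Nat.card C := by
    rw [← Nat.card_eq_finsetCard]; exact Nat.card_congr (Equiv.subtypeEquivRight fun z => hFm z)
  have hJ : Nat.card ↥(K ⊔ W) = Nat.card K * Nat.card W := by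
    have := CfsgLib.Solvable.card_sup_mul_card_inf (A := W) (K := K) (fun w _ => by simp [normalizer_eq_top])
    rwa [inf_comm W, hWK, card_bot, mul_one, sup_comm W, mul_comm (Nat.card W)] at this
  -- the mass of one member
  have hex : ∀ ζ, ∃ n : ℕ, ζ ∈ s → ∑ z ∈ F, ζ z = ((Nat.card C * Nat.card W * n : ℕ) : ℂ) := by
    intro ζ
    by_cases hζ : ζ ∈ s
    swap
    · exact ⟨0, fun h => absurd h hζ⟩
    obtain ⟨θ, hθ, -, -, rfl⟩ := (hs ζ).1 hζ
    obtain ⟨l, rfl⟩ := IsCharacter.exists_hom (IsIrrCharacter.isCharacter hθ)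
      (IsIrrCharacter.apply_one_eq_one hθ fun a b => Subtype.ext (hab a a.2 b b.2))
    let f : L → (C →* ℂ) := fun g =>
      (Units.coeHom ℂ).comp (l.comp ((MulAut.conjNormal g).toMonoidHom.comp (inclusion hCK)))
    obtain ⟨n, hn⟩ := exists_card_mul (K ⊔ W) {g : L | f g = 1} (by
      intro g hg j hj
      rw [← SetLike.mem_coe, sup_comm, coe_mul_of_left_le_normalizer_right W K
        (fun w _ => by simp [normalizer_eq_top])] at hj
      obtain ⟨w, hw, k, hk, rfl⟩ := hj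
      refine MonoidHom.ext fun z => ?_
      have hz : k * (z : L) * k⁻¹ = z := by rw [hab k hk z (hCK z.2), mul_inv_cancel_right]
      have := DFunLike.congr_fun hg ⟨w * z * w⁻¹, hWC w hw z z.2⟩
      refine Eq.trans ?_ this
      show (l (MulAut.conjNormal (g * (w * k)) (inclusion hCK z)) : ℂ) =
        (l (MulAut.conjNormal g (inclusion hCK ⟨w * z * w⁻¹, hWC w hw z z.2⟩)) : ℂ)
      congr 2
      refine Subtype.ext ?_
      simp only [MulAut.conjNormal_apply, Subgroup.coe_inclusion]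
      calc g * (w * k) * z * (g * (w * k))⁻¹ = g * (w * (k * z * k⁻¹) * w⁻¹) * g⁻¹ := by group
        _ = g * (w * z * w⁻¹) * g⁻¹ := by rw [hz])
    refine ⟨n, fun _ => ?_⟩
    have h1 : ∀ z : C, Cfsg.indFun K (fun x => (l x : ℂ)) z = (Nat.card K : ℂ)⁻¹ * ∑ g : L, f g z :=
      fun z => linInd_apply l (hCK z.2)
    rw [Finset.sum_subtype (p := fun z => z ∈ C) F hFm, Finset.sum_congr rfl fun z _ => h1 z, ← Finset.mul_sum, Finset.sum_comm]
    simp_rw [sum_hom_units]
    rw [← Finset.sum_filter_add_sum_filter_not Finset.univ (fun g => f g = 1),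
      Finset.sum_congr rfl (g := fun _ => (Nat.card C : ℂ)) (fun g hg => by
        rw [if_pos (Finset.mem_filter.1 hg).2, Nat.card_eq_fintype_card]),
      Finset.sum_eq_zero (s := Finset.univ.filter fun g => ¬ f g = 1) (fun g hg => by
        rw [if_neg (Finset.mem_filter.1 hg).2, Nat.cast_zero]), add_zero, Finset.sum_const, nsmul_eq_mul]
    have hc : (Finset.univ.filter fun g => f g = 1).card = Nat.card K * Nat.card W * n := by
      rw [← hJ, ← hn, ← Nat.card_eq_finsetCard]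
      exact Nat.card_congr (Equiv.subtypeEquivRight fun g => by simp)
    rw [hc]
    push_cast
    field_simp
  choose x hx using hex
  refine ⟨x, hx, ?_, ?_, ?_⟩
  · have h := sum_linInd hC hab s hs (fun _ => 1)
    rw [Finset.sum_const, Finset.sum_const, nsmul_eq_mul, nsmul_eq_mul, mul_one, mul_one,
      Finset.card_erase_of_mem (Finset.mem_univ _), Finset.card_univ, ← Nat.card_eq_fintype_card,
      card_hom_eq_index_commutator, show commutator K = ⊥ from le_bot_iff.1 (commutator_le.2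
        fun a _ b _ => mem_bot.2 (commutatorElement_eq_one_iff_mul_comm.2 (Subtype.ext (hab a a.2 b b.2)))),
      index_bot] at h
    have h' : Nat.card K - 1 = K.index * s.card := by exact_mod_cast h
    have : 0 < Nat.card K := Nat.card_pos
    rw [mul_comm]
    omega
  · have h : ((Nat.card C * Nat.card W * ∑ ζ ∈ s, x ζ : ℕ) : ℂ) = (Nat.card K : ℂ) - Nat.card C := by
      rw [Finset.mul_sum, Nat.cast_sum, Finset.sum_congr rfl fun ζ hζ => (hx ζ hζ).symm, Finset.sum_comm,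
        Finset.sum_congr rfl fun z hz => sum_apply_members hC hab s hs (hCK ((hFm z).1 hz)),
        Finset.sum_sub_distrib, Finset.sum_const, nsmul_eq_mul, mul_one, hFc,
        Finset.sum_ite_eq' F (1 : L), if_pos ((hFm 1).2 C.one_mem)]
    rw [eq_sub_iff_add_eq] at h
    have h' : Nat.card C * Nat.card W * ∑ ζ ∈ s, x ζ + Nat.card C = Nat.card K := by exact_mod_cast h
    have hr := CfsgLib.InvariantHall.relIndex_mul_card hCK
    refine Nat.eq_of_mul_eq_mul_left (Nat.card_pos (α := C)) ?_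
    rw [hr, ← h']
    ring
  · have h : ((∑ ζ ∈ s, (Nat.card C * Nat.card W * x ζ) ^ 2 : ℕ) : ℂ) =
        (Nat.card K * Nat.card W * Nat.card C : ℕ) +
          ((Nat.card L : ℂ) - (Nat.card K * Nat.card W : ℕ)) - (K.index : ℂ) * (Nat.card C : ℂ) ^ 2 := by
      have h2 : ∀ ζ ∈ s, (((Nat.card C * Nat.card W * x ζ) ^ 2 : ℕ) : ℂ) = ∑ a ∈ F, ∑ b ∈ F, ζ a * ζ b :=
        fun ζ hζ => by rw [Nat.cast_pow, ← hx ζ hζ, sq, Finset.sum_mul_sum]
      have h3 : ∑ a ∈ F, ∑ b ∈ F, (∑ k : L, if a * (k * b * k⁻¹) = 1 then (1 : ℂ) else 0) =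
          ∑ k : L, (if k ∈ K ⊔ W then (Nat.card C : ℂ) else 1) := by
        rw [Finset.sum_comm]
        conv_lhs => enter [2, b]; rw [Finset.sum_comm]
        rw [Finset.sum_comm]
        refine Finset.sum_congr rfl fun k _ => ?_
        have h4 : ∀ b ∈ F, (∑ a ∈ F, if a * (k * b * k⁻¹) = 1 then (1 : ℂ) else 0) =
            if k * b * k⁻¹ ∈ C then 1 else 0 := fun b _ => by
          rw [Finset.sum_congr rfl fun a _ => if_congr (mul_eq_one_iff_eq_inv (a := a) (b := k * b * k⁻¹))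
            rfl rfl, Finset.sum_ite_eq' F]
          exact if_congr ((hFm _).trans C.inv_mem_iff) rfl rfl
        rw [Finset.sum_congr rfl h4]
        split_ifs with hk
        · rw [← SetLike.mem_coe, sup_comm, coe_mul_of_left_le_normalizer_right W K
            (fun w _ => by simp [normalizer_eq_top])] at hk
          obtain ⟨w, hw, n, hn, rfl⟩ := hk
          rw [Finset.sum_congr rfl (g := fun _ => (1 : ℂ)) fun b hb => if_pos ?_, Finset.sum_const, hFc,
            nsmul_eq_mul, mul_one]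
          have hb' := (hFm b).1 hb
          rw [show w * n * b * (w * n)⁻¹ = w * (n * b * n⁻¹) * w⁻¹ by group,
            hab n hn b (hCK hb'), mul_inv_cancel_right]
          exact hWC w hw b hb'
        · rw [Finset.sum_eq_single (1 : L) (fun b hb hb1 => if_neg fun hc => hb1 (hsep k hk b ((hFm b).1 hb) hc))
            (fun h1 => absurd ((hFm 1).2 C.one_mem) h1), if_pos (by simp [C.one_mem])]
      rw [Nat.cast_sum, Finset.sum_congr rfl h2, Finset.sum_comm]
      conv_lhs => enter [2, a]; rw [Finset.sum_comm]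
      rw [Finset.sum_congr rfl fun a ha => Finset.sum_congr rfl fun b hb =>
        sum_apply_members_mul hC hab s hs (hCK ((hFm a).1 ha)) (hCK ((hFm b).1 hb))]
      simp_rw [Finset.sum_sub_distrib]
      rw [h3, Finset.sum_const, Finset.sum_const, hFc]
      have hJc : (Finset.univ.filter fun k : L => k ∈ K ⊔ W).card = Nat.card K * Nat.card W := by
        rw [← hJ, ← Nat.card_eq_finsetCard]
        exact Nat.card_congr (Equiv.subtypeEquivRight fun g => by simp)
      have hJn : ((Finset.univ.filter fun k : L => ¬ k ∈ K ⊔ W).card : ℂ) =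
          (Nat.card L : ℂ) - ((Nat.card K * Nat.card W : ℕ) : ℂ) := by
        rw [eq_sub_iff_add_eq, ← hJc, ← Nat.cast_add, add_comm, Finset.card_filter_add_card_filter_not,
          Finset.card_univ, Nat.card_eq_fintype_card]
      rw [Finset.sum_ite, Finset.sum_const, Finset.sum_const, nsmul_eq_mul, nsmul_eq_mul, hJn, hJc]
      push_cast
      ring
    have hWe : Nat.card W ≤ K.index := by
      refine Nat.le_of_mul_le_mul_left ?_ (Nat.card_pos (α := K))
      rw [K.card_mul_index, ← hJ]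
      exact Nat.card_le_card_of_injective _ Subtype.val_injective
    obtain ⟨d, hd⟩ := Nat.exists_eq_add_of_le hWe
    have hr := CfsgLib.InvariantHall.relIndex_mul_card hCK
    rw [← K.card_mul_index, ← hr] at h
    have hC0 : (Nat.card C : ℂ) ≠ 0 := Nat.cast_ne_zero.2 Nat.card_pos.ne'
    rw [hd, Nat.add_sub_cancel_left]
    rw [← Nat.cast_inj (R := ℂ)]
    push_cast at h ⊢
    refine mul_left_cancel₀ hC0 ?_
    rw [hd] at h
    simp only [mul_pow, ← Finset.mul_sum] at h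
    push_cast at h ⊢
    linear_combination h

end CfsgLib.OddEnd
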