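import Cfsg.Agent.OddEnd.ThirteenFacts
import Cfsg.Agent.Char.Linear
import Cfsg.Agent.Char.Induction

/-!
Peterfalvi 13: the linear character of `C_U(H) W₁ H` trivial on `C_U(H) W₁` and not on `W₂`, and the shape of
its domain inside `S`.
-/

set_option autoImplicit false
set_option linter.unusedSectionVars false
set_option linter.style.haveILetI false

namespace CfsgLib.OddEnd

open Subgroup CfsgLib.OddLocal CfsgLib.Char

universe u

variable {G : Type u} [Group G] [Finite G]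

/-- A homomorphism on a normalized subgroup, invariant under a disjoint normalizing one, extends trivially. -/
theorem exists_hom_extend {M : Type*} [CommGroup M] {H Y : Subgroup G} (hY : Y ≤ normalizer (H : Set G))
    (hd : Y ⊓ H = ⊥) (l : H →* M)
    (hinv : ∀ y ∈ Y, ∀ (x : H) (hx : y * (x : G) * y⁻¹ ∈ H), l ⟨_, hx⟩ = l x) :
    ∃ μ : ↥(Y ⊔ H) →* M, (∀ x : H, μ ⟨x, mem_sup_right x.2⟩ = l x) ∧
      ∀ (y : G) (hy : y ∈ Y), μ ⟨y, mem_sup_left hy⟩ = 1 := by
  have hdec : ∀ x : ↥(Y ⊔ H), ∃ k : H, (x : G) * (k : G)⁻¹ ∈ Y := fun x => by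
    obtain ⟨y, hy, k, hk, e⟩ := (CfsgLib.Solvable.mem_sup_of_le_normalizer hY).1 x.2
    exact ⟨⟨k, hk⟩, by rw [← e]; simpa using hy⟩
  choose k hk using hdec
  have huniq : ∀ (x : ↥(Y ⊔ H)) (k' : H), (x : G) * (k' : G)⁻¹ ∈ Y → k x = k' := fun x k' h' => by
    have h1 : (k x : G) * (k' : G)⁻¹ ∈ Y ⊓ H :=
      ⟨by have := Y.mul_mem (Y.inv_mem (hk x)) h'; simpa [mul_assoc] using this,
        H.mul_mem (k x).2 (H.inv_mem k'.2)⟩
    rw [hd, mem_bot, mul_inv_eq_one] at h1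
    exact Subtype.ext h1
  have hmul : ∀ a b : ↥(Y ⊔ H), l (k (a * b)) = l (k a) * l (k b) := fun a b => by
    set y := (b : G) * (k b : G)⁻¹
    have hy : y ∈ Y := hk b
    have hc : y⁻¹ * (k a : G) * y ∈ H := (mem_normalizer_iff''.1 (hY hy) _).1 (k a).2
    have hc' : y⁻¹ * (k a : G) * y⁻¹⁻¹ ∈ H := by rwa [inv_inv]
    rw [huniq (a * b) (⟨_, hc'⟩ * k b) ?_, map_mul, hinv y⁻¹ (Y.inv_mem hy) (k a) hc']
    have e : ((a * b : ↥(Y ⊔ H)) : G) * ((⟨_, hc'⟩ * k b : H) : G)⁻¹ = (a : G) * (k a : G)⁻¹ * y := by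
      simp only [Subgroup.coe_mul, y]
      group
    rw [e]
    exact Y.mul_mem (hk a) hy
  refine ⟨MonoidHom.mk' (fun x => l (k x)) hmul, fun x => congrArg l (huniq _ x (by simp)), fun y hy => ?_⟩
  show l (k _) = 1
  rw [huniq ⟨y, mem_sup_left hy⟩ 1 (by simpa using hy), map_one]

/-- `C_U(M_F)`. -/
abbrev centPart (S U : Subgroup G) : Subgroup G := U ⊓ centralizer (Cfsg.fittingHallOf S : Set G)

/-- `C_U(M_F) W₁ M_F`. -/
abbrev muDom (S W₁ U : Subgroup G) : Subgroup G := (centPart S U ⊔ W₁) ⊔ Cfsg.fittingHallOf S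

/-- `C_U(M_F) M_F`. -/
abbrev muKer (S U : Subgroup G) : Subgroup G := centPart S U ⊔ Cfsg.fittingHallOf S

/-- The properties used of the linear character. -/
structure MuChar (S W₁ W₂ U : Subgroup G) (lam : G → ℂ) : Prop where
  isHom : ∃ μ : ↥(muDom S W₁ U) →* ℂˣ, ∀ x : ↥(muDom S W₁ U), lam x = (μ x : ℂ)
  triv : ∀ y ∈ centPart S U ⊔ W₁, lam y = 1
  right_ne : ∀ b ∈ W₂, b ≠ 1 → lam b ≠ 1
  stab : ∀ v ∈ U, (∀ x ∈ Cfsg.fittingHallOf S, lam (v * x * v⁻¹) = lam x) → v ∈ centPart S U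

namespace MuChar

variable {S W₁ W₂ U : Subgroup G} {lam : G → ℂ} (M : MuChar S W₁ W₂ U lam)
include M

theorem mul {a b : G} (ha : a ∈ muDom S W₁ U) (hb : b ∈ muDom S W₁ U) : lam (a * b) = lam a * lam b := by
  obtain ⟨μ, hμ⟩ := M.isHom
  have := hμ (⟨a, ha⟩ * ⟨b, hb⟩)
  rw [map_mul, Units.val_mul, ← hμ, ← hμ] at this
  exact this

theorem one : lam 1 = 1 := M.triv 1 (Subgroup.one_mem _)

theorem conj_mem {g y : G} (hg : g ∈ muDom S W₁ U) (hy : y ∈ muDom S W₁ U) : lam (g * y * g⁻¹) = lam y := by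
  rw [M.mul ((muDom S W₁ U).mul_mem hg hy) ((muDom S W₁ U).inv_mem hg), M.mul hg hy, mul_comm (lam g),
    mul_assoc, ← M.mul hg ((muDom S W₁ U).inv_mem hg), mul_inv_cancel, M.one, mul_one]

theorem conj_eq {y : G} (hy : y ∈ muDom S W₁ U) : starRingEnd ℂ (lam y) = lam y⁻¹ := by
  obtain ⟨μ, hμ⟩ := M.isHom
  rw [hμ ⟨y, hy⟩, show y⁻¹ = ((⟨y, hy⟩⁻¹ : ↥(muDom S W₁ U)) : G) from rfl, hμ, map_inv,
    Units.val_inv_eq_inv_val, Complex.inv_eq_conj]
  refine Complex.norm_eq_one_of_pow_eq_one (n := Nat.card ↥(muDom S W₁ U)) ?_ Nat.card_pos.ne'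
  rw [← Units.val_pow_eq_pow_val, ← map_pow, pow_card_eq_one', map_one, Units.val_one]

end MuChar

namespace PairData

variable {S T W₁ W₂ U V : Subgroup G} (h : PairData S T W₁ W₂ U V)
variable (hG : Cfsg.IsMinSimpleOddOrder G) (hU : Upto12 G)

include h

theorem centPart_le_S : centPart S U ≤ S := inf_le_left.trans h.U_le_S

theorem muKer_le : muKer S U ≤ ⁅S, S⁆ := sup_le (inf_le_left.trans h.U_le) h.H_le

theorem muKer_le_dom : muKer S U ≤ muDom S W₁ U := sup_le (le_sup_left.trans le_sup_left) le_sup_right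

theorem left_le_dom : W₁ ≤ muDom S W₁ U := le_sup_right.trans le_sup_left

theorem right_le_ker : W₂ ≤ muKer S U := h.right_le_H.trans le_sup_right

theorem muDom_le : muDom S W₁ U ≤ S :=
  sup_le (sup_le h.centPart_le_S h.left_le) (FittingHall.of_le S)

theorem coprime_U_left : (Nat.card U).Coprime (Nat.card W₁) :=
  (h.coprime_left.coprime_dvd_right (card_dvd_of_le h.U_le)).symm

include hG hU

theorem U_commute {a b : G} (ha : a ∈ U) (hb : b ∈ U) : a * b = b * a :=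
  congrArg Subtype.val ((h.U_comm hG hU).is_comm.comm (⟨a, ha⟩ : U) ⟨b, hb⟩)

theorem left_normalizes_centPart : W₁ ≤ normalizer (centPart S U : Set G) :=
  le_normalizer_inf_centralizer_of h.typeP_S.U_normal h.left_le_normalizer_H

theorem U_normalizes_ker : U ≤ normalizer (muKer S U : Set G) := fun v hv => by
  refine Uniq.mem_normalizer_of_map_le ?_
  rw [Subgroup.map_sup]
  refine sup_le ?_ ?_
  · rintro _ ⟨z, hz, rfl⟩
    show v * z * v⁻¹ ∈ muKer S U
    rw [h.U_commute hG hU hv hz.1, mul_inv_cancel_right]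
    exact mem_sup_left hz
  · rintro _ ⟨z, hz, rfl⟩
    exact mem_sup_right ((mem_normalizer_iff.1 (h.U_le_normalizer_H hv) z).1 hz)

theorem left_normalizes_ker : W₁ ≤ normalizer (muKer S U : Set G) := fun w hw => by
  refine Uniq.mem_normalizer_of_map_le ?_
  rw [Subgroup.map_sup]
  refine sup_le ?_ ?_
  · rintro _ ⟨z, hz, rfl⟩
    exact mem_sup_left ((mem_normalizer_iff.1 (h.left_normalizes_centPart hG hU hw) z).1 hz)
  · rintro _ ⟨z, hz, rfl⟩
    exact mem_sup_right ((mem_normalizer_iff.1 (h.left_le_normalizer_H hw) z).1 hz)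

/-- Every element of the domain is `n w` with `n ∈ C H`, `w ∈ W₁`. -/
theorem dom_decomp {y : G} (hy : y ∈ muDom S W₁ U) : ∃ n ∈ muKer S U, ∃ w ∈ W₁, y = n * w := by
  have hy' : y ∈ W₁ ⊔ muKer S U := by
    have e : muDom S W₁ U = W₁ ⊔ muKer S U := by simp only [muKer]; rw [← sup_assoc, sup_comm W₁]
    exact e ▸ hy
  obtain ⟨w, hw, n, hn, rfl⟩ :=
    (CfsgLib.Solvable.mem_sup_of_le_normalizer (h.left_normalizes_ker hG hU)).1 hy'
  exact ⟨w * n * w⁻¹, (mem_normalizer_iff.1 (h.left_normalizes_ker hG hU hw) n).1 hn, w, hw, by group⟩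

theorem dom_inter_U : muDom S W₁ U ⊓ U = centPart S U := by
  refine le_antisymm (fun v hv => ?_) (le_inf (le_sup_left.trans le_sup_left) inf_le_left)
  obtain ⟨n, hn, w, hw, e⟩ := h.dom_decomp hG hU hv.1
  have hw' : w ∈ W₁ ⊓ ⁅S, S⁆ := ⟨hw, by
    rw [show w = n⁻¹ * v by rw [e]; group]
    exact Subgroup.mul_mem _ (Subgroup.inv_mem _ (h.muKer_le hn)) (h.U_le hv.2)⟩
  rw [disjoint_iff.1 (disjoint_of_coprime_natCard h.coprime_left), mem_bot] at hw'
  subst hw'
  rw [mul_one] at e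
  subst e
  obtain ⟨z, hz, x, hx, rfl⟩ := (CfsgLib.Solvable.mem_sup_of_le_normalizer
    (inf_le_left.trans h.U_le_normalizer_H : centPart S U ≤ normalizer (Cfsg.fittingHallOf S : Set G))).1 hn
  have hxU : x ∈ Cfsg.fittingHallOf S ⊓ U :=
    ⟨hx, by simpa [← mul_assoc] using U.mul_mem (U.inv_mem hz.1) hv.2⟩
  rw [h.H_inf_U, mem_bot] at hxU
  rwa [hxU, mul_one]

/-- `S = X U`. -/
theorem exists_dom_U {g : G} (hg : g ∈ S) : ∃ x ∈ muDom S W₁ U, ∃ v ∈ U, g = x * v := by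
  obtain ⟨d, hd, w, hw, rfl⟩ : ∃ d ∈ ⁅S, S⁆, ∃ w ∈ W₁, g = d * w := by
    obtain ⟨a, ha, b, hb, e⟩ := h.typeP_S.W₁_compl.2.2.2 g hg
    exact ⟨a, ha, b, hb, e⟩
  obtain ⟨a, ha, b, hb, e⟩ := h.typeP_S.U_compl.2.2.2 d hd
  refine ⟨a * w, mul_mem (mem_sup_right ha) (h.left_le_dom hw), w⁻¹ * b * w,
    (mem_normalizer_iff''.1 (h.typeP_S.U_normal hw) b).1 hb, ?_⟩
  rw [e]
  group

/-- An element of `U` whose commutator with some `w ∈ W₁` lies in `C` lies in `C`. -/
theorem mem_centPart_of_comm {v w : G} (hv : v ∈ U) (hw : w ∈ W₁) (hw1 : w ≠ 1)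
    (hc : v * (w * v⁻¹ * w⁻¹) ∈ centPart S U) : v ∈ centPart S U := by
  set C := centPart S U
  have hconj : ∀ d ∈ U, w * d⁻¹ * w⁻¹ ∈ U := fun d hd =>
    (mem_normalizer_iff.1 (h.typeP_S.U_normal hw) _).1 (U.inv_mem hd)
  let f : C → C := fun d => ⟨(d : G) * (w * (d : G)⁻¹ * w⁻¹),
    C.mul_mem d.2 ((mem_normalizer_iff.1 (h.left_normalizes_centPart hG hU hw) _).1 (C.inv_mem d.2))⟩
  have hfix : ∀ a ∈ U, ∀ b ∈ U, a * (w * a⁻¹ * w⁻¹) = b * (w * b⁻¹ * w⁻¹) → a = b := fun a ha b hb e => by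
    have h1 : w * (b⁻¹ * a) = b⁻¹ * a * w := by
      have e' : b⁻¹ * a = w * b⁻¹ * w⁻¹ * (w * a * w⁻¹) := by
        calc b⁻¹ * a = b⁻¹ * (a * (w * a⁻¹ * w⁻¹)) * (w * a * w⁻¹) := by group
          _ = _ := by rw [e]; group
      calc w * (b⁻¹ * a) = (w * b⁻¹ * w⁻¹ * (w * a * w⁻¹)) * w := by group
        _ = _ := by rw [← e']
    exact (inv_mul_eq_one.1 (h.U_fixed (U.mul_mem (U.inv_mem hb) ha) hw hw1 h1)).symm
  have hinj : Function.Injective f := fun a b e =>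
    Subtype.ext (hfix a a.2.1 b b.2.1 (congrArg Subtype.val e))
  obtain ⟨d, hd⟩ := Finite.surjective_of_injective hinj ⟨_, hc⟩
  rw [hfix v hv d d.2.1 (congrArg Subtype.val hd).symm]
  exact d.2

/-- Outside `C H` the domain is fused only by itself. -/
theorem dom_outside_fusion {y g : G} (hy : y ∈ muDom S W₁ U) (hy' : y ∉ muKer S U) (hg : g ∈ S)
    (he : g * y * g⁻¹ ∈ muDom S W₁ U) : g ∈ muDom S W₁ U := by
  obtain ⟨x, hx, v, hv, rfl⟩ := h.exists_dom_U hG hU hg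
  set X := muDom S W₁ U
  refine X.mul_mem hx ?_
  have hvy : v * y * v⁻¹ ∈ X := by
    rw [show v * y * v⁻¹ = x⁻¹ * (x * v * y * (x * v)⁻¹) * x by group]
    exact X.mul_mem (X.mul_mem (X.inv_mem hx) he) hx
  obtain ⟨n, hn, w, hw, rfl⟩ := h.dom_decomp hG hU hy
  have hw1 : w ≠ 1 := fun e => hy' (by rwa [e, mul_one])
  have hn' : v * n * v⁻¹ ∈ X :=
    h.muKer_le_dom ((mem_normalizer_iff.1 (h.U_normalizes_ker hG hU hv) n).1 hn)
  refine (le_sup_left.trans le_sup_left : centPart S U ≤ X) (h.mem_centPart_of_comm hG hU hv hw hw1 ((h.dom_inter_U hG hU).le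
    ⟨?_, U.mul_mem hv ((mem_normalizer_iff.1 (h.typeP_S.U_normal hw) _).1 (U.inv_mem hv))⟩))
  rw [show v * (w * v⁻¹ * w⁻¹) = (v * n * v⁻¹)⁻¹ * (v * (n * w) * v⁻¹) * w⁻¹ by group]
  exact X.mul_mem (X.mul_mem (X.inv_mem hn') hvy) (X.inv_mem (h.left_le_dom hw))

/-- Outside `C H` every element of the domain is conjugate in it to one of `W₁ W₂`. -/
theorem dom_outside_conj {y : G} (hy : y ∈ muDom S W₁ U) (hy' : y ∉ muKer S U) :
    ∃ x ∈ muDom S W₁ U, ∃ a ∈ W₁, a ≠ 1 ∧ ∃ b ∈ W₂, y = x * (b * a) * x⁻¹ := by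
  classical
  obtain ⟨n, hn, w, hw, rfl⟩ := h.dom_decomp hG hU hy
  have hw1 : w ≠ 1 := fun e => hy' (by rwa [e, mul_one])
  set N := muKer S U
  set p := Nat.card W₂
  haveI := Fact.mk (h.prime_right hG hU)
  have hwp1 : w ^ p ≠ 1 := fun e => hw1 (orderOf_eq_one_iff.1 (Nat.eq_one_of_dvd_coprimes
    ((Nat.coprime_primes (h.prime_left hG hU) (h.prime_right hG hU)).2 (Ne.symm (h.card_ne hG hU)))
    (Kap.dvd_of_mem hw rfl) (orderOf_dvd_iff_pow_eq_one.2 e)))
  have hbw : ∀ b ∈ W₂, (b * w) ^ p = w ^ p := fun b hb => by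
    rw [(show Commute b w from (h.left_centralizes hw hb).symm).mul_pow,
      orderOf_dvd_iff_pow_eq_one.1 (Kap.dvd_of_mem hb rfl), one_mul]
  set K := W₂.subgroupOf N
  let F : (N ⧸ K) × W₂ → N := fun P => ⟨(P.1.out : G) * ((P.2 : G) * w) * (P.1.out : G)⁻¹ * w⁻¹, by
    have hc : w * (P.1.out : G)⁻¹ * w⁻¹ ∈ N :=
      (mem_normalizer_iff.1 (h.left_normalizes_ker hG hU hw) _).1 (N.inv_mem P.1.out.2)
    rw [show (P.1.out : G) * ((P.2 : G) * w) * (P.1.out : G)⁻¹ * w⁻¹ =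
      (P.1.out : G) * (P.2 : G) * (w * (P.1.out : G)⁻¹ * w⁻¹) by group]
    exact N.mul_mem (N.mul_mem P.1.out.2 (h.right_le_ker P.2.2)) hc⟩
  have hinj : Function.Injective F := by
    rintro ⟨k, b⟩ ⟨k', b'⟩ e
    have e1 : (k.out : G) * ((b : G) * w) * (k.out : G)⁻¹ = (k'.out : G) * ((b' : G) * w) * (k'.out : G)⁻¹ :=
      mul_right_cancel (congrArg Subtype.val e)
    set m := (k'.out : G)⁻¹ * (k.out : G) with hm
    have e2 : m * ((b : G) * w) * m⁻¹ = (b' : G) * w := by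
      calc _ = (k'.out : G)⁻¹ * ((k.out : G) * ((b : G) * w) * (k.out : G)⁻¹) * (k'.out : G) := by
            rw [hm]; group
        _ = _ := by rw [e1]; group
    have hmN : m ∈ N := N.mul_mem (N.inv_mem k'.out.2) k.out.2
    have hcomm : m * w ^ p = w ^ p * m := by
      have := congrArg (· ^ p) e2
      simp only [conj_pow, hbw b b.2, hbw b' b'.2] at this
      calc m * w ^ p = m * w ^ p * m⁻¹ * m := by group
        _ = w ^ p * m := by rw [this]
    have hmW : m ∈ W₂ := h.mem_right_of_fixed (h.muKer_le hmN) (W₁.pow_mem hw p) hwp1 hcomm.symm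
    have hk : k' = k := by
      rw [← QuotientGroup.out_eq' k', ← QuotientGroup.out_eq' k, QuotientGroup.eq]
      exact mem_subgroupOf.2 hmW
    subst hk
    exact Prod.ext rfl (Subtype.ext (mul_right_cancel (mul_left_cancel (mul_right_cancel e1))))
  have hcard : Nat.card ((N ⧸ K) × W₂) = Nat.card N := by
    rw [Nat.card_prod, ← Nat.card_congr (subgroupOfEquivOfLe h.right_le_ker).toEquiv,
      ← Subgroup.card_eq_card_quotient_mul_card_subgroup]
  haveI := Fintype.ofFinite ((N ⧸ K) × W₂)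
  haveI := Fintype.ofFinite N
  obtain ⟨⟨k, b⟩, hkb⟩ := ((Fintype.bijective_iff_injective_and_card F).2
    ⟨hinj, by simpa only [Nat.card_eq_fintype_card] using hcard⟩).2 ⟨n, hn⟩
  refine ⟨_, h.muKer_le_dom k.out.2, w, hw, hw1, b, b.2, ?_⟩
  have e' : (k.out : G) * ((b : G) * w) * (k.out : G)⁻¹ * w⁻¹ = n := congrArg Subtype.val hkb
  rw [← e']
  group

theorem exists_muChar : ∃ lam : G → ℂ, MuChar S W₁ W₂ U lam := by
  classical
  set H := Cfsg.fittingHallOf S
  set q := Nat.card W₁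
  set p := Nat.card W₂
  haveI hHc : IsMulCommutative ↥H := (h.elem hG hU).1
  obtain ⟨b₀, hb₀, hb₀1⟩ := (Subgroup.bot_or_exists_ne_one W₂).resolve_left h.typeP_S.selfNormalizing.2.1
  have hncomm : (⟨b₀, h.right_le_H hb₀⟩ : H) ∉ commutator H := fun hc => hb₀1 (by
    have : commutator H ≤ ⊥ := Subgroup.commutator_le.2 fun a _ b _ => by
      rw [commutatorElement_def, Subgroup.mem_bot, hHc.is_comm.comm a b]; group
    exact congrArg Subtype.val (mem_bot.1 (this hc)))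
  obtain ⟨μ₀, hμ₀⟩ := exists_hom_ne_one hncomm
  have hn := h.left_le_normalizer_H
  haveI := Fintype.ofFinite W₁
  let cj : W₁ → (H →* H) := fun w => MonoidHom.mk'
    (fun x => ⟨(w : G) * x * (w : G)⁻¹, (mem_normalizer_iff.1 (hn w.2) _).1 x.2⟩)
    fun a b => Subtype.ext (by simp [mul_assoc])
  let l : H →* ℂˣ := ∏ w : W₁, μ₀.comp (cj w)
  have hl : ∀ x, l x = ∏ w : W₁, μ₀ (cj w x) := fun x => by simp [l]
  have hYn : centPart S U ⊔ W₁ ≤ normalizer (H : Set G) :=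
    sup_le (inf_le_left.trans h.U_le_normalizer_H) hn
  have hinv : ∀ y ∈ centPart S U ⊔ W₁, ∀ (x : H) (hx : y * (x : G) * y⁻¹ ∈ H), l ⟨_, hx⟩ = l x := by
    intro y hy x hx
    rw [sup_comm] at hy
    obtain ⟨w, hw, z, hz, rfl⟩ :=
      (CfsgLib.Solvable.mem_sup_of_le_normalizer (h.left_normalizes_centPart hG hU)).1 hy
    have hzx : z * (x : G) = x * z := (mem_centralizer_iff.1 hz.2 x x.2).symm
    rw [hl, hl]
    refine Fintype.prod_equiv (Equiv.mulRight (⟨w, hw⟩ : W₁)) _ _ fun v => ?_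
    refine congrArg μ₀ (Subtype.ext ?_)
    show (v : G) * (w * z * (x : G) * (w * z)⁻¹) * (v : G)⁻¹ = (v : G) * w * x * ((v : G) * w)⁻¹
    rw [mul_assoc w z, hzx]
    group
  have hd : (centPart S U ⊔ W₁) ⊓ H = ⊥ := by
    rw [inf_comm]
    exact le_bot_iff.1 ((inf_le_inf_left _ (sup_le_sup_right inf_le_left _)).trans
      (disjoint_iff.1 (disjoint_of_coprime_natCard h.coprime_H_UW)).le)
  obtain ⟨μ, hμH, hμY⟩ := exists_hom_extend hYn hd l hinv
  refine ⟨Cfsg.extendByZero (muDom S W₁ U) fun x => (μ x : ℂ), ?_⟩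
  set lam := Cfsg.extendByZero (muDom S W₁ U) fun x => (μ x : ℂ)
  have hlamH : ∀ x : H, lam x = (l x : ℂ) := fun x => by
    rw [← hμH x]; exact extendByZero_of_mem _ _
  have hb0 : lam b₀ ≠ 1 := by
    rw [show lam b₀ = _ from hlamH ⟨b₀, h.right_le_H hb₀⟩, Ne, Units.val_eq_one, hl,
      Finset.prod_congr rfl (g := fun _ => μ₀ ⟨b₀, h.right_le_H hb₀⟩) fun w _ => congrArg μ₀ (Subtype.ext (by
        show (w : G) * b₀ * (w : G)⁻¹ = b₀
        rw [h.left_centralizes w.2 hb₀, mul_inv_cancel_right])), Finset.prod_const, Finset.card_univ,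
      ← Nat.card_eq_fintype_card]
    intro e
    refine hμ₀ (orderOf_eq_one_iff.1 (Nat.eq_one_of_dvd_coprimes
      ((Nat.coprime_primes (h.prime_left hG hU) (h.prime_right hG hU)).2 (Ne.symm (h.card_ne hG hU)))
      (orderOf_dvd_iff_pow_eq_one.2 e) ?_))
    rw [orderOf_dvd_iff_pow_eq_one, ← map_pow,
      show (⟨b₀, h.right_le_H hb₀⟩ : H) ^ p = 1 from Subtype.ext ((h.elem hG hU).2 _ (h.right_le_H hb₀)),
      map_one]
  refine ⟨⟨μ, fun x => extendByZero_of_mem _ x.2⟩, fun y hy => ?_, fun b hb hb1 e => ?_, fun v hv hfix => ?_⟩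
  · rw [show lam y = _ from extendByZero_of_mem _ (mem_sup_left hy), hμY y hy, Units.val_one]
  · haveI := Fact.mk (h.prime_right hG hU)
    have hz : b₀ ∈ zpowers b := by
      have ho : orderOf b = p := ((Nat.dvd_prime (h.prime_right hG hU)).1
        (W₂.orderOf_dvd_natCard hb)).resolve_left fun e => hb1 (orderOf_eq_one_iff.1 e)
      exact (eq_of_le_of_card_ge (zpowers_le.2 hb) (by rw [Nat.card_zpowers, ho])).ge hb₀
    obtain ⟨i, rfl⟩ := mem_zpowers_iff.1 hz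
    have hbH := h.right_le_H hb
    rw [show lam b = _ from hlamH ⟨b, hbH⟩, Units.val_eq_one] at e
    refine hb0 ?_
    have := hlamH ((⟨b, hbH⟩ : H) ^ i)
    rw [map_zpow, e, one_zpow, Units.val_one, SubgroupClass.coe_zpow] at this
    exact this
  · set V₀ : Set G := {v | v ∈ U ∧ ∀ x ∈ H, lam (v * x * v⁻¹) = lam x}
    set N := closure {g : G | ∃ v ∈ V₀, ∃ x ∈ H, g = v * x * v⁻¹ * x⁻¹}
    have hNH : N ≤ H := (closure_le _).2 fun g hg => by
      obtain ⟨v, hv, x, hx, rfl⟩ := hg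
      exact H.mul_mem ((mem_normalizer_iff.1 (h.U_le_normalizer_H hv.1) x).1 hx) (H.inv_mem hx)
    have hN1 : ∀ g ∈ N, lam g = 1 := fun g hg => by
      let K : Subgroup G := { carrier := {g | g ∈ H ∧ lam g = 1}
                              one_mem' := ⟨H.one_mem, by
                                rw [show lam 1 = _ from hlamH 1, map_one, Units.val_one]⟩
                              mul_mem' := fun {a b} ha hb => ⟨H.mul_mem ha.1 hb.1, by
                                rw [show lam (a * b) = _ from hlamH (⟨a, ha.1⟩ * ⟨b, hb.1⟩), map_mul,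
                                  Units.val_mul, ← hlamH, ← hlamH]
                                show lam a * lam b = 1
                                rw [ha.2, hb.2, one_mul]⟩
                              inv_mem' := fun {a} ha => ⟨H.inv_mem ha.1, by
                                rw [show lam a⁻¹ = _ from hlamH (⟨a, ha.1⟩⁻¹), map_inv, Units.val_inv_eq_inv_val,
                                  ← hlamH]
                                show (lam a)⁻¹ = 1
                                rw [ha.2, inv_one]⟩ }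
      refine ((closure_le (K := K)).2 (fun g hg => ?_) hg).2
      obtain ⟨v, hv, x, hx, rfl⟩ := hg
      refine ⟨hNH (subset_closure ⟨v, hv, x, hx, rfl⟩), ?_⟩
      have hvx := (mem_normalizer_iff.1 (h.U_le_normalizer_H hv.1) x).1 hx
      rw [show lam (v * x * v⁻¹ * x⁻¹) = _ from hlamH (⟨_, hvx⟩ * ⟨x, hx⟩⁻¹), map_mul, map_inv, Units.val_mul,
        Units.val_inv_eq_inv_val, ← hlamH, ← hlamH]
      show lam (v * x * v⁻¹) * (lam x)⁻¹ = 1
      rw [hv.2 x hx, mul_inv_cancel₀]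
      rw [show lam x = _ from hlamH ⟨x, hx⟩]
      exact Units.ne_zero _
    have hNn : U ⊔ W₁ ≤ normalizer (N : Set G) := fun g hg => by
      refine Uniq.mem_normalizer_of_map_le ?_
      rw [MonoidHom.map_closure]
      refine (closure_le _).2 ?_
      rintro _ ⟨_, ⟨v, hv, x, hx, rfl⟩, rfl⟩
      have hgH : g ∈ normalizer (H : Set G) := sup_le h.U_le_normalizer_H hn hg
      refine subset_closure ⟨g * v * g⁻¹, ⟨?_, fun x hx => ?_⟩, g * x * g⁻¹,
        (mem_normalizer_iff.1 hgH x).1 hx, by simp [mul_assoc]⟩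
      · rw [sup_comm] at hg
        obtain ⟨w, hw, u, hu, rfl⟩ := (CfsgLib.Solvable.mem_sup_of_le_normalizer h.typeP_S.U_normal).1 hg
        rw [show w * u * v * (w * u)⁻¹ = w * (u * v * u⁻¹) * w⁻¹ by group]
        exact (mem_normalizer_iff.1 (h.typeP_S.U_normal hw) _).1
          (U.mul_mem (U.mul_mem hu hv.1) (U.inv_mem hu))
      · rw [sup_comm] at hg
        obtain ⟨w, hw, u, hu, rfl⟩ := (CfsgLib.Solvable.mem_sup_of_le_normalizer h.typeP_S.U_normal).1 hg
        have hinvW : ∀ y ∈ H, lam (w * y * w⁻¹) = lam y := fun y hy => by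
          have hy' := (mem_normalizer_iff.1 (hn hw) y).1 hy
          rw [show lam (w * y * w⁻¹) = _ from hlamH ⟨_, hy'⟩, hinv w (mem_sup_right hw) ⟨y, hy⟩ hy']
          exact (hlamH _).symm
        have hy : w⁻¹ * x * w ∈ H := (mem_normalizer_iff''.1 (hn hw) x).1 hx
        have huv : u * v * u⁻¹ = v := by rw [h.U_commute hG hU hu hv.1, mul_inv_cancel_right]
        rw [show w * u * v * (w * u)⁻¹ * x * (w * u * v * (w * u)⁻¹)⁻¹ =
          w * ((u * v * u⁻¹) * (w⁻¹ * x * w) * (u * v * u⁻¹)⁻¹) * w⁻¹ by group, huv,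
          hinvW _ ((mem_normalizer_iff.1 (h.U_le_normalizer_H hv.1) _).1 hy), hv.2 _ hy]
        conv_rhs => rw [show x = w * (w⁻¹ * x * w) * w⁻¹ by group, hinvW _ hy]
    refine ⟨hv, mem_centralizer_iff.2 fun x hx => ?_⟩
    by_contra hne
    refine hb0 (hN1 b₀ ((h.eq_of_invariant hG hU hNH hNn fun eN => hne ?_).ge (h.right_le_H hb₀)))
    have hm : v * x * v⁻¹ * x⁻¹ ∈ N := subset_closure ⟨v, ⟨hv, hfix⟩, x, hx, rfl⟩
    rw [eN, mem_bot, mul_inv_eq_one] at hm
    exact (mul_inv_eq_iff_eq_mul.1 hm).symm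

end PairData

end CfsgLib.OddEnd
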