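import Cfsg.Agent.OddEnd.ThirteenFacts
import Cfsg.Agent.OddEnd.WitnessExists
import Cfsg.Agent.OddLocal.KappaTypeTwoPartner
import Cfsg.Agent.Solvable.FpfComplement

/-!
Peterfalvi 13: a maximal subgroup over `N(U)` when `S` is of type II.
-/

set_option autoImplicit false
set_option linter.unusedSectionVars false
set_option linter.style.haveILetI false

namespace CfsgLib.OddEnd

open Subgroup CfsgLib.OddLocal
open scoped commutatorElement

universe u

variable {G : Type u} [Group G] [Finite G]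

/-- A maximal subgroup `L` over `N(U)`, for `S` of type II. -/
structure OverData (S T W₁ U L : Subgroup G) : Prop where
  coatom : IsCoatom L
  normalizer_le : normalizer (U : Set G) ≤ L
  ne_conj : ∀ g : G, L ≠ S.map (MulAut.conj g).toMonoidHom
  ne_partner : L ≠ T
  kappa_empty : Cfsg.kappa L = ∅
  le_core : U ≤ Cfsg.sigmaCore L
  meet : S ⊓ L = U ⊔ W₁
  compl : Cfsg.IsComplIn (L ⊓ T) (Cfsg.sigmaCore L) L
  left_fitting : W₁ ≤ Cfsg.fittingOf (L ⊓ T)
  frob : KernelFrobenius L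
  nilpotent : Group.IsNilpotent (Cfsg.sigmaCore L)
  fitting : Cfsg.fittingHallOf L = Cfsg.sigmaCore L

namespace PairData

variable {S T W₁ W₂ U V : Subgroup G} (h : PairData S T W₁ W₂ U V)
variable (hG : Cfsg.IsMinSimpleOddOrder G) (hU : Upto12 G)
include h hG hU

/-- `T` is the partner of `S`. -/
theorem partner : Cfsg.IsPiHallOf (Cfsg.kappa T) (Kap.star S W₁) T ∧ W₁ = Kap.star T (Kap.star S W₁) := by
  obtain ⟨U₀, -, hW₂, -⟩ := h.decomp hG hU
  obtain ⟨V₀, hdT, hW₁, -⟩ := h.symm.decomp hG hU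
  rw [← hW₂]
  exact ⟨hdT.hall, hW₁⟩

theorem left_generator : ∃ k ∈ W₁, orderOf k = Nat.card W₁ ∧ W₁ = zpowers k := by
  obtain ⟨k, hk, hk1⟩ := h.exists_left
  haveI := Fact.mk (h.prime_left hG hU)
  have ho : orderOf k = Nat.card W₁ :=
    ((Nat.dvd_prime (h.prime_left hG hU)).1 (W₁.orderOf_dvd_natCard hk)).resolve_left
      (fun e => hk1 (orderOf_eq_one_iff.1 e))
  exact ⟨k, hk, ho, (eq_of_le_of_card_ge (zpowers_le.2 hk) (by rw [Nat.card_zpowers, ho])).symm⟩

theorem not_normalizer_le (h2 : Cfsg.IsOfTypeII S) : ¬ normalizer (U : Set G) ≤ S := by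
  obtain ⟨hd, -, -⟩ := h.decomp_II hG hU h2
  exact (Cfsg.Agent.S1363.result hG S h.coatom_S W₁ U hd h.typeP_S.W₁_ne).2

theorem over_not_conj (h2 : Cfsg.IsOfTypeII S) {L : Subgroup G} (hNU : normalizer (U : Set G) ≤ L) (g : G) :
    L ≠ S.map (MulAut.conj g).toMonoidHom := by
  intro e
  obtain ⟨hd, hF, hne⟩ := h.decomp_II hG hU h2
  set Y := U.map (MulAut.conj g⁻¹).toMonoidHom with hY
  have hYc : Nat.card Y = Nat.card U := card_map_of_injective (MulAut.conj g⁻¹).injective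
  have hYS : Y ≤ S := by
    rw [hY, map_le_iff_le_comap]
    intro u hu
    obtain ⟨s, hs, he⟩ := (e ▸ hNU (le_normalizer hu) : u ∈ S.map (MulAut.conj g).toMonoidHom)
    show g⁻¹ * u * g⁻¹⁻¹ ∈ S
    rw [← he]
    show g⁻¹ * (g * s * g⁻¹) * g⁻¹⁻¹ ∈ S
    simpa [mul_assoc] using hs
  have hrel : (⁅S, S⁆ : Subgroup G).relIndex S = Nat.card W₁ := Nat.eq_of_mul_eq_mul_left
    (Nat.card_pos (α := ↥⁅S, S⁆))
    (by rw [CfsgLib.InvariantHall.relIndex_mul_card h.derived_le, h.card_S])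
  have hYD : Y ≤ ⁅S, S⁆ := Excep.le_of_hall h.derived_le (normalizer_commutator_ge_left S S) hYS (by
    rw [hYc, hrel]
    exact (h.coprime_left.coprime_dvd_right (card_dvd_of_le h.U_le)).symm)
  obtain ⟨m, hm, hmY⟩ := Tau.conj_into_of_product (π := {r | r ∣ Nat.card U})
    (Kap.solvable_le hG h.coatom_S h.derived_le) h.U_le h.H_le
    (h.derived_le.trans (FittingHall.le_normalizer_of S))
    (fun x hx => by
      obtain ⟨a, ha, b, hb, rfl⟩ := h.typeP_S.U_compl.2.2.2 x hx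
      exact mul_mem (mem_sup_left ha) (mem_sup_right hb))
    (fun r hr hrU hrH => hr.not_dvd_one (h.coprime_H_U ▸ Nat.dvd_gcd hrH hrU)) hYD
    (fun r hr hd => hYc ▸ hd)
  have hYU : Y.map (MulAut.conj m).toMonoidHom = U := eq_of_le_of_card_ge hmY
    (by rw [card_map_of_injective (MulAut.conj m).injective, hYc])
  have hmS : S.map (MulAut.conj m).toMonoidHom = S :=
    mem_normalizer_iff_map_conj_eq.1 (le_normalizer (h.derived_le hm))
  rw [hY, TH.map_conj_map_conj] at hYU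
  have hn : m * g⁻¹ ∈ L := hNU (mem_normalizer_iff_map_conj_eq.2 hYU)
  have hLn : L.map (MulAut.conj (m * g⁻¹)).toMonoidHom = L :=
    mem_normalizer_iff_map_conj_eq.1 (le_normalizer hn)
  conv_lhs at hLn => rw [e, TH.map_conj_map_conj, show m * g⁻¹ * g = m by group, hmS]
  exact h.not_normalizer_le hG hU h2 (hLn ▸ hNU)

/-- The local structure of a maximal subgroup over `N(U)`. -/
theorem over_data (h2 : Cfsg.IsOfTypeII S) {L : Subgroup G} (hL : IsCoatom L)
    (hNU : normalizer (U : Set G) ≤ L) : OverData S T W₁ U L := by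
  obtain ⟨hd, -, hne⟩ := h.decomp_II hG hU h2
  obtain ⟨hNK, hKe⟩ := h.partner hG hU
  obtain ⟨k, hk, hko, hKq⟩ := h.left_generator hG hU
  haveI := Fact.mk (h.prime_left hG hU)
  have hK1 := h.typeP_S.W₁_ne
  have hnc := h.over_not_conj hG hU h2 hNU
  have hUL : U ≤ L := le_normalizer.trans hNU
  have hkL : k ∈ L := hNU (hd.normal hk)
  have hneT := Kap.over_ne hG h.coatom_S hd hK1 h.coatom_T hNK hKe hk hko hne hL hnc hUL hkL
  have hκ := Kap.over_kappa hG h.coatom_S hd hK1 h.coatom_T hNK hKe hk hko hne hL hnc hneT hkL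
  obtain ⟨hkF, hcompl⟩ := Kap.over_partner hG h.coatom_S hd hK1 h.coatom_T hNK hKe hk hko hne hL hnc hUL hkL
  obtain ⟨t, ht, htd, htσ⟩ := exists_outer_prime hG hL
  have hnil : Group.IsNilpotent (Cfsg.sigmaCore L) :=
    Kap.nilpotent_of_outer hG hL ⟨t, ht, htd, htσ, by rw [hκ]; exact id⟩
  exact ⟨hL, hNU, hnc, hneT, hκ,
    Kap.over_complement_le hG h.coatom_S hd hK1 h.coatom_T hNK hKe hk hko hne hL hnc hUL hkL,
    Kap.over_meet hG h.coatom_S hd hK1 h.coatom_T hNK hKe hk hko hne hL hnc hUL hkL hKq,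
    hcompl, hKq.le.trans (zpowers_le.2 hkF), hU.frob L hL hκ, hnil, Kap.fittingHallOf_eq hG hL hnil⟩

theorem exists_over (h2 : Cfsg.IsOfTypeII S) : ∃ L : Subgroup G, OverData S T W₁ U L := by
  obtain ⟨hd, -, hne⟩ := h.decomp_II hG hU h2
  obtain ⟨L, hL, hNU⟩ := (eq_top_or_exists_le_coatom (normalizer (U : Set G))).resolve_left
    (CfsgLib.CN.MinSimple.normalizer_ne_top hG h.typeP_S.U_nilpotent hne)
  exact ⟨L, h.over_data hG hU h2 hL hNU⟩

end PairData

namespace OverData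

variable {S T W₁ U L : Subgroup G} (hO : OverData S T W₁ U L)
include hO

theorem left_le_compl : W₁ ≤ L ⊓ T :=
  hO.left_fitting.trans (Bender.fitting_le _)

/-- The complement acts on the kernel without fixed points. -/
theorem compl_fpf {e : G} (he : e ∈ L ⊓ T) {x : G} (hx : x ∈ Cfsg.sigmaCore L) (hx1 : x ≠ 1)
    (hc : e * x = x * e) : e = 1 :=
  mem_bot.1 (hO.compl.2.2.1 ▸ ⟨he, hO.frob x hx hx1 ⟨he.1, mem_centralizer_singleton_iff.2 hc⟩⟩)

/-- `W₁` is normal in the complement. -/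
theorem compl_normalizes (hne : U ≠ ⊥) (hq : (Nat.card W₁).Prime) : L ⊓ T ≤ normalizer (W₁ : Set G) := by
  haveI := Fact.mk hq
  set E := L ⊓ T with hE
  set K := Cfsg.sigmaCore L
  haveI : Nontrivial ↥K := (Subgroup.nontrivial_iff_ne_bot K).2 fun e => hne (le_bot_iff.1 (e ▸ hO.le_core))
  set F := Cfsg.fittingOf E
  haveI hFn : Group.IsNilpotent ↥F := Bender.nilpotent_fitting E
  obtain ⟨P⟩ : Nonempty (Sylow (Nat.card W₁) ↥F) := inferInstance
  have hall : ∀ (p : ℕ) [Fact p.Prime] (Q : Sylow p ↥F), (Q : Subgroup ↥F).Normal :=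
    ((Group.isNilpotent_of_finite_tfae (G := ↥F)).out 0 3).1 hFn
  have hPn : (P : Subgroup ↥F).Normal := hall _ P
  haveI := Sylow.unique_of_normal P hPn
  have hmem : ∀ y : ↥F, orderOf y = Nat.card W₁ → y ∈ (P : Subgroup ↥F) := fun y hy => by
    obtain ⟨Q, hQ⟩ := (IsPGroup.of_card (n := 1) (by rw [pow_one, Nat.card_zpowers, hy]) :
      IsPGroup (Nat.card W₁) (zpowers y)).exists_le_sylow
    exact Subsingleton.elim Q P ▸ hQ (mem_zpowers y)
  set R := (P : Subgroup ↥F).map F.subtype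
  have hRE : R ≤ E := (map_subtype_le _).trans (Bender.fitting_le E)
  haveI : (K.subgroupOf L).Normal :=
    (normal_subgroupOf_iff_le_normalizer (map_subtype_le _)).2 (TH.le_normalizer_core L)
  let φ : ↥R →* MulAut ↥K := (normalizerMonoidHom K).comp
    (inclusion (hRE.trans (inf_le_left.trans (TH.le_normalizer_core L))))
  have hfpf : CfsgLib.Frobenius.IsFpf φ := fun a ha x hx => by
    refine by_contra fun hx1 => ha ?_
    refine Subtype.ext (hO.compl_fpf (hRE a.2) x.2 (fun e => hx1 (Subtype.ext e)) ?_)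
    exact mul_inv_eq_iff_eq_mul.1 (congrArg Subtype.val hx)
  intro e he
  refine Uniq.mem_normalizer_of_map_le ?_
  rintro _ ⟨w, hw, rfl⟩
  show e * w * e⁻¹ ∈ W₁
  by_cases hw1 : w = 1
  · simp [hw1]
  have hwo : orderOf w = Nat.card W₁ :=
    ((Nat.dvd_prime hq).1 (W₁.orderOf_dvd_natCard hw)).resolve_left fun e => hw1 (orderOf_eq_one_iff.1 e)
  have hwF : w ∈ F := hO.left_fitting hw
  have hyF : e * w * e⁻¹ ∈ F := (mem_normalizer_iff.1 (Bender.le_normalizer_fitting E he) w).1 hwF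
  have hwR : w ∈ R := ⟨⟨w, hwF⟩, hmem _ (by rw [← Subgroup.orderOf_coe]; exact hwo), rfl⟩
  have hyo : orderOf (e * w * e⁻¹) = Nat.card W₁ := by rw [← hwo]; exact (MulAut.conj e).orderOf_eq w
  have hyR : e * w * e⁻¹ ∈ R := ⟨⟨_, hyF⟩, hmem _ (by rw [← Subgroup.orderOf_coe]; exact hyo), rfl⟩
  have hu := CfsgLib.FpfComplement.unique_prime_order hfpf (P.2.map F.subtype) (⟨w, hwR⟩ : R) ⟨_, hyR⟩
    (by rw [← Subgroup.orderOf_coe]; exact hwo) (by rw [← Subgroup.orderOf_coe]; exact hyo)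
  obtain ⟨i, hi⟩ := mem_zpowers_iff.1 hu
  have hval : w ^ i = e * w * e⁻¹ := by simpa using congrArg Subtype.val hi
  exact hval ▸ W₁.zpow_mem hw i

end OverData

end CfsgLib.OddEnd
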