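import Cfsg.Agent.OddEnd.ThirteenCent
import Cfsg.Agent.OddEnd.WitnessExistsBasic
import Cfsg.Agent.OddLocal.KappaNonTI
import Cfsg.Agent.S1378

/-!
Peterfalvi 13: arithmetic of `L` when its kernel is non-abelian, and support sets used in the counting.
-/

set_option autoImplicit false
set_option linter.unusedSectionVars false
set_option linter.style.haveILetI false

namespace CfsgLib.OddEnd

open Subgroup CfsgLib.OddLocal
open scoped commutatorElement

universe u

variable {G : Type u} [Group G] [Finite G]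

namespace Unfaithful

variable {S T W₁ W₂ U V L : Subgroup G} {r : ℕ} {c : G} (D : Unfaithful S T W₁ W₂ U V L r c)
variable (hG : Cfsg.IsMinSimpleOddOrder G) (hU : Upto12 G)
include D hG hU

theorem r_ne : ¬ r ∣ Nat.card (Cfsg.fittingHallOf S) := fun h =>
  D.prime.not_dvd_one (D.pair.coprime_H_U ▸ Nat.dvd_gcd h D.dvd_U)

/-- The prime of `M_F` does not divide the kernel of `L`. -/
theorem p_not_dvd_core : ¬ Nat.card W₂ ∣ Nat.card ↥(Cfsg.sigmaCore L) := fun h => by
  have hp := D.pair.prime_right hG hU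
  obtain ⟨-, hF, -⟩ := D.pair.decomp_II hG hU D.typeII
  have hpS : Nat.card W₂ ∈ Cfsg.sigma S := (Sig.sigma_core hG D.pair.coatom_S).1.2.1 _ hp
    (hF ▸ card_dvd_of_le D.pair.right_le_H)
  have hpL : Nat.card W₂ ∈ Cfsg.sigma L := (Sig.sigma_core hG D.overData.coatom).1.2.1 _ hp h
  obtain ⟨g, hg⟩ := (Cfsg.Agent.S1378.result hG).2 S L D.pair.coatom_S D.overData.coatom
    ⟨_, hpS, hpL⟩
  exact D.overData.ne_conj g hg

theorem core_index : (Cfsg.sigmaCore L).relIndex L = Nat.card ↥(L ⊓ T) :=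
  Nat.eq_of_mul_eq_mul_left (Nat.card_pos (α := ↥(Cfsg.sigmaCore L)))
    (by rw [CfsgLib.InvariantHall.relIndex_mul_card (show Cfsg.sigmaCore L ≤ L from map_subtype_le _), D.card_L hG hU, mul_comm])

theorem left_le_index : Nat.card W₁ ≤ (Cfsg.sigmaCore L).relIndex L := by
  rw [D.core_index hG hU]
  exact card_le_of_le D.overData.left_le_compl

/-- When `L_σ` is not abelian, its complement has order dividing `r - 1`, and `|L_σ|` is at least `r²`
and three times `|U|`. -/
theorem nonabelian_arith (hnab : ¬ IsMulCommutative ↥(Cfsg.sigmaCore L)) :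
    (Cfsg.sigmaCore L).relIndex L ∣ r - 1 ∧ r ^ 2 ≤ Nat.card ↥(Cfsg.sigmaCore L) ∧
      3 * Nat.card U ≤ Nat.card ↥(Cfsg.sigmaCore L) := by
  have hr := D.prime
  haveI := Fact.mk hr
  have hL := D.overData.coatom
  have hnil := D.overData.nilpotent
  obtain ⟨g, hgC, hgL⟩ := SetLike.not_le_iff_exists.1 (D.not_centralizer_le hG hU)
  have hcg : g⁻¹ * c * g ∈ Cfsg.sigmaCore L := by
    rw [mul_assoc, (mem_centralizer_singleton_iff.1 hgC).symm, inv_mul_cancel_left]
    exact D.mem_core
  set P := Bender.qc r (Cfsg.sigmaCore L) with hP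
  have hPnab : ¬ IsMulCommutative ↥P := fun hab => hnab (Kap.nilpotent_commutative_of_qc hnil fun s _ => by
    by_cases hs : s = r
    · subst hs; exact hab
    · exact Kap.qc_commutative hG hL hnil hgL D.mem_core D.order hcg hs)
  obtain ⟨k, hk⟩ := IsPGroup.iff_card.1 (Bender.isPGroup_qc (s := r) (Cfsg.sigmaCore L))
  have hk2 : 2 ≤ k := by
    by_contra h
    refine Kap.part_not_cyclic hG hL hnil hgL D.mem_core D.order hcg ?_
    interval_cases k
    · rw [eq_bot_of_card_eq (Bender.qc r (Cfsg.sigmaCore L)) (hk.trans (pow_zero _))]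
      infer_instance
    · exact isCyclic_of_prime_card (p := r) (hk.trans (pow_one _))
  refine ⟨?_, ?_, ?_⟩
  · have hcyc := Kap.part_center_cyclic hG hL hnil hgL D.mem_core D.order hcg hPnab
    set Z := P ⊓ centralizer (P : Set G) with hZ
    obtain ⟨z, hz, hzo⟩ : ∃ z ∈ Z, orderOf z = r := by
      have hPp : IsPGroup r ↥P := Bender.isPGroup_qc _
      haveI : Nontrivial ↥P := Finite.one_lt_card_iff_nontrivial.1
        (lt_of_lt_of_eq (Nat.one_lt_pow (by omega) hr.one_lt) hk.symm)
      haveI := hPp.center_nontrivial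
      obtain ⟨j, hj⟩ := IsPGroup.iff_card.1 (hPp.to_subgroup (center P))
      obtain ⟨z, hz⟩ := exists_prime_orderOf_dvd_card' (G := center P) r (by
        rcases j with _ | j
        · exact absurd hj (by simpa using (Finite.one_lt_card (α := center P)).ne')
        · rw [hj]; exact dvd_pow_self r j.succ_ne_zero)
      refine ⟨((z : P) : G), ⟨(z : P).2, mem_centralizer_iff.2 fun b hb =>
        congrArg Subtype.val (mem_center_iff.1 z.2 ⟨b, hb⟩)⟩, ?_⟩
      rw [Subgroup.orderOf_coe, Subgroup.orderOf_coe, hz]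
    have hEP : L ⊓ T ≤ normalizer (P : Set G) := (inf_le_left.trans (TH.le_normalizer_core L)).trans
      (UTool.normalizer_le_normalizer_map _ _ (PLenZ.characteristic_pCore r))
    rw [D.core_index hG hU]
    refine card_dvd_pred_of_line hzo ((le_normalizer_inf_centralizer_of hEP hEP).trans
      (UTool.normalizer_le_normalizer_zpowers hcyc hz)) fun e he hc => ?_
    exact D.overData.compl_fpf he (Bender.qc_le _ _ hz.1)
      (fun e' => hr.ne_one (by rw [← hzo, e', orderOf_one])) hc.eq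
  · calc r ^ 2 ≤ r ^ k := Nat.pow_le_pow_right hr.pos hk2
      _ = Nat.card ↥P := hk.symm
      _ ≤ _ := card_le_of_le (Bender.qc_le _ _)
  · have hmul := CfsgLib.InvariantHall.relIndex_mul_card D.overData.le_core
    have hne : U.relIndex (Cfsg.sigmaCore L) ≠ 1 := fun h => hnab (by
      have e : Cfsg.sigmaCore L = U := le_antisymm (relIndex_eq_one.1 h) D.overData.le_core
      rw [e]
      exact D.pair.U_comm hG hU)
    obtain ⟨j, hj⟩ := (hG.1.of_dvd_nat (Cfsg.sigmaCore L).card_subgroup_dvd_card).of_dvd_nat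
      (relIndex_dvd_card U (Cfsg.sigmaCore L))
    calc 3 * Nat.card U = Nat.card U * 3 := mul_comm _ _
      _ ≤ Nat.card U * U.relIndex (Cfsg.sigmaCore L) := Nat.mul_le_mul_left _ (by omega)
      _ = _ := hmul

/-- The non-identity elements of `M_F` are a TI-set with normalizer `S`. -/
theorem dade_H : Cfsg.DadeHypothesis ((Cfsg.fittingHallOf S : Set G) \ {1}) S (fun _ => ⊥) := by
  obtain ⟨hd, hF, hne⟩ := D.pair.decomp_II hG hU D.typeII
  obtain ⟨-, hTI, hσF⟩ := Cfsg.Agent.S1372.result hG S D.pair.coatom_S W₁ U hd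
    D.pair.typeP_S.W₁_ne hne
  refine
    { one_not_mem := fun h => h.2 rfl
      subset := fun a ha => FittingHall.of_le S ha.1
      conj_mem := fun x hx a ha => ⟨(mem_normalizer_iff.1 (FittingHall.le_normalizer_of S hx) a).1 ha.1,
        fun h => ha.2 (conj_eq_one_iff.1 h)⟩
      fusion := fun a ha g hg => ⟨g, ?_, rfl⟩
      le_centralizer := fun _ _ => bot_le
      conj_mem_H := fun _ _ _ _ u hu => by
        rw [mem_bot.1 hu, mul_one, mul_inv_cancel]
        exact Subgroup.one_mem _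
      inf_eq_bot := fun _ _ => bot_inf_eq _
      sup_eq := fun a ha => by
        rw [bot_sup_eq, inf_eq_right.2 (D.pair.centralizer_core hG hU (hF ▸ ha.1) fun h => ha.2 h)]
      coprime := fun _ _ _ _ => by rw [Subgroup.card_bot]; exact Nat.coprime_one_left _ }
  have hN := Uniq.coatom_normalizer_eq hG D.pair.coatom_S (Bender.fitting_le S) (Bender.le_normalizer_fitting S)
    (fun e => ha.2 (Subgroup.mem_bot.1 (e ▸ hσF (hF.le ha.1))))
  by_contra hgS
  exact ha.2 (hTI g (fun h => hgS (hN.le h)) a (hσF (hF.le ha.1)) (hσF (hF.le hg.1)))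

/-- No conjugate of an element of `M_F` lies over a kernel element of `L`. -/
theorem supports_disjoint (hDL : Cfsg.DadeHypothesis ((Cfsg.sigmaCore L : Set G) \ {1}) L (Cfsg.supportR L))
    {g : G} (hH : ∃ a ∈ ((Cfsg.fittingHallOf S : Set G) \ {1}), ∃ u ∈ (⊥ : Subgroup G), ∃ x : G,
      x * g * x⁻¹ = a * u)
    (hL : ∃ a ∈ ((Cfsg.sigmaCore L : Set G) \ {1}), ∃ u ∈ Cfsg.supportR L a, ∃ x : G,
      x * g * x⁻¹ = a * u) : False := by
  obtain ⟨b, hb, u₀, hu₀, y, hy⟩ := hH
  obtain ⟨a, ha, u, hu, x, hx⟩ := hL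
  rw [mem_bot.1 hu₀, mul_one] at hy
  set p := Nat.card W₂
  have hbp : b ^ p = 1 := (D.pair.elem hG hU).2 b hb.1
  have hgp : g ^ p = 1 := by
    have : (y * g * y⁻¹) ^ p = 1 := by rw [hy, hbp]
    rwa [conj_pow, conj_eq_one_iff] at this
  have hau : a ^ p * u ^ p = 1 := by
    have hc : Commute a u := (mem_centralizer_singleton_iff.1 (hDL.le_centralizer a ha hu)).symm
    rw [← hc.mul_pow, ← hx, conj_pow, hgp, mul_one, mul_inv_cancel]
  have hmem : a ^ p ∈ Cfsg.supportR L a ⊓ (L ⊓ centralizer ({a} : Set G)) := by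
    refine ⟨?_, L.pow_mem (hDL.subset ha) p, ?_⟩
    · rw [eq_inv_of_mul_eq_one_left hau]
      exact Subgroup.inv_mem _ (Subgroup.pow_mem _ hu p)
    · exact Subgroup.pow_mem _ (mem_centralizer_singleton_iff.2 rfl) p
  rw [hDL.inf_eq_bot a ha, mem_bot] at hmem
  haveI := Fact.mk (D.pair.prime_right hG hU)
  exact D.p_not_dvd_core hG hU (Kap.dvd_of_mem ha.1 (orderOf_eq_prime hmem ha.2))

/-- Conjugates in `L` of distinct generators of `⟨c⟩` by distinct cosets of `U W₁` are distinct. -/
theorem line_fusion {x z z' : G} (hx : x ∈ L) (hz : z ∈ zpowers c) (hz1 : z ≠ 1) (hz' : z' ∈ zpowers c)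
    (hz'1 : z' ≠ 1) (he : x * z * x⁻¹ = z') : x ∈ U ⊔ W₁ := by
  have hcr : Nat.card (zpowers c) = r := by rw [Nat.card_zpowers, D.order]
  have key : ∀ y ∈ zpowers c, y ≠ 1 → centralizer ({y} : Set G) = centralizer ({c} : Set G) := by
    intro y hy hy1
    have e : zpowers y = zpowers c := eq_of_le_of_card_ge (zpowers_le.2 hy) (by
      haveI := Fact.mk D.prime
      rw [Nat.card_zpowers, Nat.card_zpowers,
        orderOf_eq_prime (orderOf_dvd_iff_pow_eq_one.1 (hcr ▸ Kap.dvd_of_mem hy rfl) : y ^ r = 1) hy1,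
        D.order])
    rw [← centralizer_closure {y}, ← zpowers_eq_closure, e, zpowers_eq_closure, centralizer_closure]
  have hle : centralizer ({c} : Set G) ≤ S.map (MulAut.conj x).toMonoidHom := fun w hw => by
    rw [← key z' hz' hz'1] at hw
    refine mem_map_conj_of ((D.centralizer_eq hG hU).1 (key z hz hz1 ▸ mem_centralizer_singleton_iff.2 ?_))
    have e : w * z' = z' * w := mem_centralizer_singleton_iff.1 hw
    calc x⁻¹ * w * x * z = x⁻¹ * (w * (x * z * x⁻¹)) * x := by group
      _ = x⁻¹ * (z' * w) * x := by rw [he, e]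
      _ = x⁻¹ * ((x * z * x⁻¹) * w) * x := by rw [he]
      _ = z * (x⁻¹ * w * x) := by group
  have hxS : x ∈ S := Kap.eq_of_conj_eq hG D.pair.coatom_S
    ((D.centralizer_eq hG hU).2 _ (Uniq.coatom_conj D.pair.coatom_S x) hle)
  exact D.overData.meet ▸ ⟨hxS, hx⟩

theorem card_UW : Nat.card ↥(U ⊔ W₁) = Nat.card U * Nat.card W₁ := by
  rw [sup_comm, CfsgLib.Solvable.card_sup_of_disjoint D.pair.typeP_S.U_normal (inf_eq_bot_of_coprime
    (D.pair.coprime_left.coprime_dvd_right (card_dvd_of_le D.pair.U_le))), mul_comm]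

end Unfaithful

end CfsgLib.OddEnd
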