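import Cfsg.Agent.OddEnd.ThirteenPart
import Cfsg.Agent.OddEnd.ElevenBase
import Cfsg.Agent.OddLocal.KappaSylow
import Cfsg.Agent.S1390

/-!
Peterfalvi 13: arithmetic of `L` when its kernel is abelian, hence equal to `U`.
-/

set_option autoImplicit false
set_option linter.unusedSectionVars false
set_option linter.style.haveILetI false

namespace CfsgLib.OddEnd

open Subgroup CfsgLib.OddLocal
open scoped commutatorElement

universe u

variable {G : Type u} [Group G] [Finite G]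

namespace Unfaithful

variable {S T W₁ W₂ U V L : Subgroup G} {r : ℕ} {c : G} (D : Unfaithful S T W₁ W₂ U V L r c)
variable (hG : Cfsg.IsMinSimpleOddOrder G) (hU : Upto12 G)
include D hG hU

/-- The centralizer of a nonidentity element of `C_U(M_F)` lies only in `S`, and `R_L(z) = M_F`. -/
theorem supportR_cent {z : G} (hz : z ∈ U ⊓ centralizer (Cfsg.fittingHallOf S : Set G)) (hz1 : z ≠ 1) :
    centralizer ({z} : Set G) ≤ S ∧ Cfsg.supportR L z = Cfsg.fittingHallOf S := by
  have h := D.unique hG hU (X := zpowers z) (zpowers_le.2 hz.1) (zpowers_le.2 hz.2)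
    (fun e => hz1 (mem_bot.1 (e ▸ mem_zpowers z)))
  rw [show centralizer (zpowers z : Set G) = centralizer ({z} : Set G) by
    rw [zpowers_eq_closure, centralizer_closure]] at h
  obtain ⟨hle, huniq⟩ := h
  refine ⟨hle, ?_⟩
  have hnot : ¬ centralizer ({z} : Set G) ≤ L := fun hl =>
    D.overData.ne_conj 1 (by rw [TH.map_conj_one]; exact huniq L D.overData.coatom hl)
  have hex : ∃! N : Subgroup G, IsCoatom N ∧ centralizer ({z} : Set G) ≤ N :=
    ⟨S, ⟨D.pair.coatom_S, hle⟩, fun N hN => huniq N hN.1 hN.2⟩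
  rw [Cfsg.supportR, dif_pos ⟨hnot, hex⟩]
  have e : Classical.choose (⟨hnot, hex⟩ : ¬ centralizer ({z} : Set G) ≤ L ∧ _).2.exists = S :=
    hex.unique (Classical.choose_spec hex.exists) ⟨D.pair.coatom_S, hle⟩
  rw [e, inf_eq_left]
  exact fun x hx => mem_centralizer_singleton_iff.2 (mem_centralizer_iff.1 hz.2 x hx)

theorem core_eq (hab : IsMulCommutative ↥(Cfsg.sigmaCore L)) : Cfsg.sigmaCore L = U := by
  refine le_antisymm ((le_inf le_rfl fun x hx => mem_centralizer_singleton_iff.2 ?_).trans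
    (D.core_centralizer hG hU).le) D.overData.le_core
  exact congrArg Subtype.val (hab.is_comm.comm (⟨x, hx⟩ : ↥(Cfsg.sigmaCore L)) ⟨c, D.mem_core⟩)

theorem left_normalizes_cent :
    W₁ ≤ normalizer ((U ⊓ centralizer (Cfsg.fittingHallOf S : Set G) : Subgroup G) : Set G) :=
  le_normalizer_inf_centralizer_of D.pair.typeP_S.U_normal D.pair.left_le_normalizer_H

theorem U_normal_L (hab : IsMulCommutative ↥(Cfsg.sigmaCore L)) : L ≤ normalizer (U : Set G) :=
  D.core_eq hG hU hab ▸ TH.le_normalizer_core L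

/-- `q` divides `|E|` just once. -/
theorem not_dvd_m : ¬ Nat.card W₁ ∣ W₁.relIndex (L ⊓ T) := by
  intro hdvd
  set q := Nat.card W₁
  set Q := Cfsg.fittingHallOf T
  set E := L ⊓ T
  have hq := D.pair.prime_left hG hU
  haveI := Fact.mk hq
  have hQn : T ≤ normalizer (Q : Set G) := FittingHall.le_normalizer_of T
  -- the part of `E` inside `T_F` is `W₁`
  have hEQ : Nat.card ↥(E ⊓ Q) ∣ q := by
    haveI : Nontrivial ↥(Cfsg.sigmaCore L) := ⟨⟨⟨c, D.mem_core⟩, 1, fun e => D.ne_one (congrArg Subtype.val e)⟩⟩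
    let φ : ↥(E ⊓ Q) →* MulAut ↥(Cfsg.sigmaCore L) := (normalizerMonoidHom (Cfsg.sigmaCore L)).comp
      (inclusion (inf_le_left.trans (inf_le_left.trans (TH.le_normalizer_core L))))
    have hfpf : CfsgLib.Frobenius.IsFpf φ := fun a ha x hx => by
      refine by_contra fun hx1 => ha ?_
      refine Subtype.ext (D.overData.compl_fpf a.2.1 x.2 (fun e => hx1 (Subtype.ext e)) ?_)
      exact mul_inv_eq_iff_eq_mul.1 (congrArg Subtype.val hx)
    have hel := D.pair.symm.elem hG hU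
    have hcyc := CfsgLib.Frobenius.IsFpf.isCyclic_of_comm hfpf fun a b => Subtype.ext
      (show (a : G) * b = b * a from
        congrArg Subtype.val (hel.1.is_comm.comm (⟨a, a.2.2⟩ : ↥Q) ⟨b, b.2.2⟩))
    rw [← IsCyclic.exponent_eq_card]
    exact Monoid.exponent_dvd_of_forall_pow_eq_one fun a => Subtype.ext (by
      rw [SubmonoidClass.coe_pow]; exact hel.2 a a.2.2)
  have hmul : Nat.card ↥(E ⊓ Q) * Q.relIndex E = Nat.card E := by
    rw [← inf_relIndex_left]
    exact CfsgLib.InvariantHall.relIndex_mul_card inf_le_left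
  have hE : q * W₁.relIndex E = Nat.card E :=
    CfsgLib.InvariantHall.relIndex_mul_card D.overData.left_le_compl
  have hcop : Nat.Coprime q (Q.relIndex E) := by
    have hQT : Q ≤ T := FittingHall.of_le T
    have h1 : Q.relIndex E ∣ Q.relIndex T := by
      haveI : (Q.subgroupOf T).Normal := normal_subgroupOf_of_le_normalizer hQn
      rw [← relIndex_subgroupOf (inf_le_right : E ≤ T)]
      exact relIndex_dvd_index_of_normal _ _
    have h2 : Q.relIndex T = Nat.card V * Nat.card W₂ := by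
      refine Nat.eq_of_mul_eq_mul_left (Nat.card_pos (α := Q)) ?_
      rw [CfsgLib.InvariantHall.relIndex_mul_card hQT, D.pair.symm.card_S, D.pair.symm.card_derived, mul_assoc]
    refine Nat.Coprime.coprime_dvd_right (h2 ▸ h1) (Nat.Coprime.mul_right ?_ ?_)
    · exact D.pair.symm.coprime_H_U.coprime_dvd_left (card_dvd_of_le D.pair.symm.right_le_H)
    · exact (Nat.coprime_primes hq (D.pair.prime_right hG hU)).2 fun e => D.pair.card_ne hG hU e.symm
  have h2 : q * q ∣ Nat.card ↥(E ⊓ Q) := by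
    refine (Nat.Coprime.mul_left hcop hcop).dvd_of_dvd_mul_right ?_
    rw [hmul, ← hE]
    exact mul_dvd_mul_left q hdvd
  exact absurd (Nat.le_of_dvd hq.pos (h2.trans hEQ)) (by nlinarith [hq.two_le])

/-- The arithmetic of the abelian case. -/
theorem abelian_arith (hab : IsMulCommutative ↥(Cfsg.sigmaCore L)) :
    3 ≤ W₁.relIndex (L ⊓ T) ∧
      2 * W₁.relIndex (L ⊓ T) ≤ Nat.card ↥(U ⊓ centralizer (Cfsg.fittingHallOf S : Set G)) + 1 ∧
      2 * Nat.card W₁ + 1 ≤ Nat.card ↥(U ⊓ centralizer (Cfsg.fittingHallOf S : Set G)) ∧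
      Nat.card ↥(U ⊓ centralizer (Cfsg.fittingHallOf S : Set G)) ^ 2 ∣ Nat.card U := by
  set C := U ⊓ centralizer (Cfsg.fittingHallOf S : Set G) with hC
  set E := L ⊓ T with hE
  set m := W₁.relIndex E
  set q := Nat.card W₁
  have hr := D.prime
  haveI := Fact.mk hr
  have hq := D.pair.prime_left hG hU
  have hcC : c ∈ C := ⟨D.mem, D.cent⟩
  have hEU : E ≤ normalizer (U : Set G) := inf_le_left.trans (D.U_normal_L hG hU hab)
  have hUc := D.pair.U_comm hG hU
  have hEodd : Odd (Nat.card E) := hG.1.of_dvd_nat E.card_subgroup_dvd_card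
  have hcardE : q * m = Nat.card E := CfsgLib.InvariantHall.relIndex_mul_card D.overData.left_le_compl
  obtain ⟨im, him⟩ : Odd m := hEodd.of_dvd_nat (Dvd.intro_left _ hcardE)
  have hm1 : m ≠ 1 := fun h1 =>
    D.core_ne hG hU (le_antisymm (relIndex_eq_one.1 h1) D.overData.left_le_compl) (D.core_eq hG hU hab)
  have hm3 : 3 ≤ m := by omega
  -- two conjugates of `C`
  obtain ⟨w, hwE, hwW⟩ : ∃ w ∈ E, w ∉ W₁ := by
    by_contra hno
    push Not at hno
    exact hm1 (relIndex_eq_one.2 hno)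
  set C' := C.map (MulAut.conj w).toMonoidHom with hC'
  have hC'U : C' ≤ U := by
    rintro _ ⟨z, hz, rfl⟩
    exact (mem_normalizer_iff.1 (hEU hwE) z).1 hz.1
  have hinf : C' ⊓ C = ⊥ := le_bot_iff.1 fun z hz => by
    obtain ⟨⟨y, hy, rfl⟩, hz'⟩ := hz
    refine mem_bot.2 (D.conj_disjoint hG hU hwE hwW hz' ?_)
    show w⁻¹ * (w * y * w⁻¹) * w ∈ C
    rwa [show w⁻¹ * (w * y * w⁻¹) * w = y by group]
  have hsq : Nat.card C ^ 2 ∣ Nat.card U := by
    have h1 := CfsgLib.Solvable.card_sup_of_disjoint (A := C') (K := C) (fun u hu =>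
      centralizer_le_normalizer _ (mem_centralizer_iff.2 fun v hv =>
        congrArg Subtype.val (hUc.is_comm.comm (⟨v, (show v ∈ C from hv).1⟩ : U) ⟨u, hC'U hu⟩))) hinf
    rw [card_map_of_injective (MulAut.conj w).injective, ← sq] at h1
    exact h1 ▸ card_dvd_of_le (sup_le hC'U inf_le_left)
  -- `C` is moved freely by `W₁`
  have hcq : 2 * q + 1 ≤ Nat.card C := by
    have hmod := card_modEq_one_of_fpf hq (A := W₁) rfl (D.left_normalizes_cent hG hU) fun x hx hfix => by
      obtain ⟨a, ha, ha1⟩ := D.pair.exists_left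
      exact D.pair.U_fixed hx.1 ha ha1 (hfix a ha)
    have h1 : 1 < Nat.card C := lt_of_lt_of_le hr.one_lt
      (Nat.le_of_dvd Nat.card_pos (Kap.dvd_of_mem hcC D.order))
    obtain ⟨i, hi⟩ := hG.1.of_dvd_nat C.card_subgroup_dvd_card
    obtain ⟨j, hj⟩ := (Nat.modEq_iff_dvd' h1.le).1 hmod.symm
    obtain ⟨iq, hiq⟩ := hG.1.of_dvd_nat W₁.card_subgroup_dvd_card
    change 2 * Nat.card W₁ + 1 ≤ _
    have hC1 : Nat.card C = Nat.card W₁ * j + 1 := by omega
    rcases j with _ | _ | j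
    · omega
    · omega
    · nlinarith
  -- the plane
  haveI := hUc
  let A : Subgroup G :=
    { carrier := {x | x ∈ U ∧ x ^ r = 1}
      one_mem' := ⟨U.one_mem, one_pow _⟩
      mul_mem' := fun {a b} ha hb => ⟨U.mul_mem ha.1 hb.1, by
        rw [(show Commute a b from congrArg Subtype.val (hUc.is_comm.comm ⟨a, ha.1⟩ ⟨b, hb.1⟩)).mul_pow,
          ha.2, hb.2, one_mul]⟩
      inv_mem' := fun {a} ha => ⟨U.inv_mem ha.1, by rw [inv_pow, ha.2, inv_one]⟩ }
  have hA : Cfsg.IsElementaryAbelian r A :=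
    ⟨⟨⟨fun a b => Subtype.ext (show (a : G) * b = b * a from
      congrArg Subtype.val (hUc.is_comm.comm (⟨a, a.2.1⟩ : U) ⟨b, b.2.1⟩))⟩⟩,
      fun a ha => ha.2⟩
  have hAp : IsPGroup r ↥A := fun a => ⟨1, Subtype.ext (by rw [pow_one, SubmonoidClass.coe_pow]; exact a.2.2)⟩
  have hEA : E ≤ normalizer (A : Set G) := fun e he => mem_normalizer_iff.2 fun x => by
    show x ∈ U ∧ x ^ r = 1 ↔ e * x * e⁻¹ ∈ U ∧ (e * x * e⁻¹) ^ r = 1
    rw [conj_pow, conj_eq_one_iff, ← mem_normalizer_iff.1 (hEU he) x]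
  have hAle : Nat.card A ≤ r ^ 2 := by
    obtain ⟨hd, hF, -⟩ := D.pair.decomp_II hG hU D.typeII
    obtain ⟨P, hP⟩ := ((hAp.comap_subtype (K := U)) : IsPGroup r (A.subgroupOf U)).exists_le_sylow
    have hrank := ((Cfsg.Agent.S1390.result hG S D.pair.coatom_S U
      (Or.inr ⟨D.typeII, D.pair.typeP_S.U_compl⟩)).1 r hr P).2
    have h1 := hrank ((A.subgroupOf U).subgroupOf (P : Subgroup U))
      ⟨⟨fun a b => Subtype.ext (Subtype.ext (hUc.is_comm.comm _ _))⟩⟩
      (fun a ha => Subtype.ext (Subtype.ext (by simpa using (show ((a : U) : G) ∈ A from ha).2)))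
    rwa [Nat.card_congr (subgroupOfEquivOfLe (show A.subgroupOf U ≤ ↑P from hP)).toEquiv,
      Nat.card_congr (subgroupOfEquivOfLe (show A ≤ U from fun x hx => hx.1)).toEquiv] at h1
  have hcA : c ∈ A := ⟨D.mem, by rw [← D.order, pow_orderOf_eq_one]⟩
  set c' := w * c * w⁻¹
  have hc'A : c' ∈ A := (mem_normalizer_iff.1 (hEA hwE) c).1 hcA
  have hAcard : Nat.card A = r ^ 2 := by
    have h1 : zpowers c ⊓ zpowers c' = ⊥ := le_bot_iff.1 ((inf_le_inf (zpowers_le.2 hcC)
      (zpowers_le.2 (show c' ∈ C' from ⟨c, hcC, rfl⟩))).trans (le_of_eq (by rw [inf_comm]; exact hinf)))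
    have h2 := CfsgLib.Solvable.card_sup_of_disjoint (A := zpowers c) (K := zpowers c')
      (zpowers_le.2 (centralizer_le_normalizer _ (mem_centralizer_iff.2 fun v hv => congrArg Subtype.val
        (hA.1.is_comm.comm (⟨v, zpowers_le.2 hc'A hv⟩ : A) ⟨c, hcA⟩)))) h1
    rw [Nat.card_zpowers, Nat.card_zpowers, show orderOf c' = orderOf c from (MulAut.conj w).orderOf_eq c,
      D.order] at h2
    exact le_antisymm hAle (by rw [sq, ← h2]; exact card_le_of_le (sup_le (zpowers_le.2 hcA) (zpowers_le.2 hc'A)))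
  -- the complement is cyclic
  have hrE : ¬ r ∣ Nat.card E := fun h => (Compl.card_eq hG D.overData.coatom D.overData.compl).2.2 r hr h
    (Kap.mem_sigma_of_mem_core hG D.overData.coatom hr D.mem_core D.order)
  have hr2 : r ≠ 2 := CfsgLib.CN.MinSimple.p_ne_two hG (D.order ▸ orderOf_dvd_natCard c)
  have hnarrow : Cfsg.IsNarrow r ↥A := Or.inl fun B _ _ => (Subgroup.card_le_card_group B).trans hAle
  have hder := Kap.derived_centralizes hr2 hAp hnarrow hEA hEodd hrE
  have hEc : ∀ a ∈ E, ∀ b ∈ E, Commute a b := fun a ha b hb => by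
    rw [← commutatorElement_eq_one_iff_commute]
    exact D.overData.compl_fpf (E.mul_mem (E.mul_mem (E.mul_mem ha hb) (E.inv_mem ha)) (E.inv_mem hb))
      D.mem_core D.ne_one (mem_centralizer_iff.1 (hder (commutator_mem_commutator ha hb)) c hcA).symm
  haveI : Nontrivial ↥(Cfsg.sigmaCore L) := ⟨⟨⟨c, D.mem_core⟩, 1, fun e => D.ne_one (congrArg Subtype.val e)⟩⟩
  let φ : ↥E →* MulAut ↥(Cfsg.sigmaCore L) := (normalizerMonoidHom (Cfsg.sigmaCore L)).comp
    (inclusion (inf_le_left.trans (TH.le_normalizer_core L)))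
  have hfpf : CfsgLib.Frobenius.IsFpf φ := fun a ha x hx => by
    refine by_contra fun hx1 => ha ?_
    refine Subtype.ext (D.overData.compl_fpf a.2 x.2 (fun e => hx1 (Subtype.ext e)) ?_)
    exact mul_inv_eq_iff_eq_mul.1 (congrArg Subtype.val hx)
  haveI := CfsgLib.Frobenius.IsFpf.isCyclic_of_comm hfpf fun a b => Subtype.ext (hEc a a.2 b b.2).eq
  obtain ⟨g, hg⟩ := IsCyclic.exists_generator (α := ↥E)
  have hgo : orderOf (g : G) = q * m := by
    rw [Subgroup.orderOf_coe, orderOf_eq_card_of_forall_mem_zpowers hg, hcardE]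
  set E₀ := zpowers ((g : G) ^ q) with hE₀
  have hE₀E : E₀ ≤ E := zpowers_le.2 (E.pow_mem g.2 q)
  have hE₀c : Nat.card E₀ = m := by
    rw [hE₀, Nat.card_zpowers, orderOf_pow, hgo, Nat.gcd_eq_right (Dvd.intro m rfl),
      Nat.mul_div_cancel_left _ hq.pos]
  have hfree : ∀ e ∈ E₀, e * c * e⁻¹ ∈ zpowers c → e = 1 := by
    intro e he hec
    have hc'1 : e * c * e⁻¹ ≠ 1 := fun h => D.ne_one (conj_eq_one_iff.1 h)
    have hm := D.line_fusion hG hU (hE₀E he).1 (mem_zpowers c) D.ne_one hec hc'1 rfl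
    have heW : e ∈ W₁ := (D.compl_inf_S hG hU).le
      ⟨hE₀E he, sup_le D.pair.U_le_S D.pair.left_le hm⟩
    have hd : orderOf e ∣ q := Kap.dvd_of_mem heW rfl
    have hd' : orderOf e ∣ m := hE₀c ▸ Kap.dvd_of_mem he rfl
    rcases (Nat.dvd_prime hq).1 hd with h | h
    · exact orderOf_eq_one_iff.1 h
    · exact absurd (h ▸ hd') (D.not_dvd_m hG hU)
  have hdvd := card_dvd_of_plane hA hAcard (hE₀E.trans hEA)
    (fun a ha b hb => hEc a (hE₀E ha) b (hE₀E hb))
    (fun e he a ha ha1 hc => D.overData.compl_fpf (hE₀E he) (D.overData.le_core ha.1) ha1 hc.eq) hcA hfree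
  rw [hE₀c] at hdvd
  have hrc : r ≤ Nat.card C := Nat.le_of_dvd Nat.card_pos (Kap.dvd_of_mem hcC D.order)
  obtain ⟨i2, hi2⟩ : Odd r := hr.odd_of_ne_two hr2
  refine ⟨hm3, ?_, hcq, hsq⟩
  rcases hdvd with hd | hd
  · obtain ⟨j, hj⟩ := hd
    rcases j with _ | _ | j
    · have := hr.two_le; omega
    · omega
    · nlinarith [hr.two_le, Nat.sub_add_cancel hr.one_le]
  · obtain ⟨j, hj⟩ := hd
    rcases j with _ | _ | j
    · omega
    · omega
    · nlinarith

end Unfaithful

end CfsgLib.OddEnd
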