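import Cfsg.Agent.OddEnd.FrobeniusSideCoherence
import Cfsg.Agent.OddEnd.FrobeniusSide
import Cfsg.Agent.OddEnd.TenSystem
import Cfsg.Agent.OddEnd.ThirteenEnergy

/-!
Peterfalvi 13, abelian kernel: the coherent images of the characters induced from the kernel of a Frobenius
maximal subgroup are orthogonal to a cyclic TI family off the Dade support.
-/

set_option autoImplicit false
set_option linter.style.haveILetI false

namespace CfsgLib.OddEnd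

open Subgroup Cfsg CfsgLib.OddLocal CfsgLib.OddLocal.Kap CfsgLib.Char

universe u

theorem exists_psi {G : Type u} [Group G] [Fintype G] {L W₁ W₂ : Subgroup G} [Fintype L]
    (hG : Cfsg.IsMinSimpleOddOrder G) (hL : IsCoatom L) (hκ : Cfsg.kappa L = ∅) (hF : KernelFrobenius L)
    (hab : IsMulCommutative ↥(Cfsg.sigmaCore L)) {p : ℕ} (hp : p.Prime) {z : G} (hz : z ∈ Cfsg.sigmaCore L)
    (hzo : orderOf z = p) (hzC : ¬ Subgroup.centralizer ({z} : Set G) ≤ L)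
    (hW : Cfsg.IsSelfNormalizingCyclic W₁ W₂) {χ : (↥(W₁ ⊔ W₂) →* ℂˣ) → G → ℂ}
    (hχ : Cfsg.IsCyclicTIFamily W₁ W₂ χ)
    (hdis : ∀ w ∈ W₁ ⊔ W₂, w ∉ W₁ → w ∉ W₂ → w ∉ dadeSupp (core1 L) (Cfsg.supportR L)) :
    ∃ ψ : (L → ℂ) → G → ℂ, ∀ ζ ∈ Cfsg.inducedIrrAbove ((Cfsg.sigmaCore L).subgroupOf L) ⊥,
      IsSignedIrr (ψ ζ) ∧ (∀ ω, Cfsg.classInner (ψ ζ) (χ ω) = 0) ∧
      ∀ ζ' ∈ Cfsg.inducedIrrAbove ((Cfsg.sigmaCore L).subgroupOf L) ⊥,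
        (ζ ≠ ζ' → Cfsg.classInner (ψ ζ) (ψ ζ') = 0) ∧ (ζ - ζ') 1 = 0 ∧
        ψ ζ - ψ ζ' = Cfsg.dadeIsometry (core1 L) L (Cfsg.supportR L) (ζ - ζ') := by
  classical
  set K := (Cfsg.sigmaCore L).subgroupOf L with hKdef
  haveI hKn : K.Normal := by rw [hKdef, comap_core]; infer_instance
  have hC : ∀ a ∈ K, a ≠ 1 → centralizer ({a} : Set L) ≤ K := kernel_centralizer_le hF
  have hD := dade_core hG hL hκ
  obtain ⟨-, τ₁, hτ₁, hag⟩ := kernel_coherent hG hL hκ hF hp hz hzo hzC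
  rw [← hKdef] at hτ₁ hag
  set S := Cfsg.inducedIrrAbove K ⊥ with hSdef
  set τ := Cfsg.dadeIsometry (core1 L) L (Cfsg.supportR L) with hτdef
  have hSeq : S = relevantChars K := inducedIrrAbove_bot_eq (A := K) hC
  have hirr : ∀ ζ ∈ S, Cfsg.IsIrrCharacter L ζ := fun ζ hζ => (hSeq ▸ hζ : ζ ∈ relevantChars K).1
  have hKc : ∀ a b : K, a * b = b * a := fun a b =>
    (subgroupOfEquivOfLe (map_subtype_le _) : K ≃* Cfsg.sigmaCore L).injective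
      (by rw [map_mul, map_mul]; exact hab.is_comm.comm _ _)
  have hdeg : ∀ ζ ∈ S, ζ 1 = (K.index : ℂ) := fun ζ hζ => by
    obtain ⟨θ, h1, -, -, rfl⟩ := hζ
    rw [indFun_one, IsIrrCharacter.apply_one_eq_one h1 hKc, mul_one]
  have hsupp : ∀ ζ ∈ S, ∀ a : L, (a : G) ∉ core1 L → a ≠ 1 → ζ a = 0 := fun ζ hζ a ha ha1 =>
    relevant_apply_eq_zero hC (hSeq ▸ hζ) fun haK => ha ⟨haK, fun e => ha1 (Subtype.ext e)⟩
  have hmap : ∀ ζ ∈ S, ∀ ζ' ∈ S, τ₁ ζ - τ₁ ζ' = τ (ζ - ζ') := fun ζ hζ ζ' hζ' => by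
    rw [← hag _ (mem_zspanOn_one.2 ⟨Submodule.sub_mem _ (subset_zspan hζ) (subset_zspan hζ'),
        by rw [Pi.sub_apply, hdeg ζ hζ, hdeg ζ' hζ', sub_self]⟩),
      isometry_map_sub (M := Submodule.span ℤ S) hτ₁ (subset_zspan hζ) (subset_zspan hζ')]
  have hiso : ∀ ζ ∈ S, ∀ ζ' ∈ S, Cfsg.classInner (τ₁ ζ) (τ₁ ζ') = if ζ = ζ' then 1 else 0 :=
    fun ζ hζ ζ' hζ' => by
      rw [hτ₁.2.2.1 ζ (subset_zspan hζ) ζ' (subset_zspan hζ')]
      exact IsIrrCharacter.classInner_eq (hirr ζ hζ) (hirr ζ' hζ')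
  refine ⟨τ₁, fun ζ hζ => ?_⟩
  have hsig : IsSignedIrr (τ₁ ζ) := IsGeneralized.isIrr_or_neg (hτ₁.2.2.2 ζ (subset_zspan hζ))
    (by rw [hiso ζ hζ ζ hζ, if_pos rfl])
  refine ⟨hsig, ?_, fun ζ' hζ' => ⟨fun h => by rw [hiso ζ hζ ζ' hζ', if_neg h],
    by rw [Pi.sub_apply, hdeg ζ hζ, hdeg ζ' hζ', sub_self], hmap ζ hζ ζ' hζ'⟩⟩
  have hoddL : Odd (Nat.card L) := hG.1.of_dvd_nat L.card_subgroup_dvd_card
  have hζc : Cfsg.conjFun ζ ∈ S := conjFun_mem_inducedIrrAbove hζ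
  have hζne : Cfsg.conjFun ζ ≠ ζ := fun h => by
    obtain ⟨θ, h1, h2, -, h3⟩ := id hζ
    have h0 : Cfsg.classInner (Cfsg.conjFun ζ) ζ = 0 :=
      h3 ▸ classInner_conj_indFun_eq_zero hoddL h1 h2
    rw [h, IsIrrCharacter.classInner_self (hirr ζ hζ)] at h0
    exact one_ne_zero h0
  obtain ⟨μ, hμ, hτμ⟩ := dade_exists_conj_pair hD (hirr ζ hζ) (fun a ha1 ha => hsupp ζ hζ a ha ha1)
  change τ (ζ - Cfsg.conjFun ζ) = μ - Cfsg.conjFun μ at hτμ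
  have hone : Cfsg.classInner (μ - Cfsg.conjFun μ) (τ₁ ζ) = 1 := by
    rw [← hτμ, ← hmap ζ hζ _ hζc, classInner_sub_left, hiso ζ hζ ζ hζ, hiso _ hζc ζ hζ, if_pos rfl,
      if_neg hζne, sub_zero]
  have hμne : Cfsg.conjFun μ ≠ μ := fun h => by
    rw [h, sub_self] at hone
    simp [classInner_def] at hone
  have hodd : Odd (Nat.card ↥(W₁ ⊔ W₂)) := hG.1.of_dvd_nat (W₁ ⊔ W₂).card_subgroup_dvd_card
  have horth := orth_family_of_pair hW hodd hχ hμ hμne fun w hw₁ hw₂ => by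
    rw [← hτμ]
    exact dadeIsometry_eq_zero hD (hdis w w.2 hw₁ hw₂)
  intro ω
  obtain ⟨c, ν, -, hν, hψν⟩ := IsSignedIrr.exists_smul hsig
  rw [hψν, classInner_smul_left]
  refine mul_eq_zero_of_right _ ?_
  by_cases hμν : μ = ν
  · exact hμν ▸ (horth ω).1
  by_cases hμν' : Cfsg.conjFun μ = ν
  · exact hμν' ▸ (horth ω).2
  exfalso
  rw [hψν, classInner_smul_right, classInner_sub_left, IsIrrCharacter.classInner_of_ne hμ hν hμν,
    IsIrrCharacter.classInner_of_ne (χ := Cfsg.conjFun μ) (IsIrrCharacter.conj hμ) hν hμν',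
    sub_zero, mul_zero] at hone
  exact one_ne_zero hone.symm

end CfsgLib.OddEnd
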