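import Cfsg.Agent.OddEnd.ThirteenBeta
import Cfsg.Agent.OddEnd.ThirteenPlane
import Cfsg.Agent.OddEnd.ThirteenMass
import Cfsg.Agent.OddEnd.ThirteenPsi
import Cfsg.Agent.OddEnd.TenFamily
import Cfsg.Agent.Char.CyclicExist

/-!
Peterfalvi 13, abelian kernel: the virtual character from `1 - λ` expressed by the cyclic family and the coherent
images of the characters of `L`.
-/

set_option autoImplicit false
set_option linter.unusedSectionVars false
set_option linter.style.haveILetI false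

namespace CfsgLib.OddEnd

open Subgroup CfsgLib.OddLocal CfsgLib.Char
open scoped ComplexConjugate

universe u

section Arith

/-- An additive array plus the pair `1 - η`, of norm at most `2`, is that pair; its norm is at least `2`. -/
theorem unit_pair_rigid {R C : Type*} [Fintype R] [Fintype C] [DecidableEq R] [DecidableEq C] (r₀ : R) (c₀ j : C)
    (hj : j ≠ c₀) (hR : 3 ≤ Fintype.card R) (t : R → ℤ) (u : C → ℤ) (ht : t r₀ = 0) (hu : u c₀ = 0)
    (x : R → C → ℤ) (hx : ∀ r l, x r l =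
      t r + u l + (if r = r₀ then (if l = c₀ then 1 else if l = j then -1 else 0) else 0)) :
    2 ≤ ∑ l, ∑ r, x r l * x r l ∧
      (∑ l, ∑ r, x r l * x r l ≤ 2 → (∀ r, t r = 0) ∧ ∀ l, u l = 0) := by
  set S : C → ℤ := fun l => ∑ r, x r l * x r l with hS
  have hnn : ∀ l, 0 ≤ S l := fun l => Finset.sum_nonneg fun r _ => mul_self_nonneg _
  have hone : ∀ l r, x r l ≠ 0 → 1 ≤ S l := fun l r hr =>
    (one_le_mul_self hr).trans
      (Finset.single_le_sum (f := fun r => x r l * x r l) (fun r _ => mul_self_nonneg _) (Finset.mem_univ r))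
  have hoff : ∀ r, r ≠ r₀ → ∀ l, x r l = t r + u l := fun r hr l => by simp [hx, hr]
  have hc0 : S c₀ = 1 + ∑ r ∈ Finset.univ.erase r₀, t r * t r := by
    simp only [hS]
    rw [← Finset.add_sum_erase _ _ (Finset.mem_univ r₀)]
    congr 1
    · simp [hx, ht, hu]
    · exact Finset.sum_congr rfl fun r hr => by rw [hoff r (Finset.ne_of_mem_erase hr), hu, add_zero]
  have hcol : ∀ l, u l ≠ 0 → (∀ r, t r = 0) → 2 ≤ S l := fun l hl h0 => by
    have h1 := (card_le_sum_mul_self (Finset.univ.erase r₀) (fun r => x r l) fun r hr => by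
      rw [hoff r (Finset.ne_of_mem_erase hr), h0, zero_add]; exact hl).trans (sum_mul_self_mono _ _)
    rw [Finset.card_erase_of_mem (Finset.mem_univ r₀), Finset.card_univ] at h1
    have : (2 : ℤ) ≤ ((Fintype.card R - 1 : ℕ) : ℤ) := by exact_mod_cast (by omega : 2 ≤ Fintype.card R - 1)
    linarith
  have htwo : S c₀ + S j ≤ ∑ l, S l := by
    have e : ∑ l ∈ ({c₀, j} : Finset C), S l ≤ ∑ l, S l :=
      Finset.sum_le_sum_of_subset_of_nonneg (Finset.subset_univ _) fun l _ _ => hnn l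
    rwa [Finset.sum_pair hj.symm] at e
  change 2 ≤ ∑ l, S l ∧ (∑ l, S l ≤ 2 → _)
  by_cases htz : ∀ r, t r = 0
  · have h1 : S c₀ = 1 := by simp [hc0, htz]
    have hj1 : 1 ≤ S j := by
      by_cases e : u j = 0
      · exact hone j r₀ (by simp [hx, ht, e, hj])
      · linarith [hcol j e htz]
    refine ⟨by linarith, fun hle => ⟨htz, fun l => ?_⟩⟩
    by_contra hl
    have h2 := hcol l hl htz
    have hl0 : l ≠ c₀ := fun e => hl (e ▸ hu)
    by_cases e : l = j
    · subst e; linarith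
    have e3 : ∑ m ∈ ({c₀, j, l} : Finset C), S m ≤ ∑ m, S m :=
      Finset.sum_le_sum_of_subset_of_nonneg (Finset.subset_univ _) fun l _ _ => hnn l
    rw [Finset.sum_insert (by simp [hj.symm, Ne.symm hl0]), Finset.sum_pair (Ne.symm e)] at e3
    linarith
  · push Not at htz
    obtain ⟨r₁, hr₁⟩ := htz
    have hr10 : r₁ ≠ r₀ := fun e => hr₁ (e ▸ ht)
    have h1 : 2 ≤ S c₀ := by
      have : (1 : ℤ) ≤ ∑ r ∈ Finset.univ.erase r₀, t r * t r := (one_le_mul_self hr₁).trans
        (Finset.single_le_sum (f := fun r => t r * t r) (fun r _ => mul_self_nonneg _)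
          (Finset.mem_erase.2 ⟨hr10, Finset.mem_univ _⟩))
      linarith
    refine ⟨by linarith [hnn j], fun hle => absurd hr₁ ?_⟩
    have hj0 : ∀ r, x r j = 0 := fun r => by
      by_contra hh; linarith [hone j r hh]
    have huj : u j = 1 := by
      have := hj0 r₀
      simp only [hx, if_true, if_neg hj, ht] at this
      linarith
    have htr : ∀ r ∈ Finset.univ.erase r₀, t r ≠ 0 := fun r hr => by
      have := hj0 r
      rw [hoff r (Finset.ne_of_mem_erase hr), huj] at this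
      omega
    have h2 := card_le_sum_mul_self (Finset.univ.erase r₀) t htr
    rw [Finset.card_erase_of_mem (Finset.mem_univ r₀), Finset.card_univ] at h2
    have : (2 : ℤ) ≤ ((Fintype.card R - 1 : ℕ) : ℤ) := by exact_mod_cast (by omega : 2 ≤ Fintype.card R - 1)
    linarith [hnn j]

set_option maxHeartbeats 1000000 in
/-- The arithmetic of the Bessel inequality. -/
theorem mass_arith {k X Y c q m v : ℕ} (hq : 3 ≤ q) (hm : 3 ≤ m) (hc : 2 * m ≤ c + 1)
    (hv : 1 ≤ v) (h1 : k * (q * m) + 1 = c * (c * v)) (h2 : q * X + 1 = c * v)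
    (h3 : c * (q * q * Y + q * m) = c * (c * v) * q + (q * m - q) * (c * v))
    {b : ℤ} (hle : (k : ℤ) * b ^ 2 + 2 * b * X + Y ≤ X) :
    v = 1 ∧ (k : ℤ) * b ^ 2 + 2 * b * X + Y = X := by
  have hqm : q ≤ q * m := Nat.le_mul_of_pos_right q (by omega)
  have z1 : (k : ℤ) * (q * m) + 1 = c * (c * v) := by exact_mod_cast h1
  have z2 : (q : ℤ) * X + 1 = c * v := by exact_mod_cast h2
  have z3 : (c : ℤ) * (q * q * Y + q * m) = c * (c * v) * q + (q * m - q) * (c * v) := by
    have := congrArg (Nat.cast : ℕ → ℤ) h3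
    push_cast [Nat.cast_sub hqm] at this
    exact this
  have hc0 : (0 : ℤ) < c := by omega
  have hq0 : (0 : ℤ) < q := by omega
  have hY : (q : ℤ) * Y = c * v + (m - 1) * v - m := by
    refine mul_left_cancel₀ (mul_ne_zero hc0.ne' hq0.ne') ?_
    linear_combination z3
  have hm' : (3 : ℤ) ≤ m := by exact_mod_cast hm
  have hc' : 2 * (m : ℤ) ≤ c + 1 := by exact_mod_cast hc
  have hv' : (1 : ℤ) ≤ v := by exact_mod_cast hv
  have hqYX : (q : ℤ) * (Y - X) = (m - 1) * (v - 1) := by linear_combination hY - z2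
  have hk1 : 1 ≤ (k : ℤ) := by
    rcases Nat.eq_zero_or_pos k with e | e
    · subst e
      have : c ≤ c * (c * v) := Nat.le_mul_of_pos_right c (Nat.mul_pos (by omega) (by omega))
      omega
    · exact_mod_cast e
  have hX0 : (0 : ℤ) ≤ X := Int.natCast_nonneg X
  have hge : 0 ≤ ((m : ℤ) - 1) * (v - 1) := mul_nonneg (by linarith) (by linarith)
  rcases lt_trichotomy b 0 with hb | hb | hb
  · have hK : (q : ℤ) * m * ((k : ℤ) - 2 * X + Y - X) =
        ((v : ℤ) - 1) * ((c - m) ^ 2 - m) + (c - 1) * (c + 1 - 2 * m) := by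
      linear_combination z1 - 2 * (m : ℤ) * z2 + (m : ℤ) * hqYX
    have hm2 : (m : ℤ) < (c - m) ^ 2 := by
      nlinarith [mul_le_mul (show (m : ℤ) - 1 ≤ c - m by linarith) (show (m : ℤ) - 1 ≤ c - m by linarith)
        (by linarith) (by linarith)]
    have hA : 0 ≤ ((v : ℤ) - 1) * ((c - m) ^ 2 - m) := mul_nonneg (by linarith) (by linarith)
    have hB : 0 ≤ ((c : ℤ) - 1) * (c + 1 - 2 * m) := mul_nonneg (by linarith) (by linarith)
    have hqm0 : (0 : ℤ) < q * m := mul_pos hq0 (by linarith)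
    rcases (show b = -1 ∨ b ≤ -2 by omega) with rfl | hb2
    · have hle' : (q : ℤ) * m * ((k : ℤ) - 2 * X + Y - X) ≤ 0 :=
        mul_nonpos_iff.2 (Or.inl ⟨hqm0.le, by linarith⟩)
      have hv1 : v = 1 := by
        by_contra hne
        have hv2 : (2 : ℤ) ≤ v := by exact_mod_cast (by omega : 2 ≤ v)
        nlinarith
      refine ⟨hv1, ?_⟩
      have e0 : ((v : ℤ) - 1) * ((c - m) ^ 2 - m) + (c - 1) * (c + 1 - 2 * m) = 0 := by linarith
      rw [← hK, mul_eq_zero, or_iff_right hqm0.ne'] at e0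
      linear_combination e0
    · exfalso
      have hX3 : (2 * X : ℤ) < 3 * k := by
        by_contra hcon
        push Not at hcon
        have h4 : 3 * ((c : ℤ) * (c * v) - 1) ≤ 2 * m * (c * v - 1) := by
          have := mul_le_mul_of_nonneg_left hcon hqm0.le
          linear_combination this - 3 * z1 + 2 * (m : ℤ) * z2
        have hcv : 5 ≤ (c : ℤ) * v := le_trans (by linarith) (le_mul_of_one_le_right hc0.le hv')
        linarith [mul_le_mul_of_nonneg_right hc' (show (0 : ℤ) ≤ c * v - 1 by linarith),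
          mul_le_mul_of_nonneg_right (show (1 : ℤ) ≤ c by linarith) (show (0 : ℤ) ≤ c * v by linarith)]
      have hneg : (k : ℤ) * (b - 1) + 2 * X < 0 := by
        linarith [mul_le_mul_of_nonneg_left (show b - 1 ≤ -3 by linarith) (Int.natCast_nonneg k)]
      have hpos : 0 < (b + 1) * ((k : ℤ) * (b - 1) + 2 * X) := mul_pos_of_neg_of_neg (by linarith) hneg
      have e : (b + 1) * ((k : ℤ) * (b - 1) + 2 * X) =
          ((k : ℤ) * b ^ 2 + 2 * b * X) - ((k : ℤ) - 2 * X) := by ring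
      have : (q : ℤ) * m * ((k : ℤ) - 2 * X + Y - X) < 0 := mul_neg_of_pos_of_neg hqm0 (by linarith)
      linarith
  · subst hb
    have h4 : ((m : ℤ) - 1) * (v - 1) ≤ 0 := by
      rw [← hqYX]; exact mul_nonpos_iff.2 (Or.inl ⟨hq0.le, by linarith⟩)
    have hv1 : (v : ℤ) = 1 := by nlinarith
    refine ⟨by exact_mod_cast hv1, ?_⟩
    have e0 : (q : ℤ) * (Y - X) = 0 := by rw [hqYX, hv1]; ring
    rw [mul_eq_zero, or_iff_right hq0.ne'] at e0
    linear_combination e0
  · exfalso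
    have hb1 : 1 ≤ b := by omega
    have hYX : 0 ≤ (Y : ℤ) - X := by
      by_contra hcon
      nlinarith
    nlinarith [mul_le_mul hk1 (one_le_pow₀ (n := 2) hb1) (by norm_num) (by linarith),
      mul_nonneg (show (0 : ℤ) ≤ 2 * b by linarith) hX0]

end Arith

variable {G : Type u} [Group G] [Fintype G]

namespace Unfaithful

variable {S T W₁ W₂ U V L : Subgroup G} {r : ℕ} {c : G} (D : Unfaithful S T W₁ W₂ U V L r c)
variable (hG : Cfsg.IsMinSimpleOddOrder G) (hU : Upto12 G) (hab : IsMulCommutative ↥(Cfsg.sigmaCore L))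
include D hG hU hab

/-- An element whose order divides `p q` lies outside the support of the Dade map of `L`. -/
theorem not_mem_supp {g : G} (hg : g ^ (Nat.card W₂ * Nat.card W₁) = 1) :
    g ∉ dadeSupp (core1 L) (Cfsg.supportR L) := by
  rintro ⟨a, ha, u, hu, x, hx⟩
  have hDL := dade_core hG D.overData.coatom D.overData.kappa_empty
  set N := Nat.card W₂ * Nat.card W₁
  have hau : Commute a u := (mem_centralizer_singleton_iff.1 (hDL.le_centralizer a ha hu)).symm
  have h1 : a ^ N * u ^ N = 1 := by rw [← hau.mul_pow, ← hx, conj_pow, hg, mul_one, mul_inv_cancel]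
  have h2 : a ^ N = 1 := mem_bot.1 ((hDL.inf_eq_bot a ha).le
    ⟨by rw [eq_inv_of_mul_eq_one_left h1]; exact Subgroup.inv_mem _ (Subgroup.pow_mem _ hu N),
      ⟨L.pow_mem (hDL.subset ha) N, mem_centralizer_singleton_iff.2 ((Commute.refl a).pow_left N).eq⟩⟩)
  have haU : a ∈ U := D.core_eq hG hU hab ▸ ha.1
  have hcop : (Nat.card U).Coprime N := Nat.Coprime.mul_right
    (D.pair.coprime_H_U.symm.coprime_dvd_right (card_dvd_of_le D.pair.right_le_H)) D.pair.coprime_U_left
  exact ha.2 (orderOf_eq_one_iff.1 (Nat.eq_one_of_dvd_coprimes hcop (U.orderOf_dvd_natCard haU)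
    (orderOf_dvd_iff_pow_eq_one.2 h2)))

theorem dom_outside_pow {y : G} (hy : y ∈ muDom S W₁ U) (hk : y ∉ muKer S U) :
    y ^ (Nat.card W₂ * Nat.card W₁) = 1 := by
  obtain ⟨x, -, a, ha, -, b, hb, rfl⟩ := D.pair.dom_outside_conj hG hU hy hk
  rw [conj_pow, conj_eq_one_iff, (show Commute b a from (D.pair.left_centralizes ha hb).symm).mul_pow,
    orderOf_dvd_iff_pow_eq_one.1 (dvd_mul_of_dvd_left (Kap.dvd_of_mem hb rfl) _),
    orderOf_dvd_iff_pow_eq_one.1 (dvd_mul_of_dvd_right (Kap.dvd_of_mem ha rfl) _), one_mul]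

theorem H_not_mem_supp {x : G} (hx : x ∈ Cfsg.fittingHallOf S) :
    x ∉ dadeSupp (core1 L) (Cfsg.supportR L) :=
  D.not_mem_supp hG hU hab (by rw [pow_mul, (D.pair.elem hG hU).2 x hx, one_pow])

/-- The Dade map on `C H`. -/
theorem dade_ker [Fintype L] {α : L → ℂ} (hα : Cfsg.IsClassFunction L α) {z x : G}
    (hz : z ∈ centPart S U) (hz1 : z ≠ 1) (hx : x ∈ Cfsg.fittingHallOf S) :
    Cfsg.dadeIsometry (core1 L) L (Cfsg.supportR L) α (z * x) = α ⟨z, D.U_le_L hz.1⟩ :=
  dadeIsometry_apply (dade_core hG D.overData.coatom D.overData.kappa_empty) hα (a := ⟨z, D.U_le_L hz.1⟩)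
    (x := 1) (u := x) ⟨D.overData.le_core hz.1, hz1⟩
    (by rw [(D.supportR_cent hG hU hz hz1).2]; exact hx) (by simp)

/-- The image of `α` against the virtual character only sees `C`. -/
theorem beta_dade [Fintype L] [Fintype ↥(centPart S U)] {lam : G → ℂ} (M : MuChar S W₁ W₂ U lam)
    {α : L → ℂ} (hα : Cfsg.IsClassFunction L α) (hα1 : α 1 = 0) :
    Cfsg.classInner (betaG S W₁ U lam) (Cfsg.dadeIsometry (core1 L) L (Cfsg.supportR L) α) =
      (Nat.card ↥(centPart S U) * Nat.card W₁ : ℂ)⁻¹ *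
        ∑ z : ↥(centPart S U), conj (α ⟨z, D.U_le_L z.2.1⟩) := by
  classical
  have h := D.pair
  have hDL := dade_core hG D.overData.coatom D.overData.kappa_empty
  set H := Cfsg.fittingHallOf S
  set X := muDom S W₁ U
  set N := muKer S U
  set C := centPart S U
  set τα := Cfsg.dadeIsometry (core1 L) L (Cfsg.supportR L) α
  have hτcl : Cfsg.IsClassFunction G τα := isClassFunction_dadeIsometry hDL hα
  have hzero : ∀ g, g ∉ dadeSupp (core1 L) (Cfsg.supportR L) → τα g = 0 := fun g hg =>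
    dadeIsometry_eq_zero hDL hg
  let Φ : C × H → N := fun P => ⟨(P.1 : G) * P.2, N.mul_mem (mem_sup_left P.1.2) (mem_sup_right P.2.2)⟩
  have hinj : Function.Injective Φ := by
    rintro ⟨z, x⟩ ⟨z', x'⟩ e
    have e' : (z : G) * x = z' * x' := congrArg Subtype.val e
    have h1 : (z' : G)⁻¹ * z ∈ H ⊓ U := ⟨by
      rw [show (z' : G)⁻¹ * z = x' * (x : G)⁻¹ by
        rw [eq_mul_inv_of_mul_eq e']; group]
      exact H.mul_mem x'.2 (H.inv_mem x.2), U.mul_mem (U.inv_mem z'.2.1) z.2.1⟩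
    rw [h.H_inf_U, mem_bot, inv_mul_eq_one] at h1
    have hz : z = z' := Subtype.ext h1.symm
    subst hz
    exact Prod.ext rfl (Subtype.ext (mul_left_cancel e'))
  have hbij : Function.Bijective Φ := (Fintype.bijective_iff_injective_and_card Φ).2 ⟨hinj, by
    rw [← Nat.card_eq_fintype_card, ← Nat.card_eq_fintype_card, Nat.card_prod, M.card_ker h hG hU]⟩
  have hH : ∑ x : H, lam (x : G) = 0 := by
    obtain ⟨μ, hμ⟩ := M.isHom
    set l := μ.comp (inclusion (le_sup_right : H ≤ X))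
    have hl : ∀ x : H, lam x = (l x : ℂ) := fun x => hμ ⟨x, mem_sup_right x.2⟩
    obtain ⟨b, hb, hb1⟩ := (Subgroup.bot_or_exists_ne_one W₂).resolve_left h.typeP_S.selfNormalizing.2.1
    have hne : l ≠ 1 := fun e => M.right_ne b hb hb1 (by
      rw [show lam b = _ from hl ⟨b, h.right_le_H hb⟩, e]; rfl)
    rw [← sum_hom_units_eq_zero ((Units.coeHom ℂ).comp l)
      fun e => hne (MonoidHom.ext fun c => Units.ext (DFunLike.congr_fun e c))]
    exact Finset.sum_congr rfl fun y _ => hl y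
  rw [M.beta_inner hτcl, ← Finset.sum_filter_add_sum_filter_not (Finset.univ : Finset X) (fun y => (y : G) ∈ N)]
  rw [Finset.sum_eq_zero (s := Finset.univ.filter (fun y : X => ¬ (y : G) ∈ N)) fun y hy => by
    rw [hzero y (D.not_mem_supp hG hU hab (D.dom_outside_pow hG hU hab y.2 (Finset.mem_filter.1 hy).2)),
      map_zero, mul_zero], add_zero,
    show ∑ y ∈ Finset.univ.filter (fun y : X => (y : G) ∈ N), (1 - lam y) * conj (τα y) =
        ∑ y : N, (1 - lam y) * conj (τα y) from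
      Finset.sum_bij' (fun y hy => (⟨y, (Finset.mem_filter.1 hy).2⟩ : N))
        (fun y _ => (⟨y, h.muKer_le_dom y.2⟩ : X)) (fun _ _ => Finset.mem_univ _)
        (fun y _ => Finset.mem_filter.2 ⟨Finset.mem_univ _, y.2⟩) (fun _ _ => rfl) (fun _ _ => rfl) fun _ _ => rfl,
    ← hbij.sum_comp (fun y : N => (1 - lam y) * conj (τα y)), Fintype.sum_prod_type,
    Finset.sum_congr rfl (g := fun z : C => (Nat.card H : ℂ) * conj (α ⟨z, D.U_le_L z.2.1⟩)) fun z _ => ?_,
    ← Finset.mul_sum, M.card_dom h hG hU, M.card_ker h hG hU]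
  · simp only [C, H]
    push_cast
    field_simp
    congr! 2
    ext; simp
  by_cases hz1 : (z : G) = 1
  · rw [show (⟨z, D.U_le_L z.2.1⟩ : L) = 1 from Subtype.ext hz1, hα1, map_zero, mul_zero]
    exact Finset.sum_eq_zero fun x _ => by
      simp only [Φ, hz1, one_mul]
      rw [hzero _ (D.H_not_mem_supp hG hU hab x.2), map_zero, mul_zero]
  rw [Finset.sum_congr rfl fun x _ => by
    simp only [Φ]
    rw [show τα ((z : G) * x) = _ from D.dade_ker hG hU hab hα z.2 hz1 x.2,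
      M.mul (mem_sup_left (mem_sup_left z.2)) (mem_sup_right x.2), M.triv z (mem_sup_left z.2), one_mul],
    ← Finset.sum_mul, Finset.sum_sub_distrib, hH, sub_zero, Finset.sum_const, Finset.card_univ, nsmul_one,
    ← Nat.card_eq_fintype_card]

set_option maxHeartbeats 1000000 in
/-- The relation `β^G = 1 - η + n ψ + (terms supported by L)`, and `|U| = |C|²`. -/
theorem relation [Fintype L] {lam : G → ℂ} (M : MuChar S W₁ W₂ U lam) :
    Nat.card U = Nat.card ↥(centPart S U) * Nat.card ↥(centPart S U) ∧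
    ∃ (η f R : G → ℂ) (n : ℤ), IsSignedIrr η ∧ Cfsg.IsGeneralizedCharacter G f ∧ Even n ∧
      (∀ g, betaG S W₁ U lam g = 1 - η g + (n : ℂ) * f g + R g) ∧
      (∀ g, g ∉ dadeSupp (core1 L) (Cfsg.supportR L) → R g = 0) ∧
      (∀ z ∈ centPart S U, ∀ x ∈ Cfsg.fittingHallOf S, R (z * x) = R z) ∧
      ∀ w ∈ W₁ ⊔ W₂, w ∉ W₁ → w ∉ W₂ → ‖η w‖ = 1 := by
  classical
  have h := D.pair
  obtain ⟨hm3, h2m, h2q, hsq⟩ := D.abelian_arith hG hU hab
  haveI : Fintype ↥(centPart S U) := Fintype.ofFinite _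
  set C := centPart S U with hCdef
  have h2q' : 2 * Nat.card W₁ + 1 ≤ Nat.card C := h2q
  set q := Nat.card W₁ with hqdef
  set K := Cfsg.sigmaCore L
  have hcore : K = U := D.core_eq hG hU hab
  haveI hKn : (K.subgroupOf L).Normal := normal_subgroupOf_of_le_normalizer (TH.le_normalizer_core L)
  have hDL := dade_core hG D.overData.coatom D.overData.kappa_empty
  have hC' : ∀ a ∈ K.subgroupOf L, a ≠ 1 → centralizer ({a} : Set L) ≤ K.subgroupOf L :=
    kernel_centralizer_le D.overData.frob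
  -- the family and the images
  have hW := h.typeP_S.selfNormalizing
  have hoddW : Odd (Nat.card ↥(W₁ ⊔ W₂)) := hG.1.of_dvd_nat (W₁ ⊔ W₂).card_subgroup_dvd_card
  obtain ⟨χ, hχ⟩ := exists_cyclicTIFamily hW hoddW
  have hWX : W₁ ⊔ W₂ ≤ muDom S W₁ U := sup_le h.left_le_dom (h.right_le_ker.trans h.muKer_le_dom)
  have hmixN : ∀ w ∈ W₁ ⊔ W₂, w ∉ W₂ → w ∉ muKer S U := by
    intro w hw hw2 hk
    rw [sup_comm] at hw
    obtain ⟨b, hb, a, ha, rfl⟩ := (CfsgLib.Solvable.mem_sup_of_le_normalizer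
      (fun b hb => centralizer_le_normalizer _ (mem_centralizer_iff.2 fun a ha => h.left_centralizes ha hb) :
        W₂ ≤ normalizer (W₁ : Set G))).1 hw
    have ha1 : a ∈ W₁ ⊓ ⁅S, S⁆ := ⟨ha, by
      rw [show a = b⁻¹ * (b * a) by group]
      exact Subgroup.mul_mem _ (Subgroup.inv_mem _ (h.H_le (h.right_le_H hb))) (h.muKer_le hk)⟩
    rw [disjoint_iff.1 (disjoint_of_coprime_natCard h.coprime_left), mem_bot] at ha1
    exact hw2 (by rw [ha1, mul_one]; exact hb)
  have hdis : ∀ w ∈ W₁ ⊔ W₂, w ∉ W₁ → w ∉ W₂ → w ∉ dadeSupp (core1 L) (Cfsg.supportR L) :=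
    fun w hw _ hw2 => D.not_mem_supp hG hU hab (D.dom_outside_pow hG hU hab (hWX hw) (hmixN w hw hw2))
  obtain ⟨ψ, hψ⟩ := exists_psi hG D.overData.coatom D.overData.kappa_empty D.overData.frob hab D.prime
    D.mem_core D.order (D.not_centralizer_le hG hU) hW hχ hdis
  -- the members and their masses
  set S₀ := Cfsg.inducedIrrAbove (K.subgroupOf L) ⊥
  have hfin : S₀.Finite := (irrFinset L).finite_toSet.subset fun φ hφ => by
    rw [show S₀ = relevantChars (K.subgroupOf L) from inducedIrrAbove_bot_eq hC'] at hφ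
    exact Finset.mem_coe.2 (mem_irrFinset.2 hφ.1)
  set s := hfin.toFinset
  obtain ⟨x, hx, hcardK, hsum, hsumsq⟩ := member_mass (K := K.subgroupOf L) (C := C.subgroupOf L)
    (W := W₁.subgroupOf L) hC'
    (fun a ha b hb => Subtype.ext (congrArg Subtype.val (hab.is_comm.comm (⟨a, ha⟩ : K) ⟨b, hb⟩) :))
    (fun z hz => hcore.symm.le (show (z : G) ∈ U from (show (z : G) ∈ C from hz).1))
    (fun w hw z hz => (mem_normalizer_iff.1 (h.left_normalizes_centPart hG hU hw) _).1 hz)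
    (eq_bot_iff.2 fun a ha => mem_bot.2 (Subtype.ext (mem_bot.1
      ((disjoint_iff.1 (disjoint_of_coprime_natCard h.coprime_U_left)).le ⟨hcore.le ha.1, ha.2⟩))))
    (fun l hl z hz hlz => by
      obtain ⟨a, ha, b, hb, e⟩ := D.overData.compl.2.2.2 l l.2
      have haW : a ∉ W₁ := fun haW => hl (by
        rw [show l = ⟨a, D.W₁_le_L haW⟩ * ⟨b, map_subtype_le _ hb⟩ from Subtype.ext e]
        exact Subgroup.mul_mem _ (mem_sup_right haW) (mem_sup_left hb))
      have hbz : b * (z : G) * b⁻¹ = z := by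
        rw [h.U_commute hG hU (hcore.le hb) (show (z : G) ∈ C from hz).1, mul_inv_cancel_right]
      have hlz' : a * (z : G) * a⁻¹ ∈ C := by
        have h1 : (l : G) * z * (l : G)⁻¹ ∈ C := hlz
        rwa [e, show a * b * (z : G) * (a * b)⁻¹ = a * (b * z * b⁻¹) * a⁻¹ by group, hbz] at h1
      have h1 := D.conj_disjoint hG hU ha haW hlz'
        (by rw [show a⁻¹ * (a * (z : G) * a⁻¹) * a = z by group]; exact hz)
      exact Subtype.ext (conj_eq_one_iff.1 h1)) s (fun φ => hfin.mem_toFinset)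
  -- the numbers
  have hcE : Nat.card ↥(C.subgroupOf L) = Nat.card C :=
    Nat.card_congr (subgroupOfEquivOfLe (inf_le_left.trans D.U_le_L)).toEquiv
  have hqE : Nat.card ↥(W₁.subgroupOf L) = q :=
    Nat.card_congr (subgroupOfEquivOfLe D.W₁_le_L).toEquiv
  have hKE : Nat.card ↥(K.subgroupOf L) = Nat.card U := by
    rw [Nat.card_congr (subgroupOfEquivOfLe (show K ≤ L from map_subtype_le _)).toEquiv, hcore]
  have hCK : (C.subgroupOf L).relIndex (K.subgroupOf L) = C.relIndex U := by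
    rw [relIndex_subgroupOf (show K ≤ L from map_subtype_le _), hcore]
  have he : (K.subgroupOf L).index = q * W₁.relIndex (L ⊓ T) := by
    rw [show (K.subgroupOf L).index = K.relIndex L from rfl, D.core_index hG hU,
      CfsgLib.InvariantHall.relIndex_mul_card D.overData.left_le_compl]
  set m := W₁.relIndex (L ⊓ T)
  obtain ⟨v, hv⟩ := hsq
  rw [sq] at hv
  have hu : C.relIndex U = Nat.card C * v := by
    refine Nat.eq_of_mul_eq_mul_left (Nat.card_pos (α := C)) ?_
    rw [CfsgLib.InvariantHall.relIndex_mul_card (inf_le_left : C ≤ U), ← mul_assoc]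
    exact hv
  rw [hcE, hqE] at hx hsumsq
  rw [hqE, hCK, hu] at hsum
  rw [he, hKE, show Nat.card U = Nat.card C * (Nat.card C * v) by rw [← mul_assoc]; exact hv] at hcardK
  rw [he, hCK, hu, sq] at hsumsq
  have hv1 : 1 ≤ v := Nat.one_le_iff_ne_zero.2 fun e => by
    rw [e, mul_zero] at hv; exact Nat.card_pos.ne' hv
  have hcardC0 : (Nat.card C : ℂ) * q ≠ 0 :=
    mul_ne_zero (Nat.cast_ne_zero.2 Nat.card_pos.ne') (Nat.cast_ne_zero.2 Nat.card_pos.ne')
  set X₁ := ∑ φ ∈ s, x φ with hX₁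
  set Y₁ := ∑ φ ∈ s, x φ ^ 2 with hY₁
  -- coefficients at the images
  set B := betaG S W₁ U lam
  have hBgen : Cfsg.IsGeneralizedCharacter G B := M.beta_gen
  have hmass : ∀ φ ∈ s, ∑ z : C, φ ⟨z, D.U_le_L z.2.1⟩ = ((Nat.card C * q * x φ : ℕ) : ℂ) := fun φ hφ => by
    rw [← hx φ hφ]
    exact Finset.sum_bij' (fun (z : C) _ => (⟨z, D.U_le_L z.2.1⟩ : L))
      (fun z hz => (⟨z, (Finset.mem_filter.1 hz).2⟩ : C))
      (fun z _ => Finset.mem_filter.2 ⟨Finset.mem_univ _, z.2⟩) (fun _ _ => Finset.mem_univ _)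
      (fun _ _ => rfl) (fun _ _ => rfl) fun _ _ => rfl
  have hmem : ∀ φ ∈ s, φ ∈ S₀ := fun φ hφ => hfin.mem_toFinset.1 hφ
  have hirr : ∀ φ ∈ s, Cfsg.IsIrrCharacter L φ := fun φ hφ => by
    have := hmem φ hφ
    rw [show S₀ = relevantChars (K.subgroupOf L) from inducedIrrAbove_bot_eq hC'] at this
    exact this.1
  have hdiff : ∀ φ ∈ s, ∀ φ' ∈ s,
      Cfsg.classInner B (ψ φ) - Cfsg.classInner B (ψ φ') = (x φ : ℂ) - (x φ' : ℂ) := fun φ hφ φ' hφ' => by
    obtain ⟨-, hα1, hτ⟩ := (hψ φ (hmem φ hφ)).2.2 φ' (hmem φ' hφ')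
    rw [← classInner_sub_right, hτ, D.beta_dade hG hU hab M (IsGeneralized.isClassFunction (IsGeneralized.sub
      (IsIrrCharacter.isGeneralized (hirr φ hφ)) (IsIrrCharacter.isGeneralized (hirr φ' hφ')))) hα1]
    simp only [Pi.sub_apply, map_sub, Finset.sum_sub_distrib, ← map_sum]
    have e : ∀ φ ∈ s, conj (∑ z : ↥(centPart S U), φ ⟨z, D.U_le_L z.2.1⟩) =
        ((Nat.card C * q * x φ : ℕ) : ℂ) := fun φ hφ => by
      rw [← map_natCast (starRingEnd ℂ)]
      refine congrArg _ ?_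
      convert hmass φ hφ using 2
    erw [e φ hφ, e φ' hφ']
    simp only [C, q]
    push_cast
    field_simp
    exact mul_div_cancel_left₀ _ (Nat.cast_ne_zero.2 Nat.card_pos.ne')
  have hsne : s.Nonempty := by
    rw [← Finset.card_pos]
    by_contra h0
    rw [show s.card = 0 by omega, zero_mul] at hcardK
    have hq3 := h.left_odd hG hU
    have : Nat.card C ≤ Nat.card C * (Nat.card C * v) :=
      Nat.le_mul_of_pos_right _ (Nat.mul_pos Nat.card_pos (by omega))
    omega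
  obtain ⟨φ₀, hφ₀⟩ := hsne
  obtain ⟨b₀, hb₀⟩ := IsGeneralized.exists_classInner_eq_int hBgen
    (IsSignedIrr.isGeneralized (hψ φ₀ (hmem φ₀ hφ₀)).1)
  set b : ℤ := b₀ - x φ₀
  have hcoef : ∀ φ ∈ s, Cfsg.classInner B (ψ φ) = ((b + x φ : ℤ) : ℂ) := fun φ hφ => by
    have := hdiff φ hφ φ₀ hφ₀
    rw [hb₀, sub_eq_iff_eq_add] at this
    rw [this]
    simp only [b]
    push_cast
    ring
  have hψorth : ∀ φ ∈ s, ∀ φ' ∈ s, Cfsg.classInner (ψ φ) (ψ φ') = if φ = φ' then 1 else 0 :=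
    fun φ hφ φ' hφ' => by
      split_ifs with e
      · subst e
        rcases (hψ φ (hmem φ hφ)).1 with h1 | h1
        · exact IsIrrCharacter.classInner_self h1
        · simpa [classInner_neg_left, classInner_neg_right] using IsIrrCharacter.classInner_self h1
      · exact ((hψ φ (hmem φ hφ)).2.2 φ' (hmem φ' hφ')).1 e
  have hψinj : Set.InjOn ψ ↑s := fun φ hφ φ' hφ' e => by
    by_contra hne
    have h1 := hψorth φ hφ φ' hφ'
    rw [if_neg hne, e, hψorth φ' hφ' φ' hφ', if_pos rfl] at h1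
    exact one_ne_zero h1
  -- the grid
  obtain ⟨μ, hμ⟩ := M.isHom
  set ω := μ.comp (inclusion hWX)
  have hωval : ∀ w : ↥(W₁ ⊔ W₂), (ω w : ℂ) = lam w := fun w => (hμ ⟨w, hWX w.2⟩).symm
  have hωL : TrivL ω := fun w hw => Units.ext (by
    rw [hωval, M.triv _ (mem_sup_right hw), Units.val_one])
  obtain ⟨b₂, hb₂, hb₂1⟩ := (Subgroup.bot_or_exists_ne_one W₂).resolve_left hW.2.1
  have hω1 : ω ≠ 1 := fun e => M.right_ne b₂ hb₂ hb₂1 (by
    rw [← hωval ⟨b₂, mem_sup_right hb₂⟩, e]; rfl)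
  set j : Col W₁ W₂ := ⟨ω, hωL⟩
  have hj : j ≠ col₀ := fun e => hω1 (congrArg Subtype.val e)
  have hcellj : cell row₀ j = ω := cell_row₀ j
  have hcell1 : cell (row₀ : Row W₁ W₂) (col₀ : Col W₁ W₂) = 1 := cell_row₀ col₀
  set θ := B - χ 1 + χ ω
  have hθV : ∀ w : ↥(W₁ ⊔ W₂), (w : G) ∉ W₁ → (w : G) ∉ W₂ → θ w = 0 := fun w h1 h2 => by
    simp only [θ, Pi.add_apply, Pi.sub_apply, B]
    rw [M.beta_outside h hG hU (hWX w.2) (hmixN w w.2 h2), hχ.map_one, hχ.eq_on ω w h1 h2, hωval]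
    ring
  obtain ⟨n₀, t, u, hn₀, ht, hu0, hadd⟩ := grid_additive hχ (θ := θ)
    (IsGeneralized.add (IsGeneralized.sub hBgen (isGeneralized_family hχ 1)) (isGeneralized_family hχ ω)) hθV
  have hB1 : Cfsg.classInner B (χ 1) = 1 := by
    rw [M.beta_inner (IsGeneralized.isClassFunction (isGeneralized_family hχ 1))]
    simp only [hχ.map_one, map_one, mul_one, Finset.sum_sub_distrib, Finset.sum_const, Finset.card_univ,
      nsmul_one, ← Nat.card_eq_fintype_card]
    have hsum0 : ∑ y : ↥(muDom S W₁ U), lam y = 0 := by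
      have hne : μ ≠ 1 := fun e => hω1 (by simp only [ω, e, MonoidHom.one_comp])
      rw [← sum_hom_units_eq_zero ((Units.coeHom ℂ).comp μ)
        fun e => hne (MonoidHom.ext fun c => Units.ext (DFunLike.congr_fun e c))]
      exact Finset.sum_congr rfl fun y _ => hμ y
    rw [hsum0, sub_zero, inv_mul_cancel₀ (Nat.cast_ne_zero.2 Nat.card_pos.ne')]
  have hn0 : n₀ = 0 := by
    have h1 : Cfsg.classInner θ (χ 1) = 0 := by
      simp only [θ, classInner_add_left, classInner_sub_left, hB1, hχ.orthonormal, if_neg hω1, if_true]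
      ring
    rw [h1] at hn₀
    exact_mod_cast hn₀.symm
  subst hn0
  haveI := Fintype.ofFinite (Row W₁ W₂)
  haveI := Fintype.ofFinite (Col W₁ W₂)
  set xg : Row W₁ W₂ → Col W₁ W₂ → ℤ := fun r l =>
    t r + u l + (if r = row₀ then (if l = col₀ then 1 else if l = j then -1 else 0) else 0) with hxg
  have hxB : ∀ r l, Cfsg.classInner B (χ (cell r l)) = (xg r l : ℂ) := fun r l => by
    have h1 := hadd r l
    simp only [θ, classInner_add_left, classInner_sub_left, hχ.orthonormal] at h1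
    have hi1 : (1 = cell r l) ↔ (r = row₀ ∧ l = col₀) :=
      ⟨fun e => cell_injective (e.symm.trans hcell1.symm), fun e => by rw [e.1, e.2, hcell1]⟩
    have hi2 : (ω = cell r l) ↔ (r = row₀ ∧ l = j) :=
      ⟨fun e => cell_injective (e.symm.trans hcellj.symm), fun e => by rw [e.1, e.2, hcellj]⟩
    simp only [hi1, hi2] at h1
    simp only [hxg]
    by_cases hr : r = row₀
    · by_cases hl : l = col₀
      · simp [hr, hl, hj.symm] at h1 ⊢
        linear_combination h1
      · by_cases hl2 : l = j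
        · simp [hr, hl2, hj] at h1 ⊢
          linear_combination h1
        · simp [hr, hl, hl2] at h1 ⊢
          linear_combination h1
    · simp [hr] at h1 ⊢
      linear_combination h1
  have hR3 : 3 ≤ Fintype.card (Row W₁ W₂) := by
    rw [← Nat.card_eq_fintype_card, (card_trivL hW).2]
    exact h.left_odd hG hU
  obtain ⟨hge2, hrigid⟩ := unit_pair_rigid row₀ col₀ j hj hR3 t u ht hu0 xg fun r l => rfl
  let mα : (G → ℂ) → ℤ := fun α =>
    if hα : ∃ φ ∈ s, ψ φ = α then b + x (Classical.choose hα) else 0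
  have hmα : ∀ φ ∈ s, mα (ψ φ) = b + x φ := fun φ hφ => by
    have hex : ∃ φ' ∈ s, ψ φ' = ψ φ := ⟨φ, hφ, rfl⟩
    simp only [mα, dif_pos hex]
    rw [hψinj (Classical.choose_spec hex).1 hφ (Classical.choose_spec hex).2]
  have hbes := grid_bessel hχ xg hxB (s.image ψ)
    (fun α hα β hβ hne => by
      obtain ⟨φ, hφ, rfl⟩ := Finset.mem_image.1 hα
      obtain ⟨φ', hφ', rfl⟩ := Finset.mem_image.1 hβ
      rw [hψorth φ hφ φ' hφ', if_neg fun e => hne (congrArg ψ e)])
    (fun α hα => by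
      obtain ⟨φ, hφ, rfl⟩ := Finset.mem_image.1 hα
      rw [hψorth φ hφ φ hφ, if_pos rfl])
    (fun α hα ω' => by
      obtain ⟨φ, hφ, rfl⟩ := Finset.mem_image.1 hα
      exact (hψ φ (hmem φ hφ)).2.1 ω')
    mα (fun α hα => by
      obtain ⟨φ, hφ, rfl⟩ := Finset.mem_image.1 hα
      rw [hcoef φ hφ, hmα φ hφ])
  have hnorm : Cfsg.classInner B B = (((X₁ : ℤ) + 2 : ℤ) : ℂ) := by
    have h1 := M.beta_norm h hG hU
    have h2 : (Nat.card U : ℂ) = (Nat.card C : ℂ) * ((q : ℂ) * X₁ + 1) := by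
      have h3 : Nat.card U = Nat.card C * (q * X₁ + 1) := by rw [hsum, ← mul_assoc]; exact hv
      rw [h3]; push_cast; ring
    refine mul_left_cancel₀ hcardC0 (h1.trans ?_)
    rw [h2]
    push_cast
    ring
  rw [hnorm, Finset.sum_image hψinj, Complex.intCast_re] at hbes
  have hbes' : ∑ l, ∑ r, xg r l * xg r l + ∑ φ ∈ s, mα (ψ φ) * mα (ψ φ) ≤ (X₁ : ℤ) + 2 := by
    exact_mod_cast hbes
  have hf : ∑ φ ∈ s, mα (ψ φ) * mα (ψ φ) = (s.card : ℤ) * b ^ 2 + 2 * b * (X₁ : ℤ) + (Y₁ : ℤ) := by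
    rw [Finset.sum_congr rfl (g := fun φ => b ^ 2 + 2 * b * (x φ : ℤ) + ((x φ ^ 2 : ℕ) : ℤ)) fun φ hφ => by
        rw [hmα φ hφ]; push_cast; ring,
      Finset.sum_add_distrib, Finset.sum_add_distrib, Finset.sum_const, ← Finset.mul_sum, hX₁, hY₁,
      Nat.cast_sum, Nat.cast_sum, nsmul_eq_mul]
  obtain ⟨hv', hfX⟩ := mass_arith (h.left_odd hG hU) hm3 h2m hv1 hcardK hsum hsumsq
    (b := b) (by rw [← hf]; linarith)
  obtain ⟨ht0, hu00⟩ := hrigid (by linarith)
  -- the identity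
  set A : G → ℂ := χ 1 - χ ω + ∑ φ ∈ s, ((b + x φ : ℤ) : ℂ) • ψ φ
  have hψη : ∀ φ ∈ s, ∀ ω', Cfsg.classInner (χ ω') (ψ φ) = 0 := fun φ hφ ω' => by
    rw [← classInner_conj, (hψ φ (hmem φ hφ)).2.1 ω', map_zero]
  have hBω : Cfsg.classInner B (χ ω) = -1 := by
    rw [← hcellj, hxB]
    simp [hxg, ht0, hu00, hj]
  have hAinner : ∀ g : G → ℂ, Cfsg.classInner g A = Cfsg.classInner g (χ 1) - Cfsg.classInner g (χ ω) +
      ∑ φ ∈ s, ((b + x φ : ℤ) : ℂ) * Cfsg.classInner g (ψ φ) := fun g => by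
    simp only [A, classInner_add_right, classInner_sub_right, classInner_sum_right, classInner_smul_right,
      map_intCast]
  have hsq2 : ∑ φ ∈ s, ((b + x φ : ℤ) : ℂ) * ((b + x φ : ℤ) : ℂ) = ((X₁ : ℤ) : ℂ) := by
    have h1 : ∑ φ ∈ s, (b + (x φ : ℤ)) * (b + x φ) = (X₁ : ℤ) :=
      ((Finset.sum_congr rfl fun φ hφ => by rw [hmα φ hφ]).trans hf).trans hfX
    rw [← h1, Int.cast_sum]
    exact Finset.sum_congr rfl fun φ _ => (Int.cast_mul _ _).symm
  have hBA : Cfsg.classInner B A = (((X₁ : ℤ) + 2 : ℤ) : ℂ) := by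
    rw [hAinner, hB1, hBω, Finset.sum_congr rfl fun φ hφ => by rw [hcoef φ hφ], hsq2]
    push_cast; ring
  have hA1 : Cfsg.classInner (χ 1) A = 1 := by
    rw [hAinner, hχ.orthonormal, hχ.orthonormal, if_pos rfl, if_neg (Ne.symm hω1),
      Finset.sum_eq_zero fun φ hφ => by rw [hψη φ hφ, mul_zero]]
    ring
  have hAω : Cfsg.classInner (χ ω) A = -1 := by
    rw [hAinner, hχ.orthonormal, hχ.orthonormal, if_neg hω1, if_pos rfl,
      Finset.sum_eq_zero fun φ hφ => by rw [hψη φ hφ, mul_zero]]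
    ring
  have hAψ : ∀ φ ∈ s, Cfsg.classInner (ψ φ) A = ((b + x φ : ℤ) : ℂ) := fun φ hφ => by
    rw [hAinner, (hψ φ (hmem φ hφ)).2.1, (hψ φ (hmem φ hφ)).2.1, Finset.sum_eq_single φ
      (fun φ' hφ' hne => by rw [hψorth φ hφ φ' hφ', if_neg hne.symm, mul_zero]) (fun h' => absurd hφ h'),
      hψorth φ hφ φ hφ, if_pos rfl]
    ring
  have hAA : Cfsg.classInner A A = (((X₁ : ℤ) + 2 : ℤ) : ℂ) := by
    conv_lhs => arg 1; simp only [A]
    rw [classInner_add_left, classInner_sub_left, hA1, hAω, classInner_sum_left,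
      Finset.sum_congr rfl fun φ hφ => by rw [classInner_smul_left, hAψ φ hφ], hsq2]
    push_cast; ring
  have hBeq : B = A := sub_eq_zero.1 (classInner_self_eq_zero (by
    rw [classInner_sub_left, classInner_sub_right, classInner_sub_right, hnorm, hBA, hAA,
      ← classInner_conj B A, hBA, map_intCast]
    ring))
  refine ⟨by rw [hv, hv', mul_one], χ ω, ψ φ₀,
    fun g => ∑ φ ∈ s, ((b + x φ : ℤ) : ℂ) *
      Cfsg.dadeIsometry (core1 L) L (Cfsg.supportR L) (φ - φ₀) g,
    (s.card : ℤ) * b + X₁, hχ.irr_or_neg ω, IsSignedIrr.isGeneralized (hψ φ₀ (hmem φ₀ hφ₀)).1, ?_,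
    fun g => ?_, fun g hg => Finset.sum_eq_zero fun φ _ => by rw [dadeIsometry_eq_zero hDL hg, mul_zero],
    fun z hz y hy => Finset.sum_congr rfl fun φ hφ => ?_, fun w hw h1 h2 => by
      rw [show χ ω w = _ from hχ.eq_on ω ⟨w, hw⟩ h1 h2]
      exact Complex.norm_eq_one_of_pow_eq_one (n := Nat.card ↥(W₁ ⊔ W₂)) (by
        rw [← Units.val_pow_eq_pow_val, ← map_pow, pow_card_eq_one', map_one, Units.val_one]) Nat.card_pos.ne'⟩
  · have hCodd : Odd (Nat.card C) := hG.1.of_dvd_nat C.card_subgroup_dvd_card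
    have hqodd : Odd q := hG.1.of_dvd_nat W₁.card_subgroup_dvd_card
    have hmodd : Odd m := (hG.1.of_dvd_nat (L ⊓ T).card_subgroup_dvd_card).of_dvd_nat
      (Dvd.intro_left _ (CfsgLib.InvariantHall.relIndex_mul_card D.overData.left_le_compl))
    rw [hv', mul_one] at hcardK hsum
    have hk : Even s.card := by
      rcases Nat.even_or_odd s.card with e | e
      · exact e
      · have h1 : Even (s.card * (q * m) + 1) := (e.mul (hqodd.mul hmodd)).add_one
        rw [hcardK] at h1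
        exact absurd h1 (Nat.not_even_iff_odd.2 (hCodd.mul hCodd))
    have hX : Even X₁ := by
      rcases Nat.even_or_odd X₁ with e | e
      · exact e
      · have h1 : Even (q * X₁ + 1) := (hqodd.mul e).add_one
        rw [hsum] at h1
        exact absurd h1 (Nat.not_even_iff_odd.2 hCodd)
    exact ((Int.even_coe_nat _).2 hk).mul_right b |>.add ((Int.even_coe_nat _).2 hX)
  · rw [show B g = A g from congrFun hBeq g]
    simp only [A, Pi.add_apply, Pi.sub_apply, Finset.sum_apply, Pi.smul_apply, smul_eq_mul, hχ.map_one]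
    rw [show ((((s.card : ℤ) * b + X₁ : ℤ)) : ℂ) * ψ φ₀ g = ∑ φ ∈ s, ((b + x φ : ℤ) : ℂ) * ψ φ₀ g by
        rw [← Finset.sum_mul, ← Int.cast_sum, Finset.sum_add_distrib, Finset.sum_const, nsmul_eq_mul,
          hX₁, Nat.cast_sum], add_assoc, ← Finset.sum_add_distrib]
    congr 1
    refine Finset.sum_congr rfl fun φ hφ => ?_
    rw [← ((hψ φ (hmem φ hφ)).2.2 φ₀ (hmem φ₀ hφ₀)).2.2, Pi.sub_apply]
    ring
  · refine congrArg _ ?_
    have hcl := IsGeneralized.isClassFunction (IsGeneralized.sub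
      (IsIrrCharacter.isGeneralized (hirr φ hφ)) (IsIrrCharacter.isGeneralized (hirr φ₀ hφ₀)))
    by_cases hz1 : z = 1
    · subst hz1
      rw [one_mul, dadeIsometry_eq_zero hDL (D.H_not_mem_supp hG hU hab hy),
        dadeIsometry_eq_zero hDL (D.H_not_mem_supp hG hU hab (Subgroup.one_mem _))]
    · rw [D.dade_ker hG hU hab hcl hz hz1 hy]
      conv_rhs => rw [show z = z * 1 from (mul_one z).symm]
      exact (D.dade_ker hG hU hab hcl hz hz1 (Subgroup.one_mem _)).symm

end Unfaithful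

end CfsgLib.OddEnd
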