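import Cfsg.Agent.OddEnd.HatDade
import Cfsg.Agent.OddEnd.DadeAux
import Cfsg.Agent.OddEnd.Fourier
import Cfsg.Agent.Char.DadeApps
import Cfsg.Agent.Char.FrobeniusChars
import Cfsg.Agent.Char.InertiaAbelian
import Cfsg.Agent.Char.Inflation
import Cfsg.Agent.Char.FixedClass
import Cfsg.Agent.Char.Kernel
import Cfsg.Agent.Char.Coherence
import Cfsg.Agent.S1350

/-!
The characters of a maximal subgroup with empty `κ` and abelian complement (Peterfalvi 12.1–12.4).
-/

set_option autoImplicit false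
set_option linter.unusedSectionVars false

namespace CfsgLib.OddEnd

open Subgroup
open CfsgLib.Char

universe u

variable {G : Type u} [Group G] [Fintype G]

/-- The standing hypotheses on `L`. -/
structure Side (L : Subgroup G) : Prop where
  coatom : IsCoatom L
  kappa_eq : Cfsg.kappa L = ∅
  comm_mem : ∀ a ∈ L, ∀ b ∈ L, a * b * a⁻¹ * b⁻¹ ∈ Cfsg.sigmaCore L

variable (hG : Cfsg.IsMinSimpleOddOrder G) {L : Subgroup G} [Fintype L] (S : Side L)

/-- `L_σ` inside `L`. -/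
abbrev Kin (L : Subgroup G) : Subgroup L := (Cfsg.sigmaCore L).subgroupOf L

theorem mem_Kin {x : L} : x ∈ Kin L ↔ (x : G) ∈ Cfsg.sigmaCore L := Iff.rfl

omit [Fintype L] in
theorem Kin_normal (L : Subgroup G) : (Kin L).Normal :=
  (normal_subgroupOf_iff_le_normalizer (map_subtype_le _)).2 (CfsgLib.OddLocal.TH.le_normalizer_core L)

instance : (Kin L).Normal := Kin_normal L

include hG in
theorem odd_sub (H : Subgroup G) : Odd (Nat.card H) := hG.1.of_dvd_nat H.card_subgroup_dvd_card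

include hG S

theorem Kin_hall : (Nat.card (Kin L)).Coprime (Kin L).index := by
  have h := (Cfsg.Agent.S1350.result hG L S.coatom).1
  have e := Nat.card_congr (subgroupOfEquivOfLe (map_subtype_le _ : Cfsg.sigmaCore L ≤ L)).toEquiv
  exact e.symm ▸ CfsgLib.InvariantHall.coprime_of_isPiHallOf h

/-- The constituents of a character induced from a non-principal character of `L_σ`. -/
theorem constituents {θ : Kin L → ℂ} (hθ : Cfsg.IsIrrCharacter (Kin L) θ) (hne : θ ≠ fun _ => 1) :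
    ∃ C : Finset (L → ℂ), Cfsg.indFun (Kin L) θ = ∑ ξ ∈ C, ξ ∧
      (∀ ξ ∈ C, Cfsg.IsIrrCharacter L ξ ∧ (∃ z ∈ Kin L, ξ z ≠ ξ 1) ∧ Cfsg.conjFun ξ ≠ ξ ∧
        (∀ g : L, g ≠ 1 → (g : G) ∉ hat L → ξ g = 0) ∧ Cfsg.classInner (Cfsg.indFun (Kin L) θ) ξ = 1) ∧
      (∀ ξ ∈ C, ∀ η ∈ C, ∀ z ∈ Kin L, ξ z = η z) := by
  classical
  obtain ⟨e, C, -, hC, hcard, hind, hdeg, he⟩ := exists_indFun_inertia (T := inertia θ) hθ rfl
    fun a _ b _ => mem_Kin.2 (by simpa using S.comm_mem a a.2 b b.2)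
  have he1 : e = 1 := he ((Kin_hall hG S).coprime_dvd_right
    ⟨(inertia θ).index, (relIndex_mul_index (le_inertia (IsIrrCharacter.isClassFunction hθ))).symm⟩)
  subst he1
  rw [Nat.cast_one, one_smul] at hind
  have hmult : ∀ ξ ∈ C, Cfsg.classInner (Cfsg.indFun (Kin L) θ) ξ = 1 := fun ξ hξ => by
    rw [hind, classInner_sum_left, Finset.sum_eq_single ξ
      (fun η hη hne => IsIrrCharacter.classInner_of_ne (hC η hη) (hC ξ hξ) hne) (fun h => absurd hξ h),
      IsIrrCharacter.classInner_self (hC ξ hξ)]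
  have hker : ∀ ξ ∈ C, ∃ z ∈ Kin L, ξ z ≠ ξ 1 := fun ξ hξ => by
    by_contra h
    push Not at h
    have h1 := hmult ξ hξ
    rw [classInner_indFun θ (IsIrrCharacter.isClassFunction (hC ξ hξ)),
      show (fun z : Kin L => ξ z) = ξ 1 • (fun _ : Kin L => (1 : ℂ)) from funext fun z => by
        rw [Pi.smul_apply, smul_eq_mul, mul_one, h z z.2],
      classInner_smul_right, IsIrrCharacter.classInner_of_ne hθ isIrrCharacter_one hne, mul_zero] at h1
    exact zero_ne_one h1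
  refine ⟨C, hind, fun ξ hξ => ⟨hC ξ hξ, hker ξ hξ, fun hr => ?_, fun g hg1 hg => ?_, hmult ξ hξ⟩, ?_⟩
  · have h1 : ξ = fun _ => 1 := eq_one_of_real_of_odd (odd_sub hG L) (hC ξ hξ) fun g =>
      Complex.conj_eq_iff_im.1 (congrFun hr g)
    obtain ⟨z, -, hz⟩ := hker ξ hξ
    exact hz (by rw [h1])
  · refine IsIrrCharacter.apply_eq_zero_of_not_centralized (H := Kin L) (hC ξ hξ) (hker ξ hξ) fun z hz hcomm => ?_
    by_contra hz1
    exact hg ⟨⟨g.2, z, hz, fun e => hz1 (Subtype.ext e), (congrArg Subtype.val hcomm).symm⟩,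
      fun e => hg1 (Subtype.ext e)⟩
  · -- the restrictions are the common orbit sum
    intro ξ hξ η hη z hz
    have key : ∀ χ ∈ C, (fun k : Kin L => χ k) = ∑ φ ∈ conjOrbit θ, φ := fun χ hχ => by
      have h1 : Cfsg.classInner (fun k : Kin L => χ k) θ = 1 := by
        rw [← classInner_conj, ← classInner_indFun θ (IsIrrCharacter.isClassFunction (hC χ hχ)),
          hmult χ hχ, map_one]
      rw [restrict_eq_smul_sum (hC χ hχ) hθ (by rw [h1]; exact one_ne_zero), h1, one_smul]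
    exact (congrFun (key ξ hξ) ⟨z, hz⟩).trans (congrFun (key η hη) ⟨z, hz⟩).symm

omit hG S in
theorem orth_of_disjoint_sum {C D : Finset (L → ℂ)} (hC : ∀ a ∈ C, Cfsg.IsIrrCharacter L a)
    (hD : ∀ a ∈ D, Cfsg.IsIrrCharacter L a) (h : Cfsg.classInner (∑ a ∈ C, a) (∑ a ∈ D, a) = 0) :
    Disjoint C D := by
  classical
  rw [Finset.disjoint_left]
  intro a ha ha'
  have h1 : ∀ b ∈ C, Cfsg.classInner b (∑ c ∈ D, c) = if b ∈ D then 1 else 0 := fun b hb => by
    rw [classInner_sum_right, Finset.sum_congr rfl fun c hc => IsIrrCharacter.classInner_eq (hC b hb) (hD c hc),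
      Finset.sum_ite_eq]
  rw [classInner_sum_left, Finset.sum_congr rfl h1, Finset.sum_boole, Nat.cast_eq_zero, Finset.card_eq_zero,
    Finset.filter_eq_empty_iff] at h
  exact h ha ha'

/-- The conjugate pair attached to a constituent. -/
theorem exists_conj_pair {ξ : L → ℂ} (hξ : Cfsg.IsIrrCharacter L ξ) (hreal : Cfsg.conjFun ξ ≠ ξ)
    (hvan : ∀ g : L, g ≠ 1 → (g : G) ∉ hat L → ξ g = 0) :
    ∃ μ : G → ℂ, Cfsg.IsIrrCharacter G μ ∧ μ ≠ Cfsg.conjFun μ ∧
      Cfsg.dadeIsometry (hat L) L (Cfsg.supportR L) (ξ - Cfsg.conjFun ξ) = μ - Cfsg.conjFun μ := by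
  have hD := dade_full hG S.coatom S.kappa_eq
  obtain ⟨μ, hμ, he⟩ := dade_exists_conj_pair hD hξ hvan
  refine ⟨μ, hμ, fun h => ?_, he⟩
  have hξ' : Cfsg.IsIrrCharacter L (Cfsg.conjFun ξ) := IsIrrCharacter.conj hξ
  have hcl := IsGeneralized.isClassFunction (IsGeneralized.sub (IsIrrCharacter.isGeneralized hξ)
    (IsIrrCharacter.isGeneralized hξ'))
  have hsupp : ∀ g : L, (g : G) ∉ hat L → (ξ - Cfsg.conjFun ξ) g = 0 := fun g hg => by
    rcases eq_or_ne g 1 with rfl | h1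
    · obtain ⟨d, -, hd⟩ := IsIrrCharacter.exists_degree hξ
      simp [Cfsg.conjFun, hd]
    · simp [Cfsg.conjFun, hvan g h1 hg]
  have h2 := classInner_dadeIsometry_dadeIsometry hD hcl hsupp hcl
  rw [he, ← h, sub_self, classInner_zero_left, classInner_sub_left, classInner_sub_right, classInner_sub_right,
    IsIrrCharacter.classInner_self hξ, IsIrrCharacter.classInner_self hξ',
    IsIrrCharacter.classInner_of_ne hξ hξ' (Ne.symm hreal), IsIrrCharacter.classInner_of_ne hξ' hξ hreal] at h2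
  norm_num at h2

omit S in
theorem sub_conj_support {ξ : L → ℂ} (hξ : Cfsg.IsIrrCharacter L ξ)
    (hvan : ∀ g : L, g ≠ 1 → (g : G) ∉ hat L → ξ g = 0) :
    ∀ g : L, (g : G) ∉ hat L → (ξ - Cfsg.conjFun ξ) g = 0 := fun g hg => by
  rcases eq_or_ne g 1 with rfl | h1
  · obtain ⟨d, -, hd⟩ := IsIrrCharacter.exists_degree hξ
    simp [Cfsg.conjFun, hd]
  · simp [Cfsg.conjFun, hvan g h1 hg]

omit hG S in
theorem conjFun_inj {X : Type*} {a b : X → ℂ} (h : Cfsg.conjFun a = Cfsg.conjFun b) : a = b :=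
  funext fun x => (starRingEnd ℂ).injective (congrFun h x)

/-- Pairs of constituents that are neither equal nor conjugate give disjoint pairs. -/
theorem pair_distinct {ξ η : L → ℂ} (hξ : Cfsg.IsIrrCharacter L ξ) (hη : Cfsg.IsIrrCharacter L η)
    (hξv : ∀ g : L, g ≠ 1 → (g : G) ∉ hat L → ξ g = 0)
    (h1 : ξ ≠ η) (h2 : ξ ≠ Cfsg.conjFun η) {μ ν : G → ℂ} (hμ : Cfsg.IsIrrCharacter G μ)
    (hμr : μ ≠ Cfsg.conjFun μ)
    (eμ : Cfsg.dadeIsometry (hat L) L (Cfsg.supportR L) (ξ - Cfsg.conjFun ξ) = μ - Cfsg.conjFun μ)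
    (eν : Cfsg.dadeIsometry (hat L) L (Cfsg.supportR L) (η - Cfsg.conjFun η) = ν - Cfsg.conjFun ν) :
    μ ≠ ν ∧ μ ≠ Cfsg.conjFun ν := by
  have hD := dade_full hG S.coatom S.kappa_eq
  have hξ' : Cfsg.IsIrrCharacter L (Cfsg.conjFun ξ) := IsIrrCharacter.conj hξ
  have hη' : Cfsg.IsIrrCharacter L (Cfsg.conjFun η) := IsIrrCharacter.conj hη
  have h2' : Cfsg.conjFun ξ ≠ η := fun h => h2 (conjFun_inj (by rw [h, conjFun_conjFun]))
  have h1' : Cfsg.conjFun ξ ≠ Cfsg.conjFun η := fun h => h1 (conjFun_inj h)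
  have hz : Cfsg.classInner (μ - Cfsg.conjFun μ) (ν - Cfsg.conjFun ν) = 0 := by
    rw [← eμ, ← eν, classInner_dadeIsometry_dadeIsometry hD
      (IsGeneralized.isClassFunction (IsGeneralized.sub (IsIrrCharacter.isGeneralized hξ)
        (IsIrrCharacter.isGeneralized hξ'))) (sub_conj_support hG hξ hξv)
      (IsGeneralized.isClassFunction (IsGeneralized.sub (IsIrrCharacter.isGeneralized hη)
        (IsIrrCharacter.isGeneralized hη'))), classInner_sub_left, classInner_sub_right, classInner_sub_right,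
      IsIrrCharacter.classInner_of_ne hξ hη h1, IsIrrCharacter.classInner_of_ne hξ hη' h2,
      IsIrrCharacter.classInner_of_ne hξ' hη h2', IsIrrCharacter.classInner_of_ne hξ' hη' h1']
    ring
  have hμ' : Cfsg.IsIrrCharacter G (Cfsg.conjFun μ) := IsIrrCharacter.conj hμ
  have hn : ∀ s : ℂ, ν - Cfsg.conjFun ν = s • (μ - Cfsg.conjFun μ) → s = 0 := fun s hs => by
    rw [hs, classInner_smul_right, classInner_sub_left, classInner_sub_right, classInner_sub_right,
      IsIrrCharacter.classInner_self hμ, IsIrrCharacter.classInner_self hμ',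
      IsIrrCharacter.classInner_of_ne hμ hμ' hμr, IsIrrCharacter.classInner_of_ne hμ' hμ (Ne.symm hμr)] at hz
    rcases mul_eq_zero.1 hz with h | h
    · exact (map_eq_zero_iff (starRingEnd ℂ) (starRingEnd ℂ).injective).1 h
    · norm_num at h
  refine ⟨fun e => one_ne_zero (hn 1 (by rw [e, one_smul])), fun e => ?_⟩
  refine one_ne_zero (neg_eq_zero.1 (hn (-1) ?_))
  rw [show Cfsg.conjFun ν = μ from e.symm, show ν = Cfsg.conjFun μ by rw [e, conjFun_conjFun]]
  simp

omit S in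
/-- No constituent is conjugate to another constituent. -/
theorem ne_conj_of_mem {θ : Kin L → ℂ} (hθ : Cfsg.IsIrrCharacter (Kin L) θ) (hne : θ ≠ fun _ => 1)
    {C : Finset (L → ℂ)} (hind : Cfsg.indFun (Kin L) θ = ∑ ξ ∈ C, ξ)
    (hC : ∀ ξ ∈ C, Cfsg.IsIrrCharacter L ξ) {η ζ : L → ℂ} (hη : η ∈ C) (hζ : ζ ∈ C) :
    η ≠ Cfsg.conjFun ζ := fun e => by
  classical
  have hd : Cfsg.classInner (Cfsg.conjFun (Cfsg.indFun (Kin L) θ)) (Cfsg.indFun (Kin L) θ) = 0 :=
    classInner_conj_indFun_eq_zero (odd_sub hG L) hθ hne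
  have hinj : Set.InjOn (Cfsg.conjFun : (L → ℂ) → L → ℂ) C := fun a _ b _ h => conjFun_inj h
  have hcs : Cfsg.conjFun (∑ a ∈ C, a) = ∑ a ∈ C.image Cfsg.conjFun, a := by
    rw [Finset.sum_image hinj]
    funext g
    simp [Cfsg.conjFun, Finset.sum_apply]
  rw [hind, hcs] at hd
  refine Finset.disjoint_left.1 (orth_of_disjoint_sum (fun a ha => ?_) hC hd)
    (Finset.mem_image.2 ⟨ζ, hζ, e.symm⟩) hη
  obtain ⟨b, hb, rfl⟩ := Finset.mem_image.1 ha
  exact IsIrrCharacter.conj (hC b hb)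

/-- Orthogonality to the conjugate pairs, from a virtual character supported on a disjoint set. -/
theorem orth_pairs {M : Subgroup G} [Fintype M] (hM : IsCoatom M) (hκM : Cfsg.kappa M = ∅)
    (hnc : ∀ g : G, L ≠ M.map (MulAut.conj g).toMonoidHom) {α : M → ℂ} {ν : G → ℂ} (hν : Cfsg.IsIrrCharacter G ν)
    (eν : Cfsg.dadeIsometry (core1 M) M (Cfsg.supportR M) α = ν - Cfsg.conjFun ν)
    {θ : Kin L → ℂ} (hθ : Cfsg.IsIrrCharacter (Kin L) θ) (hne : θ ≠ fun _ => 1) {ξ : L → ℂ}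
    (hξ : Cfsg.IsIrrCharacter L ξ) (hmult : Cfsg.classInner (Cfsg.indFun (Kin L) θ) ξ ≠ 0) {μ : G → ℂ}
    (hμ : Cfsg.IsIrrCharacter G μ)
    (eμ : Cfsg.dadeIsometry (hat L) L (Cfsg.supportR L) (ξ - Cfsg.conjFun ξ) = μ - Cfsg.conjFun μ) :
    ν ≠ μ ∧ ν ≠ Cfsg.conjFun μ := by
  classical
  obtain ⟨C, hind, hC, -⟩ := constituents hG S hθ hne
  have hξC : ξ ∈ C := by
    by_contra h
    refine hmult ?_
    rw [hind, classInner_sum_left, Finset.sum_eq_zero fun η hη =>
      IsIrrCharacter.classInner_of_ne (hC η hη).1 hξ fun e : η = ξ => h (e ▸ hη)]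
  choose! m hm hmr em using fun η (hη : η ∈ C) => exists_conj_pair hG S (hC η hη).1 (hC η hη).2.2.1 (hC η hη).2.2.2.1
  have hm' : ∀ η ∈ C, Cfsg.IsIrrCharacter G (Cfsg.conjFun (m η)) := fun η hη => IsIrrCharacter.conj (hm η hη)
  have hD := dade_full hG S.coatom S.kappa_eq
  have hDM := dade_core hG hM hκM
  set φ := Cfsg.indFun (Kin L) θ - Cfsg.conjFun (Cfsg.indFun (Kin L) θ) with hφ
  have hφcl : Cfsg.IsClassFunction L φ := IsGeneralized.isClassFunction (IsGeneralized.sub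
    (IsGeneralized.indFun (IsIrrCharacter.isGeneralized hθ))
    (IsGeneralized.conj (IsGeneralized.indFun (IsIrrCharacter.isGeneralized hθ))))
  have hφs : ∀ g : L, (g : G) ∉ core1 L → φ g = 0 := fun g hg => by
    by_cases hgK : g ∈ Kin L
    · have g1 : g = 1 := Subtype.ext (by by_contra h; exact hg ⟨hgK, h⟩)
      subst g1
      obtain ⟨d, -, hd⟩ := IsIrrCharacter.exists_degree hθ
      simp [hφ, Cfsg.conjFun, indFun_one, hd]
    · simp [hφ, Cfsg.conjFun, indFun_eq_zero_of_normal θ hgK]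
  have himg : Cfsg.dadeIsometry (hat L) L (Cfsg.supportR L) φ = ∑ η ∈ C, (m η - Cfsg.conjFun (m η)) := by
    rw [show φ = ∑ η ∈ C, (η - Cfsg.conjFun η) by
      rw [hφ, hind, Finset.sum_sub_distrib]
      congr 1
      funext g
      simp [Cfsg.conjFun, Finset.sum_apply], dade_sum_fun]
    exact Finset.sum_congr rfl em
  have hzero : Cfsg.classInner (ν - Cfsg.conjFun ν) (∑ η ∈ C, (m η - Cfsg.conjFun (m η))) = 0 := by
    rw [← himg, ← eν, classInner_def, Finset.sum_eq_zero fun g _ => ?_, mul_zero]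
    by_cases h : ∃ a ∈ core1 M, ∃ u ∈ Cfsg.supportR M a, ∃ x : G, x * g * x⁻¹ = a * u
    · rw [dade_apply_eq_zero hD hφcl hφs fun h' => kernel_supports_disjoint hG hM S.coatom hnc g ⟨h, h'⟩,
        map_zero, mul_zero]
    · rw [dadeIsometry_eq_zero hDM h, zero_mul]
  have hval : ∀ η ∈ C, ν = m η ∨ ν = Cfsg.conjFun (m η) → False := by
    intro η hη h
    have hsum : Cfsg.classInner (m η - Cfsg.conjFun (m η)) (∑ ζ ∈ C, (m ζ - Cfsg.conjFun (m ζ))) = 2 := by
      rw [classInner_sum_right, Finset.sum_eq_single η]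
      · rw [classInner_sub_left, classInner_sub_right, classInner_sub_right,
          IsIrrCharacter.classInner_self (hm η hη), IsIrrCharacter.classInner_self (hm' η hη),
          IsIrrCharacter.classInner_of_ne (hm η hη) (hm' η hη) (hmr η hη),
          IsIrrCharacter.classInner_of_ne (hm' η hη) (hm η hη) (Ne.symm (hmr η hη))]
        ring
      · intro ζ hζ hζη
        have hηζ' : η ≠ Cfsg.conjFun ζ :=
          ne_conj_of_mem hG hθ hne hind (fun a ha => (hC a ha).1) hη hζ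
        obtain ⟨d1, d2⟩ := pair_distinct hG S (hC η hη).1 (hC ζ hζ).1 (hC η hη).2.2.2.1
          (Ne.symm hζη) hηζ' (hm η hη) (hmr η hη) (em η hη) (em ζ hζ)
        rw [classInner_sub_left, classInner_sub_right, classInner_sub_right,
          IsIrrCharacter.classInner_of_ne (hm η hη) (hm ζ hζ) d1,
          IsIrrCharacter.classInner_of_ne (hm η hη) (hm' ζ hζ) d2,
          IsIrrCharacter.classInner_of_ne (hm' η hη) (hm ζ hζ) fun e => d2 (by rw [← e, conjFun_conjFun]),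
          IsIrrCharacter.classInner_of_ne (hm' η hη) (hm' ζ hζ) fun e => d1 (conjFun_inj e)]
        ring
      · exact fun h => absurd hη h
    rcases h with rfl | rfl
    · rw [hsum] at hzero
      norm_num at hzero
    · rw [conjFun_conjFun, show Cfsg.conjFun (m η) - m η = -(m η - Cfsg.conjFun (m η)) by abel,
        classInner_neg_left, hsum] at hzero
      norm_num at hzero
  have hμeq : μ - Cfsg.conjFun μ = m ξ - Cfsg.conjFun (m ξ) := eμ.symm.trans (em ξ hξC)
  have hμ' : μ = m ξ ∨ μ = Cfsg.conjFun (m ξ) := by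
    by_contra h
    push Not at h
    have h0 := congrArg (fun f => Cfsg.classInner f (m ξ)) hμeq
    simp only [classInner_sub_left, IsIrrCharacter.classInner_of_ne hμ (hm ξ hξC) h.1,
      IsIrrCharacter.classInner_of_ne (show Cfsg.IsIrrCharacter G (Cfsg.conjFun μ) from IsIrrCharacter.conj hμ) (hm ξ hξC)
        fun e => h.2 (by rw [← e, conjFun_conjFun]),
      IsIrrCharacter.classInner_self (hm ξ hξC),
      IsIrrCharacter.classInner_of_ne (hm' ξ hξC) (hm ξ hξC) (Ne.symm (hmr ξ hξC))] at h0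
    norm_num at h0
  rcases hμ' with rfl | rfl
  · exact ⟨fun e => hval ξ hξC (Or.inl e), fun e => hval ξ hξC (Or.inr e)⟩
  · rw [conjFun_conjFun]
    exact ⟨fun e => hval ξ hξC (Or.inr e), fun e => hval ξ hξC (Or.inl e)⟩

end CfsgLib.OddEnd
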